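import Mathlib
import Cfsg.Agent.Lib.Helper2.BurnsidePQ

namespace Cfsg.Agent.Lib.Helper23.A8Orb

open Equiv MulAction

theorem solvable_of_card_le_six {K : Type*} [Group K] [Finite K] (h : Nat.card K ≤ 6) :
    Group.IsSolvable K := by
  have hpos : 0 < Nat.card K := Nat.card_pos
  have hcases : Nat.card K = 1 ∨ Nat.card K = 2 ∨ Nat.card K = 3 ∨ Nat.card K = 4 ∨
      Nat.card K = 5 ∨ Nat.card K = 6 := by omega
  rcases hcases with h | h | h | h | h | h
  · exact Cfsg.Agent.Lib.Helper2.isSolvable_of_card_eq_prime_pow_mul_prime_pow 2 3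
      (by norm_num) (by norm_num) _ K h ⟨0, 0, by norm_num⟩
  · exact Cfsg.Agent.Lib.Helper2.isSolvable_of_card_eq_prime_pow_mul_prime_pow 2 3
      (by norm_num) (by norm_num) _ K h ⟨1, 0, by norm_num⟩
  · exact Cfsg.Agent.Lib.Helper2.isSolvable_of_card_eq_prime_pow_mul_prime_pow 2 3
      (by norm_num) (by norm_num) _ K h ⟨0, 1, by norm_num⟩
  · exact Cfsg.Agent.Lib.Helper2.isSolvable_of_card_eq_prime_pow_mul_prime_pow 2 3
      (by norm_num) (by norm_num) _ K h ⟨2, 0, by norm_num⟩
  · exact Cfsg.Agent.Lib.Helper2.isSolvable_of_card_eq_prime_pow_mul_prime_pow 2 5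
      (by norm_num) (by norm_num) _ K h ⟨0, 1, by norm_num⟩
  · exact Cfsg.Agent.Lib.Helper2.isSolvable_of_card_eq_prime_pow_mul_prime_pow 2 3
      (by norm_num) (by norm_num) _ K h ⟨1, 1, by norm_num⟩

/-- a nonsolvable subgroup of `S_8` has an element of order `5` or `7` -/
theorem exists_prime_order (H : Subgroup (Perm (Fin 8))) (hns : ¬ Group.IsSolvable H) :
    ∃ g : H, orderOf g = 5 ∨ orderOf g = 7 := by
  have hdvd : Nat.card H ∣ 40320 := by
    have := Subgroup.card_subgroup_dvd_card H
    rwa [Nat.card_eq_fintype_card (α := Perm (Fin 8)), Fintype.card_perm, Fintype.card_fin] at this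
  by_cases h5 : 5 ∣ Nat.card H
  · haveI : Fact (Nat.Prime 5) := ⟨by norm_num⟩
    obtain ⟨g, hg⟩ := exists_prime_orderOf_dvd_card' 5 h5
    exact ⟨g, Or.inl hg⟩
  by_cases h7 : 7 ∣ Nat.card H
  · haveI : Fact (Nat.Prime 7) := ⟨by norm_num⟩
    obtain ⟨g, hg⟩ := exists_prime_orderOf_dvd_card' 7 h7
    exact ⟨g, Or.inr hg⟩
  exfalso
  apply hns
  have hc5 : Nat.Coprime (Nat.card H) 5 :=
    (Nat.Coprime.symm ((Nat.Prime.coprime_iff_not_dvd (by norm_num)).mpr h5))
  have hc7 : Nat.Coprime (Nat.card H) 7 :=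
    (Nat.Coprime.symm ((Nat.Prime.coprime_iff_not_dvd (by norm_num)).mpr h7))
  have h1 : Nat.card H ∣ 2 ^ 7 * 3 ^ 2 := by
    have e : (40320 : ℕ) = 2 ^ 7 * 3 ^ 2 * 5 * 7 := by norm_num
    rw [e] at hdvd
    exact hc5.dvd_of_dvd_mul_right (hc7.dvd_of_dvd_mul_right hdvd)
  obtain ⟨a, b, _, _, hab⟩ := Cfsg.Agent.Lib.Helper2.dvd_prime_pow_mul_prime_pow
    (p := 2) (q := 3) (by norm_num) (by norm_num) h1
  exact Cfsg.Agent.Lib.Helper2.isSolvable_of_card_eq_prime_pow_mul_prime_pow 2 3
    (by norm_num) (by norm_num) _ H hab ⟨a, b, rfl⟩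

/-- the orbit of a point moved by an element of prime order `p` has at least `p` points -/
theorem card_orbit_ge {G α : Type*} [Group G] [MulAction G α] [Fintype α] [DecidableEq α]
    (g : G) (hp : (orderOf g).Prime)
    (x : α) (hx : g • x ≠ x) [Fintype (MulAction.orbit G x)] :
    orderOf g ≤ Fintype.card (MulAction.orbit G x) := by
  have hper : MulAction.period g x = orderOf g := by
    rcases (Nat.dvd_prime hp).mp (MulAction.period_dvd_orderOf g x) with h | h
    · exact absurd (MulAction.period_eq_one_iff.mp h) hx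
    · exact h
  let f : Fin (orderOf g) → MulAction.orbit G x := fun i => ⟨g ^ i.val • x, MulAction.mem_orbit x _⟩
  have hf : Function.Injective f := by
    have key : ∀ i j : ℕ, i < j → j < orderOf g → g ^ i • x ≠ g ^ j • x := by
      intro i j hij hj h
      have h2 : g ^ (j - i) • x = x := by
        have : g ^ j = g ^ i * g ^ (j - i) := by rw [← pow_add]; congr 1; omega
        rw [this, mul_smul] at h
        exact (smul_left_cancel _ h).symm
      rw [MulAction.pow_smul_eq_iff_period_dvd, hper] at h2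
      have := Nat.le_of_dvd (by omega) h2
      omega
    intro i j hij
    have hij' : g ^ i.val • x = g ^ j.val • x := congrArg Subtype.val hij
    by_contra hne
    rcases lt_or_gt_of_ne (fun h => hne (Fin.ext h)) with h | h
    · exact key _ _ h j.2 hij'
    · exact key _ _ h i.2 hij'.symm
  simpa using Fintype.card_le_of_injective f hf

theorem orbit_reduce (H : Subgroup (Perm (Fin 8))) (hns : ¬ Group.IsSolvable H)
    (hTSR : ∀ N : Subgroup H, N.Normal → Group.IsSolvable N → N = ⊥) :
    ∃ (X : Type) (_ : Fintype X) (_ : DecidableEq X) (T : Subgroup (Perm X)),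
      5 ≤ Fintype.card X ∧ Fintype.card X ≤ 8 ∧ IsPretransitive T X ∧ Nonempty (H ≃* T) ∧
      (H ≤ alternatingGroup (Fin 8) → 7 ≤ Fintype.card X → T ≤ alternatingGroup X) := by
  classical
  obtain ⟨g, hg⟩ := exists_prime_order H hns
  have hgp : (orderOf g).Prime := by
    rcases hg with h | h <;> rw [h] <;> norm_num
  have hg5 : 5 ≤ orderOf g := by
    rcases hg with h | h <;> omega
  have hg1 : g ≠ 1 := by
    rintro rfl
    simp at hg
  obtain ⟨x, hx⟩ : ∃ x : Fin 8, g • x ≠ x := by
    by_contra hcon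
    push Not at hcon
    apply hg1
    apply Subtype.ext
    apply Equiv.ext
    intro y
    exact hcon y
  let p : Fin 8 → Prop := fun y => y ∈ MulAction.orbit H x
  let φ : H →* Perm (Subtype p) := MulAction.toPermHom H (MulAction.orbit H x)
  have hφ : ∀ (h : H) (y : Subtype p), ((φ h) y : Fin 8) = h.1 y.1 := fun h y => rfl
  have hcardX : 5 ≤ Fintype.card (Subtype p) := by
    have := card_orbit_ge (G := H) g hgp x hx
    have e : Fintype.card (Subtype p) = Fintype.card (MulAction.orbit H x) :=
      Fintype.card_congr (Equiv.refl _)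
    omega
  -- the kernel is trivial
  have hker : φ.ker = ⊥ := by
    apply hTSR _ inferInstance
    apply solvable_of_card_le_six
    let ι : φ.ker → { f : Perm (Fin 8) // ∀ a, ¬ (¬ p a) → f a = a } := fun k =>
      ⟨k.1.1, fun a ha => by
        have ha' : p a := not_not.mp ha
        have h1 : φ k.1 = 1 := k.2
        have h2 := hφ k.1 ⟨a, ha'⟩
        rw [h1] at h2
        exact h2.symm⟩
    have hι : Function.Injective ι := by
      intro k1 k2 h
      apply Subtype.ext
      apply Subtype.ext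
      have h' : (ι k1).1 = (ι k2).1 := congrArg Subtype.val h
      exact h'
    have h1 : Nat.card φ.ker ≤ Nat.card { f : Perm (Fin 8) // ∀ a, ¬ (¬ p a) → f a = a } :=
      Nat.card_le_card_of_injective ι hι
    have h2 : Nat.card { f : Perm (Fin 8) // ∀ a, ¬ (¬ p a) → f a = a } =
        Nat.card (Perm {a : Fin 8 // ¬ p a}) :=
      Nat.card_congr (Perm.subtypeEquivSubtypePerm (fun a => ¬ p a)).symm
    have h3 : Nat.card (Perm {a : Fin 8 // ¬ p a}) = (Fintype.card {a : Fin 8 // ¬ p a}).factorial := by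
      rw [Nat.card_eq_fintype_card, Fintype.card_perm]
    have h4 : Fintype.card {a : Fin 8 // ¬ p a} ≤ 3 := by
      rw [Fintype.card_subtype_compl, Fintype.card_fin]
      simp only [Fintype.card_eq_nat_card] at hcardX ⊢
      have e : Nat.card {x // p x} = Nat.card (Subtype p) := rfl
      omega
    have h5 : (Fintype.card {a : Fin 8 // ¬ p a}).factorial ≤ (3).factorial := Nat.factorial_le h4
    have h6 : (3).factorial = 6 := by decide
    omega
  have hinj : Function.Injective φ := (MonoidHom.ker_eq_bot_iff φ).mp hker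
  refine ⟨Subtype p, inferInstance, inferInstance, φ.range, hcardX, ?_, ?_, ?_, ?_⟩
  · have := Fintype.card_subtype_le p
    simpa using this
  · constructor
    intro y z
    obtain ⟨h, hh⟩ := MulAction.exists_smul_eq H (y : MulAction.orbit H x) z
    exact ⟨⟨φ h, ⟨h, rfl⟩⟩, hh⟩
  · exact ⟨MonoidHom.ofInjective hinj⟩
  · intro hA h7 t ht
    obtain ⟨h, rfl⟩ := ht
    rw [Equiv.Perm.mem_alternatingGroup]
    have hpres : ∀ y, p (h.1 y) ↔ p y := by
      intro y
      change h • y ∈ MulAction.orbit H x ↔ y ∈ MulAction.orbit H x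
      rw [← MulAction.orbit_eq_iff, MulAction.orbit_smul, MulAction.orbit_eq_iff]
    have heq : φ h = Perm.subtypePerm h.1 hpres := by
      ext y
      rfl
    rw [heq, Perm.sign_subtypePerm]
    · exact Equiv.Perm.mem_alternatingGroup.mp (hA h.2)
    · intro y hy
      by_contra hyp
      have hle : Fintype.card {a : Fin 8 // ¬ p a} ≤ 1 := by
        rw [Fintype.card_subtype_compl, Fintype.card_fin]
        simp only [Fintype.card_eq_nat_card] at h7 ⊢
        have e : Nat.card {x // p x} = Nat.card (Subtype p) := rfl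
        omega
      have hyp' : ¬ p (h.1 y) := fun h' => hyp ((hpres y).mp h')
      have := Fintype.card_le_one_iff.mp hle ⟨h.1 y, hyp'⟩ ⟨y, hyp⟩
      exact hy (congrArg Subtype.val this)

end Cfsg.Agent.Lib.Helper23.A8Orb
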