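import Mathlib
import Cfsg.Agent.S0991
import Cfsg.Agent.Lib.Helper2.BurnsidePQ

namespace Cfsg.Agent.Lib.Helper23.A8T5

open Equiv MulAction

/-- the alternating group of degree 5 is not commutative -/
theorem alt5_not_comm : ¬ IsMulCommutative (alternatingGroup (Fin 5)) := by
  intro h
  have h1 : (c[(0 : Fin 5), 1, 2] : Perm (Fin 5)) ∈ alternatingGroup (Fin 5) := by
    rw [Equiv.Perm.mem_alternatingGroup]; decide
  have h2 : (c[(0 : Fin 5), 1, 3] : Perm (Fin 5)) ∈ alternatingGroup (Fin 5) := by
    rw [Equiv.Perm.mem_alternatingGroup]; decide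
  have := h.is_comm.comm (⟨_, h1⟩ : alternatingGroup (Fin 5)) ⟨_, h2⟩
  have h3 := congrArg Subtype.val this
  simp only [Subgroup.coe_mul] at h3
  revert h3
  decide

/-- a subgroup containing the alternating group is the alternating group or everything -/
theorem eq_alt_or_top {n : ℕ} (T : Subgroup (Perm (Fin n))) (hA : alternatingGroup (Fin n) ≤ T) :
    T = alternatingGroup (Fin n) ∨ T = ⊤ := by
  by_cases hT : T ≤ alternatingGroup (Fin n)
  · exact Or.inl (le_antisymm hT hA)
  · right
    obtain ⟨t, htT, htA⟩ := SetLike.not_le_iff_exists.mp hT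
    rw [Equiv.Perm.mem_alternatingGroup] at htA
    have hst : Perm.sign t = -1 := by
      rcases Int.units_eq_one_or (Perm.sign t) with h | h
      · exact absurd h htA
      · exact h
    rw [eq_top_iff]
    intro g _
    rcases Int.units_eq_one_or (Perm.sign g) with h | h
    · exact hA (Equiv.Perm.mem_alternatingGroup.mpr h)
    · have : g * t⁻¹ ∈ T := by
        apply hA
        rw [Equiv.Perm.mem_alternatingGroup]
        simp [h, hst]
      have := T.mul_mem this htT
      simpa using this

theorem solvable_of_card_le_twelve {H : Type*} [Group H] [Finite H] (hd : Nat.card H ∣ 60)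
    (hle : Nat.card H ≤ 12) : Group.IsSolvable H := by
  have hpos : 0 < Nat.card H := Nat.card_pos
  have hcases : Nat.card H = 1 ∨ Nat.card H = 2 ∨ Nat.card H = 3 ∨ Nat.card H = 4 ∨
      Nat.card H = 5 ∨ Nat.card H = 6 ∨ Nat.card H = 10 ∨ Nat.card H = 12 := by
    generalize Nat.card H = m at *
    interval_cases m <;> simp_all
  rcases hcases with h | h | h | h | h | h | h | h
  · exact Cfsg.Agent.Lib.Helper2.isSolvable_of_card_eq_prime_pow_mul_prime_pow 2 3
      (by norm_num) (by norm_num) _ H h ⟨0, 0, by norm_num⟩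
  · exact Cfsg.Agent.Lib.Helper2.isSolvable_of_card_eq_prime_pow_mul_prime_pow 2 3
      (by norm_num) (by norm_num) _ H h ⟨1, 0, by norm_num⟩
  · exact Cfsg.Agent.Lib.Helper2.isSolvable_of_card_eq_prime_pow_mul_prime_pow 2 3
      (by norm_num) (by norm_num) _ H h ⟨0, 1, by norm_num⟩
  · exact Cfsg.Agent.Lib.Helper2.isSolvable_of_card_eq_prime_pow_mul_prime_pow 2 3
      (by norm_num) (by norm_num) _ H h ⟨2, 0, by norm_num⟩
  · exact Cfsg.Agent.Lib.Helper2.isSolvable_of_card_eq_prime_pow_mul_prime_pow 2 5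
      (by norm_num) (by norm_num) _ H h ⟨0, 1, by norm_num⟩
  · exact Cfsg.Agent.Lib.Helper2.isSolvable_of_card_eq_prime_pow_mul_prime_pow 2 3
      (by norm_num) (by norm_num) _ H h ⟨1, 1, by norm_num⟩
  · exact Cfsg.Agent.Lib.Helper2.isSolvable_of_card_eq_prime_pow_mul_prime_pow 2 5
      (by norm_num) (by norm_num) _ H h ⟨1, 1, by norm_num⟩
  · exact Cfsg.Agent.Lib.Helper2.isSolvable_of_card_eq_prime_pow_mul_prime_pow 2 3
      (by norm_num) (by norm_num) _ H h ⟨2, 1, by norm_num⟩

theorem card_alt5 : Nat.card (alternatingGroup (Fin 5)) = 60 := by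
  rw [nat_card_alternatingGroup]
  simp [Nat.factorial]

/-- a proper subgroup of `A5` is solvable -/
theorem solvable_of_ne_top (H : Subgroup (alternatingGroup (Fin 5))) (hH : H ≠ ⊤) :
    Group.IsSolvable H := by
  haveI : IsSimpleGroup (alternatingGroup (Fin 5)) := alternatingGroup.isSimpleGroup (by simp)
  obtain ⟨f, hf⟩ := Cfsg.Agent.S0991.result alt5_not_comm H hH
  have hidx : 5 ≤ H.index := by
    by_contra hlt
    push Not at hlt
    have h1 : Nat.card (alternatingGroup (Fin 5)) ≤ Nat.card (alternatingGroup (Fin H.index)) :=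
      Nat.card_le_card_of_injective f hf
    have h2 : Nat.card (alternatingGroup (Fin H.index)) ≤ Nat.card (Perm (Fin H.index)) :=
      Nat.card_le_card_of_injective _ Subtype.val_injective
    have h3 : Nat.card (Perm (Fin H.index)) = (H.index).factorial := by
      rw [Nat.card_eq_fintype_card, Fintype.card_perm, Fintype.card_fin]
    have h4 : (H.index).factorial ≤ (4).factorial := Nat.factorial_le (by omega)
    rw [card_alt5] at h1
    have : (4).factorial = 24 := by decide
    omega
  have hmul := H.card_mul_index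
  rw [card_alt5] at hmul
  apply solvable_of_card_le_twelve
  · exact Dvd.intro _ hmul
  · by_contra hlt
    push Not at hlt
    have : 13 * 5 ≤ Nat.card H * H.index := Nat.mul_le_mul hlt hidx
    omega

theorem t5_fin (T : Subgroup (Perm (Fin 5))) (hns : ¬ Group.IsSolvable T) :
    T = alternatingGroup (Fin 5) ∨ T = ⊤ := by
  apply eq_alt_or_top
  by_contra hA
  apply hns
  -- T ⊓ A is a proper subgroup of A
  have hne : T.subgroupOf (alternatingGroup (Fin 5)) ≠ ⊤ := by
    intro h
    exact hA (Subgroup.subgroupOf_eq_top.mp h)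
  haveI := solvable_of_ne_top _ hne
  -- the sign restricted to T has kernel inside the image of T ⊓ A
  let g : T →* ℤˣ := Perm.sign.comp T.subtype
  let f : T.subgroupOf (alternatingGroup (Fin 5)) →* T :=
    { toFun := fun x => ⟨x.1.1, x.2⟩
      map_one' := rfl
      map_mul' := fun _ _ => rfl }
  refine Group.isSolvable_of_ker_le_range f g ?_
  intro x hx
  rw [MonoidHom.mem_ker] at hx
  have hxA : (x : Perm (Fin 5)) ∈ alternatingGroup (Fin 5) := Equiv.Perm.mem_alternatingGroup.mpr hx
  refine ⟨⟨⟨x.1, hxA⟩, ?_⟩, ?_⟩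
  · rw [Subgroup.mem_subgroupOf]
    exact x.2
  · rfl

theorem t5 {X : Type*} [Fintype X] [DecidableEq X] (hX : Fintype.card X = 5)
    (T : Subgroup (Perm X)) (hns : ¬ Group.IsSolvable T) :
    Nonempty (T ≃* alternatingGroup (Fin 5)) ∨ Nonempty (T ≃* Perm (Fin 5)) := by
  let e : X ≃ Fin 5 := Fintype.equivFinOfCardEq hX
  let φ : Perm X ≃* Perm (Fin 5) := e.permCongrHom
  let T' : Subgroup (Perm (Fin 5)) := T.map φ.toMonoidHom
  let ψ : T ≃* T' := T.equivMapOfInjective φ.toMonoidHom φ.injective
  have hns' : ¬ Group.IsSolvable T' := by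
    intro h
    exact hns (Group.isSolvable_of_isSolvable_injective (f := ψ.toMonoidHom) ψ.injective)
  rcases t5_fin T' hns' with h | h
  · left
    exact ⟨ψ.trans (MulEquiv.subgroupCongr h)⟩
  · right
    exact ⟨ψ.trans ((MulEquiv.subgroupCongr h).trans Subgroup.topEquiv)⟩

end Cfsg.Agent.Lib.Helper23.A8T5
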