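import Mathlib

/-!
# Counting Sylow subgroups (helper23 library)

Index lemmas (`relIndex_sup_of_le_normalizer`, …) and counting lemmas for the number of Sylow
`p`-subgroups of subgroups and quotients, leading to M. Hall's product formula
`n_p(G) = n_p(G/K) n_p(K) n_p(N_{PK}(P ∩ K)/(P ∩ K))`.
-/

set_option autoImplicit false

namespace Cfsg.Agent.Lib.Helper23

open Subgroup

variable {G : Type*} [Group G]

/-- `[AB : A] = [B : A ∩ B]` when `B` normalizes `A`. -/
theorem relIndex_sup_of_le_normalizer {A B : Subgroup G} (h : B ≤ normalizer (A : Set G)) :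
    A.relIndex (A ⊔ B) = A.relIndex B := by
  have hM : A ⊔ B ≤ normalizer (A : Set G) := sup_le le_normalizer h
  have hn : (A.subgroupOf (A ⊔ B)).Normal :=
    (Subgroup.normal_subgroupOf_iff_le_normalizer le_sup_left).2 hM
  have key := Subgroup.relIndex_sup_right (B.subgroupOf (A ⊔ B)) (A.subgroupOf (A ⊔ B))
  rw [relIndex_subgroupOf le_sup_right] at key
  have htop : B.subgroupOf (A ⊔ B) ⊔ A.subgroupOf (A ⊔ B) = ⊤ := by
    rw [← subgroupOf_sup le_sup_right le_sup_left, sup_comm, subgroupOf_self]
  rw [htop, relIndex_top_right] at key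
  exact key

theorem relIndex_mul_card' {H K : Subgroup G} (h : H ≤ K) :
    H.relIndex K * Nat.card H = Nat.card K := by
  rw [Subgroup.relIndex, ← Subgroup.index_mul_card (H.subgroupOf K)]
  congr 1
  exact Nat.card_congr (Subgroup.subgroupOfEquivOfLe h).toEquiv.symm

/-- `[AB : B] = [A : A ∩ B]` when `B` normalizes `A` (finite case). -/
theorem relIndex_sup_of_le_normalizer' [Finite G] {A B : Subgroup G}
    (h : B ≤ normalizer (A : Set G)) : B.relIndex (A ⊔ B) = B.relIndex A := by
  have h1 := relIndex_sup_of_le_normalizer h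
  have e1 := relIndex_mul_card' (le_sup_left : A ≤ A ⊔ B)
  have e2 := relIndex_mul_card' (le_sup_right : B ≤ A ⊔ B)
  have e3 := relIndex_mul_card' (inf_le_left : A ⊓ B ≤ A)
  have e4 := relIndex_mul_card' (inf_le_right : A ⊓ B ≤ B)
  rw [Subgroup.inf_relIndex_right] at e4
  rw [Subgroup.inf_relIndex_left] at e3
  rw [h1] at e1
  have hc : 0 < Nat.card (A ⊓ B : Subgroup G) := Nat.card_pos
  have hb : 0 < A.relIndex B := by
    rcases Nat.eq_zero_or_pos (A.relIndex B) with h0 | h0
    · rw [h0, zero_mul] at e4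
      have : 0 < Nat.card B := Nat.card_pos
      omega
    · exact h0
  -- |AB| = [B:A∩B] |A| = [B : A∩B] [A : A∩B] |A∩B| ; |AB| = [AB : B] |B| = [AB:B] [B:A∩B] |A∩B|
  have : B.relIndex (A ⊔ B) * (A.relIndex B * Nat.card (A ⊓ B : Subgroup G)) =
      B.relIndex A * (A.relIndex B * Nat.card (A ⊓ B : Subgroup G)) := by
    calc B.relIndex (A ⊔ B) * (A.relIndex B * Nat.card (A ⊓ B : Subgroup G))
        = Nat.card (A ⊔ B : Subgroup G) := by rw [e4, e2]
      _ = A.relIndex B * (B.relIndex A * Nat.card (A ⊓ B : Subgroup G)) := by rw [e3, e1]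
      _ = B.relIndex A * (A.relIndex B * Nat.card (A ⊓ B : Subgroup G)) := by ring
  exact Nat.eq_of_mul_eq_mul_right (Nat.mul_pos hb hc) this

variable [Finite G] {p : ℕ} [Fact p.Prime]

/-- The number of Sylow `p`-subgroups of a subgroup `M` containing the Sylow subgroup `P` of `G`
is `[M : N_M(P)]`. -/
theorem card_sylow_of_le (P : Sylow p G) (M : Subgroup G) (h : (P : Subgroup G) ≤ M) :
    Nat.card (Sylow p M) = (normalizer ((P : Subgroup G) : Set G)).relIndex M := by
  rw [(P.subtype h).card_eq_index_normalizer]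
  have e : normalizer ((P.subtype h : Sylow p M) : Set M) =
      normalizer (((P : Subgroup G).subgroupOf M : Subgroup M) : Set M) := rfl
  rw [e, ← Subgroup.subgroupOf_normalizer_eq h]
  rfl

/-- For a normal subgroup `K` and a Sylow subgroup `P` of `G`, `p ∤ [K : P ∩ K]`. -/
theorem not_dvd_relIndex_inf_normal (P : Sylow p G) (K : Subgroup G) [K.Normal] :
    ¬ p ∣ ((P : Subgroup G) ⊓ K).relIndex K := by
  rw [Subgroup.inf_relIndex_right]
  have h1 : (P : Subgroup G).relIndex (K ⊔ P) = (P : Subgroup G).relIndex K :=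
    relIndex_sup_of_le_normalizer' (by rw [normalizer_eq_top]; exact le_top)
  rw [← h1]
  intro hdvd
  exact P.not_dvd_index (hdvd.trans (Subgroup.relIndex_dvd_index_of_le le_sup_right))

/-- `P ∩ K` as a Sylow subgroup of the normal subgroup `K`. -/
noncomputable def sylowInfNormal (P : Sylow p G) (K : Subgroup G) [K.Normal] : Sylow p K :=
  (P.isPGroup'.to_le (inf_le_left : (P : Subgroup G) ⊓ K ≤ P) |>.comap_subtype
      (H := (P : Subgroup G) ⊓ K) (K := K)).toSylow (not_dvd_relIndex_inf_normal P K)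

theorem coe_sylowInfNormal (P : Sylow p G) (K : Subgroup G) [K.Normal] :
    ((sylowInfNormal P K : Sylow p K) : Subgroup K) = ((P : Subgroup G) ⊓ K).subgroupOf K := rfl

/-- `n_p(K) = [K : N_K(P ∩ K)]` for `K` normal. -/
theorem card_sylow_normal (P : Sylow p G) (K : Subgroup G) [K.Normal] :
    Nat.card (Sylow p K) = (normalizer (((P : Subgroup G) ⊓ K : Subgroup G) : Set G)).relIndex K := by
  rw [(sylowInfNormal P K).card_eq_index_normalizer]
  have e : normalizer ((sylowInfNormal P K : Sylow p K) : Set K) =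
      normalizer ((((P : Subgroup G) ⊓ K).subgroupOf K : Subgroup K) : Set K) := rfl
  rw [e, ← Subgroup.subgroupOf_normalizer_eq inf_le_right]
  rfl

/-- `n_p(G/K) = [G : N_G(PK)]`. -/
theorem card_sylow_quotient (P : Sylow p G) (K : Subgroup G) [K.Normal] :
    Nat.card (Sylow p (G ⧸ K)) = (normalizer (((P : Subgroup G) ⊔ K : Subgroup G) : Set G)).index := by
  have hf : Function.Surjective (QuotientGroup.mk' K) := QuotientGroup.mk'_surjective K
  rw [(P.mapSurjective hf).card_eq_index_normalizer]
  have e : normalizer ((P.mapSurjective hf : Sylow p (G ⧸ K)) : Set (G ⧸ K)) =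
      normalizer (((P : Subgroup G).map (QuotientGroup.mk' K) : Subgroup (G ⧸ K)) : Set (G ⧸ K)) := rfl
  rw [e, ← Subgroup.index_comap_of_surjective _ hf, Subgroup.comap_normalizer_eq_of_surjective _ hf,
    Subgroup.comap_map_eq, QuotientGroup.ker_mk']

/-- Passing to the quotient by a normal `p`-subgroup does not change the number of Sylow
`p`-subgroups. -/
theorem card_sylow_quotient_pgroup (Q : Subgroup G) [Q.Normal] (hQ : IsPGroup p Q) :
    Nat.card (Sylow p (G ⧸ Q)) = Nat.card (Sylow p G) := by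
  symm
  have hf : Function.Surjective (QuotientGroup.mk' Q) := QuotientGroup.mk'_surjective _
  apply Nat.card_eq_of_bijective (Sylow.mapSurjective hf)
  refine ⟨?_, Sylow.mapSurjective_surjective hf p⟩
  intro P R hPR
  have h1 : (P : Subgroup G).map (QuotientGroup.mk' Q) = (R : Subgroup G).map (QuotientGroup.mk' Q) := by
    have := congrArg (fun S : Sylow p (G ⧸ Q) => S.toSubgroup) hPR
    simpa using this
  have h2 := congrArg (Subgroup.comap (QuotientGroup.mk' Q)) h1
  rw [Subgroup.comap_map_eq, Subgroup.comap_map_eq, QuotientGroup.ker_mk'] at h2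
  have hle : ∀ S : Sylow p G, Q ≤ (S : Subgroup G) := by
    intro S
    obtain ⟨g, hg⟩ := hQ.exists_le_sylow
    obtain ⟨x, rfl⟩ := MulAction.exists_smul_eq G g S
    intro q hq
    rw [Sylow.coe_subgroup_smul, Subgroup.mem_pointwise_smul_iff_inv_smul_mem]
    apply hg
    simp only [MulAut.smul_def, MulAut.conj_inv_apply]
    exact (inferInstance : Q.Normal).conj_mem q hq x⁻¹ |> fun h => by simpa using h
  apply Sylow.ext
  rw [← sup_of_le_left (hle P), h2, sup_of_le_left (hle R)]

end Cfsg.Agent.Lib.Helper23
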