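import Mathlib
import Cfsg.Agent.Lib.Helper16.SL23
import Cfsg.Agent.Lib.Helper16.Q8Aut
import Cfsg.Agent.Lib.Helper1.Basic

/-!
# Recognition of `SL(2,3)` (helper23)

`nonempty_mulEquiv_SL23`: a group `X = N C` with `N` normal and isomorphic to `Q₈`, `C` of order `3`
not centralizing `N`, is isomorphic to `SL(2,3)`.
-/

set_option autoImplicit false

namespace Cfsg.Agent.Lib.Helper23.SL23Recog

open Cfsg.Agent.Lib.Helper16 Cfsg.Agent.Lib.Helper1

set_option maxRecDepth 100000 in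
theorem perm4_conj : ∀ σ τ : Equiv.Perm (Fin 4), σ ≠ 1 → σ ^ 3 = 1 → τ ≠ 1 → τ ^ 3 = 1 →
    ∃ γ : Equiv.Perm (Fin 4), γ * σ * γ⁻¹ = τ := by decide

theorem q8_aut_conj (σ τ : MulAut (QuaternionGroup 2)) (hσ : σ ≠ 1) (hσ3 : σ ^ 3 = 1)
    (hτ : τ ≠ 1) (hτ3 : τ ^ 3 = 1) : ∃ γ : MulAut (QuaternionGroup 2), γ * σ * γ⁻¹ = τ := by
  obtain ⟨E⟩ := mulAut_q8_equiv_perm
  obtain ⟨γ, hγ⟩ := perm4_conj (E σ) (E τ)
    (fun h => hσ (E.injective (by rw [h, map_one])))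
    (by rw [← map_pow, hσ3, map_one])
    (fun h => hτ (E.injective (by rw [h, map_one])))
    (by rw [← map_pow, hτ3, map_one])
  refine ⟨E.symm γ, E.injective ?_⟩
  rw [map_mul, map_mul, map_inv, MulEquiv.apply_symm_apply, hγ]

theorem semidirect_iso {N₁ N₂ C₁ C₂ : Type*} [Group N₁] [Group N₂] [Group C₁] [Group C₂]
    (e₁ : N₁ ≃* QuaternionGroup 2) (e₂ : N₂ ≃* QuaternionGroup 2)
    (h₁ : Nat.card C₁ = 3) (h₂ : Nat.card C₂ = 3)
    (φ₁ : C₁ →* MulAut N₁) (φ₂ : C₂ →* MulAut N₂)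
    (hφ₁ : ∃ c, φ₁ c ≠ 1) (hφ₂ : ∃ c, φ₂ c ≠ 1) :
    Nonempty (N₁ ⋊[φ₁] C₁ ≃* N₂ ⋊[φ₂] C₂) := by
  haveI : Fact (Nat.Prime 3) := ⟨Nat.prime_three⟩
  obtain ⟨fg⟩ : Nonempty (C₁ ≃* C₂) := ⟨mulEquivOfPrimeCardEq (p := 3) h₁ h₂⟩
  obtain ⟨c₁, hc₁⟩ := hφ₁
  have hc₁ne : c₁ ≠ 1 := fun h => hc₁ (by rw [h, map_one])
  have hc₁3 : c₁ ^ 3 = 1 := by rw [← h₁]; exact pow_card_eq_one'
  obtain ⟨c₂, hc₂def⟩ : ∃ c₂ : C₂, c₂ = fg c₁ := ⟨_, rfl⟩
  have hc₂ne : c₂ ≠ 1 := by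
    intro h
    rw [hc₂def] at h
    exact hc₁ne (fg.injective (by rw [h, map_one]))
  have hc₂3 : c₂ ^ 3 = 1 := by rw [← h₂]; exact pow_card_eq_one'
  have hc₂ : φ₂ c₂ ≠ 1 := by
    intro h
    obtain ⟨c, hc⟩ := hφ₂
    apply hc
    obtain ⟨k, hk⟩ := (Submonoid.mem_powers_iff _ _).mp (mem_powers_of_prime_card (p := 3) h₂ (g' := c) hc₂ne)
    rw [← hk, map_pow, h, one_pow]
  obtain ⟨σ, hσdef⟩ : ∃ σ : MulAut (QuaternionGroup 2), σ = MulAut.congr e₁ (φ₁ c₁) := ⟨_, rfl⟩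
  obtain ⟨τ, hτdef⟩ : ∃ τ : MulAut (QuaternionGroup 2), τ = MulAut.congr e₂ (φ₂ c₂) := ⟨_, rfl⟩
  have hσ : σ ≠ 1 := by
    intro h
    rw [hσdef] at h
    exact hc₁ ((MulAut.congr e₁).injective (by rw [h, map_one]))
  have hτ : τ ≠ 1 := by
    intro h
    rw [hτdef] at h
    exact hc₂ ((MulAut.congr e₂).injective (by rw [h, map_one]))
  have hσ3 : σ ^ 3 = 1 := by rw [hσdef, ← map_pow, ← map_pow, hc₁3, map_one, map_one]
  have hτ3 : τ ^ 3 = 1 := by rw [hτdef, ← map_pow, ← map_pow, hc₂3, map_one, map_one]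
  obtain ⟨γ, hγ⟩ := q8_aut_conj σ τ hσ hσ3 hτ hτ3
  have hγ' : ∀ y, γ (σ y) = τ (γ y) := by
    intro y
    have h : γ * σ = τ * γ := by rw [← hγ]; group
    exact DFunLike.congr_fun h y
  have hσa : ∀ n : N₁, e₁ (φ₁ c₁ n) = σ (e₁ n) := by
    intro n
    rw [hσdef, MulAut.congr_apply]
    simp
  have hτa : ∀ z : QuaternionGroup 2, e₂.symm (τ z) = φ₂ c₂ (e₂.symm z) := by
    intro z
    rw [hτdef, MulAut.congr_apply]
    simp
  obtain ⟨fn, hfn⟩ : ∃ fn : N₁ ≃* N₂, ∀ n, fn n = e₂.symm (γ (e₁ n)) :=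
    ⟨e₁.trans (γ.trans e₂.symm), fun n => rfl⟩
  have key : ∀ n : N₁, fn (φ₁ c₁ n) = φ₂ c₂ (fn n) := by
    intro n
    rw [hfn, hfn, hσa, hγ', hτa]
  have keyk : ∀ (k : ℕ) (n : N₁), fn ((φ₁ c₁ ^ k) n) = (φ₂ c₂ ^ k) (fn n) := by
    intro k
    induction k with
    | zero => intro n; simp
    | succ k ih =>
      intro n
      rw [pow_succ, pow_succ, MulAut.mul_apply, MulAut.mul_apply, ih, key]
  refine ⟨SemidirectProduct.congr fn fg ?_⟩
  intro g
  obtain ⟨k, hk⟩ := (Submonoid.mem_powers_iff _ _).mp (mem_powers_of_prime_card (p := 3) h₁ (g' := g) hc₁ne)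
  ext n
  show fn (φ₁ g n) = φ₂ (fg g) (fn n)
  rw [← hk, map_pow, map_pow, map_pow, ← hc₂def]
  exact keyk k n

/-- Recognition of `SL(2,3)`. -/
theorem nonempty_mulEquiv_SL23 {X : Type*} [Group X] (N C : Subgroup X) [hN : N.Normal]
    (e : N ≃* QuaternionGroup 2) (hC : Nat.card C = 3) (hsup : N ⊔ C = ⊤)
    (hnc : ¬ C ≤ Subgroup.centralizer (N : Set X)) :
    Nonempty (X ≃* Matrix.SpecialLinearGroup (Fin 2) (ZMod 3)) := by
  have hNcard : Nat.card N = 8 := by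
    rw [Nat.card_congr e.toEquiv, Nat.card_eq_fintype_card, QuaternionGroup.card]
  have hdis : Disjoint N C := by
    apply Subgroup.disjoint_of_coprime_natCard
    rw [hNcard, hC]; norm_num
  have hcompl : Subgroup.IsComplement' N C := isComplement'_of_disjoint_of_sup_eq_top hdis hsup
  -- the model
  obtain ⟨_, _, h8, ⟨e₀⟩, hcompl₀, _⟩ := SL23_structure
  obtain ⟨P₀⟩ : Nonempty (Sylow 3 SL23) := inferInstance
  have hP₀ : Nat.card (P₀ : Subgroup SL23) = 3 := card_sylow_three_of_card_24 natCard_SL23 P₀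
  have hc₀ := hcompl₀ P₀
  haveI : (commutator SL23).Normal := inferInstance
  -- nontrivial actions
  have hφ : ∃ c : ↥C, (N.normalizerMonoidHom.comp
      (Subgroup.inclusion (N.normalizer_eq_top ▸ le_top))) c ≠ 1 := by
    by_contra hall
    push Not at hall
    apply hnc
    intro c hc
    rw [Subgroup.mem_centralizer_iff]
    intro n hn
    have h1 := hall ⟨c, hc⟩
    have h2 := DFunLike.congr_fun h1 ⟨n, hn⟩
    have h3 := congrArg Subtype.val h2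
    simp only [MonoidHom.comp_apply, Subgroup.normalizerMonoidHom_apply_apply_coe,
      Subgroup.coe_inclusion, MulAut.one_apply] at h3
    calc n * c = (c * n * c⁻¹) * c := by rw [h3]
      _ = c * n := by group
  have hφ₀ : ∃ c : ↥(P₀ : Subgroup SL23), ((commutator SL23).normalizerMonoidHom.comp
      (Subgroup.inclusion ((commutator SL23).normalizer_eq_top ▸ le_top))) c ≠ 1 := by
    by_contra hall
    push Not at hall
    have hcent : (P₀ : Subgroup SL23) ≤ Subgroup.center SL23 := by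
      intro c hc
      rw [Subgroup.mem_center_iff]
      intro g
      obtain ⟨n, hn, p, hp, rfl⟩ := IsComplement'.exists_mul_eq hc₀ g
      have h1 := hall ⟨c, hc⟩
      have h2 := DFunLike.congr_fun h1 ⟨n, hn⟩
      have h3 := congrArg Subtype.val h2
      simp only [MonoidHom.comp_apply, Subgroup.normalizerMonoidHom_apply_apply_coe,
        Subgroup.coe_inclusion, MulAut.one_apply] at h3
      have h4 : n * c = c * n := by
        calc n * c = (c * n * c⁻¹) * c := by rw [h3]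
          _ = c * n := by group
      haveI : Fact (Nat.Prime 3) := ⟨Nat.prime_three⟩
      haveI : IsCyclic ↥(P₀ : Subgroup SL23) := isCyclic_of_prime_card hP₀
      have h5 : p * c = c * p := by
        have := IsCyclic.commGroup.mul_comm (⟨p, hp⟩ : ↥(P₀ : Subgroup SL23)) ⟨c, hc⟩
        exact congrArg Subtype.val this
      rw [mul_assoc, h5, ← mul_assoc, h4, mul_assoc]
    have hdvd := Subgroup.card_dvd_of_le hcent
    rw [hP₀, natCard_center_SL23] at hdvd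
    omega
  obtain ⟨E⟩ := semidirect_iso e e₀ hC hP₀ _ _ hφ hφ₀
  exact ⟨(SemidirectProduct.mulEquivSubgroup hcompl).symm.trans
    (E.trans (SemidirectProduct.mulEquivSubgroup hc₀))⟩

end Cfsg.Agent.Lib.Helper23.SL23Recog
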