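import Mathlib

/-!
# S3360 FO-8: Sylow `z`-subgroups act freely on `N ∖ Z(N)`, hence `z^k ∣ |N : Z(N)| - 1`.
-/

set_option autoImplicit false

namespace Cfsg.Agent.Lib.Helper23.S3360FO8

open scoped Classical in
/-- a finite group `P` acting freely on a finite type `X`: `|P|` divides `|X|`. -/
theorem card_dvd_of_free {P X : Type*} [Group P] [Finite P] [Finite X] [MulAction P X]
    (hfree : ∀ (u : P) (x : X), u • x = x → u = 1) : Nat.card P ∣ Nat.card X := by
  classical
  haveI := Fintype.ofFinite P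
  haveI := Fintype.ofFinite X
  have hB := MulAction.sum_card_fixedBy_eq_card_orbits_mul_card_group P X
  have h1 : ∀ u : P, u ≠ 1 → Fintype.card (MulAction.fixedBy X u) = 0 := by
    intro u hu
    rw [Fintype.card_eq_zero_iff]
    exact ⟨fun ⟨x, hx⟩ => hu (hfree u x hx)⟩
  have h2 : Fintype.card (MulAction.fixedBy X (1 : P)) = Fintype.card X := by
    apply Fintype.card_congr
    exact ⟨fun x => x.1, fun x => ⟨x, by simp⟩, fun _ => rfl, fun _ => rfl⟩
  rw [Finset.sum_eq_single (1 : P) (fun u _ hu => h1 u hu) (fun h => absurd (Finset.mem_univ _) h),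
    h2] at hB
  rw [Nat.card_eq_fintype_card, Nat.card_eq_fintype_card, hB]
  exact dvd_mul_left _ _

theorem FO8 {G : Type*} [Group G] [Finite G] (N : Subgroup G) (hNn : N.Normal) (r z : ℕ)
    (hz : z.Prime) (hr : r.Prime) (hzr : z ≠ r) (hN : IsPGroup r N)
    (hfree : ∀ g : G, orderOf g = z → ∀ x ∈ N, g * x = x * g → ∀ w ∈ N, x * w = w * x)
    (k : ℕ) (hk : z ^ k ∣ Nat.card G) : z ^ k ∣ (Subgroup.center N).index - 1 := by
  classical
  haveI : Fact z.Prime := ⟨hz⟩
  haveI : Fact r.Prime := ⟨hr⟩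
  obtain ⟨P⟩ : Nonempty (Sylow z G) := inferInstance
  -- the set X = N \ Z(N) as a subtype of G
  let X := {x : G // x ∈ N ∧ ¬ ∀ w ∈ N, x * w = w * x}
  have hXmem : ∀ (u : G) (x : G), (x ∈ N ∧ ¬ ∀ w ∈ N, x * w = w * x) →
      (u * x * u⁻¹ ∈ N ∧ ¬ ∀ w ∈ N, (u * x * u⁻¹) * w = w * (u * x * u⁻¹)) := by
    intro u x ⟨hxN, hx⟩
    refine ⟨hNn.conj_mem x hxN u, fun hc => hx fun w hw => ?_⟩
    have hw' : u * w * u⁻¹ ∈ N := hNn.conj_mem w hw u
    have := hc _ hw'
    have e : u * (x * w) * u⁻¹ = u * (w * x) * u⁻¹ := by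
      calc u * (x * w) * u⁻¹ = (u * x * u⁻¹) * (u * w * u⁻¹) := by group
        _ = (u * w * u⁻¹) * (u * x * u⁻¹) := this
        _ = u * (w * x) * u⁻¹ := by group
    exact mul_left_cancel (mul_right_cancel e)
  letI : MulAction (P : Subgroup G) X :=
    { smul := fun u x => ⟨(u : G) * x.1 * (u : G)⁻¹, hXmem u x.1 x.2⟩
      one_smul := fun x => by
        apply Subtype.ext
        show ((1 : (P : Subgroup G)) : G) * x.1 * ((1 : (P : Subgroup G)) : G)⁻¹ = x.1
        simp
      mul_smul := fun u v x => by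
        apply Subtype.ext
        show ((u * v : (P : Subgroup G)) : G) * x.1 * ((u * v : (P : Subgroup G)) : G)⁻¹ =
          (u : G) * ((v : G) * x.1 * (v : G)⁻¹) * (u : G)⁻¹
        push_cast
        group }
  have hsmul : ∀ (u : (P : Subgroup G)) (x : X), (u • x).1 = (u : G) * x.1 * (u : G)⁻¹ :=
    fun _ _ => rfl
  -- freeness
  have hfr : ∀ (u : (P : Subgroup G)) (x : X), u • x = x → u = 1 := by
    intro u x hux
    by_contra hu1
    have hcomm : (u : G) * x.1 = x.1 * (u : G) := by
      have := congrArg Subtype.val hux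
      rw [hsmul] at this
      calc (u : G) * x.1 = ((u : G) * x.1 * (u : G)⁻¹) * (u : G) := by group
        _ = x.1 * (u : G) := by rw [this]
    -- order of u is a power of z, nontrivial
    obtain ⟨j, hj⟩ := P.2 u
    have hoG : orderOf (u : G) = orderOf u := Subgroup.orderOf_coe u
    have hod : orderOf (u : G) ∣ z ^ j := by
      rw [hoG]; exact orderOf_dvd_of_pow_eq_one hj
    obtain ⟨j', -, hj'⟩ := (Nat.dvd_prime_pow hz).1 hod
    have hj'0 : j' ≠ 0 := by
      rintro rfl
      rw [pow_zero, orderOf_eq_one_iff] at hj'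
      exact hu1 (Subtype.ext hj')
    have hzdvd : z ∣ orderOf (u : G) := by
      rw [hj']; exact dvd_pow_self z hj'0
    have hopos : orderOf (u : G) ≠ 0 := by
      rw [hj']; exact pow_ne_zero _ hz.ne_zero
    set v : G := (u : G) ^ (orderOf (u : G) / z) with hv
    have hvo : orderOf v = z := orderOf_pow_orderOf_div hopos hzdvd
    have hvx : v * x.1 = x.1 * v := by
      have : Commute (u : G) x.1 := hcomm
      exact (this.pow_left _).eq
    exact x.2.2 (hfree v hvo x.1 x.2.1 hvx)
  have hdvd := card_dvd_of_free hfr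
  -- cardinalities
  have hPcard : Nat.card (P : Subgroup G) = z ^ (Nat.card G).factorization z :=
    P.card_eq_multiplicity
  have hkle : k ≤ (Nat.card G).factorization z :=
    (hz.pow_dvd_iff_le_factorization Nat.card_pos.ne').1 hk
  have hzkP : z ^ k ∣ Nat.card (P : Subgroup G) := by
    rw [hPcard]; exact pow_dvd_pow z hkle
  -- card X
  have hXcard : Nat.card X = Nat.card (Subgroup.center N) * ((Subgroup.center N).index - 1) := by
    have e : X ≃ {x : N // x ∉ Subgroup.center N} :=
      { toFun := fun x => ⟨⟨x.1, x.2.1⟩, fun hc => x.2.2 fun w hw => by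
          have := Subgroup.mem_center_iff.1 hc ⟨w, hw⟩
          exact (congrArg Subtype.val this).symm⟩
        invFun := fun x => ⟨x.1.1, x.1.2, fun hc => x.2 (Subgroup.mem_center_iff.2 fun w => by
          apply Subtype.ext
          exact (hc w.1 w.2).symm)⟩
        left_inv := fun _ => rfl
        right_inv := fun _ => rfl }
    rw [Nat.card_congr e]
    have h1 : Nat.card {x : N // x ∉ Subgroup.center N} =
        Nat.card N - Nat.card (Subgroup.center N) := by
      haveI := Fintype.ofFinite N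
      rw [Nat.card_eq_fintype_card, Nat.card_eq_fintype_card, Nat.card_eq_fintype_card]
      rw [Fintype.card_subtype_compl]
    rw [h1, ← Subgroup.card_mul_index (Subgroup.center N), Nat.mul_sub, mul_one]
  rw [hXcard] at hdvd
  -- coprimality
  have hZp : IsPGroup r (Subgroup.center N) := hN.to_subgroup _
  obtain ⟨b, hb⟩ := IsPGroup.iff_card.1 hZp
  have hcop : Nat.Coprime (Nat.card (P : Subgroup G)) (Nat.card (Subgroup.center N)) := by
    rw [hPcard, hb]
    exact Nat.Coprime.pow _ _ ((Nat.coprime_primes hz hr).2 hzr)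
  exact hzkP.trans (hcop.dvd_of_dvd_mul_left hdvd)

end Cfsg.Agent.Lib.Helper23.S3360FO8
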