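import Mathlib

/-!
# S3360 FO-9 (arithmetic): the only case with `n = 2^k ≥ 4`, `p` odd, where every primitive prime
divisor of `p^n - 1` equals `n+1` and divides `p^n-1` exactly once, is `p = 3`, `n = 4`.
-/

set_option autoImplicit false

namespace Cfsg.Agent.Lib.Helper23.S3360FO9

/-- an odd prime dividing `p^m+1` (with `2m = 2^k`) is a primitive prime divisor of `p^(2m)-1`. -/
theorem ppd_of_dvd (p k : ℕ) (hk : 1 ≤ k) (l : ℕ) (hl : l.Prime) (hl2 : l ≠ 2)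
    (hdvd : l ∣ p ^ (2 ^ (k - 1)) + 1) :
    ∀ i, 0 < i → i < 2 ^ k → ¬ l ∣ p ^ i - 1 := by
  intro i hi0 hik hli
  haveI : Fact l.Prime := ⟨hl⟩
  have hp1 : 1 ≤ p ^ i := by
    rcases Nat.eq_zero_or_pos p with hp0 | hp0
    · subst hp0
      rw [zero_pow (by positivity)] at hdvd
      simp at hdvd
      exact absurd hdvd hl.one_lt.ne'
    · exact Nat.one_le_pow _ _ hp0
  have e1 : ((p : ZMod l)) ^ i = 1 := by
    have := (ZMod.natCast_eq_zero_iff (p ^ i - 1) l).2 hli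
    rw [Nat.cast_sub hp1] at this
    push_cast at this
    exact sub_eq_zero.1 this
  have e2 : ((p : ZMod l)) ^ (2 ^ (k - 1)) = -1 := by
    have := (ZMod.natCast_eq_zero_iff (p ^ (2 ^ (k - 1)) + 1) l).2 hdvd
    push_cast at this
    exact eq_neg_of_add_eq_zero_left this
  have e3 : ((p : ZMod l)) ^ (2 ^ k) = 1 := by
    have : 2 ^ k = 2 ^ (k - 1) * 2 := by
      rw [← pow_succ]; congr 1; omega
    rw [this, pow_mul, e2]; norm_num
  have ho : orderOf (p : ZMod l) ∣ 2 ^ k := orderOf_dvd_of_pow_eq_one e3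
  obtain ⟨j, hjk, hj⟩ := (Nat.dvd_prime_pow Nat.prime_two).1 ho
  have hne : (-1 : ZMod l) ≠ 1 := by
    intro h
    have h2 : (2 : ZMod l) = 0 := by
      have : (1 : ZMod l) + 1 = 0 := by
        nth_rewrite 1 [← h]; ring
      rw [← this]; norm_num
    have : ((2 : ℕ) : ZMod l) = 0 := by exact_mod_cast h2
    rw [ZMod.natCast_eq_zero_iff] at this
    exact hl2 ((Nat.prime_dvd_prime_iff_eq hl Nat.prime_two).1 this)
  have hjk' : j = k := by
    by_contra hne'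
    have hlt : j ≤ k - 1 := by omega
    have : orderOf (p : ZMod l) ∣ 2 ^ (k - 1) := by
      rw [hj]; exact pow_dvd_pow 2 hlt
    have := orderOf_dvd_iff_pow_eq_one.1 this
    rw [e2] at this
    exact hne this
  have hoi : orderOf (p : ZMod l) ∣ i := orderOf_dvd_of_pow_eq_one e1
  rw [hj, hjk'] at hoi
  exact absurd (Nat.le_of_dvd hi0 hoi) (by omega)

theorem FO9 (p n k : ℕ) (hp : p.Prime) (hp2 : p ≠ 2) (hk : 2 ≤ k) (hn : n = 2 ^ k)
    (h : ∀ z : ℕ, z.Prime → z ∣ p ^ n - 1 → (∀ i, 0 < i → i < n → ¬ z ∣ p ^ i - 1) →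
      z = n + 1 ∧ ¬ z ^ 2 ∣ p ^ n - 1) :
    p = 3 ∧ n = 4 := by
  subst hn
  set m := 2 ^ (k - 1) with hm
  have hnm : 2 ^ k = 2 * m := by
    rw [hm, ← pow_succ']; congr 1; omega
  have hm2 : 2 ≤ m := by
    rw [hm]
    calc 2 = 2 ^ 1 := by norm_num
      _ ≤ 2 ^ (k - 1) := Nat.pow_le_pow_right (by norm_num) (by omega)
  have hmeven : Even m := by
    rw [hm]
    exact (Nat.even_pow' (by omega)).2 (by norm_num)
  have hp3 : 3 ≤ p := by
    have := hp.two_le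
    omega
  have hpodd : Odd p := hp.odd_of_ne_two hp2
  -- factor
  have hfac : p ^ (2 ^ k) - 1 = (p ^ m - 1) * (p ^ m + 1) := by
    rw [hnm, pow_mul']
    have h1 : 1 ≤ p ^ m := Nat.one_le_pow _ _ (by omega)
    have : (p ^ m) ^ 2 = (p ^ m - 1) * (p ^ m + 1) + 1 := by
      obtain ⟨a, ha⟩ : ∃ a, p ^ m = a + 1 := ⟨p ^ m - 1, by omega⟩
      rw [ha]; simp; ring
    omega
  have hdvdN : p ^ m + 1 ∣ p ^ (2 ^ k) - 1 := by
    rw [hfac]; exact dvd_mul_left _ _
  -- p^m ≡ 1 mod 4, so p^m + 1 = 2 * M with M odd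
  have hmod4 : p ^ m % 4 = 1 := by
    obtain ⟨a, ha⟩ := hmeven
    have : p ^ m = (p ^ 2) ^ a := by rw [← pow_mul, ha]; congr 1; ring
    rw [this, Nat.pow_mod]
    have hp2' : p ^ 2 % 4 = 1 := by
      obtain ⟨b, hb⟩ := hpodd
      rw [hb]
      have : (2 * b + 1) ^ 2 = 4 * (b * b + b) + 1 := by ring
      rw [this]; omega
    rw [hp2']; simp
  obtain ⟨M, hM⟩ : ∃ M, p ^ m + 1 = 2 * M := ⟨(p ^ m + 1) / 2, by omega⟩
  have hModd : M % 2 = 1 := by omega
  have hM1 : 1 < M := by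
    have : 3 ^ 2 ≤ p ^ m := by
      calc 3 ^ 2 ≤ 3 ^ m := Nat.pow_le_pow_right (by norm_num) hm2
        _ ≤ p ^ m := Nat.pow_le_pow_left hp3 m
    omega
  -- every prime divisor of M is n+1
  have hprime : ∀ l : ℕ, l.Prime → l ∣ M → l = 2 ^ k + 1 ∧ ¬ l ^ 2 ∣ p ^ (2 ^ k) - 1 := by
    intro l hl hlM
    have hl2 : l ≠ 2 := by
      rintro rfl
      omega
    have hlN : l ∣ p ^ m + 1 := by rw [hM]; exact Dvd.dvd.mul_left hlM 2
    exact h l hl (hlN.trans hdvdN) (ppd_of_dvd p k (by omega) l hl hl2 hlN)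
  obtain ⟨l, hl, hlM⟩ := Nat.exists_prime_and_dvd (by omega : M ≠ 1)
  obtain ⟨hleq, hlsq⟩ := hprime l hl hlM
  obtain ⟨M', hM'⟩ := hlM
  have hM'1 : M' = 1 := by
    by_contra hne
    obtain ⟨l', hl', hl'M⟩ := Nat.exists_prime_and_dvd hne
    have hl'M2 : l' ∣ M := by rw [hM']; exact Dvd.dvd.mul_left hl'M l
    obtain ⟨hl'eq, -⟩ := hprime l' hl' hl'M2
    have : l' = l := by rw [hl'eq, hleq]
    subst this
    apply hlsq
    have : l' ^ 2 ∣ M := by
      rw [hM', sq]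
      exact mul_dvd_mul_left l' hl'M
    have h2 : M ∣ p ^ m + 1 := by rw [hM]; exact dvd_mul_left _ _
    exact this.trans (h2.trans hdvdN)
  -- so p^m + 1 = 2 (n+1) = 2(2m+1)
  have hkey : p ^ m = 4 * m + 1 := by
    rw [hM'1, mul_one] at hM'
    rw [hM', hleq, hnm] at hM
    omega
  -- m = 2
  have hm_eq : m = 2 := by
    by_contra hne
    have hm3 : 3 ≤ m := by omega
    have h3 : ∀ a : ℕ, 3 ≤ a → 4 * a + 1 < 3 ^ a := by
      intro a ha
      induction a, ha using Nat.le_induction with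
      | base => norm_num
      | succ b hb ih => rw [pow_succ]; omega
    have : 3 ^ m ≤ p ^ m := Nat.pow_le_pow_left hp3 m
    have := h3 m hm3
    omega
  rw [hm_eq] at hkey hnm
  constructor
  · have : p ^ 2 = 3 ^ 2 := by omega
    exact Nat.pow_left_injective (by norm_num : 2 ≠ 0) this
  · omega

end Cfsg.Agent.Lib.Helper23.S3360FO9
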