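import Mathlib
import Cfsg.Prelude.Def_GeometricClasses
import Cfsg.Agent.Lib.Helper7.AschDefs
import Cfsg.Agent.Lib.Helper8.S5630I4TENS3
import Cfsg.Agent.Lib.Helper16.SpADefs

/-!
# S5662, block SpI4, pieces SpT-T1 (`kron_skew`, `kron_diag`), T2 (`exists_eps`), T3 (`exists_factors`), T5 (`tf_swap`),
T6a (`x0_props`), T6b (`exists_skew_elt`)  (helper23)
-/

set_option autoImplicit false
set_option linter.unusedSectionVars false
set_option linter.unusedVariables false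

namespace Cfsg.Agent.Lib.Helper23.S5662SpT

open Matrix Cfsg.Geo Cfsg.Agent.Lib.Helper7.Asch Cfsg.Agent.Lib.Helper16.SpA
open scoped Kronecker

variable {F : Type*} [Field F] [Fintype F] {n : ℕ} {f : (Fin n → F) → (Fin n → F) → F}

/-- the form `f`, transported by `P` and `e`, has Gram matrix `G₁ ⊗ G₂` (verbatim copy of helper16's `TF`) -/
def TF (f : (Fin n → F) → (Fin n → F) → F) {d s : ℕ} (e : Fin n ≃ Fin d × Fin s) (P : GL (Fin n) F)
    (G₁ : Matrix (Fin d) (Fin d) F) (G₂ : Matrix (Fin s) (Fin s) F) : Prop :=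
  ∀ x y : Fin d × Fin s → F,
    f ((P : Matrix (Fin n) (Fin n) F) *ᵥ (x ∘ e)) ((P : Matrix (Fin n) (Fin n) F) *ᵥ (y ∘ e)) =
      formOfGram id (G₁ ⊗ₖ G₂) x y

section general

variable {κ : Type} [Fintype κ] [DecidableEq κ]

theorem formOfGram_eq_dot' (τ : F → F) (G : Matrix κ κ F) (x y : κ → F) :
    formOfGram τ G x y = x ⬝ᵥ (G *ᵥ fun b => τ (y b)) := by
  simp only [formOfGram, dotProduct, Matrix.mulVec, Finset.mul_sum, mul_assoc]

theorem formOfGram_id_mulVec (Γ M : Matrix κ κ F) (x y : κ → F) :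
    formOfGram id Γ (M *ᵥ x) (M *ᵥ y) = formOfGram id (Mᵀ * Γ * M) x y := by
  rw [formOfGram_eq_dot', formOfGram_eq_dot']
  change (M *ᵥ x) ⬝ᵥ (Γ *ᵥ (M *ᵥ y)) = x ⬝ᵥ ((Mᵀ * Γ * M) *ᵥ y)
  rw [← Matrix.mulVec_mulVec, ← Matrix.mulVec_mulVec, Matrix.dotProduct_mulVec x Mᵀ,
    Matrix.vecMul_transpose]

theorem formOfGram_id_single (Γ : Matrix κ κ F) (p q : κ) :
    formOfGram id Γ (Pi.single p 1) (Pi.single q 1) = Γ p q := by
  simp [formOfGram, Pi.single_apply]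

theorem eq_of_formOfGram_id_eq (A B : Matrix κ κ F)
    (h : ∀ x y, formOfGram id A x y = formOfGram id B x y) : A = B := by
  ext p q
  have := h (Pi.single p 1) (Pi.single q 1)
  rwa [formOfGram_id_single, formOfGram_id_single] at this

end general

/-- **T1** -/
theorem kron_skew (hf : IsSymplecticForm f) {d s : ℕ} (e : Fin n ≃ Fin d × Fin s) (P : GL (Fin n) F)
    (G₁ : Matrix (Fin d) (Fin d) F) (G₂ : Matrix (Fin s) (Fin s) F) (hT : TF f e P G₁ G₂) :
    (G₁ ⊗ₖ G₂)ᵀ = -(G₁ ⊗ₖ G₂) := by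
  ext p q
  have h1 := hT (Pi.single q 1) (Pi.single p 1)
  have h2 := hT (Pi.single p 1) (Pi.single q 1)
  rw [formOfGram_id_single] at h1 h2
  rw [Matrix.transpose_apply, Matrix.neg_apply, ← h1, ← h2]
  exact hf.skew _ _

/-- **T1** -/
theorem kron_diag (hf : IsSymplecticForm f) {d s : ℕ} (e : Fin n ≃ Fin d × Fin s) (P : GL (Fin n) F)
    (G₁ : Matrix (Fin d) (Fin d) F) (G₂ : Matrix (Fin s) (Fin s) F) (hT : TF f e P G₁ G₂) (a : Fin d) (b : Fin s) :
    G₁ a a * G₂ b b = 0 := by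
  have h1 := hT (Pi.single (a, b) 1) (Pi.single (a, b) 1)
  rw [formOfGram_id_single, hf.alternating] at h1
  rw [Matrix.kroneckerMap_apply] at h1
  exact h1.symm

/-- **T2** -/
theorem exists_eps {d s : ℕ} (G₁ : Matrix (Fin d) (Fin d) F) (G₂ : Matrix (Fin s) (Fin s) F) (h1 : G₁ ≠ 0) (h2 : G₂ ≠ 0)
    (h : (G₁ ⊗ₖ G₂)ᵀ = -(G₁ ⊗ₖ G₂)) : ∃ ε : F, (ε = 1 ∨ ε = -1) ∧ G₁ᵀ = ε • G₁ ∧ G₂ᵀ = (-ε) • G₂ := by
  have hst : ∀ i k j l, G₁ k i * G₂ l j = -(G₁ i k * G₂ j l) := by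
    intro i k j l
    have := congrFun (congrFun h (i, j)) (k, l)
    rw [Matrix.transpose_apply, Matrix.neg_apply, Matrix.kroneckerMap_apply, Matrix.kroneckerMap_apply] at this
    exact this
  obtain ⟨a₀, b₀, hab⟩ : ∃ a b, G₁ a b ≠ 0 := by
    by_contra hcon
    apply h1
    ext a b
    by_contra hne
    exact hcon ⟨a, b, hne⟩
  obtain ⟨c₀, d₀, hcd⟩ : ∃ c d, G₂ c d ≠ 0 := by
    by_contra hcon
    apply h2
    ext a b
    by_contra hne
    exact hcon ⟨a, b, hne⟩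
  have h00 := hst a₀ b₀ c₀ d₀
  have hne0 : G₁ b₀ a₀ * G₂ d₀ c₀ ≠ 0 := by
    rw [h00]; exact neg_ne_zero.mpr (mul_ne_zero hab hcd)
  have hba : G₁ b₀ a₀ ≠ 0 := left_ne_zero_of_mul hne0
  have hdc : G₂ d₀ c₀ ≠ 0 := right_ne_zero_of_mul hne0
  -- `G₁ᵀ = lam • G₁`
  obtain ⟨lam, hlam⟩ : ∃ lam : F, lam = -(G₂ c₀ d₀) / G₂ d₀ c₀ := ⟨_, rfl⟩
  obtain ⟨mu, hmu⟩ : ∃ mu : F, mu = -(G₁ a₀ b₀) / G₁ b₀ a₀ := ⟨_, rfl⟩
  have hG1 : ∀ i k, G₁ k i = lam * G₁ i k := by
    intro i k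
    have := hst i k c₀ d₀
    rw [hlam]
    field_simp
    linear_combination this
  have hG2 : ∀ j l, G₂ l j = mu * G₂ j l := by
    intro j l
    have := hst a₀ b₀ j l
    rw [hmu]
    field_simp
    linear_combination this
  have hlam2 : lam * lam = 1 := by
    have e1 := hG1 a₀ b₀
    have e2 := hG1 b₀ a₀
    rw [e1] at e2
    have : G₁ a₀ b₀ * (lam * lam - 1) = 0 := by linear_combination -e2
    rcases mul_eq_zero.mp this with h0 | h0
    · exact absurd h0 hab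
    · linear_combination h0
  have hlm : lam * mu = -1 := by
    have e1 := hG1 a₀ b₀
    have e2 := hG2 c₀ d₀
    have e3 := h00
    rw [e1, e2] at e3
    have : G₁ a₀ b₀ * G₂ c₀ d₀ * (lam * mu + 1) = 0 := by linear_combination e3
    rcases mul_eq_zero.mp this with h0 | h0
    · exact absurd h0 (mul_ne_zero hab hcd)
    · linear_combination h0
  have hmu' : mu = -lam := by
    have : lam * (mu + lam) = 0 := by linear_combination hlm + hlam2
    rcases mul_eq_zero.mp this with h0 | h0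
    · rw [h0, zero_mul] at hlam2; exact absurd hlam2 zero_ne_one
    · linear_combination h0
  have hlam1 : lam = 1 ∨ lam = -1 := by
    have : (lam - 1) * (lam + 1) = 0 := by linear_combination hlam2
    rcases mul_eq_zero.mp this with h0 | h0
    · left; linear_combination h0
    · right; linear_combination h0
  refine ⟨lam, hlam1, ?_, ?_⟩
  · ext k i
    rw [Matrix.transpose_apply, Matrix.smul_apply, smul_eq_mul]
    exact hG1 k i
  · ext l j
    rw [Matrix.transpose_apply, Matrix.smul_apply, smul_eq_mul, ← hmu']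
    exact hG2 l j

/-- **T5** -/
theorem tf_swap {d s : ℕ} (e : Fin n ≃ Fin d × Fin s) (P : GL (Fin n) F)
    (G₁ : Matrix (Fin d) (Fin d) F) (G₂ : Matrix (Fin s) (Fin s) F) (hT : TF f e P G₁ G₂) :
    TF f (e.trans (Equiv.prodComm (Fin d) (Fin s))) P G₂ G₁ := by
  intro x y
  have h := hT (x ∘ Prod.swap) (y ∘ Prod.swap)
  have hx : (x ∘ Prod.swap) ∘ e = x ∘ (e.trans (Equiv.prodComm (Fin d) (Fin s))) := by
    funext k; rfl
  have hy : (y ∘ Prod.swap) ∘ e = y ∘ (e.trans (Equiv.prodComm (Fin d) (Fin s))) := by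
    funext k; rfl
  rw [hx, hy] at h
  rw [h]
  simp only [formOfGram, id, Function.comp]
  rw [← Equiv.sum_comp (Equiv.prodComm (Fin s) (Fin d))]
  refine Finset.sum_congr rfl (fun a _ => ?_)
  rw [← Equiv.sum_comp (Equiv.prodComm (Fin s) (Fin d))]
  refine Finset.sum_congr rfl (fun b _ => ?_)
  simp only [Equiv.prodComm_apply, Prod.swap_swap, Matrix.kroneckerMap_apply, Prod.fst_swap, Prod.snd_swap]
  ring

end Cfsg.Agent.Lib.Helper23.S5662SpT
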