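import Mathlib
import Cfsg.Prelude.Def_GeometricClasses
import Cfsg.Agent.Lib.Helper7.AschDefs
import Cfsg.Agent.Lib.Helper8.S5630I4TENS3
import Cfsg.Agent.Lib.Helper16.SpADefs
import Cfsg.Agent.Lib.Helper23.S5662SpT

/-!
# S5662, block SpI4, pieces SpT-T3 (`exists_factors`), T6a (`x0_props`), T6b (`exists_skew_elt`)  (helper23)
-/

set_option autoImplicit false
set_option linter.unusedSectionVars false
set_option linter.unusedVariables false

namespace Cfsg.Agent.Lib.Helper23.S5662SpT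

open Matrix Cfsg.Geo Cfsg.Agent.Lib.Helper7.Asch Cfsg.Agent.Lib.Helper16.SpA
open scoped Kronecker

variable {F : Type*} [Field F] [Fintype F] {n : ℕ} {f : (Fin n → F) → (Fin n → F) → F}

/-- the conjugate by `P` of a reindexed matrix acts in block coordinates -/
theorem conj_reindex_mulVec {d s : ℕ} (e : Fin n ≃ Fin d × Fin s) (P : GL (Fin n) F)
    (M : Matrix (Fin d × Fin s) (Fin d × Fin s) F) (z : Fin d × Fin s → F) :
    ((P : Matrix (Fin n) (Fin n) F) * Matrix.reindex e.symm e.symm M *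
        ((P⁻¹ : GL (Fin n) F) : Matrix (Fin n) (Fin n) F)) *ᵥ ((P : Matrix (Fin n) (Fin n) F) *ᵥ (z ∘ e)) =
      (P : Matrix (Fin n) (Fin n) F) *ᵥ ((M *ᵥ z) ∘ e) := by
  rw [Matrix.mulVec_mulVec, mul_assoc, mul_assoc, ← Units.val_mul, inv_mul_cancel, Units.val_one,
    mul_one, ← Matrix.mulVec_mulVec, Matrix.reindex_apply, Equiv.symm_symm,
    Matrix.submatrix_mulVec_equiv]
  have hz : (z ∘ e) ∘ e.symm = z := by funext p; simp
  rw [hz]

/-- every vector is `P (x ∘ e)` -/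
theorem exists_coords {d s : ℕ} (e : Fin n ≃ Fin d × Fin s) (P : GL (Fin n) F) (u : Fin n → F) :
    ∃ x : Fin d × Fin s → F, u = (P : Matrix (Fin n) (Fin n) F) *ᵥ (x ∘ e) := by
  refine ⟨(((P⁻¹ : GL (Fin n) F) : Matrix (Fin n) (Fin n) F) *ᵥ u) ∘ e.symm, ?_⟩
  have : ((((P⁻¹ : GL (Fin n) F) : Matrix (Fin n) (Fin n) F) *ᵥ u) ∘ e.symm) ∘ e =
      ((P⁻¹ : GL (Fin n) F) : Matrix (Fin n) (Fin n) F) *ᵥ u := by
    funext k; simp
  rw [this, Matrix.mulVec_mulVec, ← Units.val_mul, mul_inv_cancel, Units.val_one, Matrix.one_mulVec]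

/-- membership in `tensorProductSubgroup`, unpacked -/
theorem exists_kron_of_mem {d s : ℕ} (e : Fin n ≃ Fin d × Fin s) (P : GL (Fin n) F) (h : GL (Fin n) F)
    (hh : h ∈ tensorProductSubgroup d s e P) :
    ∃ (a : GL (Fin d) F) (b : GL (Fin s) F),
      (h : Matrix (Fin n) (Fin n) F) = (P : Matrix (Fin n) (Fin n) F) *
        Matrix.reindex e.symm e.symm ((a : Matrix (Fin d) (Fin d) F) ⊗ₖ (b : Matrix (Fin s) (Fin s) F)) *
        ((P⁻¹ : GL (Fin n) F) : Matrix (Fin n) (Fin n) F) := by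
  obtain ⟨k', ⟨k, ⟨a, b, hk⟩, rfl⟩, rfl⟩ := hh
  refine ⟨a, b, ?_⟩
  rw [← hk]
  rfl

theorem exists_ne_zero_entry {m : ℕ} (hm : Nonempty (Fin m)) (G : Matrix (Fin m) (Fin m) F) (hG : IsUnit G.det) :
    ∃ i k, G i k ≠ 0 := by
  by_contra hcon
  have h0 : G = 0 := by
    ext i k
    by_contra hne
    exact hcon ⟨i, k, hne⟩
  rw [h0, Matrix.det_zero] at hG
  exact not_isUnit_zero hG

/-- **T3** -/
theorem exists_factors {d s : ℕ} (e : Fin n ≃ Fin d × Fin s) (P : GL (Fin n) F)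
    (G₁ : Matrix (Fin d) (Fin d) F) (G₂ : Matrix (Fin s) (Fin s) F) (hG1 : IsUnit G₁.det) (hG2 : IsUnit G₂.det)
    (hT : TF f e P G₁ G₂) (h : GL (Fin n) F) (hh : h ∈ tensorProductSubgroup d s e P) (hI : h ∈ Iso f) :
    ∃ (a : GL (Fin d) F) (b : GL (Fin s) F) (μ : F), μ ≠ 0 ∧
      (h : Matrix (Fin n) (Fin n) F) = (P : Matrix (Fin n) (Fin n) F) *
        Matrix.reindex e.symm e.symm ((a : Matrix (Fin d) (Fin d) F) ⊗ₖ (b : Matrix (Fin s) (Fin s) F)) *
        ((P⁻¹ : GL (Fin n) F) : Matrix (Fin n) (Fin n) F) ∧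
      (a : Matrix (Fin d) (Fin d) F)ᵀ * G₁ * (a : Matrix (Fin d) (Fin d) F) = μ • G₁ ∧
      (b : Matrix (Fin s) (Fin s) F)ᵀ * G₂ * (b : Matrix (Fin s) (Fin s) F) = μ⁻¹ • G₂ := by
  rcases Nat.eq_zero_or_pos n with hn0 | hnpos
  · subst hn0
    refine ⟨1, 1, 1, one_ne_zero, Subsingleton.elim _ _, ?_, ?_⟩
    · simp
    · simp
  obtain ⟨a, b, hab⟩ := exists_kron_of_mem e P h hh
  have hp0 : Fin d × Fin s := e ⟨0, hnpos⟩
  haveI : Nonempty (Fin d) := ⟨hp0.1⟩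
  haveI : Nonempty (Fin s) := ⟨hp0.2⟩
  -- the isometry condition in block coordinates
  have hM : ((a : Matrix (Fin d) (Fin d) F) ⊗ₖ (b : Matrix (Fin s) (Fin s) F))ᵀ * (G₁ ⊗ₖ G₂) *
      ((a : Matrix (Fin d) (Fin d) F) ⊗ₖ (b : Matrix (Fin s) (Fin s) F)) = G₁ ⊗ₖ G₂ := by
    apply eq_of_formOfGram_id_eq
    intro x y
    rw [← formOfGram_id_mulVec, ← hT, ← hT, ← conj_reindex_mulVec, ← conj_reindex_mulVec, ← hab]
    exact hI _ _
  have hAB : ((a : Matrix (Fin d) (Fin d) F)ᵀ * G₁ * (a : Matrix (Fin d) (Fin d) F)) ⊗ₖ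
      ((b : Matrix (Fin s) (Fin s) F)ᵀ * G₂ * (b : Matrix (Fin s) (Fin s) F)) = G₁ ⊗ₖ G₂ := by
    rw [Matrix.mul_kronecker_mul, Matrix.mul_kronecker_mul, Matrix.kroneckerMap_transpose]
    exact hM
  obtain ⟨A', hA'⟩ : ∃ A' : Matrix (Fin d) (Fin d) F,
      A' = (a : Matrix (Fin d) (Fin d) F)ᵀ * G₁ * (a : Matrix (Fin d) (Fin d) F) := ⟨_, rfl⟩
  obtain ⟨B', hB'⟩ : ∃ B' : Matrix (Fin s) (Fin s) F,
      B' = (b : Matrix (Fin s) (Fin s) F)ᵀ * G₂ * (b : Matrix (Fin s) (Fin s) F) := ⟨_, rfl⟩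
  rw [← hA', ← hB'] at hAB
  have hent : ∀ i k j l, A' i k * B' j l = G₁ i k * G₂ j l := by
    intro i k j l
    have := congrFun (congrFun hAB (i, j)) (k, l)
    rw [Matrix.kroneckerMap_apply, Matrix.kroneckerMap_apply] at this
    exact this
  obtain ⟨i₀, k₀, h1⟩ := exists_ne_zero_entry ‹_› G₁ hG1
  obtain ⟨j₀, l₀, h2⟩ := exists_ne_zero_entry ‹_› G₂ hG2
  have h00 := hent i₀ k₀ j₀ l₀
  have hne0 : A' i₀ k₀ * B' j₀ l₀ ≠ 0 := by rw [h00]; exact mul_ne_zero h1 h2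
  have hA0 : A' i₀ k₀ ≠ 0 := left_ne_zero_of_mul hne0
  have hB0 : B' j₀ l₀ ≠ 0 := right_ne_zero_of_mul hne0
  refine ⟨a, b, A' i₀ k₀ / G₁ i₀ k₀, div_ne_zero hA0 h1, hab, ?_, ?_⟩
  · rw [← hA']
    ext i k
    rw [Matrix.smul_apply, smul_eq_mul]
    have e1 := hent i k j₀ l₀
    field_simp
    have : A' i k * G₁ i₀ k₀ * (B' j₀ l₀) = A' i₀ k₀ * G₁ i k * (B' j₀ l₀) := by
      linear_combination G₁ i₀ k₀ * e1 - G₁ i k * h00
    exact mul_right_cancel₀ hB0 this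
  · rw [← hB']
    ext j l
    rw [Matrix.smul_apply, smul_eq_mul, inv_div]
    have e1 := hent i₀ k₀ j l
    field_simp
    linear_combination e1

theorem omega_conj (M : Matrix (Fin 2) (Fin 2) F) :
    Mᵀ * !![0, 1; -1, 0] * M = M.det • (!![0, 1; -1, 0] : Matrix (Fin 2) (Fin 2) F) := by
  ext i j
  fin_cases i <;> fin_cases j <;>
    simp [Matrix.mul_apply, Fin.sum_univ_two, Matrix.det_fin_two] <;> ring

/-- **T6a** -/
theorem x0_props (G : Matrix (Fin 2) (Fin 2) F) (hG : IsUnit G.det) (hsym : Gᵀ = G) (h2 : (2 : F) ≠ 0) :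
    ∃ (X₀ : Matrix (Fin 2) (Fin 2) F) (δ : F), δ ≠ 0 ∧ X₀ * X₀ = δ • 1 ∧ X₀ᵀ * G = -(G * X₀) ∧
      (∀ c : F, X₀ ≠ c • 1) ∧
      ∀ (b : Matrix (Fin 2) (Fin 2) F) (μ : F), μ ≠ 0 → bᵀ * G * b = μ • G → b * X₀ = X₀ * b ∨ b * X₀ = -(X₀ * b) := by
  obtain ⟨Ω, hΩ⟩ : ∃ Ω : Matrix (Fin 2) (Fin 2) F, Ω = !![0, 1; -1, 0] := ⟨_, rfl⟩
  have hGS : G * G⁻¹ = 1 := Matrix.mul_nonsing_inv _ hG
  have hSG : G⁻¹ * G = 1 := Matrix.nonsing_inv_mul _ hG
  have hSsym : (G⁻¹)ᵀ = G⁻¹ := by rw [Matrix.transpose_nonsing_inv, hsym]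
  have hΩT : Ωᵀ = -Ω := by
    rw [hΩ]; ext i j; fin_cases i <;> fin_cases j <;> simp
  have hΩΩ : Ω * Ω = -1 := by
    rw [hΩ]; ext i j; fin_cases i <;> fin_cases j <;> simp [Matrix.mul_apply, Fin.sum_univ_two]
  have hconj : ∀ M : Matrix (Fin 2) (Fin 2) F, Mᵀ * Ω * M = M.det • Ω := by
    intro M; rw [hΩ]; exact omega_conj M
  have hdetG : G.det ≠ 0 := hG.ne_zero
  have hdetS : (G⁻¹).det ≠ 0 := by
    have := congrArg Matrix.det hSG
    rw [Matrix.det_mul, Matrix.det_one] at this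
    exact left_ne_zero_of_mul_eq_one this
  refine ⟨G⁻¹ * Ω, -((G⁻¹).det), neg_ne_zero.mpr hdetS, ?_, ?_, ?_, ?_⟩
  · have h1 := hconj (G⁻¹)
    rw [hSsym] at h1
    calc G⁻¹ * Ω * (G⁻¹ * Ω) = (G⁻¹ * Ω * G⁻¹) * Ω := by simp only [mul_assoc]
      _ = ((G⁻¹).det • Ω) * Ω := by rw [h1]
      _ = -((G⁻¹).det) • (1 : Matrix (Fin 2) (Fin 2) F) := by
        rw [Matrix.smul_mul, hΩΩ, smul_neg, neg_smul]
  · rw [Matrix.transpose_mul, hSsym, hΩT, mul_assoc, hSG, mul_one, ← mul_assoc, hGS, one_mul]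
  · intro c hc
    have h1 : Ω = c • G := by
      calc Ω = G * (G⁻¹ * Ω) := by rw [← mul_assoc, hGS, one_mul]
        _ = G * (c • (1 : Matrix (Fin 2) (Fin 2) F)) := by rw [hc]
        _ = c • G := by rw [Matrix.mul_smul, mul_one]
    have h2' : Ωᵀ = Ω := by rw [h1, Matrix.transpose_smul, hsym]
    rw [hΩT] at h2'
    have h3 := congrFun (congrFun h2' 0) 1
    rw [hΩ] at h3
    simp at h3
    apply h2
    linear_combination (-1 : F) * h3
  · intro b μ hμ hb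
    have hdet : b.det * b.det = μ * μ := by
      have := congrArg Matrix.det hb
      rw [Matrix.det_mul, Matrix.det_mul, Matrix.det_transpose, Matrix.det_smul, Fintype.card_fin] at this
      have h4 : G.det * (b.det * b.det - μ * μ) = 0 := by linear_combination this
      rcases mul_eq_zero.mp h4 with h0 | h0
      · exact absurd h0 hdetG
      · linear_combination h0
    have hb' : b.det = μ ∨ b.det = -μ := by
      have : (b.det - μ) * (b.det + μ) = 0 := by linear_combination hdet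
      rcases mul_eq_zero.mp this with h0 | h0
      · left; linear_combination h0
      · right; linear_combination h0
    have hbdet : b.det ≠ 0 := by
      rcases hb' with h0 | h0
      · rw [h0]; exact hμ
      · rw [h0]; exact neg_ne_zero.mpr hμ
    have hAunit : IsUnit (bᵀ * G).det := by
      rw [Matrix.det_mul, Matrix.det_transpose]
      exact (mul_ne_zero hbdet hdetG).isUnit
    have key : μ • (b * (G⁻¹ * Ω)) = b.det • (G⁻¹ * Ω * b) := by
      have e1 : (bᵀ * G) * (μ • (b * (G⁻¹ * Ω))) = (μ * μ) • Ω := by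
        calc (bᵀ * G) * (μ • (b * (G⁻¹ * Ω))) = μ • ((bᵀ * G * b) * G⁻¹ * Ω) := by
              rw [Matrix.mul_smul]; simp only [mul_assoc]
          _ = μ • ((μ • G) * G⁻¹ * Ω) := by rw [hb]
          _ = (μ * μ) • Ω := by rw [Matrix.smul_mul, hGS, Matrix.smul_mul, one_mul, smul_smul]
      have e2 : (bᵀ * G) * (b.det • (G⁻¹ * Ω * b)) = (μ * μ) • Ω := by
        calc (bᵀ * G) * (b.det • (G⁻¹ * Ω * b)) = b.det • (bᵀ * (G * G⁻¹) * Ω * b) := by
              rw [Matrix.mul_smul]; simp only [mul_assoc]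
          _ = b.det • (bᵀ * Ω * b) := by rw [hGS, mul_one]
          _ = (μ * μ) • Ω := by rw [hconj b, smul_smul, hdet]
      have e3 : (bᵀ * G) * (μ • (b * (G⁻¹ * Ω))) = (bᵀ * G) * (b.det • (G⁻¹ * Ω * b)) := by
        rw [e1, e2]
      have e4 := congrArg (fun X => (bᵀ * G)⁻¹ * X) e3
      simp only [← mul_assoc, Matrix.nonsing_inv_mul _ hAunit, one_mul] at e4
      rw [mul_assoc b] at e4
      exact e4
    rcases hb' with h0 | h0
    · left
      rw [h0] at key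
      have := smul_right_injective (Matrix (Fin 2) (Fin 2) F) hμ key
      exact this
    · right
      rw [h0, neg_smul, ← smul_neg] at key
      have := smul_right_injective (Matrix (Fin 2) (Fin 2) F) hμ key
      exact this

theorem two_ne_zero_of_odd (hq : Odd (Fintype.card F)) : (2 : F) ≠ 0 := by
  intro h2
  obtain ⟨p, hp⟩ := CharP.exists F
  have hpp : p.Prime := by
    have := hp
    exact CharP.char_is_prime F p
  have hdvd : p ∣ 2 := by
    have := (CharP.cast_eq_zero_iff F p 2).mp (by exact_mod_cast h2)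
    exact this
  have hp2 : p = 2 := (Nat.prime_dvd_prime_iff_eq hpp Nat.prime_two).mp hdvd
  subst hp2
  have hcard : (2 : ℕ) ∣ Fintype.card F := by
    have := hp
    obtain ⟨k, _, hk⟩ := FiniteField.card F 2
    rw [hk]
    exact dvd_pow_self 2 (by exact k.ne_zero)
  exact (Nat.not_even_iff_odd.mpr hq) (even_iff_two_dvd.mpr hcard)

/-- `M ↦ P · reindex M · P⁻¹` -/
def cj {d s : ℕ} (e : Fin n ≃ Fin d × Fin s) (P : GL (Fin n) F)
    (M : Matrix (Fin d × Fin s) (Fin d × Fin s) F) : Matrix (Fin n) (Fin n) F :=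
  (P : Matrix (Fin n) (Fin n) F) * Matrix.reindex e.symm e.symm M *
    ((P⁻¹ : GL (Fin n) F) : Matrix (Fin n) (Fin n) F)

theorem cj_mul {d s : ℕ} (e : Fin n ≃ Fin d × Fin s) (P : GL (Fin n) F)
    (M N : Matrix (Fin d × Fin s) (Fin d × Fin s) F) : cj e P M * cj e P N = cj e P (M * N) := by
  unfold cj
  have h1 : Matrix.reindex e.symm e.symm (M * N) =
      Matrix.reindex e.symm e.symm M * Matrix.reindex e.symm e.symm N := by
    simp only [Matrix.reindex_apply, Equiv.symm_symm, Matrix.submatrix_mul_equiv]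
  rw [h1]
  calc (P : Matrix (Fin n) (Fin n) F) * Matrix.reindex e.symm e.symm M *
        ((P⁻¹ : GL (Fin n) F) : Matrix (Fin n) (Fin n) F) *
        ((P : Matrix (Fin n) (Fin n) F) * Matrix.reindex e.symm e.symm N *
        ((P⁻¹ : GL (Fin n) F) : Matrix (Fin n) (Fin n) F))
      = (P : Matrix (Fin n) (Fin n) F) * Matrix.reindex e.symm e.symm M *
        (((P⁻¹ : GL (Fin n) F) : Matrix (Fin n) (Fin n) F) * (P : Matrix (Fin n) (Fin n) F)) *
        Matrix.reindex e.symm e.symm N * ((P⁻¹ : GL (Fin n) F) : Matrix (Fin n) (Fin n) F) := by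
        simp only [mul_assoc]
    _ = _ := by
        rw [← Units.val_mul, inv_mul_cancel, Units.val_one, mul_one]
        simp only [mul_assoc]

theorem cj_smul_one {d s : ℕ} (e : Fin n ≃ Fin d × Fin s) (P : GL (Fin n) F) (c : F) :
    cj e P (c • (1 : Matrix (Fin d × Fin s) (Fin d × Fin s) F)) = c • (1 : Matrix (Fin n) (Fin n) F) := by
  unfold cj
  have h1 : Matrix.reindex e.symm e.symm (c • (1 : Matrix (Fin d × Fin s) (Fin d × Fin s) F)) =
      c • (1 : Matrix (Fin n) (Fin n) F) := by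
    simp only [Matrix.reindex_apply, Equiv.symm_symm, Matrix.submatrix_smul, Pi.smul_apply,
      Matrix.submatrix_one_equiv]
  rw [h1, Matrix.mul_smul, mul_one, Matrix.smul_mul, ← Units.val_mul, mul_inv_cancel, Units.val_one]

theorem cj_neg {d s : ℕ} (e : Fin n ≃ Fin d × Fin s) (P : GL (Fin n) F)
    (M : Matrix (Fin d × Fin s) (Fin d × Fin s) F) : cj e P (-M) = -(cj e P M) := by
  unfold cj
  have h1 : Matrix.reindex e.symm e.symm (-M) = -(Matrix.reindex e.symm e.symm M) := by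
    simp only [Matrix.reindex_apply, Equiv.symm_symm, Matrix.submatrix_neg, Pi.neg_apply]
  rw [h1, Matrix.mul_neg, Matrix.neg_mul]

theorem cj_injective {d s : ℕ} (e : Fin n ≃ Fin d × Fin s) (P : GL (Fin n) F)
    (M N : Matrix (Fin d × Fin s) (Fin d × Fin s) F) (h : cj e P M = cj e P N) : M = N := by
  unfold cj at h
  have h1 := congrArg (fun X => ((P⁻¹ : GL (Fin n) F) : Matrix (Fin n) (Fin n) F) * X *
    (P : Matrix (Fin n) (Fin n) F)) h
  simp only [← mul_assoc] at h1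
  rw [← Units.val_mul, inv_mul_cancel, Units.val_one, one_mul, one_mul] at h1
  simp only [mul_assoc] at h1
  rw [← Units.val_mul, inv_mul_cancel, Units.val_one, mul_one, mul_one] at h1
  exact (Matrix.reindex e.symm e.symm).injective h1

theorem kron_neg_right {d s : ℕ} (A : Matrix (Fin d) (Fin d) F) (B : Matrix (Fin s) (Fin s) F) :
    A ⊗ₖ (-B) = -(A ⊗ₖ B) := by
  ext ⟨i, j⟩ ⟨k, l⟩
  simp [Matrix.kroneckerMap_apply]

/-- **T6b** -/
theorem exists_skew_elt (hf : IsSymplecticForm f) (hq : Odd (Fintype.card F)) (H : Subgroup (GL (Fin n) F))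
    (hHI : H ≤ Iso f) {d : ℕ} (hd : 1 ≤ d) (e : Fin n ≃ Fin d × Fin 2) (P : GL (Fin n) F) (G₁ : Matrix (Fin d) (Fin d) F)
    (G₂ : Matrix (Fin 2) (Fin 2) F) (hG1 : IsUnit G₁.det) (hG2 : IsUnit G₂.det) (h2 : G₂ᵀ = G₂) (hT : TF f e P G₁ G₂)
    (hle : H ≤ tensorProductSubgroup d 2 e P) :
    ∃ (Z : Matrix (Fin n) (Fin n) F) (δ : F), δ ≠ 0 ∧ Z * Z = δ • 1 ∧ (∀ u v, f (Z *ᵥ u) v = - f u (Z *ᵥ v)) ∧
      (∀ c : F, Z ≠ c • 1) ∧
      ∀ h ∈ H, (h : Matrix (Fin n) (Fin n) F) * Z = Z * (h : Matrix (Fin n) (Fin n) F) ∨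
        (h : Matrix (Fin n) (Fin n) F) * Z = -(Z * (h : Matrix (Fin n) (Fin n) F)) := by
  obtain ⟨X₀, δ, hδ, hXX, hXG, hXns, hXb⟩ := x0_props G₂ hG2 h2 (two_ne_zero_of_odd hq)
  obtain ⟨R, hR⟩ : ∃ R : Matrix (Fin d × Fin 2) (Fin d × Fin 2) F,
      R = (1 : Matrix (Fin d) (Fin d) F) ⊗ₖ X₀ := ⟨_, rfl⟩
  refine ⟨cj e P R, δ, hδ, ?_, ?_, ?_, ?_⟩
  · rw [cj_mul, hR, ← Matrix.mul_kronecker_mul, mul_one, hXX, Matrix.kronecker_smul,
      Matrix.one_kronecker_one, cj_smul_one]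
  · intro u v
    obtain ⟨x, rfl⟩ := exists_coords e P u
    obtain ⟨y, rfl⟩ := exists_coords e P v
    have hZx := conj_reindex_mulVec e P R x
    have hZy := conj_reindex_mulVec e P R y
    change cj e P R *ᵥ _ = _ at hZx
    change cj e P R *ᵥ _ = _ at hZy
    rw [hZx, hZy, hT, hT, formOfGram_eq_dot', formOfGram_eq_dot']
    change (R *ᵥ x) ⬝ᵥ ((G₁ ⊗ₖ G₂) *ᵥ y) = -(x ⬝ᵥ ((G₁ ⊗ₖ G₂) *ᵥ (R *ᵥ y)))
    have hRG : Rᵀ * (G₁ ⊗ₖ G₂) = -((G₁ ⊗ₖ G₂) * R) := by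
      rw [hR, ← Matrix.kroneckerMap_transpose, Matrix.transpose_one, ← Matrix.mul_kronecker_mul,
        ← Matrix.mul_kronecker_mul, one_mul, mul_one, hXG, kron_neg_right]
    rw [Matrix.mulVec_mulVec, ← dotProduct_neg, ← Matrix.neg_mulVec, ← hRG, ← Matrix.mulVec_mulVec,
      Matrix.dotProduct_mulVec x Rᵀ, Matrix.vecMul_transpose]
  · intro c hc
    rw [← cj_smul_one e P c] at hc
    have h1 := cj_injective e P _ _ hc
    apply hXns c
    ext j l
    have h3 := congrFun (congrFun h1 (⟨0, hd⟩, j)) (⟨0, hd⟩, l)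
    rw [hR, Matrix.kroneckerMap_apply, Matrix.one_apply_eq, one_mul] at h3
    rw [h3, Matrix.smul_apply, Matrix.smul_apply, Matrix.one_apply, Matrix.one_apply]
    by_cases hjl : j = l
    · simp [hjl]
    · simp [hjl]
  · intro h hh
    obtain ⟨a, b, μ, hμ, hab, ha, hb⟩ := exists_factors e P G₁ G₂ hG1 hG2 hT h (hle hh) (hHI hh)
    have hcases := hXb (b : Matrix (Fin 2) (Fin 2) F) μ⁻¹ (inv_ne_zero hμ) hb
    have hh' : (h : Matrix (Fin n) (Fin n) F) =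
        cj e P ((a : Matrix (Fin d) (Fin d) F) ⊗ₖ (b : Matrix (Fin 2) (Fin 2) F)) := hab
    have e1 : (h : Matrix (Fin n) (Fin n) F) * cj e P R =
        cj e P ((a : Matrix (Fin d) (Fin d) F) ⊗ₖ ((b : Matrix (Fin 2) (Fin 2) F) * X₀)) := by
      rw [hh', cj_mul, hR, ← Matrix.mul_kronecker_mul, mul_one]
    have e2 : cj e P R * (h : Matrix (Fin n) (Fin n) F) =
        cj e P ((a : Matrix (Fin d) (Fin d) F) ⊗ₖ (X₀ * (b : Matrix (Fin 2) (Fin 2) F))) := by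
      rw [hh', cj_mul, hR, ← Matrix.mul_kronecker_mul, one_mul]
    rcases hcases with h0 | h0
    · left
      rw [e1, e2, h0]
    · right
      rw [e1, e2, h0, kron_neg_right, cj_neg]

end Cfsg.Agent.Lib.Helper23.S5662SpT
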