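import Mathlib
import Cfsg.Prelude.Def_GeometricClasses
import Cfsg.Agent.Lib.Helper16.TensDefs

/-!
FO-T3b of helper16's S5637 farm-out: the set of `A` with `1 + A ⊗ E_{j2,j0} ∈ M` is an `F`-subspace of
`M_a(F)` containing `1` and stable under conjugation by `SL_a`.
-/

set_option autoImplicit false

namespace Cfsg.Agent.Lib.Helper23.S5637T3b

open Matrix Module
open scoped Kronecker
open Cfsg.Agent.Lib.Helper16.Tens

variable {F : Type*} [Field F] {a b : ℕ}

/-- the Kronecker product of two invertible matrices -/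
def kronGL (A : GL (Fin a) F) (B : GL (Fin b) F) : GL (Fin a × Fin b) F where
  val := (A : Matrix (Fin a) (Fin a) F) ⊗ₖ (B : Matrix (Fin b) (Fin b) F)
  inv := ((A⁻¹ : GL (Fin a) F) : Matrix (Fin a) (Fin a) F) ⊗ₖ
    ((B⁻¹ : GL (Fin b) F) : Matrix (Fin b) (Fin b) F)
  val_inv := by
    rw [← Matrix.mul_kronecker_mul, ← Units.val_mul, ← Units.val_mul, mul_inv_cancel,
      mul_inv_cancel, Units.val_one, Units.val_one, Matrix.one_kronecker_one]
  inv_val := by
    rw [← Matrix.mul_kronecker_mul, ← Units.val_mul, ← Units.val_mul, inv_mul_cancel,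
      inv_mul_cancel, Units.val_one, Units.val_one, Matrix.one_kronecker_one]

theorem kronGL_val (A : GL (Fin a) F) (B : GL (Fin b) F) :
    ((kronGL A B : GL (Fin a × Fin b) F) : Matrix (Fin a × Fin b) (Fin a × Fin b) F) =
      (A : Matrix (Fin a) (Fin a) F) ⊗ₖ (B : Matrix (Fin b) (Fin b) F) := rfl

theorem kronGL_inv_val (A : GL (Fin a) F) (B : GL (Fin b) F) :
    (((kronGL A B)⁻¹ : GL (Fin a × Fin b) F) : Matrix (Fin a × Fin b) (Fin a × Fin b) F) =
      ((A⁻¹ : GL (Fin a) F) : Matrix (Fin a) (Fin a) F) ⊗ₖ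
        ((B⁻¹ : GL (Fin b) F) : Matrix (Fin b) (Fin b) F) := rfl

theorem kronGL_mem_kron (A : GL (Fin a) F) (B : GL (Fin b) F) :
    kronGL A B ∈ Cfsg.Geo.kroneckerSubgroup a b F := ⟨A, B, rfl⟩

theorem kronGL_mem_SL (A : GL (Fin a) F) (B : GL (Fin b) F)
    (h : (A : Matrix (Fin a) (Fin a) F).det ^ b * (B : Matrix (Fin b) (Fin b) F).det ^ a = 1) :
    kronGL A B ∈ Cfsg.Geo.specialLinear (Fin a × Fin b) F := by
  rw [mem_SL_iff, kronGL_val, Matrix.det_kronecker, Fintype.card_fin, Fintype.card_fin]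
  exact h

/-- conjugating `1 + X ⊗ E` by a Kronecker product -/
theorem kronGL_conj_val (A : GL (Fin a) F) (B : GL (Fin b) F) (g : GL (Fin a × Fin b) F)
    (X : Matrix (Fin a) (Fin a) F) (E : Matrix (Fin b) (Fin b) F)
    (hg : (g : Matrix (Fin a × Fin b) (Fin a × Fin b) F) = 1 + X ⊗ₖ E) :
    ((kronGL A B * g * (kronGL A B)⁻¹ : GL (Fin a × Fin b) F) :
        Matrix (Fin a × Fin b) (Fin a × Fin b) F) =
      1 + ((A : Matrix (Fin a) (Fin a) F) * X * ((A⁻¹ : GL (Fin a) F) : Matrix (Fin a) (Fin a) F)) ⊗ₖ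
        ((B : Matrix (Fin b) (Fin b) F) * E * ((B⁻¹ : GL (Fin b) F) : Matrix (Fin b) (Fin b) F)) := by
  have h1 : ((kronGL A B : GL (Fin a × Fin b) F) : Matrix (Fin a × Fin b) (Fin a × Fin b) F) *
      (((kronGL A B)⁻¹ : GL (Fin a × Fin b) F) : Matrix (Fin a × Fin b) (Fin a × Fin b) F) = 1 := by
    rw [← Units.val_mul, mul_inv_cancel, Units.val_one]
  rw [Units.val_mul, Units.val_mul, hg, Matrix.mul_add, Matrix.add_mul, Matrix.mul_one, h1,
    kronGL_val, kronGL_inv_val, ← Matrix.mul_kronecker_mul, ← Matrix.mul_kronecker_mul]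

/-- a diagonal matrix with nonzero entries as an element of `GL` -/
def diagGL (d : Fin b → F) (hd : ∀ j, d j ≠ 0) : GL (Fin b) F where
  val := Matrix.diagonal d
  inv := Matrix.diagonal (fun j => (d j)⁻¹)
  val_inv := by
    rw [Matrix.diagonal_mul_diagonal]
    have : (fun j => d j * (d j)⁻¹) = fun _ => (1 : F) := by
      funext j
      exact mul_inv_cancel₀ (hd j)
    rw [this, Matrix.diagonal_one]
  inv_val := by
    rw [Matrix.diagonal_mul_diagonal]
    have : (fun j => (d j)⁻¹ * d j) = fun _ => (1 : F) := by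
      funext j
      exact inv_mul_cancel₀ (hd j)
    rw [this, Matrix.diagonal_one]

theorem diag_single_diag (d d' : Fin b → F) (i j : Fin b) (c : F) :
    Matrix.diagonal d * Matrix.single i j c * Matrix.diagonal d' =
      Matrix.single i j (d i * c * d' j) := by
  ext x y
  rw [Matrix.mul_diagonal, Matrix.diagonal_mul, Matrix.single_apply, Matrix.single_apply]
  by_cases h : i = x ∧ j = y
  · rw [if_pos h, if_pos h, h.1, h.2]
  · rw [if_neg h, if_neg h, mul_zero, zero_mul]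

/-- FO-T3b -/
theorem exists_invariant_submodule (hb : 3 ≤ b) (M : Subgroup (GL (Fin a × Fin b) F)) (hM : Over M)
    (j0 j2 : Fin b) (hj : j2 ≠ j0) :
    ∃ S : Submodule F (Matrix (Fin a) (Fin a) F),
      (∀ A : Matrix (Fin a) (Fin a) F, A ∈ S ↔ ∃ g ∈ M,
        (g : Matrix (Fin a × Fin b) (Fin a × Fin b) F) = 1 + A ⊗ₖ Matrix.single j2 j0 (1 : F)) ∧
      (1 : Matrix (Fin a) (Fin a) F) ∈ S ∧
      (∀ α : Matrix (Fin a) (Fin a) F, α.det = 1 → ∀ A ∈ S, α * A * α⁻¹ ∈ S) := by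
  classical
  obtain ⟨E, hE⟩ : ∃ E : Matrix (Fin b) (Fin b) F, E = Matrix.single j2 j0 (1 : F) := ⟨_, rfl⟩
  rw [← hE]
  have hEE : E * E = 0 := by
    rw [hE]
    exact Matrix.single_mul_single_of_ne _ _ _ _ hj.symm _
  obtain ⟨j3, hj32, hj30⟩ := Fin.exists_ne_and_ne_of_two_lt j2 j0 (by omega)
  -- scaling
  have hscale : ∀ (c : F), c ≠ 0 → ∀ (A : Matrix (Fin a) (Fin a) F) (g : GL (Fin a × Fin b) F),
      g ∈ M → (g : Matrix (Fin a × Fin b) (Fin a × Fin b) F) = 1 + A ⊗ₖ E →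
      ∃ g' ∈ M, (g' : Matrix (Fin a × Fin b) (Fin a × Fin b) F) = 1 + (c • A) ⊗ₖ E := by
    intro c hc A g hg hgv
    obtain ⟨d, hd⟩ : ∃ d : Fin b → F, d = fun j => if j = j2 then c else if j = j3 then c⁻¹ else 1 :=
      ⟨_, rfl⟩
    have hd2 : d j2 = c := by rw [hd]; simp
    have hd3 : d j3 = c⁻¹ := by rw [hd]; simp [hj32]
    have hdo : ∀ j, j ≠ j2 → j ≠ j3 → d j = 1 := by
      intro j h1 h2
      rw [hd]; simp [h1, h2]
    have hd0 : d j0 = 1 := hdo j0 hj.symm hj30.symm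
    have hdne : ∀ j, d j ≠ 0 := by
      intro j
      by_cases h1 : j = j2
      · rw [h1, hd2]; exact hc
      · by_cases h2 : j = j3
        · rw [h2, hd3]; exact inv_ne_zero hc
        · rw [hdo j h1 h2]; exact one_ne_zero
    have hprod : ∏ j, d j = 1 := by
      rw [Finset.prod_eq_mul j2 j3 hj32.symm (fun j _ h => hdo j h.1 h.2)
        (fun h => absurd (Finset.mem_univ _) h) (fun h => absurd (Finset.mem_univ _) h), hd2, hd3,
        mul_inv_cancel₀ hc]
    have hn : kronGL (1 : GL (Fin a) F) (diagGL d hdne) ∈ M := by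
      apply hM.kron_mem _ (kronGL_mem_kron _ _)
      apply kronGL_mem_SL
      show ((1 : GL (Fin a) F) : Matrix (Fin a) (Fin a) F).det ^ b * (Matrix.diagonal d).det ^ a = 1
      rw [Units.val_one, Matrix.det_one, one_pow, one_mul, Matrix.det_diagonal, hprod, one_pow]
    refine ⟨kronGL 1 (diagGL d hdne) * g * (kronGL 1 (diagGL d hdne))⁻¹,
      M.mul_mem (M.mul_mem hn hg) (M.inv_mem hn), ?_⟩
    rw [kronGL_conj_val _ _ g A E hgv]
    have e1 : ((diagGL d hdne : GL (Fin b) F) : Matrix (Fin b) (Fin b) F) * E *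
        (((diagGL d hdne)⁻¹ : GL (Fin b) F) : Matrix (Fin b) (Fin b) F) = c • E := by
      show Matrix.diagonal d * E * Matrix.diagonal (fun j => (d j)⁻¹) = c • E
      rw [hE, diag_single_diag, hd2, hd0, Matrix.smul_single, smul_eq_mul]
      congr 1
      simp
    rw [e1, inv_one, Units.val_one, Matrix.one_mul, Matrix.mul_one, Matrix.kronecker_smul,
      Matrix.smul_kronecker]
  refine ⟨{ carrier := {A | ∃ g ∈ M,
              (g : Matrix (Fin a × Fin b) (Fin a × Fin b) F) = 1 + A ⊗ₖ E}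
            add_mem' := ?_
            zero_mem' := ?_
            smul_mem' := ?_ }, ?_, ?_, ?_⟩
  · rintro A A' ⟨g, hg, hgv⟩ ⟨g', hg', hgv'⟩
    refine ⟨g * g', M.mul_mem hg hg', ?_⟩
    rw [Units.val_mul, hgv, hgv', Matrix.add_kronecker, Matrix.mul_add, Matrix.add_mul,
      Matrix.add_mul, Matrix.one_mul, Matrix.one_mul, Matrix.mul_one,
      ← Matrix.mul_kronecker_mul, hEE, Matrix.kronecker_zero, add_zero, add_assoc]
  · exact ⟨1, M.one_mem, by rw [Units.val_one, Matrix.zero_kronecker, add_zero]⟩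
  · rintro c A ⟨g, hg, hgv⟩
    by_cases hc : c = 0
    · exact ⟨1, M.one_mem, by rw [Units.val_one, hc, zero_smul, Matrix.zero_kronecker, add_zero]⟩
    · exact hscale c hc A g hg hgv
  · intro A
    exact Iff.rfl
  · -- `1 ∈ S`
    have h : (Pi.single j0 (1 : F) : Fin b → F) ⬝ᵥ Pi.single j2 1 = 0 := by
      rw [single_dotProduct, one_mul, Pi.single_eq_of_ne hj.symm]
    refine ⟨rootGL (Pi.single j2 1) (Pi.single j0 1) h, hM.root_mem _ _ h, ?_⟩
    rw [rootGL_val, rootM, ← Matrix.single_eq_single_vecMulVec_single, Matrix.kronecker_add,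
      Matrix.one_kronecker_one, hE]
  · -- conjugation
    rintro α hα A ⟨g, hg, hgv⟩
    have hu : IsUnit α.det := by rw [hα]; exact isUnit_one
    obtain ⟨αG, hαG⟩ : ∃ αG : GL (Fin a) F, (αG : Matrix (Fin a) (Fin a) F) = α :=
      ⟨Matrix.nonsingInvUnit α hu, rfl⟩
    have hαinv : ((αG⁻¹ : GL (Fin a) F) : Matrix (Fin a) (Fin a) F) = α⁻¹ := by
      rw [Matrix.coe_units_inv, hαG]
    have hn : kronGL αG (1 : GL (Fin b) F) ∈ M := by
      apply hM.kron_mem _ (kronGL_mem_kron _ _)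
      apply kronGL_mem_SL
      rw [hαG, hα, one_pow, Units.val_one, Matrix.det_one, one_pow, one_mul]
    refine ⟨kronGL αG 1 * g * (kronGL αG 1)⁻¹, M.mul_mem (M.mul_mem hn hg) (M.inv_mem hn), ?_⟩
    rw [kronGL_conj_val _ _ g A E hgv, hαG, hαinv, inv_one, Units.val_one, Matrix.one_mul,
      Matrix.mul_one]

end Cfsg.Agent.Lib.Helper23.S5637T3b
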