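import Mathlib
import Cfsg.Agent.Lib.Helper3.SpTDefs
import Cfsg.Agent.Lib.Helper3.SpTL1
import Cfsg.Agent.Lib.Helper3.SpTL2

/-!
# S5704, FO-NOTKRON (helper23): root elements outside `N0 = kroneckerSubgroup`.

Elements of `N0` map pure tensors to pure tensors; `gE C w w'` (`C` non-scalar, `w, w'` independent) and
`zA α k` (`α` non-scalar, `k ≠ 0`) map a suitable pure tensor to a tensor of rank two.
-/

set_option autoImplicit false

namespace Cfsg.Agent.Lib.Helper23.S5704NOTKRON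

open Matrix Module QuadraticMap
open scoped Kronecker commutatorElement
open Cfsg.Agent.Lib.Helper16.Tens
open Cfsg.Agent.Lib.Helper23.S5637T3b (kronGL)
open Cfsg.Agent.Lib.Helper3.SpT

variable {F : Type*} [Field F] {a b : ℕ} {J1 : Matrix (Fin a) (Fin a) F} {J2 : Matrix (Fin b) (Fin b) F}
  {Q : QuadraticForm F (Fin a × Fin b → F)}

/-- elements of `N0` map pure tensors to pure tensors -/
theorem pure_of_mem_kron (n : GL (Fin a × Fin b) F) (hn : n ∈ Cfsg.Geo.kroneckerSubgroup a b F)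
    (u : Fin a → F) (x : Fin b → F) : ∃ (u' : Fin a → F) (x' : Fin b → F), act n (pur u x) = pur u' x' := by
  obtain ⟨A, B, hAB⟩ := (mem_kron_iff n).1 hn
  exact ⟨(A : Matrix (Fin a) (Fin a) F) *ᵥ u, (B : Matrix (Fin b) (Fin b) F) *ᵥ x, by
    rw [act_apply, hAB, kron_mulVec_pur]⟩

/-- a matrix all of whose vectors are eigenvectors is scalar -/
theorem isScal_of_forall_eigen (α : Matrix (Fin a) (Fin a) F) (h : ∀ u : Fin a → F, ∃ c : F, α *ᵥ u = c • u) :
    IsScal α := by
  choose c hc using h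
  have hdiag : ∀ i r : Fin a, α r i = if r = i then c (Pi.single i 1) else 0 := by
    intro i r
    have := congrFun (hc (Pi.single i 1)) r
    rw [mulVec_single_one] at this
    simp only [Matrix.col_apply, Pi.smul_apply, smul_eq_mul, Pi.single_apply, mul_ite, mul_one, mul_zero] at this
    exact this
  have heq : ∀ i j : Fin a, c (Pi.single i 1) = c (Pi.single j 1) := by
    intro i j
    by_cases hij : i = j
    · rw [hij]
    have h2 := hc (Pi.single i 1 + Pi.single j 1)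
    rw [Matrix.mulVec_add, hc, hc] at h2
    have hi := congrFun h2 i
    have hj := congrFun h2 j
    simp only [Pi.add_apply, Pi.smul_apply, smul_eq_mul, Pi.single_apply, if_true, mul_one,
      if_neg hij, if_neg (Ne.symm hij), mul_zero, add_zero, zero_add] at hi hj
    rw [hi, hj]
  by_cases hne : Nonempty (Fin a)
  · obtain ⟨i0⟩ := hne
    refine ⟨c (Pi.single i0 1), ?_⟩
    ext r i
    rw [hdiag i r, Matrix.smul_apply, Matrix.one_apply, smul_eq_mul, heq i i0]
    split_ifs <;> simp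
  · refine ⟨0, ?_⟩
    ext r i
    exact absurd ⟨r⟩ hne

/-- a non-scalar matrix has a non-eigenvector -/
theorem exists_not_eigen (α : Matrix (Fin a) (Fin a) F) (hα : ¬ IsScal α) :
    ∃ u : Fin a → F, ∀ c : F, α *ᵥ u ≠ c • u := by
  by_contra hcon
  push Not at hcon
  exact hα (isScal_of_forall_eigen α hcon)

/-- `u ⊗ x + u' ⊗ k` is not a pure tensor when `x, k` are independent, `u ≠ 0` and `u'` is not a multiple of `u` -/
theorem not_pure (hJ2 : SympG J2) (u u' : Fin a → F) (x k : Fin b → F) (hli : LinearIndependent F ![x, k])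
    (hu0 : u ≠ 0) (hu : ∀ c : F, u' ≠ c • u) (p : Fin a → F) (y : Fin b → F) : pur u x + pur u' k ≠ pur p y := by
  intro heq
  obtain ⟨y1, h11, h12⟩ := exists_dual_pair hJ2 x k hli
  have hli' : LinearIndependent F ![k, x] := (LinearIndependent.pair_symm_iff).1 hli
  obtain ⟨y2, h21, h22⟩ := exists_dual_pair hJ2 k x hli'
  have e1 := congrArg (ctr (a := a) (J2 *ᵥ y1)) heq
  have e2 := congrArg (ctr (a := a) (J2 *ᵥ y2)) heq
  rw [map_add, ctr_J_pur, ctr_J_pur, ctr_J_pur, h11, h12, one_smul, zero_smul, add_zero] at e1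
  rw [map_add, ctr_J_pur, ctr_J_pur, ctr_J_pur, h21, h22, one_smul, zero_smul, zero_add] at e2
  by_cases h0 : bf J2 y y1 = 0
  · rw [h0, zero_smul] at e1
    exact hu0 e1
  · apply hu (bf J2 y y2 * (bf J2 y y1)⁻¹)
    rw [e2, e1, smul_smul, mul_assoc, inv_mul_cancel₀ h0, mul_one]

/-- a non-eigenvector is non-zero -/
theorem ne_zero_of_not_eigen (α : Matrix (Fin a) (Fin a) F) (u : Fin a → F) (hu : ∀ c : F, α *ᵥ u ≠ c • u) :
    u ≠ 0 := by
  rintro rfl
  exact hu 0 (by rw [Matrix.mulVec_zero, smul_zero])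

theorem zA_not_mem_kron (hJ2 : SympG J2) (α : Matrix (Fin a) (Fin a) F) (hα : ¬ IsScal α)
    (k : Fin b → F) (hk : k ≠ 0) : zA J2 hJ2 α k ∉ Cfsg.Geo.kroneckerSubgroup a b F := by
  intro hmem
  obtain ⟨u, hu⟩ := exists_not_eigen α hα
  have hu0 := ne_zero_of_not_eigen α u hu
  obtain ⟨x, hx⟩ := exists_partner hJ2 k hk
  have hxk : bf J2 x k = -1 := by rw [hJ2.skew, hx]
  have hli : LinearIndependent F ![k, x] :=
    linInd_of_bf hJ2 k x k (hJ2.alt k) (by rw [hxk]; exact neg_ne_zero.2 one_ne_zero) hk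
  have hli' : LinearIndependent F ![x, k] := (LinearIndependent.pair_symm_iff).1 hli
  obtain ⟨p, y, hpy⟩ := pure_of_mem_kron _ hmem u x
  rw [act_zA, ctr_J_pur, hxk, Matrix.mulVec_smul, neg_one_smul] at hpy
  refine not_pure hJ2 u (-(α *ᵥ u)) x k hli' hu0 ?_ p y hpy
  intro c hc
  apply hu (-c)
  rw [neg_smul, ← hc, neg_neg]

theorem gE_not_mem_kron (hJ1 : SympG J1) (hJ2 : SympG J2) (C : Matrix (Fin a) (Fin a) F) (hC : ¬ IsScal C)
    (w w' : Fin b → F) (h : bf J2 w w' = 0) (hli : LinearIndependent F ![w, w']) :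
    gE J1 J2 hJ2 C w w' h ∉ Cfsg.Geo.kroneckerSubgroup a b F := by
  intro hmem
  obtain ⟨u, hu⟩ := exists_not_eigen C hC
  have hu0 := ne_zero_of_not_eigen C u hu
  have hli' : LinearIndependent F ![w', w] := (LinearIndependent.pair_symm_iff).1 hli
  obtain ⟨x, hx1, hx2⟩ := exists_dual_pair hJ2 w' w hli'
  have hxw' : bf J2 x w' = -1 := by rw [hJ2.skew, hx1]
  have hxw : bf J2 x w = 0 := hJ2.eq_zero_comm hx2
  have hw0 : w ≠ 0 := hli.ne_zero 0
  have hli2 : LinearIndependent F ![w, x] :=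
    linInd_of_bf hJ2 w x w' h (by rw [hxw']; exact neg_ne_zero.2 one_ne_zero) hw0
  have hli3 : LinearIndependent F ![x, w] := (LinearIndependent.pair_symm_iff).1 hli2
  obtain ⟨p, y, hpy⟩ := pure_of_mem_kron _ hmem u x
  rw [act_gE, hxw', hxw, zero_smul, add_zero, neg_one_smul, ← pur_neg_left] at hpy
  refine not_pure hJ2 u (-(C *ᵥ u)) x w hli3 hu0 ?_ p y hpy
  intro c hc
  apply hu (-c)
  rw [neg_smul, ← hc, neg_neg]

/-- `zA (c • 1) k ∈ N0` -/
theorem zA_mem_kron_of_isScal (hJ2 : SympG J2) (α : Matrix (Fin a) (Fin a) F) (hα : IsScal α) (k : Fin b → F) :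
    zA J2 hJ2 α k ∈ Cfsg.Geo.kroneckerSubgroup a b F := by
  obtain ⟨c, rfl⟩ := hα
  exact rootW_mem_kron hJ2 k c

end Cfsg.Agent.Lib.Helper23.S5704NOTKRON
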