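import Mathlib
import Cfsg.Agent.Lib.Helper3.SpTDefs
import Cfsg.Agent.Lib.Helper3.SpTL1
import Cfsg.Agent.Lib.Helper3.SpTL2
import Cfsg.Agent.Lib.Helper3.SpTL3

/-!
# S5704, FO-STRICT (helper23): `N0 ⊓ Ω < Ω`.
-/

set_option autoImplicit false

namespace Cfsg.Agent.Lib.Helper23.S5704STRICT

open Matrix Module QuadraticMap
open scoped Kronecker commutatorElement
open Cfsg.Agent.Lib.Helper16.Tens
open Cfsg.Agent.Lib.Helper23.S5637T3b (kronGL)
open Cfsg.Agent.Lib.Helper3.SpT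

variable {F : Type*} [Field F] {a b : ℕ} {J1 : Matrix (Fin a) (Fin a) F} {J2 : Matrix (Fin b) (Fin b) F}
  {Q : QuadraticForm F (Fin a × Fin b → F)}

/-- for `2 ≤ a` there is a non-scalar matrix -/
theorem exists_not_isScal (ha : 2 ≤ a) : ∃ C : Matrix (Fin a) (Fin a) F, ¬ IsScal C := by
  refine ⟨Matrix.single (⟨0, by omega⟩ : Fin a) (⟨1, by omega⟩ : Fin a) (1 : F), ?_⟩
  rintro ⟨c, hc⟩
  have h01 : (⟨0, by omega⟩ : Fin a) ≠ ⟨1, by omega⟩ := by
    intro h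
    have := congrArg Fin.val h
    simp at this
  have := congrFun (congrFun hc ⟨0, by omega⟩) ⟨1, by omega⟩
  rw [Matrix.single_apply_same, Matrix.smul_apply, Matrix.one_apply_ne h01, smul_zero] at this
  exact one_ne_zero this

/-- for `6 ≤ b` there is an independent isotropic pair -/
theorem exists_indep_pair (hJ2 : SympG J2) (hb : 6 ≤ b) :
    ∃ w w' : Fin b → F, bf J2 w w' = 0 ∧ LinearIndependent F ![w, w'] := by
  have hw0 : (Pi.single (⟨0, by omega⟩ : Fin b) (1 : F) : Fin b → F) ≠ 0 := by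
    intro h
    have := congrFun h ⟨0, by omega⟩
    simp at this
  obtain ⟨w1, w1', h1, -, h3, h4, -⟩ := exists_aux_pair hJ2 hb (Pi.single (⟨0, by omega⟩ : Fin b) (1 : F))
    (Pi.single (⟨0, by omega⟩ : Fin b) (1 : F))
  exact ⟨_, w1, h1, linInd_of_bf hJ2 _ w1 w1' h4 (by rw [h3]; exact one_ne_zero) hw0⟩

/-- strictness -/
theorem kron_inf_Om_lt [Fintype F] (hS : Setup J1 J2 Q) (ha : 2 ≤ a) (hb : 6 ≤ b) :
    Cfsg.Geo.kroneckerSubgroup a b F ⊓ Cfsg.Geo.omegaGL (⇑Q) < Cfsg.Geo.omegaGL (⇑Q) := by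
  obtain ⟨C, hC⟩ := exists_not_isScal (F := F) ha
  obtain ⟨w, w', h, hli⟩ := exists_indep_pair hS.h2 hb
  refine lt_of_le_of_ne inf_le_right ?_
  intro heq
  have hmem : gE J1 J2 hS.h2 C w w' h ∈ Cfsg.Geo.omegaGL (⇑Q) := gE_mem_Om hS hb C w w' h
  rw [← heq] at hmem
  exact gE_not_mem_kron hS.h1 hS.h2 C hC w w' h hli hmem.1

end Cfsg.Agent.Lib.Helper23.S5704STRICT
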