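import Mathlib
import Cfsg.Agent.Lib.Helper13.Sylow
import Cfsg.Agent.Lib.Helper18.ProductFormula
import Cfsg.Agent.Lib.Helper1.Basic

set_option autoImplicit false

/-!
Groups whose Sylow 2-subgroup `S` is generalized quaternion of order at least 16:
structure of `D = ⁅S, S⁆`, `C = C_G(D)`, `N = N_G(D)`.
-/

namespace Cfsg.Agent.Lib.Helper23.QuatSylow

open QuaternionGroup Subgroup
open scoped commutatorElement

section Quat

variable {m : ℕ}

theorem a_two_pow (k : ℕ) : (a 2 : QuaternionGroup m) ^ k = a (2 * (k : ZMod (2 * m))) := by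
  induction k with
  | zero => rw [pow_zero, Nat.cast_zero, mul_zero, a_zero]
  | succ k ih =>
    rw [pow_succ, ih, a_mul_a]
    congr 1
    push_cast
    ring

theorem a_two_mul_mem [NeZero m] (s : ZMod (2 * m)) :
    (a (2 * s) : QuaternionGroup m) ∈ zpowers (a 2 : QuaternionGroup m) := by
  haveI : NeZero (2 * m) := ⟨by have := NeZero.ne m; omega⟩
  have h : (a 2 : QuaternionGroup m) ^ s.val = a (2 * s) := by
    rw [a_two_pow, ZMod.natCast_zmod_val]
  rw [← h]
  exact Subgroup.pow_mem _ (mem_zpowers _) _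

theorem comm_eq_of_eq {Q : Type*} [Group Q] {g h k : Q}
    (e : g * h = k * (h * g)) : ⁅g, h⁆ = k := by
  rw [commutatorElement_def]
  calc g * h * g⁻¹ * h⁻¹ = (g * h) * (h * g)⁻¹ := by group
    _ = k * (h * g) * (h * g)⁻¹ := by rw [e]
    _ = k := by group

theorem comm_mem_of_eq {Q : Type*} [Group Q] (K : Subgroup Q) {g h k : Q} (hk : k ∈ K)
    (e : g * h = k * (h * g)) : ⁅g, h⁆ ∈ K := by
  rw [comm_eq_of_eq e]; exact hk

theorem commutator_top [NeZero m] :
    ⁅(⊤ : Subgroup (QuaternionGroup m)), ⊤⁆ = zpowers (a 2 : QuaternionGroup m) := by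
  apply le_antisymm
  · rw [Subgroup.commutator_le]
    intro g _ h _
    rcases g with i | i <;> rcases h with j | j
    · exact comm_mem_of_eq _ (k := a (2 * 0)) (a_two_mul_mem 0)
        (by simp only [a_mul_a]; congr 1; ring)
    · exact comm_mem_of_eq _ (k := a (2 * i)) (a_two_mul_mem i)
        (by simp only [a_mul_xa, xa_mul_a]; congr 1; ring)
    · exact comm_mem_of_eq _ (k := a (2 * (-j))) (a_two_mul_mem (-j))
        (by simp only [a_mul_xa, xa_mul_a]; congr 1; ring)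
    · exact comm_mem_of_eq _ (k := a (2 * (j - i))) (a_two_mul_mem (j - i))
        (by simp only [xa_mul_xa, a_mul_a]; congr 1; ring)
  · rw [zpowers_le]
    have h : ⁅(a 1 : QuaternionGroup m), xa 0⁆ = a 2 :=
      comm_eq_of_eq (by simp only [a_mul_xa, xa_mul_a]; congr 1; ring)
    rw [← h]
    exact Subgroup.commutator_mem_commutator (mem_top _) (mem_top _)

theorem mem_zpowers_a_one_iff [NeZero m] (g : QuaternionGroup m) :
    g ∈ zpowers (a 1 : QuaternionGroup m) ↔ ∃ i, g = a i := by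
  constructor
  · intro hg
    rw [zpowers_eq_closure] at hg
    induction hg using Subgroup.closure_induction with
    | mem x hx => exact ⟨1, hx⟩
    | one => exact ⟨0, one_def⟩
    | mul x y _ _ hx hy =>
      obtain ⟨i, rfl⟩ := hx
      obtain ⟨j, rfl⟩ := hy
      exact ⟨i + j, a_mul_a i j⟩
    | inv x _ hx =>
      obtain ⟨i, rfl⟩ := hx
      exact ⟨-i, rfl⟩
  · rintro ⟨i, rfl⟩
    haveI : NeZero (2 * m) := ⟨by have := NeZero.ne m; omega⟩
    have h : (a 1 : QuaternionGroup m) ^ i.val = a i := by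
      rw [a_one_pow, ZMod.natCast_zmod_val]
    rw [← h]
    exact Subgroup.pow_mem _ (mem_zpowers _) _

theorem centralizer_zpowers_a_two [NeZero m] (hm : 3 ≤ m) :
    Subgroup.centralizer ((zpowers (a 2 : QuaternionGroup m) : Subgroup _) : Set (QuaternionGroup m))
      = zpowers (a 1 : QuaternionGroup m) := by
  ext g
  constructor
  · intro hg
    have h2 := (Subgroup.mem_centralizer_iff.mp hg) (a 2) (mem_zpowers _)
    rcases g with i | j
    · exact (mem_zpowers_a_one_iff _).mpr ⟨i, rfl⟩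
    · exfalso
      simp only [a_mul_xa, xa_mul_a] at h2
      have h3 : j - 2 = j + 2 := xa.inj h2
      have h4 : (4 : ZMod (2 * m)) = 0 := by linear_combination (-1 : ZMod (2 * m)) * h3
      have h5 : ((4 : ℕ) : ZMod (2 * m)) = 0 := by exact_mod_cast h4
      rw [ZMod.natCast_eq_zero_iff] at h5
      have := Nat.le_of_dvd (by norm_num) h5
      omega
  · intro hg
    obtain ⟨i, rfl⟩ := (mem_zpowers_a_one_iff _).mp hg
    rw [Subgroup.mem_centralizer_iff]
    intro h hh
    have hle : zpowers (a 2 : QuaternionGroup m) ≤ zpowers (a 1) := by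
      rw [zpowers_le]
      exact (mem_zpowers_a_one_iff _).mpr ⟨2, rfl⟩
    obtain ⟨j, rfl⟩ := (mem_zpowers_a_one_iff _).mp (hle hh)
    simp only [a_mul_a]
    congr 1
    ring

end Quat

section General

variable {G : Type*} [Group G]

theorem isCyclic_of_eq_zpowers (H : Subgroup G) (x : G) (h : H = zpowers x) : IsCyclic H := by
  subst h; infer_instance

theorem card_of_eq_zpowers (H : Subgroup G) (x : G) (h : H = zpowers x) :
    Nat.card H = orderOf x := by
  subst h; exact Nat.card_zpowers x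

theorem conj_mem_commutator_self (H : Subgroup G) {s d : G} (hs : s ∈ H) (hd : d ∈ ⁅H, H⁆) :
    s * d * s⁻¹ ∈ ⁅H, H⁆ := by
  rw [← Subgroup.map_subtype_commutator] at hd ⊢
  obtain ⟨d', hd', rfl⟩ := hd
  refine ⟨⟨s, hs⟩ * d' * ⟨s, hs⟩⁻¹, ?_, by simp⟩
  exact (inferInstance : (commutator H).Normal).conj_mem d' hd' ⟨s, hs⟩

theorem le_normalizer_commutator_self (H : Subgroup G) :
    H ≤ normalizer ((⁅H, H⁆ : Subgroup G) : Set G) := by
  apply Cfsg.Agent.Lib.Helper1.le_normalizer_of_forall_conj_mem'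
  intro s hs d hd
  exact conj_mem_commutator_self H hs hd

theorem normalizer_le_normalizer_centralizer (D : Subgroup G) :
    normalizer (D : Set G) ≤ normalizer ((centralizer (D : Set G) : Subgroup G) : Set G) := by
  apply Cfsg.Agent.Lib.Helper1.le_normalizer_of_forall_conj_mem'
  intro g hg c hc
  rw [mem_centralizer_iff]
  intro d hd
  have hd' : g⁻¹ * d * g ∈ D := (mem_normalizer_iff''.mp hg d).mp hd
  have h1 := (mem_centralizer_iff.mp hc) _ hd'
  calc d * (g * c * g⁻¹) = g * ((g⁻¹ * d * g) * c) * g⁻¹ := by group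
    _ = g * (c * (g⁻¹ * d * g)) * g⁻¹ := by rw [h1]
    _ = g * c * g⁻¹ * d := by group

theorem relIndex_eq_relIndex_sup (H N : Subgroup G) (hLE : H ≤ normalizer (N : Set G)) :
    N.relIndex H = N.relIndex (H ⊔ N) := by
  haveI := Subgroup.normal_subgroupOf_of_le_normalizer hLE
  haveI := Subgroup.normal_subgroupOf_sup_of_le_normalizer hLE
  exact Nat.card_congr (QuotientGroup.quotientInfEquivProdNormalizerQuotient H N hLE).toEquiv

theorem not_dvd_relIndex_inf' [Finite G] {p : ℕ} (P C : Subgroup G) (hP : ¬ p ∣ P.index)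
    (hPC : P ≤ normalizer (C : Set G)) : ¬ p ∣ (P ⊓ C).relIndex C := by
  have h1 := Cfsg.Agent.Lib.Helper18.card_eq_card_inf_mul_relIndex P C
  have h2 := Cfsg.Agent.Lib.Helper18.card_sup_eq_card_mul_relIndex P C
  have h3 := relIndex_eq_relIndex_sup P C hPC
  have h4 := Cfsg.Agent.Lib.Helper18.card_sup_eq_card_mul_relIndex C P
  have h5 := Cfsg.Agent.Lib.Helper18.card_eq_card_inf_mul_relIndex C P
  rw [sup_comm] at h4
  rw [inf_comm] at h5
  rw [Subgroup.inf_relIndex_right]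
  have hI : 0 < Nat.card ↥(P ⊓ C) := Nat.card_pos
  have hr : 0 < C.relIndex P :=
    Nat.pos_of_ne_zero (by unfold Subgroup.relIndex; exact Subgroup.index_ne_zero_of_finite)
  have hu : P.relIndex C = P.relIndex (P ⊔ C) := by
    have : Nat.card ↥(P ⊓ C) * C.relIndex P * P.relIndex C =
        Nat.card ↥(P ⊓ C) * C.relIndex P * P.relIndex (P ⊔ C) := by
      calc Nat.card ↥(P ⊓ C) * C.relIndex P * P.relIndex C
          = (Nat.card ↥(P ⊓ C) * P.relIndex C) * C.relIndex P := by ring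
        _ = Nat.card C * C.relIndex (P ⊔ C) := by rw [← h5, h3]
        _ = Nat.card ↥(P ⊔ C) := h2.symm
        _ = Nat.card P * P.relIndex (P ⊔ C) := h4
        _ = Nat.card ↥(P ⊓ C) * C.relIndex P * P.relIndex (P ⊔ C) := by rw [h1]
    exact Nat.eq_of_mul_eq_mul_left (Nat.mul_pos hI hr) this
  rw [hu]
  intro hdvd
  exact hP (hdvd.trans (Subgroup.relIndex_dvd_index_of_le le_sup_left))

theorem mem_of_coprime_order [Finite G] (K : Subgroup G) [K.Normal] (c : G)
    (h : (orderOf c).Coprime K.index) : c ∈ K := by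
  have h1 : orderOf (QuotientGroup.mk' K c) ∣ orderOf c := orderOf_map_dvd (QuotientGroup.mk' K) c
  have h2 : orderOf (QuotientGroup.mk' K c) ∣ K.index := by
    rw [Subgroup.index_eq_card]; exact orderOf_dvd_natCard _
  have hq : QuotientGroup.mk' K c = 1 :=
    orderOf_eq_one_iff.mp (Nat.eq_one_of_dvd_coprimes h h1 h2)
  exact (QuotientGroup.eq_one_iff c).mp hq

theorem orderOf_conj' (g y : G) : orderOf (g * y * g⁻¹) = orderOf y := by
  have := (MulAut.conj g).orderOf_eq y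
  simpa [MulAut.conj_apply] using this

/-- transport of the quaternion structure -/
theorem quat_struct (S : Subgroup G) (m : ℕ) (hm : 3 ≤ m) (e : S ≃* QuaternionGroup m) :
    ∃ x : G, x ∈ S ∧ orderOf x = 2 * m ∧ ⁅S, S⁆ = zpowers (x ^ 2) ∧
      S ⊓ centralizer ((⁅S, S⁆ : Subgroup G) : Set G) = zpowers x := by
  haveI : NeZero m := ⟨by omega⟩
  obtain ⟨f, hf⟩ : ∃ f : QuaternionGroup m →* G, f = S.subtype.comp e.symm.toMonoidHom :=
    ⟨_, rfl⟩
  have hfapp : ∀ q, f q = ((e.symm q : S) : G) := by intro q; rw [hf]; rfl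
  have hfinj : Function.Injective f := by
    intro q1 q2 h
    rw [hfapp, hfapp] at h
    exact e.symm.injective (Subtype.ext h)
  have hfS : ∀ q, f q ∈ S := fun q => by rw [hfapp]; exact (e.symm q).2
  have hSf : ∀ g ∈ S, ∃ q, f q = g := by
    intro g hg
    refine ⟨e ⟨g, hg⟩, ?_⟩
    rw [hfapp, e.symm_apply_apply]
  have hSmap : S = (⊤ : Subgroup (QuaternionGroup m)).map f := by
    ext g; constructor
    · intro hg; obtain ⟨q, rfl⟩ := hSf g hg; exact ⟨q, Subgroup.mem_top q, rfl⟩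
    · rintro ⟨q, -, rfl⟩; exact hfS q
  have ha2 : (a 2 : QuaternionGroup m) = (a 1) ^ 2 := by
    rw [a_one_pow]; congr 1
  have hcomm : ⁅S, S⁆ = zpowers (f (a 1) ^ 2) := by
    conv_lhs => rw [hSmap]
    rw [← Subgroup.map_commutator, commutator_top, MonoidHom.map_zpowers, ha2, map_pow]
  refine ⟨f (a 1), hfS _, ?_, hcomm, ?_⟩
  · rw [orderOf_injective f hfinj, orderOf_a_one]
  · ext g
    constructor
    · rintro ⟨hgS, hgC⟩
      obtain ⟨q, rfl⟩ := hSf g hgS
      have hq : q ∈ centralizer ((zpowers (a 2 : QuaternionGroup m) : Subgroup _) :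
          Set (QuaternionGroup m)) := by
        rw [mem_centralizer_iff]
        intro d hd
        have hfd : f d ∈ ⁅S, S⁆ := by
          rw [hcomm, ← map_pow, ← ha2, ← MonoidHom.map_zpowers]
          exact Subgroup.mem_map_of_mem f hd
        have := (mem_centralizer_iff.mp hgC) (f d) hfd
        rw [← map_mul, ← map_mul] at this
        exact hfinj this
      rw [centralizer_zpowers_a_two hm] at hq
      rw [← MonoidHom.map_zpowers]
      exact Subgroup.mem_map_of_mem f hq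
    · intro hg
      obtain ⟨k, rfl⟩ := mem_zpowers_iff.mp hg
      rw [Subgroup.mem_inf]
      refine ⟨Subgroup.zpow_mem _ (hfS _) k, ?_⟩
      rw [mem_centralizer_iff]
      intro d hd
      rw [SetLike.mem_coe, hcomm] at hd
      obtain ⟨j, rfl⟩ := mem_zpowers_iff.mp hd
      exact (((Commute.refl (f (a 1))).pow_left 2).zpow_zpow j k).eq

end General

section Main

variable {G : Type*} [Group G] [Finite G]

theorem setup (S : Sylow 2 G) (n : ℕ)
    (e : ↥(S : Subgroup G) ≃* QuaternionGroup (2 ^ (n + 2))) :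
    ∃ x : G, x ∈ (S : Subgroup G) ∧ orderOf x = 2 * 2 ^ (n + 2) ∧
      ⁅(S : Subgroup G), (S : Subgroup G)⁆ = zpowers (x ^ 2) ∧
      (S : Subgroup G) ⊓ centralizer ((⁅(S : Subgroup G), (S : Subgroup G)⁆ : Subgroup G) : Set G)
        = zpowers x ∧
      Nat.card ↥(⁅(S : Subgroup G), (S : Subgroup G)⁆ : Subgroup G) = 2 ^ (n + 2) ∧
      ¬ 2 ∣ ((S : Subgroup G) ⊓
        centralizer ((⁅(S : Subgroup G), (S : Subgroup G)⁆ : Subgroup G) : Set G)).relIndex
          (centralizer ((⁅(S : Subgroup G), (S : Subgroup G)⁆ : Subgroup G) : Set G)) ∧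
      (S : Subgroup G) ≤ normalizer ((⁅(S : Subgroup G), (S : Subgroup G)⁆ : Subgroup G) : Set G) := by
  have hm : 3 ≤ 2 ^ (n + 2) := by
    have h1 : 2 ^ (n + 2) = 4 * 2 ^ n := by ring
    have h2 : 1 ≤ 2 ^ n := Nat.one_le_two_pow
    omega
  obtain ⟨x, hxS, hxo, hDx, hSC⟩ := quat_struct (S : Subgroup G) (2 ^ (n + 2)) hm e
  have hSN := le_normalizer_commutator_self (S : Subgroup G)
  refine ⟨x, hxS, hxo, hDx, hSC, ?_, ?_, hSN⟩
  · rw [card_of_eq_zpowers _ _ hDx, orderOf_pow_of_dvd (by norm_num) (by rw [hxo]; exact dvd_mul_right 2 _),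
      hxo, Nat.mul_div_cancel_left _ (by norm_num : 0 < 2)]
  · exact not_dvd_relIndex_inf' (S : Subgroup G) _ S.not_dvd_index
      (hSN.trans (normalizer_le_normalizer_centralizer _))

/-- if `y` centralizes `D = S'` and `|D|` divides the order of `y`, then `D` is generated by a
power of `y`. -/
theorem gen_of_dvd (S : Sylow 2 G) (n : ℕ)
    (e : ↥(S : Subgroup G) ≃* QuaternionGroup (2 ^ (n + 2))) (y : G)
    (hy : y ∈ centralizer ((⁅(S : Subgroup G), (S : Subgroup G)⁆ : Subgroup G) : Set G))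
    (hdvd : 2 ^ (n + 2) ∣ orderOf y) :
    ⁅(S : Subgroup G), (S : Subgroup G)⁆ = zpowers (y ^ (orderOf y / 2 ^ (n + 2))) := by
  obtain ⟨x, hxS, hxo, hDx, hSC, hcardD, hrel, hSN⟩ := setup S n e
  obtain ⟨D, hD⟩ : ∃ D : Subgroup G, D = ⁅(S : Subgroup G), (S : Subgroup G)⁆ := ⟨_, rfl⟩
  rw [← hD] at hy hDx hSC hcardD hrel ⊢
  obtain ⟨m, hm⟩ : ∃ m : ℕ, m = 2 ^ (n + 2) := ⟨_, rfl⟩
  rw [← hm] at hdvd hxo hcardD ⊢
  have hmpos : 0 < m := by rw [hm]; positivity
  obtain ⟨v, hv⟩ : ∃ v : G, v = y ^ (orderOf y / m) := ⟨_, rfl⟩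
  rw [← hv]
  have hyo : orderOf y ≠ 0 := (orderOf_pos y).ne'
  have hvo : orderOf v = m := by rw [hv]; exact orderOf_pow_orderOf_div hyo hdvd
  have hvC : v ∈ centralizer (D : Set G) := by rw [hv]; exact pow_mem hy _
  have hQ : IsPGroup 2 (zpowers v) :=
    IsPGroup.of_card (n := n + 2) (by rw [Nat.card_zpowers, hvo, hm])
  have hP : IsPGroup 2 ↥((S : Subgroup G) ⊓ centralizer (D : Set G)) :=
    S.isPGroup'.to_le inf_le_left
  obtain ⟨h, hhC, hh⟩ := Cfsg.Agent.Lib.Helper13.exists_conj_le_of_relIndex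
    (centralizer (D : Set G)) ((S : Subgroup G) ⊓ centralizer (D : Set G)) (zpowers v) hP hrel
    (zpowers_le.mpr hvC) hQ
  have hw : h * v * h⁻¹ ∈ zpowers x := by rw [← hSC]; exact hh v (mem_zpowers v)
  obtain ⟨j, hj⟩ := mem_zpowers_iff.mp hw
  have h1 : (h * v * h⁻¹) ^ m = 1 := by
    rw [conj_pow, ← hvo, pow_orderOf_eq_one]; group
  rw [← hj, ← zpow_natCast, ← zpow_mul] at h1
  have h2 : ((orderOf x : ℕ) : ℤ) ∣ j * (m : ℤ) := orderOf_dvd_iff_zpow_eq_one.mpr h1
  rw [hxo] at h2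
  have h3 : (2 : ℤ) ∣ j := by
    have h2' : (2 : ℤ) * (m : ℤ) ∣ j * (m : ℤ) := by push_cast at h2; exact h2
    exact (mul_dvd_mul_iff_right (by exact_mod_cast hmpos.ne')).mp h2'
  obtain ⟨i, rfl⟩ := h3
  have hwD : h * v * h⁻¹ ∈ D := by
    rw [hDx, ← hj, zpow_mul, zpow_two, ← sq]
    exact zpow_mem (mem_zpowers _) i
  have hcomm := (mem_centralizer_iff.mp hhC) _ hwD
  have hvv : v = h * v * h⁻¹ := by
    have : h * v = h * (h * v * h⁻¹) := by rw [← hcomm]; group
    exact mul_left_cancel this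
  have hvD : v ∈ D := by rw [hvv]; exact hwD
  exact (Subgroup.eq_of_le_of_card_ge (zpowers_le.mpr hvD)
    (by rw [Nat.card_zpowers, hvo, hcardD])).symm

theorem s0843 (S : Sylow 2 G) (n : ℕ)
    (e : ↥(S : Subgroup G) ≃* QuaternionGroup (2 ^ (n + 2))) :
    (∀ y : G, y ∈ centralizer ((⁅(S : Subgroup G), (S : Subgroup G)⁆ : Subgroup G) : Set G) →
      Nat.card ↥(⁅(S : Subgroup G), (S : Subgroup G)⁆ : Subgroup G) ∣ orderOf y →
      ⁅(S : Subgroup G), (S : Subgroup G)⁆ ≤ zpowers y) ∧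
    (∀ g y : G, y ∈ centralizer ((⁅(S : Subgroup G), (S : Subgroup G)⁆ : Subgroup G) : Set G) →
      Nat.card ↥(⁅(S : Subgroup G), (S : Subgroup G)⁆ : Subgroup G) ∣ orderOf y →
      g * y * g⁻¹ ∈ centralizer ((⁅(S : Subgroup G), (S : Subgroup G)⁆ : Subgroup G) : Set G) →
      g ∈ normalizer ((⁅(S : Subgroup G), (S : Subgroup G)⁆ : Subgroup G) : Set G)) ∧
    (∀ g y : G, g ∈ normalizer ((⁅(S : Subgroup G), (S : Subgroup G)⁆ : Subgroup G) : Set G) →
      y ∈ centralizer ((⁅(S : Subgroup G), (S : Subgroup G)⁆ : Subgroup G) : Set G) →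
      Nat.card ↥(⁅(S : Subgroup G), (S : Subgroup G)⁆ : Subgroup G) ∣ orderOf y →
      g * y * g⁻¹ ∈ centralizer ((⁅(S : Subgroup G), (S : Subgroup G)⁆ : Subgroup G) : Set G) ∧
      Nat.card ↥(⁅(S : Subgroup G), (S : Subgroup G)⁆ : Subgroup G) ∣ orderOf (g * y * g⁻¹)) := by
  obtain ⟨x, hxS, hxo, hDx, hSC, hcardD, hrel, hSN⟩ := setup S n e
  refine ⟨?_, ?_, ?_⟩
  · intro y hy hdvd
    rw [hcardD] at hdvd
    exact (gen_of_dvd S n e y hy hdvd).le.trans
      (zpowers_le.mpr (Subgroup.pow_mem _ (mem_zpowers y) _))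
  · intro g y hy hdvd hgy
    rw [hcardD] at hdvd
    have ho := orderOf_conj' g y
    have h1 := gen_of_dvd S n e y hy hdvd
    have h2 := gen_of_dvd S n e (g * y * g⁻¹) hgy (by rw [ho]; exact hdvd)
    rw [ho, conj_pow] at h2
    rw [mem_normalizer_iff]
    intro d
    constructor
    · intro hd
      rw [h1] at hd
      obtain ⟨i, rfl⟩ := mem_zpowers_iff.mp hd
      rw [h2, ← conj_zpow]
      exact zpow_mem (mem_zpowers _) i
    · intro hd
      rw [h2] at hd
      obtain ⟨i, hi⟩ := mem_zpowers_iff.mp hd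
      rw [conj_zpow] at hi
      have hdi : (y ^ (orderOf y / 2 ^ (n + 2))) ^ i = d :=
        mul_left_cancel (mul_right_cancel hi)
      rw [h1, ← hdi]
      exact zpow_mem (mem_zpowers _) i
  · intro g y hg hy hdvd
    constructor
    · have hgN := normalizer_le_normalizer_centralizer _ hg
      exact (mem_normalizer_iff.mp hgN y).mp hy
    · rw [orderOf_conj']; exact hdvd

theorem s0842 (S : Sylow 2 G) (n : ℕ)
    (e : ↥(S : Subgroup G) ≃* QuaternionGroup (2 ^ (n + 2))) :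
    ∃ K : Subgroup G, Odd (Nat.card K) ∧
      K ≤ centralizer ((⁅(S : Subgroup G), (S : Subgroup G)⁆ : Subgroup G) : Set G) ∧
      normalizer ((⁅(S : Subgroup G), (S : Subgroup G)⁆ : Subgroup G) : Set G) ≤
        normalizer (K : Set G) ∧
      K ⊔ (S : Subgroup G) =
        normalizer ((⁅(S : Subgroup G), (S : Subgroup G)⁆ : Subgroup G) : Set G) ∧
      K ⊔ ((S : Subgroup G) ⊓
          centralizer ((⁅(S : Subgroup G), (S : Subgroup G)⁆ : Subgroup G) : Set G)) =
        centralizer ((⁅(S : Subgroup G), (S : Subgroup G)⁆ : Subgroup G) : Set G) ∧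
      ((centralizer ((⁅(S : Subgroup G), (S : Subgroup G)⁆ : Subgroup G) : Set G)).subgroupOf
        (normalizer ((⁅(S : Subgroup G), (S : Subgroup G)⁆ : Subgroup G) : Set G))).index = 2 := by
  obtain ⟨x, hxS, hxo, hDx, hSC, hcardD, hrel, hSN⟩ := setup S n e
  obtain ⟨D, hD⟩ : ∃ D : Subgroup G, D = ⁅(S : Subgroup G), (S : Subgroup G)⁆ := ⟨_, rfl⟩
  rw [← hD] at hDx hSC hcardD hrel hSN ⊢
  obtain ⟨C, hC⟩ : ∃ C : Subgroup G, C = centralizer (D : Set G) := ⟨_, rfl⟩
  obtain ⟨N, hN⟩ : ∃ N : Subgroup G, N = normalizer (D : Set G) := ⟨_, rfl⟩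
  rw [← hC] at hSC hrel ⊢
  rw [← hN] at hSN ⊢
  have hCN : C ≤ N := by rw [hC, hN]; exact centralizer_le_normalizer _
  have hNC : N ≤ normalizer (C : Set G) := by
    rw [hC, hN]; exact normalizer_le_normalizer_centralizer D
  have hcardA : Nat.card ↥((S : Subgroup G) ⊓ C) = 2 * 2 ^ (n + 2) := by
    rw [card_of_eq_zpowers _ _ hSC, hxo]
  haveI : NeZero (2 ^ (n + 2)) := ⟨by positivity⟩
  have hcardS : Nat.card ↥(S : Subgroup G) = 4 * 2 ^ (n + 2) := by
    rw [Nat.card_congr e.toEquiv, Nat.card_eq_fintype_card, QuaternionGroup.card]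
  -- the Sylow 2-subgroup of C
  have hA2 : IsPGroup 2 ↥(((S : Subgroup G) ⊓ C).subgroupOf C) :=
    (S.isPGroup'.to_le inf_le_left).comap_subtype
  obtain ⟨P, hP⟩ : ∃ P : Sylow 2 ↥C, (P : Subgroup ↥C) = ((S : Subgroup G) ⊓ C).subgroupOf C :=
    ⟨hA2.toSylow hrel, hA2.toSylow_coe hrel⟩
  have hPcyc : IsCyclic P := by
    haveI : IsCyclic ↥((S : Subgroup G) ⊓ C) := isCyclic_of_eq_zpowers _ _ hSC
    have e1 : ↥(((S : Subgroup G) ⊓ C).subgroupOf C) ≃* ↥((S : Subgroup G) ⊓ C) :=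
      Subgroup.subgroupOfEquivOfLe inf_le_right
    have e2 : ↥(P : Subgroup ↥C) ≃* ↥(((S : Subgroup G) ⊓ C).subgroupOf C) :=
      MulEquiv.subgroupCongr hP
    exact ((e2.trans e1).isCyclic).mpr inferInstance
  have h2C : 2 ∣ Nat.card ↥C := by
    have h := Subgroup.card_dvd_of_le (inf_le_right : (S : Subgroup G) ⊓ C ≤ C)
    rw [hcardA] at h
    exact (dvd_mul_right 2 _).trans h
  have hmin : (Nat.card ↥C).minFac = 2 := (Nat.minFac_eq_two_iff _).mpr h2C
  have hcompl := IsCyclic.isComplement' hmin hPcyc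
  obtain ⟨K0, hK0n, hK0⟩ : ∃ K0 : Subgroup ↥C, K0.Normal ∧ K0.IsComplement' (P : Subgroup ↥C) :=
    ⟨_, MonoidHom.normal_ker _, hcompl⟩
  obtain ⟨K, hK⟩ : ∃ K : Subgroup G, K = K0.map C.subtype := ⟨_, rfl⟩
  have hKC : K ≤ C := by rw [hK]; exact Subgroup.map_subtype_le K0
  have hcardK : Nat.card K = Nat.card K0 := by
    rw [hK]; exact Subgroup.card_map_of_injective C.subtype_injective
  have hcardK0 : Nat.card K0 = (P : Subgroup ↥C).index := hK0.index_eq_card.symm
  have hodd : Odd (Nat.card K) := by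
    rw [hcardK, hcardK0, ← Nat.not_even_iff_odd, even_iff_two_dvd]
    exact P.not_dvd_index
  have hKmem : ∀ c : G, ∀ hc : c ∈ C, (⟨c, hc⟩ : ↥C) ∈ K0 ↔ c ∈ K := by
    intro c hc
    rw [hK]
    constructor
    · intro h; exact ⟨⟨c, hc⟩, h, rfl⟩
    · rintro ⟨c', hc', h⟩
      have : c' = ⟨c, hc⟩ := Subtype.ext h
      rw [← this]; exact hc'
  have hidxK0 : K0.index = 2 * 2 ^ (n + 2) := by
    rw [hK0.symm.index_eq_card,
      show Nat.card ↥(P : Subgroup ↥C) = Nat.card ↥(((S : Subgroup G) ⊓ C).subgroupOf C) from by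
        rw [hP],
      Nat.card_congr (Subgroup.subgroupOfEquivOfLe
        (inf_le_right : (S : Subgroup G) ⊓ C ≤ C)).toEquiv, hcardA]
  have hNK : N ≤ normalizer (K : Set G) := by
    apply Cfsg.Agent.Lib.Helper1.le_normalizer_of_forall_conj_mem'
    intro g hg k hk
    have hkC : k ∈ C := hKC hk
    have hgkC : g * k * g⁻¹ ∈ C := ((mem_normalizer_iff.mp (hNC hg)) k).mp hkC
    rw [← hKmem _ hgkC]
    haveI := hK0n
    apply mem_of_coprime_order K0
    have ho : orderOf (⟨g * k * g⁻¹, hgkC⟩ : ↥C) = orderOf k := by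
      rw [Subgroup.orderOf_mk, orderOf_conj']
    rw [ho, hidxK0]
    have hdk : orderOf k ∣ Nat.card K := by
      have := orderOf_dvd_natCard (⟨k, hk⟩ : ↥K)
      rwa [Subgroup.orderOf_mk] at this
    have hoddk : Odd (orderOf k) := hodd.of_dvd_nat hdk
    have h2k : (orderOf k).Coprime 2 := hoddk.coprime_two_right
    exact Nat.Coprime.mul_right h2k (Nat.Coprime.pow_right _ h2k)
  have hsupC : K ⊔ ((S : Subgroup G) ⊓ C) = C := by
    have h1 : K0 ⊔ (P : Subgroup ↥C) = ⊤ := hK0.sup_eq_top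
    have h2 := congrArg (Subgroup.map C.subtype) h1
    rw [Subgroup.map_sup, ← hK, hP, Subgroup.map_subgroupOf_eq_of_le inf_le_right,
      ← MonoidHom.range_eq_map, Subgroup.range_subtype] at h2
    exact h2
  haveI : IsCyclic ↥D := isCyclic_of_eq_zpowers D _ hDx
  have key : C.relIndex N ∣ Nat.card (MulAut ↥D) := by
    have key := Subgroup.card_dvd_of_injective _
      (QuotientGroup.kerLift_injective D.normalizerMonoidHom)
    rw [Subgroup.normalizerMonoidHom_ker, ← Subgroup.index, ← Subgroup.relIndex] at key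
    rw [hC, hN]; exact key
  have hpow : C.relIndex N ∣ 2 ^ (n + 1) := by
    have : Nat.card (MulAut ↥D) = 2 ^ (n + 1) := by
      rw [IsCyclic.card_mulAut, hcardD, show n + 2 = (n + 1) + 1 from rfl,
        Nat.totient_prime_pow_succ Nat.prime_two]
      norm_num
    rw [← this]; exact key
  have hNsup : N = (S : Subgroup G) ⊔ C := by
    apply le_antisymm
    · rw [← Subgroup.relIndex_eq_one]
      have h1 : ((S : Subgroup G) ⊔ C).relIndex N ∣ C.relIndex N :=
        Subgroup.relIndex_dvd_of_le_left N le_sup_right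
      have h2 : ((S : Subgroup G) ⊔ C).relIndex N ∣ (S : Subgroup G).relIndex N :=
        Subgroup.relIndex_dvd_of_le_left N le_sup_left
      have h3 : (S : Subgroup G).relIndex N ∣ (S : Subgroup G).index :=
        Subgroup.relIndex_dvd_index_of_le hSN
      have h4 : ((S : Subgroup G) ⊔ C).relIndex N ∣ 2 ^ (n + 1) := h1.trans hpow
      obtain ⟨t, ht, hte⟩ := (Nat.dvd_prime_pow Nat.prime_two).mp h4
      rcases Nat.eq_zero_or_pos t with h0 | h0
      · rw [hte, h0, pow_zero]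
      · exfalso
        apply S.not_dvd_index
        have h5 : 2 ^ t ∣ (S : Subgroup G).index := by rw [← hte]; exact h2.trans h3
        exact (dvd_pow_self 2 h0.ne').trans h5
    · exact sup_le hSN hCN
  have hsupN : K ⊔ (S : Subgroup G) = N := by
    apply le_antisymm
    · exact sup_le (hKC.trans hCN) hSN
    · rw [hNsup]
      apply sup_le le_sup_right
      calc C = K ⊔ ((S : Subgroup G) ⊓ C) := hsupC.symm
        _ ≤ K ⊔ (S : Subgroup G) := sup_le_sup_left inf_le_left K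
  have hidx : C.relIndex N = 2 := by
    rw [hNsup, ← relIndex_eq_relIndex_sup (S : Subgroup G) C (hSN.trans hNC)]
    have h1 := Cfsg.Agent.Lib.Helper18.card_eq_card_inf_mul_relIndex (S : Subgroup G) C
    rw [hcardA, hcardS] at h1
    have hpos : 0 < 2 * 2 ^ (n + 2) := by positivity
    have : 2 * 2 ^ (n + 2) * C.relIndex (S : Subgroup G) = 2 * 2 ^ (n + 2) * 2 := by
      rw [← h1]; ring
    exact Nat.eq_of_mul_eq_mul_left hpos this
  exact ⟨K, hodd, hKC, hNK, hsupN, hsupC, hidx⟩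

end Main

end Cfsg.Agent.Lib.Helper23.QuatSylow
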