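import Mathlib
import Cfsg.Prelude.Def_GeometricClasses
import Cfsg.Agent.Lib.Helper7.AschDefs

/-!
# S5630 CORE-F1 / CORE-F2 (helper23)

A non-degenerate bilinear (resp. unitary) form fixed by an absolutely irreducible group `R` is unique up to scalars,
hence every `h` normalising `R` is a similarity of it.
-/

set_option autoImplicit false

namespace Cfsg.Agent.Lib.Helper23.S5630CoreF

open Matrix Cfsg.Geo Cfsg.Agent.Lib.Helper7.Asch

variable {F : Type*} [Field F] {n : ℕ}

/-- `f` is linear in the first argument and `σ`-semilinear in the second -/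
structure IsSesq (σ : F ≃+* F) (f : (Fin n → F) → (Fin n → F) → F) : Prop where
  add_left : ∀ x y v, f (x + y) v = f x v + f y v
  smul_left : ∀ (c : F) (x v : Fin n → F), f (c • x) v = c * f x v
  add_right : ∀ v x y, f v (x + y) = f v x + f v y
  smul_right : ∀ (c : F) (v x : Fin n → F), f v (c • x) = σ c * f v x

theorem semilin_expand (τ : F → F) (g : (Fin n → F) → F) (hadd : ∀ x y, g (x + y) = g x + g y)
    (hsmul : ∀ (c : F) x, g (c • x) = τ c * g x) (v : Fin n → F) :
    g v = ∑ b, τ (v b) * g (Pi.single b 1) := by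
  have h0 : g 0 = 0 := by
    have := hadd 0 0
    simpa using this
  have hsum : ∀ (s : Finset (Fin n)) (w : Fin n → Fin n → F),
      g (∑ b ∈ s, w b) = ∑ b ∈ s, g (w b) := by
    intro s w
    induction s using Finset.induction_on with
    | empty => simp [h0]
    | insert a s ha ih => rw [Finset.sum_insert ha, Finset.sum_insert ha, hadd, ih]
  have hv : v = ∑ b, v b • (Pi.single b (1 : F) : Fin n → F) := by
    funext i
    simp [Finset.sum_apply, Pi.single_apply]
  conv_lhs => rw [hv]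
  rw [hsum]
  exact Finset.sum_congr rfl (fun b _ => hsmul _ _)

theorem sesq_repr (σ : F ≃+* F) (f : (Fin n → F) → (Fin n → F) → F) (hf : IsSesq σ f)
    (u v : Fin n → F) : f u v = u ⬝ᵥ (gramMatrix f *ᵥ (fun b => σ (v b))) := by
  rw [semilin_expand id (fun x => f x v) (fun x y => hf.add_left x y v)
    (fun c x => hf.smul_left c x v) u]
  simp only [dotProduct, mulVec, id]
  refine Finset.sum_congr rfl (fun a _ => ?_)
  congr 1
  rw [semilin_expand (fun c => σ c) (fun x => f (Pi.single a 1) x) (fun x y => hf.add_right _ x y)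
    (fun c x => hf.smul_right c _ x) v]
  refine Finset.sum_congr rfl (fun b _ => ?_)
  simp only [gramMatrix]
  ring

theorem gram_fix (σ : F ≃+* F) (f : (Fin n → F) → (Fin n → F) → F) (hf : IsSesq σ f)
    (X : Matrix (Fin n) (Fin n) F) (hX : ∀ u v, f (X *ᵥ u) (X *ᵥ v) = f u v) :
    Xᵀ * gramMatrix f * X.map σ = gramMatrix f := by
  ext a b
  have h := hX (Pi.single a 1) (Pi.single b 1)
  rw [sesq_repr σ f hf] at h
  have hG : f (Pi.single a 1) (Pi.single b 1) = gramMatrix f a b := rfl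
  rw [hG, Matrix.mulVec_single_one, Matrix.mulVec_single_one] at h
  rw [← h]
  simp only [Matrix.mul_apply, Matrix.transpose_apply, Matrix.map_apply, dotProduct, mulVec,
    Matrix.col_apply, Finset.sum_mul, Finset.mul_sum]
  rw [Finset.sum_comm]
  refine Finset.sum_congr rfl (fun i _ => Finset.sum_congr rfl (fun j _ => ?_))
  ring

theorem gram_isUnit (σ : F ≃+* F) (f : (Fin n → F) → (Fin n → F) → F) (hf : IsSesq σ f)
    (hnd : IsNondegenerateForm f) : IsUnit (gramMatrix f) := by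
  rw [← Matrix.mulVec_injective_iff_isUnit]
  intro w w' hww
  have h0 : gramMatrix f *ᵥ (w - w') = 0 := by
    rw [Matrix.mulVec_sub]; exact sub_eq_zero.mpr hww
  set v : Fin n → F := fun b => σ.symm ((w - w') b) with hv
  have hσv : (fun b => σ (v b)) = w - w' := by
    funext b; simp [hv]
  have hall : ∀ x, f x v = 0 := by
    intro x
    rw [sesq_repr σ f hf, hσv, h0, dotProduct_zero]
  have hv0 : v = 0 := by
    by_contra hne
    obtain ⟨⟨x, hx⟩, -⟩ := hnd v hne
    exact hx (hall x)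
  have : w - w' = 0 := by
    rw [← hσv, hv0]; funext b; simp
  exact sub_eq_zero.mp this

theorem comm_of_fix (σ : F ≃+* F) (G G' Gi X Y : Matrix (Fin n) (Fin n) F) (hXY : X * Y = 1)
    (hG1 : G * Gi = 1) (hG2 : Gi * G = 1)
    (h1 : Xᵀ * G * X.map σ = G) (h2 : Xᵀ * G' * X.map σ = G') :
    (G' * Gi) * Xᵀ = Xᵀ * (G' * Gi) := by
  have hσ : X.map σ * Y.map σ = 1 := by
    have : (X * Y).map σ = (1 : Matrix (Fin n) (Fin n) F).map σ := by rw [hXY]
    rw [Matrix.map_mul] at this
    rw [this]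
    exact Matrix.map_one σ (map_zero σ) (map_one σ)
  have e1 : Xᵀ * G = G * Y.map σ := by
    calc Xᵀ * G = Xᵀ * G * (X.map σ * Y.map σ) := by rw [hσ, mul_one]
      _ = (Xᵀ * G * X.map σ) * Y.map σ := by simp only [mul_assoc]
      _ = G * Y.map σ := by rw [h1]
  have e2 : Xᵀ * G' = G' * Y.map σ := by
    calc Xᵀ * G' = Xᵀ * G' * (X.map σ * Y.map σ) := by rw [hσ, mul_one]
      _ = (Xᵀ * G' * X.map σ) * Y.map σ := by simp only [mul_assoc]
      _ = G' * Y.map σ := by rw [h2]
  have e3 : Gi * Xᵀ = Y.map σ * Gi := by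
    calc Gi * Xᵀ = Gi * Xᵀ * (G * Gi) := by rw [hG1, mul_one]
      _ = Gi * (Xᵀ * G) * Gi := by simp only [mul_assoc]
      _ = Gi * (G * Y.map σ) * Gi := by rw [e1]
      _ = (Gi * G) * Y.map σ * Gi := by simp only [mul_assoc]
      _ = Y.map σ * Gi := by rw [hG2, one_mul]
  calc G' * Gi * Xᵀ = G' * (Gi * Xᵀ) := by rw [mul_assoc]
    _ = G' * (Y.map σ * Gi) := by rw [e3]
    _ = (G' * Y.map σ) * Gi := by rw [mul_assoc]
    _ = (Xᵀ * G') * Gi := by rw [e2]
    _ = Xᵀ * (G' * Gi) := by rw [mul_assoc]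

/-- two `σ`-sesquilinear forms fixed by an absolutely irreducible group, the first non-degenerate, are proportional -/
theorem sesq_unique (R : Subgroup (GL (Fin n) F)) (hR : AbsIrr R) (σ : F ≃+* F)
    (f f' : (Fin n → F) → (Fin n → F) → F) (hf : IsSesq σ f) (hf' : IsSesq σ f')
    (hnd : IsNondegenerateForm f)
    (hfix : FixesForm (matrixSet R) f) (hfix' : FixesForm (matrixSet R) f') :
    ∃ c : F, ∀ u v, f' u v = c * f u v := by
  have hU := gram_isUnit σ f hf hnd
  have hdet : IsUnit (gramMatrix f).det := (Matrix.isUnit_iff_isUnit_det _).mp hU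
  have hG1 : gramMatrix f * (gramMatrix f)⁻¹ = 1 := Matrix.mul_nonsing_inv _ hdet
  have hG2 : (gramMatrix f)⁻¹ * gramMatrix f = 1 := Matrix.nonsing_inv_mul _ hdet
  obtain ⟨M, hM⟩ : ∃ M : Matrix (Fin n) (Fin n) F, M = gramMatrix f' * (gramMatrix f)⁻¹ := ⟨_, rfl⟩
  have hcomm : ∀ s ∈ matrixSet R, Mᵀ * s = s * Mᵀ := by
    rintro s ⟨x, hx, rfl⟩
    have hXY : (x : Matrix (Fin n) (Fin n) F) * ((x⁻¹ : GL (Fin n) F) : Matrix (Fin n) (Fin n) F) = 1 := by
      rw [← Units.val_mul, mul_inv_cancel, Units.val_one]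
    have h1 := gram_fix σ f hf (x : Matrix (Fin n) (Fin n) F) (hfix _ ⟨x, hx, rfl⟩)
    have h2 := gram_fix σ f' hf' (x : Matrix (Fin n) (Fin n) F) (hfix' _ ⟨x, hx, rfl⟩)
    have h3 : M * (x : Matrix (Fin n) (Fin n) F)ᵀ = (x : Matrix (Fin n) (Fin n) F)ᵀ * M := by
      rw [hM]; exact comm_of_fix σ _ _ _ _ _ hXY hG1 hG2 h1 h2
    have h4 := congrArg Matrix.transpose h3
    rw [Matrix.transpose_mul, Matrix.transpose_mul, Matrix.transpose_transpose] at h4
    exact h4.symm
  obtain ⟨c, hc⟩ := hR.2 Mᵀ hcomm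
  have hMc : M = c • (1 : Matrix (Fin n) (Fin n) F) := by
    have := congrArg Matrix.transpose hc
    rw [Matrix.transpose_transpose, Matrix.transpose_smul, Matrix.transpose_one] at this
    exact this
  have hG' : gramMatrix f' = c • gramMatrix f := by
    calc gramMatrix f' = gramMatrix f' * ((gramMatrix f)⁻¹ * gramMatrix f) := by rw [hG2, mul_one]
      _ = M * gramMatrix f := by rw [hM, mul_assoc]
      _ = c • gramMatrix f := by rw [hMc, Matrix.smul_mul, one_mul]
  refine ⟨c, fun u v => ?_⟩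
  rw [sesq_repr σ f' hf', sesq_repr σ f hf, hG', Matrix.smul_mulVec, dotProduct_smul, smul_eq_mul]

/-- transport of a sesquilinear form along an invertible matrix -/
theorem isSesq_comp (σ : F ≃+* F) (f : (Fin n → F) → (Fin n → F) → F) (hf : IsSesq σ f)
    (A : Matrix (Fin n) (Fin n) F) : IsSesq σ (fun u v => f (A *ᵥ u) (A *ᵥ v)) where
  add_left x y v := by simp only [Matrix.mulVec_add]; exact hf.add_left _ _ _
  smul_left c x v := by simp only [Matrix.mulVec_smul]; exact hf.smul_left _ _ _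
  add_right v x y := by simp only [Matrix.mulVec_add]; exact hf.add_right _ _ _
  smul_right c v x := by simp only [Matrix.mulVec_smul]; exact hf.smul_right _ _ _

/-- common core of CORE-F1 and CORE-F2 -/
theorem mem_similarityGroup_of_sesq (R : Subgroup (GL (Fin n) F)) (hR : AbsIrr R) (σ : F ≃+* F)
    (f : (Fin n → F) → (Fin n → F) → F) (hf : IsSesq σ f) (hnd : IsNondegenerateForm f)
    (hfix : FixesForm (matrixSet R) f) (h : GL (Fin n) F) (hh : ∀ x ∈ R, h * x * h⁻¹ ∈ R) :
    h ∈ similarityGroup f := by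
  have hfix' : FixesForm (matrixSet R)
      (fun u v => f ((h : Matrix (Fin n) (Fin n) F) *ᵥ u) ((h : Matrix (Fin n) (Fin n) F) *ᵥ v)) := by
    rintro s ⟨x, hx, rfl⟩ u v
    have hmem : ((h * x * h⁻¹ : GL (Fin n) F) : Matrix (Fin n) (Fin n) F) ∈ matrixSet R :=
      ⟨_, hh x hx, rfl⟩
    have key := hfix _ hmem ((h : Matrix (Fin n) (Fin n) F) *ᵥ u) ((h : Matrix (Fin n) (Fin n) F) *ᵥ v)
    have e : ∀ w : Fin n → F, ((h * x * h⁻¹ : GL (Fin n) F) : Matrix (Fin n) (Fin n) F) *ᵥ
        ((h : Matrix (Fin n) (Fin n) F) *ᵥ w) =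
        (h : Matrix (Fin n) (Fin n) F) *ᵥ ((x : Matrix (Fin n) (Fin n) F) *ᵥ w) := by
      intro w
      rw [Matrix.mulVec_mulVec, Matrix.mulVec_mulVec, ← Units.val_mul, ← Units.val_mul]
      congr 2
      group
    rw [e, e] at key
    exact key
  obtain ⟨c, hc⟩ := sesq_unique R hR σ f _ hf (isSesq_comp σ f hf _) hnd hfix hfix'
  by_cases hc0 : c = 0
  · refine ⟨1, fun u v => ?_⟩
    have h1 : f ((h : Matrix (Fin n) (Fin n) F) *ᵥ u) ((h : Matrix (Fin n) (Fin n) F) *ᵥ v) =
        c * f u v := hc u v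
    have h2 : f ((h : Matrix (Fin n) (Fin n) F) *ᵥ
        (((h⁻¹ : GL (Fin n) F) : Matrix (Fin n) (Fin n) F) *ᵥ u)) ((h : Matrix (Fin n) (Fin n) F) *ᵥ
        (((h⁻¹ : GL (Fin n) F) : Matrix (Fin n) (Fin n) F) *ᵥ v)) = c * f _ _ :=
      hc (((h⁻¹ : GL (Fin n) F) : Matrix (Fin n) (Fin n) F) *ᵥ u)
        (((h⁻¹ : GL (Fin n) F) : Matrix (Fin n) (Fin n) F) *ᵥ v)
    rw [Matrix.mulVec_mulVec, Matrix.mulVec_mulVec, ← Units.val_mul, mul_inv_cancel, Units.val_one,
      Matrix.one_mulVec, Matrix.one_mulVec, hc0, zero_mul] at h2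
    rw [h1, hc0, zero_mul, h2, Units.val_one, one_mul]
  · exact ⟨Units.mk0 c hc0, fun u v => hc u v⟩

theorem isSesq_of_isBilinearForm (f : (Fin n → F) → (Fin n → F) → F) (hf : IsBilinearForm f) :
    IsSesq (RingEquiv.refl F) f where
  add_left := hf.add_left
  smul_left := hf.smul_left
  add_right := hf.add_right
  smul_right := by
    intro c v x
    simpa using hf.smul_right c v x

theorem isSesq_of_isUnitaryForm (σ : F ≃+* F) (f : (Fin n → F) → (Fin n → F) → F)
    (hf : IsUnitaryForm σ f) : IsSesq σ f where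
  add_left := hf.add_left
  smul_left := hf.smul_left
  add_right := by
    intro v x y
    rw [hf.herm v (x + y), hf.add_left, map_add, ← hf.herm, ← hf.herm]
  smul_right := by
    intro c v x
    rw [hf.herm v (c • x), hf.smul_left, map_mul, ← hf.herm]

/-- **CORE-F1** -/
theorem mem_similarityGroup_of_normalizes (R : Subgroup (GL (Fin n) F)) (hR : AbsIrr R)
    (f : (Fin n → F) → (Fin n → F) → F) (hf : IsBilinearForm f) (hnd : IsNondegenerateForm f)
    (hfix : FixesForm (matrixSet R) f) (h : GL (Fin n) F) (hh : ∀ x ∈ R, h * x * h⁻¹ ∈ R) :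
    h ∈ similarityGroup f :=
  mem_similarityGroup_of_sesq R hR (RingEquiv.refl F) f (isSesq_of_isBilinearForm f hf) hnd hfix h hh

/-- **CORE-F2** -/
theorem mem_similarityGroup_of_normalizes_unitary (R : Subgroup (GL (Fin n) F)) (hR : AbsIrr R)
    (σ : F ≃+* F) (f : (Fin n → F) → (Fin n → F) → F) (hf : IsUnitaryForm σ f)
    (hfix : FixesForm (matrixSet R) f) (h : GL (Fin n) F) (hh : ∀ x ∈ R, h * x * h⁻¹ ∈ R) :
    h ∈ similarityGroup f :=
  mem_similarityGroup_of_sesq R hR σ f (isSesq_of_isUnitaryForm σ f hf) hf.nondegenerate hfix h hh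

end Cfsg.Agent.Lib.Helper23.S5630CoreF
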