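import Mathlib
import Cfsg.Agent.Lib.Helper28.TensUDefs

/-!
# S5670 FO-LEFT (for helper28): left-hand copies of the `pt` / `hyp` API (`ptL u = u ⊗ W`, `hypL φ = ker φ ⊗ W`),
ranks, and comparison of pure tensors.
-/

set_option autoImplicit false

namespace Cfsg.Agent.Lib.Helper23.S5670LEFT

open Matrix Module
open Cfsg.Agent.Lib.Helper16.Tens Cfsg.Agent.Lib.Helper10.TensFund Cfsg.Agent.Lib.Helper28.TensU
open scoped Kronecker

variable {F : Type*} [Field F] {a b : ℕ}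

local notation "K" => Cfsg.Geo.kroneckerSubgroup a b F
local notation "V" => (Fin a × Fin b → F)

/-- FO-LEFT (a) -/
theorem img_ptL_of_mem_kron (g : GL (Fin a × Fin b) F) (hg : g ∈ K) (u : Fin a → F) :
    ∃ u' : Fin a → F, (u ≠ 0 → u' ≠ 0) ∧ img g (ptL (b := b) u) = ptL u' := by
  obtain ⟨A, B, hAB⟩ := hg
  refine ⟨(A : Matrix (Fin a) (Fin a) F) *ᵥ u, ?_, ?_⟩
  · intro hu h0
    apply hu
    have := congrArg (fun x => ((A⁻¹ : GL (Fin a) F) : Matrix (Fin a) (Fin a) F) *ᵥ x) h0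
    simpa [Matrix.mulVec_mulVec, ← Units.val_mul] using this
  · apply le_antisymm
    · rintro _ ⟨x, hx, rfl⟩
      obtain ⟨w, rfl⟩ := (mem_ptL_iff u x).1 hx
      change act g (pur u w) ∈ _
      rw [act_apply, hAB, kron_mulVec_pur]
      exact pur_mem_ptL _ _
    · intro v hv
      obtain ⟨w, rfl⟩ := (mem_ptL_iff _ v).1 hv
      refine ⟨pur u (((B⁻¹ : GL (Fin b) F) : Matrix (Fin b) (Fin b) F) *ᵥ w), pur_mem_ptL _ _, ?_⟩
      change act g (pur u _) = _
      rw [act_apply, hAB, kron_mulVec_pur, Matrix.mulVec_mulVec, ← Units.val_mul, mul_inv_cancel,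
        Units.val_one, Matrix.one_mulVec]

/-- FO-LEFT (b) -/
theorem finrank_ptL (u : Fin a → F) (hu : u ≠ 0) : finrank F (ptL (F := F) (b := b) u) = b := by
  unfold ptL
  rw [LinearMap.finrank_range_of_inj (purR_injective hu), Module.finrank_fintype_fun_eq_card,
    Fintype.card_fin]

/-- FO-LEFT (c) -/
theorem finrank_pt (k : Fin b → F) (hk : k ≠ 0) : finrank F (pt (F := F) (a := a) k) = a := by
  unfold pt
  rw [LinearMap.finrank_range_of_inj (purL_injective hk), Module.finrank_fintype_fun_eq_card,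
    Fintype.card_fin]

theorem ctrL_surjective {φ : Fin a → F} (hφ : φ ≠ 0) : Function.Surjective (ctrL (b := b) φ) := by
  obtain ⟨i, hi⟩ : ∃ i, φ i ≠ 0 := by
    by_contra hall; push Not at hall; exact hφ (funext hall)
  intro w
  refine ⟨pur (Pi.single i (φ i)⁻¹) w, ?_⟩
  rw [ctrL_pur]
  have : (Pi.single i (φ i)⁻¹ : Fin a → F) ⬝ᵥ φ = 1 := by
    rw [single_dotProduct, inv_mul_cancel₀ hi]
  rw [this, one_smul]

/-- FO-LEFT (d) -/
theorem finrank_hypL (φ : Fin a → F) (hφ : φ ≠ 0) : finrank F (hypL (F := F) (b := b) φ) + b = a * b := by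
  have h := LinearMap.finrank_range_add_finrank_ker (ctrL (b := b) φ)
  rw [LinearMap.range_eq_top.mpr (ctrL_surjective hφ), finrank_top, Module.finrank_fintype_fun_eq_card,
    Module.finrank_fintype_fun_eq_card, Fintype.card_fin, Fintype.card_prod, Fintype.card_fin,
    Fintype.card_fin] at h
  unfold hypL
  omega

/-- FO-LEFT (e): two pure tensors with the same value -/
theorem pur_eq_pur (u u' : Fin a → F) (w w' : Fin b → F) (h : pur u w = pur u' w') (hu : u ≠ 0) (hw : w ≠ 0) :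
    ∃ c : F, c ≠ 0 ∧ u' = c • u ∧ w = c • w' := by
  obtain ⟨i₀, hi₀⟩ : ∃ i, u i ≠ 0 := by
    by_contra hall; push Not at hall; exact hu (funext hall)
  obtain ⟨j₀, hj₀⟩ : ∃ j, w j ≠ 0 := by
    by_contra hall; push Not at hall; exact hw (funext hall)
  have hval : ∀ i j, u i * w j = u' i * w' j := by
    intro i j
    have := congrFun h (i, j)
    simpa only [pur_apply] using this
  have h00 := hval i₀ j₀
  have hne : u' i₀ * w' j₀ ≠ 0 := by rw [← h00]; exact mul_ne_zero hi₀ hj₀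
  have hu'0 : u' i₀ ≠ 0 := left_ne_zero_of_mul hne
  have hw'0 : w' j₀ ≠ 0 := right_ne_zero_of_mul hne
  refine ⟨w j₀ / w' j₀, div_ne_zero hj₀ hw'0, ?_, ?_⟩
  · funext i
    rw [Pi.smul_apply, smul_eq_mul]
    have := hval i j₀
    field_simp
    linear_combination -this
  · funext j
    rw [Pi.smul_apply, smul_eq_mul]
    have h1 := hval i₀ j
    have h2 : u' i₀ = w j₀ / w' j₀ * u i₀ := by
      field_simp
      linear_combination -h00
    rw [h2] at h1
    have h3 : u i₀ * w j = u i₀ * (w j₀ / w' j₀ * w' j) := by rw [h1]; ring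
    exact mul_left_cancel₀ hi₀ h3

/-- FO-LEFT (f) -/
theorem pt_inf_pt (k k' : Fin b → F) (h : ∀ c : F, k' ≠ c • k) : pt (F := F) (a := a) k ⊓ pt k' = ⊥ := by
  rw [eq_bot_iff]
  rintro v ⟨hv, hv'⟩
  obtain ⟨u, rfl⟩ := (mem_pt_iff k v).1 hv
  obtain ⟨u', hu'⟩ := (mem_pt_iff k' _).1 hv'
  rw [Submodule.mem_bot]
  by_cases hu : u = 0
  · rw [hu, pur_zero_left]
  by_cases hk : k = 0
  · rw [hk, pur_zero_right]
  exfalso
  obtain ⟨c, hc, -, hkc⟩ := pur_eq_pur u u' k k' hu'.symm hu hk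
  apply h c⁻¹
  rw [hkc, smul_smul, inv_mul_cancel₀ hc, one_smul]

/-- FO-LEFT (g) -/
theorem ptL_inf_ptL (u u' : Fin a → F) (h : ∀ c : F, u' ≠ c • u) : ptL (F := F) (b := b) u ⊓ ptL u' = ⊥ := by
  rw [eq_bot_iff]
  rintro v ⟨hv, hv'⟩
  obtain ⟨w, rfl⟩ := (mem_ptL_iff u v).1 hv
  obtain ⟨w', hw'⟩ := (mem_ptL_iff u' _).1 hv'
  rw [Submodule.mem_bot]
  by_cases hu : u = 0
  · rw [hu, pur_zero_left]
  by_cases hw : w = 0
  · rw [hw, pur_zero_right]
  exfalso
  obtain ⟨c, -, huc, -⟩ := pur_eq_pur u u' w w' hw'.symm hu hw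
  exact h c huc

/-- FO-LEFT (h) -/
theorem pt_smul (k : Fin b → F) (c : F) (hc : c ≠ 0) : pt (F := F) (a := a) (c • k) = pt k := by
  ext v
  rw [mem_pt_iff, mem_pt_iff]
  constructor
  · rintro ⟨u, rfl⟩
    exact ⟨c • u, by rw [pur_smul_left, pur_smul_right]⟩
  · rintro ⟨u, rfl⟩
    exact ⟨c⁻¹ • u, by rw [pur_smul_left, pur_smul_right, smul_smul, inv_mul_cancel₀ hc, one_smul]⟩

/-- FO-LEFT (i) -/
theorem ptL_smul (u : Fin a → F) (c : F) (hc : c ≠ 0) : ptL (F := F) (b := b) (c • u) = ptL u := by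
  ext v
  rw [mem_ptL_iff, mem_ptL_iff]
  constructor
  · rintro ⟨w, rfl⟩
    exact ⟨c • w, by rw [pur_smul_left, pur_smul_right]⟩
  · rintro ⟨w, rfl⟩
    exact ⟨c⁻¹ • w, by rw [pur_smul_left, pur_smul_right, smul_smul, mul_inv_cancel₀ hc, one_smul]⟩

end Cfsg.Agent.Lib.Helper23.S5670LEFT
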