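import Mathlib
import Cfsg.Prelude.Def_Solvable
import Cfsg.Agent.Lib.Helper22.Frobenius

/-!
# Constructing Frobenius groups from fixed-point-free actions (helper23 library)
-/

set_option autoImplicit false

namespace Cfsg.Agent.Lib.Helper23

open Subgroup SemidirectProduct

section General

variable {H N : Type*} [Group H] [Group N] [Finite H] [Finite N] [Nontrivial H] [Nontrivial N]

instance instFiniteSemidirect (φ : H →* MulAut N) : Finite (N ⋊[φ] H) :=
  Finite.of_equiv _ (SemidirectProduct.equivProd (φ := φ)).symm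

/-- A fixed-point-free action gives a Frobenius group `N ⋊ H` with complement `H`. -/
theorem frobenius_semidirect (φ : H →* MulAut N)
    (hfpf : ∀ h : H, h ≠ 1 → ∀ n : N, φ h n = n → n = 1) :
    Cfsg.IsFrobeniusComplement (inr : H →* N ⋊[φ] H).range ∧
      Cfsg.frobeniusKernel (inr : H →* N ⋊[φ] H).range =
        ((inl : N →* N ⋊[φ] H).range : Set (N ⋊[φ] H)) := by
  have hnorm : ((inl : N →* N ⋊[φ] H).range).Normal := by
    rw [range_inl_eq_ker_rightHom]; infer_instance
  apply Cfsg.Agent.Lib.Helper22.frobenius_of_fpf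
  · -- disjoint
    rw [eq_bot_iff]
    rintro x ⟨⟨n, rfl⟩, ⟨h, hh⟩⟩
    have h1 : (inr h : N ⋊[φ] H).right = (inl n : N ⋊[φ] H).right := by rw [hh]
    rw [right_inr, right_inl] at h1
    rw [mem_bot, ← hh, h1, map_one]
  · -- sup
    rw [eq_top_iff]
    intro x _
    rw [← inl_left_mul_inr_right x]
    exact mul_mem (mem_sup_left ⟨x.left, rfl⟩) (mem_sup_right ⟨x.right, rfl⟩)
  · -- N ≠ ⊥
    obtain ⟨n, hn⟩ := exists_ne (1 : N)
    intro hbot
    have : (inl n : N ⋊[φ] H) ∈ (inl : N →* N ⋊[φ] H).range := ⟨n, rfl⟩
    rw [hbot, mem_bot] at this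
    exact hn (inl_injective (by rw [this, map_one]))
  · obtain ⟨h, hh⟩ := exists_ne (1 : H)
    intro hbot
    have : (inr h : N ⋊[φ] H) ∈ (inr : H →* N ⋊[φ] H).range := ⟨h, rfl⟩
    rw [hbot, mem_bot] at this
    exact hh (inr_injective (by rw [this, map_one]))
  · rintro _ ⟨h, rfl⟩ hne _ ⟨n, rfl⟩ hcomm
    have hh : h ≠ 1 := fun h1 => hne (by rw [h1, map_one])
    have h2 : (inl (φ h n) : N ⋊[φ] H) = inl n := by
      rw [inl_aut, hcomm, mul_assoc, ← map_mul, mul_inv_cancel, map_one, mul_one]
    have h3 := hfpf h hh n (inl_injective h2)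
    rw [h3, map_one]

theorem card_frobeniusKernel_semidirect (φ : H →* MulAut N)
    (hfpf : ∀ h : H, h ≠ 1 → ∀ n : N, φ h n = n → n = 1) :
    Nat.card (Cfsg.frobeniusKernel (inr : H →* N ⋊[φ] H).range) = Nat.card N := by
  rw [(frobenius_semidirect φ hfpf).2]
  exact Nat.card_congr (MonoidHom.ofInjective (inl_injective (φ := φ))).toEquiv.symm

end General

/-- Existential form (in `Type`): a finite group acting fixed-point-freely on a nontrivial finite group
is a Frobenius complement. -/
theorem exists_frobenius_of_fpf {H N : Type} [Group H] [Group N] [Finite H] [Finite N]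
    [Nontrivial H] [Nontrivial N] (φ : H →* MulAut N)
    (hfpf : ∀ h : H, h ≠ 1 → ∀ n : N, φ h n = n → n = 1) :
    ∃ (L : Type) (_ : Group L) (_ : Finite L) (C : Subgroup L), Cfsg.IsFrobeniusComplement C ∧
      Nonempty (H ≃* C) ∧ Nat.card (Cfsg.frobeniusKernel C) = Nat.card N :=
  ⟨N ⋊[φ] H, inferInstance, inferInstance, (inr : H →* N ⋊[φ] H).range,
    (frobenius_semidirect φ hfpf).1, ⟨MonoidHom.ofInjective inr_injective⟩,
    card_frobeniusKernel_semidirect φ hfpf⟩

/-- A distributive action on an additive group, as a homomorphism into `MulAut (Multiplicative V)`. -/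
def distribMulAut (H V : Type*) [Group H] [AddGroup V] [DistribMulAction H V] :
    H →* MulAut (Multiplicative V) where
  toFun h :=
    { toFun := fun x => Multiplicative.ofAdd (h • Multiplicative.toAdd x)
      invFun := fun x => Multiplicative.ofAdd (h⁻¹ • Multiplicative.toAdd x)
      left_inv := fun x => by simp
      right_inv := fun x => by simp
      map_mul' := fun x y => by
        simp only [toAdd_mul, smul_add, ofAdd_add] }
  map_one' := by
    ext x
    simp
  map_mul' := fun a b => by
    ext x
    simp [mul_smul]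

@[simp]
theorem distribMulAut_apply (H V : Type*) [Group H] [AddGroup V] [DistribMulAction H V] (h : H)
    (x : Multiplicative V) :
    distribMulAut H V h x = Multiplicative.ofAdd (h • Multiplicative.toAdd x) := rfl

/-- Additive existential form (in `Type`): a finite group acting fixed-point-freely by automorphisms
on a nontrivial finite additive group is a Frobenius complement. -/
theorem exists_frobenius_of_fpf_add {H V : Type} [Group H] [AddGroup V] [Finite H] [Finite V]
    [Nontrivial H] [Nontrivial V] [DistribMulAction H V]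
    (hfpf : ∀ h : H, h ≠ 1 → ∀ v : V, h • v = v → v = 0) :
    ∃ (L : Type) (_ : Group L) (_ : Finite L) (C : Subgroup L), Cfsg.IsFrobeniusComplement C ∧
      Nonempty (H ≃* C) ∧ Nat.card (Cfsg.frobeniusKernel C) = Nat.card V := by
  have hfin : Finite (Multiplicative V) := inferInstanceAs (Finite V)
  have hnt : Nontrivial (Multiplicative V) := inferInstanceAs (Nontrivial V)
  obtain ⟨L, hL1, hL2, C, hC, he, hcard⟩ :=
    exists_frobenius_of_fpf (distribMulAut H V) (fun h hh x hx => by
      have h1 : h • Multiplicative.toAdd x = Multiplicative.toAdd x :=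
        congrArg Multiplicative.toAdd hx
      exact Multiplicative.toAdd.injective (hfpf h hh _ h1))
  exact ⟨L, hL1, hL2, C, hC, he, hcard.trans (Nat.card_congr Multiplicative.toAdd)⟩

end Cfsg.Agent.Lib.Helper23
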