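import Mathlib
import Cfsg.Agent.Lib.Helper23.FrobeniusConstruct

/-!
# Universe lowering for the fixed-point-free Frobenius construction (helper23 library)
-/

set_option autoImplicit false

namespace Cfsg.Agent.Lib.Helper23

universe u v

/-- Universe-polymorphic additive existential form: a finite group acting fixed-point-freely by
automorphisms on a nontrivial finite additive group is (isomorphic to) a Frobenius complement of a
finite group living in `Type`. -/
theorem exists_frobenius_of_fpf_add_univ {H : Type u} {V : Type v} [Group H] [AddGroup V]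
    [Finite H] [Finite V] [Nontrivial H] [Nontrivial V] [DistribMulAction H V]
    (hfpf : ∀ h : H, h ≠ 1 → ∀ v : V, h • v = v → v = 0) :
    ∃ (L : Type) (_ : Group L) (_ : Finite L) (C : Subgroup L), Cfsg.IsFrobeniusComplement C ∧
      Nonempty (H ≃* C) ∧ Nat.card (Cfsg.frobeniusKernel C) = Nat.card V := by
  let eH : Shrink.{0} H ≃* H := Shrink.mulEquiv
  let eV : Shrink.{0} V ≃+ V := Shrink.addEquiv
  letI : DistribMulAction (Shrink.{0} H) (Shrink.{0} V) :=
    { smul := fun h v => eV.symm (eH h • eV v)
      one_smul := fun v => by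
        change eV.symm (eH 1 • eV v) = v
        rw [map_one, one_smul, AddEquiv.symm_apply_apply]
      mul_smul := fun a b v => by
        change eV.symm (eH (a * b) • eV v) = eV.symm (eH a • eV (eV.symm (eH b • eV v)))
        rw [map_mul, mul_smul, AddEquiv.apply_symm_apply]
      smul_zero := fun a => by
        change eV.symm (eH a • eV 0) = 0
        rw [map_zero, smul_zero, map_zero]
      smul_add := fun a x y => by
        change eV.symm (eH a • eV (x + y)) = eV.symm (eH a • eV x) + eV.symm (eH a • eV y)
        rw [map_add, smul_add, map_add] }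
  have hsm : ∀ (h : Shrink.{0} H) (v : Shrink.{0} V), h • v = eV.symm (eH h • eV v) :=
    fun _ _ => rfl
  have hfH : Finite (Shrink.{0} H) := Finite.of_equiv H eH.symm.toEquiv
  have hfV : Finite (Shrink.{0} V) := Finite.of_equiv V eV.symm.toEquiv
  have hnH : Nontrivial (Shrink.{0} H) := eH.toEquiv.nontrivial
  have hnV : Nontrivial (Shrink.{0} V) := eV.toEquiv.nontrivial
  obtain ⟨L, hL1, hL2, C, hC, ⟨e⟩, hcard⟩ :=
    exists_frobenius_of_fpf_add (H := Shrink.{0} H) (V := Shrink.{0} V) (fun h hh v hv => by
      rw [hsm] at hv
      have h1 : eH h • eV v = eV v := by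
        have := congrArg eV hv
        rwa [AddEquiv.apply_symm_apply] at this
      have h2 : eH h ≠ 1 := fun h3 => hh (eH.injective (by rw [h3, map_one]))
      have h3 := hfpf _ h2 _ h1
      exact eV.injective (by rw [h3, map_zero]))
  exact ⟨L, hL1, hL2, C, hC, ⟨eH.symm.trans e⟩, hcard.trans (Nat.card_congr eV.toEquiv)⟩

end Cfsg.Agent.Lib.Helper23
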