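import Mathlib
import Cfsg.Agent.Lib.Helper1.Coprime
import Cfsg.Agent.Lib.Helper1.CoprimeAbelian
import Cfsg.Agent.Lib.Helper1.NoncyclicAbelian
import Cfsg.Agent.Lib.Helper10.FittingHall
import Cfsg.Agent.S0033

/-!
# Helper23 library: basic lemmas for Ward's theorem (S3796)

* `frob_fixed`: a Frobenius-type action lemma. If `c` of prime order `p` acts fixed-point-freely
  on `E`, both act on a subgroup `W` of a normal abelian subgroup `V` with `C_W(E) = 1`, coprime,
  and `C_W(c) = 1`, then `W = 1`.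
-/

set_option autoImplicit false

open Subgroup
open scoped commutatorElement

namespace Cfsg.Agent.Lib.Helper23.Ward

variable {G : Type*} [Group G]

open scoped IsMulCommutative in
/-- **Frobenius action lemma.** -/
theorem frob_fixed [Finite G] {p : ℕ} (hp : 0 < p) (V : Subgroup G) [V.Normal] [IsMulCommutative V]
    (W E : Subgroup G) (c : G) (hWV : W ≤ V)
    (hEW : E ≤ normalizer (W : Set G)) (hcW : c ∈ normalizer (W : Set G))
    (hcE : c ∈ normalizer (E : Set G)) (hcp : c ^ p = 1)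
    (hfpf : ∀ j : ℕ, 0 < j → j < p → ∀ x ∈ E, c ^ j * x = x * c ^ j → x = 1)
    (hWE : W ⊓ centralizer (E : Set G) = ⊥) (hWc : W ⊓ centralizer ({c} : Set G) = ⊥)
    (hcop : (Nat.card E).Coprime (Nat.card W)) : W = ⊥ := by
  classical
  rw [eq_bot_iff]
  intro w hw
  rw [mem_bot]
  let κ : G →* MulAut V := MulAut.conjNormal
  have hκ : ∀ (g : G) (v : V), ((κ g v : V) : G) = g * v * g⁻¹ := fun g v =>
    MulAut.conjNormal_apply g v
  let W' : Subgroup V := W.subgroupOf V
  have hW'mem : ∀ v : V, v ∈ W' ↔ (v : G) ∈ W := fun v => Subgroup.mem_subgroupOf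
  -- normalizing elements preserve W'
  have hnorm : ∀ g : G, g ∈ normalizer (W : Set G) → ∀ v : V, v ∈ W' → κ g v ∈ W' := by
    intro g hg v hv
    rw [hW'mem] at hv ⊢
    rw [hκ]
    exact (Subgroup.mem_normalizer_iff.mp hg _).mp hv
  let w' : V := ⟨w, hWV hw⟩
  have hw'W : w' ∈ W' := (hW'mem w').mpr hw
  haveI : Fintype E := Fintype.ofFinite E
  have hcpow : ∀ j : ℕ, c ^ j ∈ normalizer (W : Set G) := fun j => pow_mem hcW j
  -- Step 1: the `c`-orbit products vanish
  have hu : ∀ x : E, ∏ j ∈ Finset.range p, κ (c ^ j * x) w' = 1 := by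
    intro x
    set u := ∏ j ∈ Finset.range p, κ (c ^ j * x) w' with hu
    have huW : u ∈ W' := by
      apply Subgroup.prod_mem
      intro j _
      exact hnorm _ (mul_mem (hcpow j) (hEW x.2)) _ hw'W
    have hfix : κ c u = u := by
      rw [hu, map_prod]
      have h1 : ∀ j : ℕ, κ c (κ (c ^ j * x) w') = κ (c ^ (j + 1) * x) w' := by
        intro j
        rw [← MulAut.mul_apply, ← map_mul]
        congr 2
        rw [pow_succ']; group
      simp_rw [h1]
      have h2 := Finset.prod_range_succ (fun j => κ (c ^ j * (x : G)) w') p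
      have h3 := Finset.prod_range_succ' (fun j => κ (c ^ j * (x : G)) w') p
      rw [h2] at h3
      have h4 : κ (c ^ p * (x : G)) w' = κ (c ^ 0 * (x : G)) w' := by
        rw [hcp, pow_zero]
      rw [h4] at h3
      exact (mul_right_cancel h3).symm
    have hcent : (u : G) ∈ W ⊓ centralizer ({c} : Set G) := by
      refine Subgroup.mem_inf.mpr ⟨(hW'mem u).mp huW, ?_⟩
      rw [Subgroup.mem_centralizer_singleton_iff]
      have := congrArg (fun v : V => (v : G)) hfix
      simp only [hκ] at this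
      symm
      calc c * (u : G) = c * u * c⁻¹ * c := by group
        _ = u * c := by rw [this]
    rw [hWc, mem_bot] at hcent
    exact Subtype.ext hcent
  -- Step 2: twist by `x⁻¹` and multiply over `E`
  have hmain : ∏ j ∈ Finset.range p, ∏ x : E, κ ((x : G)⁻¹ * c ^ j * x) w' = 1 := by
    rw [Finset.prod_comm]
    apply Finset.prod_eq_one
    intro x _
    have := congrArg (κ (x : G)⁻¹) (hu x)
    rw [map_prod, map_one] at this
    rw [← this]
    apply Finset.prod_congr rfl
    intro j _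
    rw [← MulAut.mul_apply, ← map_mul, mul_assoc]
  -- Step 3: the terms with `0 < j` vanish
  have hterm : ∀ j ∈ Finset.range p, j ≠ 0 → ∏ x : E, κ ((x : G)⁻¹ * c ^ j * x) w' = 1 := by
    intro j hj hj0
    have hjp : j < p := Finset.mem_range.mp hj
    have hj0' : 0 < j := Nat.pos_of_ne_zero hj0
    have hcjE : c ^ j ∈ normalizer (E : Set G) := pow_mem hcE j
    have hφmem : ∀ x : E, (x : G)⁻¹ * c ^ j * x * (c ^ j)⁻¹ ∈ E := by
      intro x
      have : c ^ j * x * (c ^ j)⁻¹ ∈ E := (Subgroup.mem_normalizer_iff.mp hcjE _).mp x.2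
      have h := mul_mem (inv_mem x.2) this
      convert h using 1; group
    let φ : E → E := fun x => ⟨(x : G)⁻¹ * c ^ j * x * (c ^ j)⁻¹, hφmem x⟩
    have hφinj : Function.Injective φ := by
      intro x y hxy
      have h := congrArg (fun e : E => (e : G)) hxy
      simp only [φ] at h
      have h1 : (x : G)⁻¹ * c ^ j * x = (y : G)⁻¹ * c ^ j * y := by
        have := congrArg (fun g => g * c ^ j) h
        simpa [mul_assoc] using this
      have h2 : c ^ j * ((x : G) * (y : G)⁻¹) = ((x : G) * (y : G)⁻¹) * c ^ j := by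
        have := congrArg (fun g => (x : G) * g * (y : G)⁻¹) h1
        simp only [mul_assoc] at this
        rw [mul_inv_cancel_left] at this
        rw [mul_assoc, this]
        group
      have h3 := hfpf j hj0' hjp _ (mul_mem x.2 (inv_mem y.2)) h2
      apply Subtype.ext
      exact mul_inv_eq_one.mp h3
    have hφbij : Function.Bijective φ := hφinj.bijective_of_finite
    set wj : V := κ (c ^ j) w' with hwj
    have hwjW : wj ∈ W' := hnorm _ (hcpow j) _ hw'W
    have h1 : ∀ x : E, κ ((x : G)⁻¹ * c ^ j * x) w' = κ ((φ x : E) : G) wj := by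
      intro x
      rw [hwj, ← MulAut.mul_apply, ← map_mul]
      congr 2
      simp only [φ]; group
    simp_rw [h1]
    rw [Fintype.prod_bijective φ hφbij (fun x => κ ((φ x : E) : G) wj)
      (fun y => κ ((y : E) : G) wj) (fun x => rfl)]
    set n := ∏ y : E, κ ((y : E) : G) wj with hn
    have hnW : n ∈ W' := by
      apply Subgroup.prod_mem
      intro y _
      exact hnorm _ (hEW y.2) _ hwjW
    have hnfix : ∀ e : E, κ (e : G) n = n := by
      intro e
      rw [hn, map_prod]
      have : ∀ y : E, κ (e : G) (κ ((y : E) : G) wj) = κ (((e * y : E) : E) : G) wj := by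
        intro y
        rw [← MulAut.mul_apply, ← map_mul]
        rfl
      simp_rw [this]
      exact Fintype.prod_bijective (fun y : E => e * y) (Group.mulLeft_bijective e) _ _
        (fun y => rfl)
    have hncent : (n : G) ∈ W ⊓ centralizer (E : Set G) := by
      refine Subgroup.mem_inf.mpr ⟨(hW'mem n).mp hnW, ?_⟩
      rw [Subgroup.mem_centralizer_iff]
      intro e he
      have := congrArg (fun v : V => (v : G)) (hnfix ⟨e, he⟩)
      simp only [hκ] at this
      calc e * (n : G) = e * n * e⁻¹ * e := by group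
        _ = n * e := by rw [this]
    rw [hWE, mem_bot] at hncent
    exact Subtype.ext hncent
  rw [Finset.prod_eq_single_of_mem 0 (Finset.mem_range.mpr hp) hterm] at hmain
  have h0 : ∀ x : E, κ ((x : G)⁻¹ * c ^ 0 * x) w' = w' := by
    intro x
    have : (x : G)⁻¹ * c ^ 0 * x = 1 := by rw [pow_zero]; group
    rw [this, map_one, MulAut.one_apply]
  simp_rw [h0] at hmain
  rw [Finset.prod_const, Finset.card_univ, ← Nat.card_eq_fintype_card] at hmain
  have h1 : w ^ Nat.card E = 1 := by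
    have := congrArg (fun v : V => (v : G)) hmain
    simpa using this
  have h2 : w ^ Nat.card W = 1 := by
    have h : (⟨w, hw⟩ : W) ^ Nat.card W = 1 := pow_card_eq_one'
    have h' := congrArg (fun v : W => (v : G)) h
    simp only [Subgroup.coe_pow, Subgroup.coe_one] at h'
    exact h'
  have d1 := orderOf_dvd_of_pow_eq_one h1
  have d2 := orderOf_dvd_of_pow_eq_one h2
  have d3 := Nat.dvd_gcd d1 d2
  rw [Nat.Coprime.gcd_eq_one hcop, Nat.dvd_one, orderOf_eq_one_iff] at d3
  exact d3

/-- A subgroup normalizing `H₁` and `H₂` normalizes `⁅H₁, H₂⁆`. -/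
theorem le_normalizer_commutator {X H₁ H₂ : Subgroup G} (h₁ : X ≤ normalizer (H₁ : Set G))
    (h₂ : X ≤ normalizer (H₂ : Set G)) : X ≤ normalizer ((⁅H₁, H₂⁆ : Subgroup G) : Set G) := by
  apply Helper1.le_normalizer_of_forall_conj_mem
  intro x hx n hn
  induction hn using Subgroup.closure_induction with
  | mem y hy =>
    obtain ⟨k, hk, a, ha, rfl⟩ := hy
    have h1 : x * ⁅k, a⁆ * x⁻¹ = ⁅x * k * x⁻¹, x * a * x⁻¹⁆ := by
      simp only [commutatorElement_def]; group
    rw [h1]
    exact Subgroup.commutator_mem_commutator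
      ((Subgroup.mem_normalizer_iff.mp (h₁ hx) _).mp hk)
      ((Subgroup.mem_normalizer_iff.mp (h₂ hx) _).mp ha)
  | one => simp
  | mul y z _ _ hy hz =>
    have : x * (y * z) * x⁻¹ = (x * y * x⁻¹) * (x * z * x⁻¹) := by group
    rw [this]; exact mul_mem hy hz
  | inv y _ hy =>
    have : x * y⁻¹ * x⁻¹ = (x * y * x⁻¹)⁻¹ := by group
    rw [this]; exact inv_mem hy

/-- In a cyclic group of prime order every nontrivial element is a generator. -/
theorem zpowers_eq_of_mem [Finite G] {p : ℕ} (hp : p.Prime) {c c' : G} (hcp : c ^ p = 1)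
    (hc' : c' ∈ zpowers c) (h1 : c' ≠ 1) : zpowers c' = zpowers c := by
  have hle : zpowers c' ≤ zpowers c := zpowers_le.mpr hc'
  apply Subgroup.eq_of_le_of_card_ge hle
  rw [Nat.card_zpowers, Nat.card_zpowers]
  have hc : orderOf c ∣ p := orderOf_dvd_of_pow_eq_one hcp
  have hc'p : c' ^ p = 1 := by
    obtain ⟨k, rfl⟩ := Subgroup.mem_zpowers_iff.mp hc'
    rw [← zpow_natCast, ← zpow_mul, mul_comm, zpow_mul, zpow_natCast, hcp, one_zpow]
  have h2 : orderOf c' = p := by
    rcases (Nat.dvd_prime hp).mp (orderOf_dvd_of_pow_eq_one hc'p) with h | h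
    · exact absurd (orderOf_eq_one_iff.mp h) h1
    · exact h
  rw [h2]
  exact Nat.le_of_dvd hp.pos hc

theorem centralizer_singleton_le_of_mem_zpowers {c c' : G} (hc' : c' ∈ zpowers c) :
    centralizer ({c} : Set G) ≤ centralizer ({c'} : Set G) := by
  intro g hg
  rw [Subgroup.mem_centralizer_singleton_iff] at hg ⊢
  obtain ⟨k, rfl⟩ := Subgroup.mem_zpowers_iff.mp hc'
  have : Commute g c := hg
  exact (this.zpow_right k).eq

theorem centralizer_singleton_eq_of_mem_zpowers [Finite G] {p : ℕ} (hp : p.Prime) {c c' : G}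
    (hcp : c ^ p = 1) (hc' : c' ∈ zpowers c) (h1 : c' ≠ 1) :
    centralizer ({c'} : Set G) = centralizer ({c} : Set G) := by
  apply le_antisymm
  · apply centralizer_singleton_le_of_mem_zpowers
    rw [zpowers_eq_of_mem hp hcp hc' h1]
    exact mem_zpowers c
  · exact centralizer_singleton_le_of_mem_zpowers hc'

section ElemAb

variable [Finite G] {p : ℕ} {A : Subgroup G}

theorem exists_not_mem_zpowers (hp : p.Prime) (hAe : ∀ x ∈ A, x ^ p = 1)
    (hAcard : Nat.card A = p ^ 2) (a : G) : ∃ b ∈ A, b ∉ zpowers a := by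
  by_contra hcon
  push Not at hcon
  have hle : A ≤ zpowers a := fun b hb => hcon b hb
  have h1 := Subgroup.card_le_of_le hle
  rw [hAcard, Nat.card_zpowers] at h1
  by_cases ha : a ∈ A
  · have h2 : orderOf a ∣ p := orderOf_dvd_of_pow_eq_one (hAe a ha)
    have h3 := Nat.le_of_dvd hp.pos h2
    have : p < p ^ 2 := by
      have := hp.one_lt
      nlinarith
    omega
  · -- then `A ≤ zpowers a` but A is a p-group of exponent p
    have hA1 : ∀ b ∈ A, b ^ p = 1 := hAe
    -- the subgroup `A` of the cyclic group `zpowers a` is cyclic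
    haveI : IsCyclic (zpowers a) := inferInstance
    have hAcyc : IsCyclic (A.subgroupOf (zpowers a)) := inferInstance
    obtain ⟨g, hg⟩ := hAcyc
    have hcardA : Nat.card (A.subgroupOf (zpowers a)) = p ^ 2 := by
      rw [← hAcard]
      exact Nat.card_congr (Subgroup.subgroupOfEquivOfLe hle).toEquiv
    have hog : orderOf g = p ^ 2 := by
      rw [← hcardA]
      exact orderOf_eq_card_of_forall_mem_zpowers hg
    have hgp : g ^ p = 1 := by
      apply Subtype.ext
      apply Subtype.ext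
      have := hAe ((g : zpowers a) : G) (Subgroup.mem_subgroupOf.mp g.2)
      simpa using this
    have h4 := orderOf_dvd_of_pow_eq_one hgp
    rw [hog] at h4
    have h5 := Nat.le_of_dvd hp.pos h4
    have : p < p ^ 2 := by
      have := hp.one_lt
      nlinarith
    omega

omit [Finite G] in
theorem not_isCyclic_of_elemAb (hp : p.Prime) (hAe : ∀ x ∈ A, x ^ p = 1)
    (hAcard : Nat.card A = p ^ 2) : ¬ IsCyclic A := by
  rintro ⟨g, hg⟩
  have hog : orderOf g = p ^ 2 := by
    rw [← hAcard]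
    exact orderOf_eq_card_of_forall_mem_zpowers hg
  have hgp : g ^ p = 1 := by
    apply Subtype.ext
    have := hAe (g : G) g.2
    simpa using this
  have h4 := orderOf_dvd_of_pow_eq_one hgp
  rw [hog] at h4
  have h5 := Nat.le_of_dvd hp.pos h4
  have : p < p ^ 2 := by
    have := hp.one_lt
    nlinarith
  omega

theorem zpowers_sup_zpowers_eq (hp : p.Prime) (hAe : ∀ x ∈ A, x ^ p = 1)
    (hAcard : Nat.card A = p ^ 2) {a b : G} (ha : a ∈ A) (ha1 : a ≠ 1) (hb : b ∈ A)
    (hba : b ∉ zpowers a) : zpowers a ⊔ zpowers b = A := by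
  have hle : zpowers a ⊔ zpowers b ≤ A := sup_le (zpowers_le.mpr ha) (zpowers_le.mpr hb)
  apply Subgroup.eq_of_le_of_card_ge hle
  rw [hAcard]
  have hoa : orderOf a = p := by
    rcases (Nat.dvd_prime hp).mp (orderOf_dvd_of_pow_eq_one (hAe a ha)) with h | h
    · exact absurd (orderOf_eq_one_iff.mp h) ha1
    · exact h
  have hlt : zpowers a < zpowers a ⊔ zpowers b := by
    apply lt_of_le_of_ne le_sup_left
    intro h
    apply hba
    rw [h]
    exact (le_sup_right : zpowers b ≤ _) (mem_zpowers b)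
  have h1 : Nat.card (zpowers a) < Nat.card (zpowers a ⊔ zpowers b : Subgroup G) := by
    by_contra hcon
    push Not at hcon
    exact hlt.ne (Subgroup.eq_of_le_of_card_ge hlt.le hcon)
  rw [Nat.card_zpowers, hoa] at h1
  have h2 : Nat.card (zpowers a ⊔ zpowers b : Subgroup G) ∣ p ^ 2 := by
    rw [← hAcard]; exact Subgroup.card_dvd_of_le hle
  obtain ⟨k, hk, hk2⟩ := (Nat.dvd_prime_pow hp).mp h2
  rw [hk2] at h1 ⊢
  have : k = 2 := by
    interval_cases k
    · simp at h1; have := hp.one_lt; omega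
    · simp at h1
    · rfl
  rw [this]

/-- An element commuting with two independent elements of `A` centralizes `A`. -/
theorem mem_centralizer_of_commute_pair (hp : p.Prime) (hAe : ∀ x ∈ A, x ^ p = 1)
    (hAcard : Nat.card A = p ^ 2) {a b : G} (ha : a ∈ A) (ha1 : a ≠ 1) (hb : b ∈ A)
    (hba : b ∉ zpowers a) {x : G} (hxa : a * x = x * a) (hxb : b * x = x * b) :
    x ∈ centralizer (A : Set G) := by
  have h1 : zpowers a ⊔ zpowers b ≤ centralizer ({x} : Set G) := by
    apply sup_le
    · rw [zpowers_le, Subgroup.mem_centralizer_singleton_iff]; exact hxa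
    · rw [zpowers_le, Subgroup.mem_centralizer_singleton_iff]; exact hxb
  rw [zpowers_sup_zpowers_eq hp hAe hAcard ha ha1 hb hba] at h1
  rw [Subgroup.mem_centralizer_iff]
  intro y hy
  exact Subgroup.mem_centralizer_singleton_iff.mp (h1 hy)

end ElemAb

/-- Commutator with a join of subgroups of a commutative group normalizing `X`. -/
theorem commutator_iSup_le {ι : Sort*} (X Z : Subgroup G) (Zi : ι → Subgroup G)
    (hle : ∀ i, Zi i ≤ Z) (hZc : ∀ x ∈ Z, ∀ y ∈ Z, x * y = y * x)
    (hZX : Z ≤ normalizer (X : Set G)) : ⁅X, ⨆ i, Zi i⁆ ≤ ⨆ i, ⁅X, Zi i⁆ := by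
  rw [Subgroup.commutator_le]
  have hsupZ : (⨆ i, Zi i) ≤ Z := iSup_le hle
  suffices h : ∀ z, ∀ hz : z ∈ ⨆ i, Zi i, ∀ x ∈ X, ⁅x, z⁆ ∈ ⨆ i, ⁅X, Zi i⁆ from
    fun x hx z hz => h z hz x hx
  intro z hz
  induction hz using Subgroup.iSup_induction' with
  | hp i z hz =>
    intro x hx
    exact (le_iSup (fun i => ⁅X, Zi i⁆) i) (Subgroup.commutator_mem_commutator hx hz)
  | h1 =>
    intro x _
    simp
  | hmul z₁ z₂ hz₁ hz₂ ih₁ ih₂ =>
    intro x hx
    have hx' : z₁ * x * z₁⁻¹ ∈ X := (Subgroup.mem_normalizer_iff.mp (hZX (hsupZ hz₁)) _).mp hx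
    have hc : z₁ * z₂ = z₂ * z₁ := hZc _ (hsupZ hz₁) _ (hsupZ hz₂)
    have e : ⁅x, z₁ * z₂⁆ = ⁅x, z₁⁆ * ⁅z₁ * x * z₁⁻¹, z₂⁆ := by
      simp only [commutatorElement_def]
      have hc' : z₂⁻¹ * z₁⁻¹ = z₁⁻¹ * z₂⁻¹ := by
        rw [← mul_inv_rev, ← mul_inv_rev, hc]
      calc x * (z₁ * z₂) * x⁻¹ * (z₁ * z₂)⁻¹
          = x * z₁ * z₂ * x⁻¹ * (z₂⁻¹ * z₁⁻¹) := by group
        _ = x * z₁ * z₂ * x⁻¹ * (z₁⁻¹ * z₂⁻¹) := by rw [hc']
        _ = x * z₁ * x⁻¹ * z₁⁻¹ * (z₁ * x * z₁⁻¹ * z₂ * (z₁ * x * z₁⁻¹)⁻¹ * z₂⁻¹) := by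
          have : z₁ * x * z₁⁻¹ * z₂ * (z₁ * x * z₁⁻¹)⁻¹ * z₂⁻¹
              = z₁ * x * (z₁⁻¹ * z₂) * (z₁ * x⁻¹ * z₁⁻¹) * z₂⁻¹ := by group
          rw [this]
          have hc2 : z₁⁻¹ * z₂ = z₂ * z₁⁻¹ := by
            have := congrArg (fun g => z₁⁻¹ * g * z₁⁻¹) hc
            simpa [mul_assoc] using this.symm
          rw [hc2]; group
    rw [e]
    exact mul_mem (ih₁ x hx) (ih₂ _ hx')

/-- Coprime generation by centralizers, in subtype-indexed form. -/
theorem eq_iSup_centralizer [Finite G] {p : ℕ} (hp : p.Prime) {A K : Subgroup G}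
    (hAc : ∀ x ∈ A, ∀ y ∈ A, x * y = y * x) (hAe : ∀ x ∈ A, x ^ p = 1)
    (hAcard : Nat.card A = p ^ 2) (hAK : A ≤ normalizer (K : Set G))
    (hpK : ¬ p ∣ Nat.card K) :
    K = ⨆ a : {a : G // a ∈ A ∧ a ≠ 1}, K ⊓ centralizer ({(a : G)} : Set G) := by
  haveI : IsMulCommutative A := ⟨⟨fun a b => Subtype.ext (hAc a a.2 b b.2)⟩⟩
  have hcop : (Nat.card A).Coprime (Nat.card K) := by
    rw [hAcard]
    exact Nat.Coprime.pow_left 2 ((Nat.Prime.coprime_iff_not_dvd hp).mpr hpK)
  have h := Helper1.iSup_inf_centralizer_eq_of_not_isCyclic A K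
    (not_isCyclic_of_elemAb hp hAe hAcard) hAK hcop
  conv_lhs => rw [← h]
  rw [iSup_subtype']
  rfl

/-- **Thompson's theorem for centralizers**: if `A ≅ Z_p × Z_p` acts on `K` without nontrivial
fixed points then `C_K(a)` is nilpotent for `a ∈ A#`. -/
theorem thompson_cent [Finite G] {p : ℕ} (hp : p.Prime) {A K : Subgroup G}
    (hAe : ∀ x ∈ A, x ^ p = 1) (hAc : ∀ x ∈ A, ∀ y ∈ A, x * y = y * x)
    (hAcard : Nat.card A = p ^ 2) (hAK : A ≤ normalizer (K : Set G))
    (hfix : K ⊓ centralizer (A : Set G) = ⊥) {a : G} (ha : a ∈ A) (ha1 : a ≠ 1) :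
    Group.IsNilpotent ↥(K ⊓ centralizer ({a} : Set G)) := by
  obtain ⟨b, hb, hba⟩ := exists_not_mem_zpowers hp hAe hAcard a
  set L := K ⊓ centralizer ({a} : Set G) with hL
  have hbL : b ∈ normalizer (L : Set G) := by
    apply Subgroup.inf_normalizer_le_normalizer_inf
    refine Subgroup.mem_inf.mpr ⟨hAK hb, ?_⟩
    apply Subgroup.le_normalizer
    rw [Subgroup.mem_centralizer_singleton_iff]
    exact hAc b hb a ha
  let φ : L ≃* L := Helper1.conjNormalizer L b hbL
  have hφ : ∀ x : L, ((φ x : L) : G) = b * x * b⁻¹ := fun x => rfl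
  have hfpf : MonoidHom.FixedPointFree (φ : L →* L) := by
    intro x hx
    have hx' : b * (x : G) * b⁻¹ = x := congrArg (fun y : L => (y : G)) hx
    have hxb : b * (x : G) = x * b := by
      calc b * (x : G) = b * x * b⁻¹ * b := by group
        _ = x * b := by rw [hx']
    have hxa : a * (x : G) = x * a :=
      (Subgroup.mem_centralizer_singleton_iff.mp (Subgroup.mem_inf.mp x.2).2).symm
    have hxc := mem_centralizer_of_commute_pair hp hAe hAcard ha ha1 hb hba hxa hxb
    have : (x : G) ∈ K ⊓ centralizer (A : Set G) :=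
      Subgroup.mem_inf.mpr ⟨(Subgroup.mem_inf.mp x.2).1, hxc⟩
    rw [hfix, Subgroup.mem_bot] at this
    exact Subtype.ext this
  have hpow : ∀ n : ℕ, ∀ x : L, (((φ ^ n) x : L) : G) = b ^ n * x * (b ^ n)⁻¹ := by
    intro n
    induction n with
    | zero => intro x; simp
    | succ n ih =>
      intro x
      rw [pow_succ', MulAut.mul_apply, hφ, ih, pow_succ']
      group
  have hφp : φ ^ p = 1 := by
    ext x
    rw [hpow, hAe b hb]
    simp
  rcases (Nat.dvd_prime hp).mp (orderOf_dvd_of_pow_eq_one hφp) with h | h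
  · have hφ1 : φ = 1 := orderOf_eq_one_iff.mp h
    haveI : Subsingleton L := by
      constructor
      intro x y
      have hx : x = 1 := hfpf x (by rw [hφ1]; rfl)
      have hy : y = 1 := hfpf y (by rw [hφ1]; rfl)
      rw [hx, hy]
    infer_instance
  · exact Cfsg.Agent.S0033.result φ hfpf p hp h

/-- In the situation of `thompson_cent`, elements of `C_K(a)` of coprime orders commute. -/
theorem commute_of_coprime_cent [Finite G] {p : ℕ} (hp : p.Prime) {A K : Subgroup G}
    (hAe : ∀ x ∈ A, x ^ p = 1) (hAc : ∀ x ∈ A, ∀ y ∈ A, x * y = y * x)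
    (hAcard : Nat.card A = p ^ 2) (hAK : A ≤ normalizer (K : Set G))
    (hfix : K ⊓ centralizer (A : Set G) = ⊥) {a : G} (ha : a ∈ A) (ha1 : a ≠ 1)
    {x y : G} (hx : x ∈ K ⊓ centralizer ({a} : Set G)) (hy : y ∈ K ⊓ centralizer ({a} : Set G))
    (hxy : (orderOf x).Coprime (orderOf y)) : x * y = y * x := by
  haveI := thompson_cent hp hAe hAc hAcard hAK hfix ha ha1
  have h := Helper10.commute_of_coprime_orderOf ↥(K ⊓ centralizer ({a} : Set G)) ⟨x, hx⟩ ⟨y, hy⟩
    (by rw [← Subgroup.orderOf_coe, ← Subgroup.orderOf_coe]; exact hxy)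
  exact congrArg (fun z : ↥(K ⊓ centralizer ({a} : Set G)) => (z : G)) h.eq

end Cfsg.Agent.Lib.Helper23.Ward
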