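import Mathlib
import Cfsg.Agent.S0660
import Cfsg.Agent.Lib.Helper1.Frattini

/-!
# Invariant subgroups under an action by automorphisms (helper23 library)
-/

set_option autoImplicit false

namespace Cfsg.Agent.Lib.Helper23

open Subgroup
open scoped Pointwise commutatorElement

universe u v

section inv

variable {A : Type v} {G : Type u} [Group A] [Group G] [MulDistribMulAction A G]

/-- `L` is invariant under the action of `A`. -/
abbrev IsInv (A : Type v) {G : Type u} [Group A] [Group G] [MulDistribMulAction A G]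
    (L : Subgroup G) : Prop :=
  ∀ a : A, ∀ x ∈ L, a • x ∈ L

theorem isInv_iff (L : Subgroup G) : IsInv A L ↔ ∀ a : A, a • L ≤ L := by
  constructor
  · intro h a y hy
    obtain ⟨x, hx, rfl⟩ := (Subgroup.mem_smul_pointwise_iff_exists _ _ _).mp hy
    exact h a x hx
  · intro h a x hx
    exact h a (Subgroup.smul_mem_pointwise_smul x a L hx)

theorem IsInv.sup {L L' : Subgroup G} (h : IsInv A L) (h' : IsInv A L') : IsInv A (L ⊔ L') := by
  rw [isInv_iff] at h h' ⊢
  intro a
  rw [Subgroup.smul_sup]
  exact sup_le_sup (h a) (h' a)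

theorem IsInv.inf {L L' : Subgroup G} (h : IsInv A L) (h' : IsInv A L') : IsInv A (L ⊓ L') :=
  fun a x hx => ⟨h a x hx.1, h' a x hx.2⟩

theorem isInv_top : IsInv A (⊤ : Subgroup G) := fun _ _ _ => Subgroup.mem_top _

theorem isInv_bot : IsInv A (⊥ : Subgroup G) := by
  intro a x hx
  rw [Subgroup.mem_bot] at hx ⊢
  rw [hx, smul_one]

theorem isInv_of_characteristic {L : Subgroup G} (hL : L.Characteristic) : IsInv A L := by
  intro a x hx
  have h1 := (Subgroup.characteristic_iff_le_comap.mp hL) (MulDistribMulAction.toMulEquiv G a) hx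
  exact h1

theorem isInv_frattini : IsInv A (frattini G) := isInv_of_characteristic frattini_characteristic

/-- Every proper invariant subgroup of a finite group lies in a maximal invariant proper subgroup. -/
theorem exists_maximal_isInv [Finite G] :
    ∀ (n : ℕ) (L : Subgroup G), Nat.card G - Nat.card L = n → L ≠ ⊤ → IsInv A L →
      ∃ M : Subgroup G, L ≤ M ∧ M ≠ ⊤ ∧ IsInv A M ∧
        ∀ L' : Subgroup G, M < L' → IsInv A L' → L' = ⊤ := by
  intro n
  induction n using Nat.strong_induction_on with
  | _ n ih =>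
    intro L hn hL hinv
    by_cases hmax : ∀ L' : Subgroup G, L < L' → IsInv A L' → L' = ⊤
    · exact ⟨L, le_rfl, hL, hinv, hmax⟩
    · push Not at hmax
      obtain ⟨L', hlt, hinv', hne⟩ := hmax
      have h1 : Nat.card L < Nat.card L' := Cfsg.Agent.Lib.Helper1.card_lt_of_lt hlt
      have h2 : Nat.card L' ≤ Nat.card G := Subgroup.card_le_card_group _
      obtain ⟨M, hM1, hM2, hM3, hM4⟩ := ih (Nat.card G - Nat.card L') (by omega) L' rfl hne hinv'
      exact ⟨M, hlt.le.trans hM1, hM2, hM3, hM4⟩

end inv

section maschke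

theorem exists_compl_of_zmodModule {M : Type*} [AddCommGroup M] (p : ℕ) [Fact p.Prime]
    [Module (ZMod p) M] (U : AddSubgroup M) : ∃ W : AddSubgroup M, U ⊓ W = ⊥ ∧ U ⊔ W = ⊤ := by
  have : ComplementedLattice (AddSubgroup M) :=
    (OrderIso.complementedLattice_iff (AddSubgroup.toZModSubmodule p (M := M))).mpr inferInstance
  obtain ⟨W, hW⟩ := exists_isCompl U
  exact ⟨W, hW.inf_eq_bot, hW.sup_eq_top⟩

theorem exists_compl_of_nsmul_eq_zero {M : Type*} [AddCommGroup M] (p : ℕ) [Fact p.Prime]
    (h : ∀ x : M, p • x = 0) (U : AddSubgroup M) :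
    ∃ W : AddSubgroup M, U ⊓ W = ⊥ ∧ U ⊔ W = ⊤ :=
  @exists_compl_of_zmodModule M _ p _ (AddCommGroup.zmodModule h) U

/-- Every subgroup of an elementary abelian group has a complement. -/
theorem exists_compl_of_elementary {V : Type*} [CommGroup V] (p : ℕ) [Fact p.Prime]
    (hV : ∀ v : V, v ^ p = 1) (U : Subgroup V) : ∃ W : Subgroup V, U ⊓ W = ⊥ ∧ U ⊔ W = ⊤ := by
  have h : ∀ x : Additive V, p • x = 0 := fun x => congrArg Additive.ofMul (hV (Additive.toMul x))
  have : ComplementedLattice (AddSubgroup (Additive V)) := by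
    constructor
    intro U
    obtain ⟨W, h1, h2⟩ := exists_compl_of_nsmul_eq_zero p h U
    exact ⟨W, disjoint_iff.mpr h1, codisjoint_iff.mpr h2⟩
  have : ComplementedLattice (Subgroup V) :=
    (OrderIso.complementedLattice_iff (Subgroup.toAddSubgroup (G := V))).mpr inferInstance
  obtain ⟨W, hW⟩ := exists_isCompl U
  exact ⟨W, hW.inf_eq_bot, hW.sup_eq_top⟩

/-- Maschke for a coprime action on a group that happens to be elementary abelian. -/
theorem exists_invariant_complement_of_elementary {V : Type*} [Group V] [Finite V]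
    (hcomm : ∀ x y : V, x * y = y * x) (p : ℕ) [Fact p.Prime] (hexp : ∀ v : V, v ^ p = 1)
    {A : Type*} [Group A] [Finite A] (σ : A →* MulAut V)
    (hcop : (Nat.card A).Coprime (Nat.card V)) (U : Subgroup V)
    (hU : ∀ a : A, ∀ u ∈ U, σ a u ∈ U) :
    ∃ W' : Subgroup V, (∀ a : A, ∀ w ∈ W', σ a w ∈ W') ∧ U ⊓ W' = ⊥ ∧ U ⊔ W' = ⊤ := by
  classical
  let _ : CommGroup V := { (inferInstance : Group V) with mul_comm := hcomm }
  have : Fintype A := Fintype.ofFinite A
  obtain ⟨W, h1, h2⟩ := exists_compl_of_elementary p hexp U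
  exact Cfsg.Agent.S0660.exists_invariant_complement σ
    (by rwa [← Nat.card_eq_fintype_card]) U W hU h1 h2

variable {A : Type v} {G : Type u} [Group A] [Group G] [MulDistribMulAction A G]

/-- The automorphism of `G ⧸ N` induced by `a : A`, for an invariant normal subgroup `N`. -/
noncomputable def quotAut (N : Subgroup G) [N.Normal] (hN : IsInv A N) (a : A) : MulAut (G ⧸ N) where
  toFun := QuotientGroup.map N N (MulDistribMulAction.toMonoidHom G a) (fun x hx => hN a x hx)
  invFun := QuotientGroup.map N N (MulDistribMulAction.toMonoidHom G a⁻¹) (fun x hx => hN a⁻¹ x hx)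
  left_inv := by
    intro x
    induction x using QuotientGroup.induction_on with
    | H x =>
      change ((a⁻¹ • (a • x) : G) : G ⧸ N) = (x : G ⧸ N)
      rw [inv_smul_smul]
  right_inv := by
    intro x
    induction x using QuotientGroup.induction_on with
    | H x =>
      change ((a • (a⁻¹ • x) : G) : G ⧸ N) = (x : G ⧸ N)
      rw [smul_inv_smul]
  map_mul' := map_mul _

@[simp] theorem quotAut_mk (N : Subgroup G) [N.Normal] (hN : IsInv A N) (a : A) (x : G) :
    quotAut N hN a (x : G ⧸ N) = ((a • x : G) : G ⧸ N) := rfl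

/-- The action induced on the quotient by an invariant normal subgroup. -/
noncomputable def quotAction (N : Subgroup G) [N.Normal] (hN : IsInv A N) : A →* MulAut (G ⧸ N) where
  toFun := quotAut N hN
  map_one' := by
    ext x
    induction x using QuotientGroup.induction_on with
    | H x => simp
  map_mul' := by
    intro a b
    ext x
    induction x using QuotientGroup.induction_on with
    | H x => simp [mul_smul]

@[simp] theorem quotAction_mk (N : Subgroup G) [N.Normal] (hN : IsInv A N) (a : A) (x : G) :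
    quotAction N hN a (x : G ⧸ N) = ((a • x : G) : G ⧸ N) := rfl

/-- Maschke modulo the Frattini subgroup of a `p`-group under a coprime action. -/
theorem exists_isInv_compl_mod_frattini [Finite A] [Finite G] {p : ℕ} [Fact p.Prime]
    (hG : IsPGroup p G) (hcop : (Nat.card A).Coprime (Nat.card G)) {L : Subgroup G}
    (hL : IsInv A L) (hΦL : frattini G ≤ L) :
    ∃ L' : Subgroup G, IsInv A L' ∧ frattini G ≤ L' ∧ L ⊓ L' = frattini G ∧ L ⊔ L' = ⊤ := by
  have hΦinv : IsInv A (frattini G) := isInv_frattini
  set π := QuotientGroup.mk' (frattini G) with hπ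
  have hπs : Function.Surjective π := QuotientGroup.mk'_surjective _
  have hker : π.ker = frattini G := QuotientGroup.ker_mk' _
  have hcomm : ∀ x y : G ⧸ frattini G, x * y = y * x := by
    intro x y
    induction x using QuotientGroup.induction_on with
    | H x =>
    induction y using QuotientGroup.induction_on with
    | H y =>
    rw [← QuotientGroup.mk_mul, ← QuotientGroup.mk_mul, QuotientGroup.eq]
    apply Cfsg.Agent.Lib.Helper1.IsPGroup.commutator_le_frattini hG
    have h1 : (x * y)⁻¹ * (y * x) = ⁅y⁻¹, x⁻¹⁆ := by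
      rw [commutatorElement_def]; group
    rw [h1, _root_.commutator_def]
    exact Subgroup.commutator_mem_commutator (Subgroup.mem_top _) (Subgroup.mem_top _)
  have hexp : ∀ v : G ⧸ frattini G, v ^ p = 1 := by
    intro v
    induction v using QuotientGroup.induction_on with
    | H x =>
    rw [← QuotientGroup.mk_pow, QuotientGroup.eq_one_iff]
    exact Cfsg.Agent.Lib.Helper1.IsPGroup.pow_mem_frattini hG x
  have hcop' : (Nat.card A).Coprime (Nat.card (G ⧸ frattini G)) := by
    apply Nat.Coprime.coprime_dvd_right _ hcop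
    rw [← Subgroup.index_eq_card]
    exact Subgroup.index_dvd_card _
  set σ := quotAction (frattini G) hΦinv with hσ
  set U := L.map π with hUdef
  have hU : ∀ a : A, ∀ u ∈ U, σ a u ∈ U := by
    rintro a _ ⟨x, hx, rfl⟩
    exact ⟨a • x, hL a x hx, rfl⟩
  obtain ⟨W', hW'inv, h1, h2⟩ :=
    exists_invariant_complement_of_elementary hcomm p hexp σ hcop' U hU
  have hLU : L = U.comap π := by
    rw [hUdef, Subgroup.comap_map_eq_self]
    rw [hker]; exact hΦL
  refine ⟨W'.comap π, ?_, ?_, ?_, ?_⟩
  · intro a x hx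
    exact hW'inv a _ hx
  · exact hker.ge.trans (Subgroup.ker_le_comap π W')
  · rw [hLU, ← Subgroup.comap_inf, h1, MonoidHom.comap_bot]
    exact hker
  · rw [hLU, Subgroup.comap_sup_eq _ _ _ hπs, h2, Subgroup.comap_top]

end maschke

end Cfsg.Agent.Lib.Helper23
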