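import Mathlib
import Cfsg.Prelude.Def_KGroupFacts
import Cfsg.Agent.Lib.Helper12.SchurMore

/-!
# S2088 piece [T] (for helper7): existence of a stem extension with kernel `A` together with the bound
`|ker| ≤ |A|` for all finite stem extensions gives `HasSchurMultiplier G A`.
-/

set_option autoImplicit false

namespace Cfsg.Agent.Lib.Helper7.L34

open Cfsg

universe u v

/-- [T] existence of a stem extension with kernel `A` + the bound `|ker| ≤ |A|` for all finite stem extensions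
give `HasSchurMultiplier G A`. -/
theorem hasSchurMultiplier_of_card_le {G : Type u} [Group G] [Finite G] {A : Type v} [CommGroup A] [Finite A]
    (hex : ∃ (Γ : Type u) (_ : Group Γ) (_ : Finite Γ) (σ : Γ →* G), IsStemExtension σ ∧
      Nonempty (σ.ker ≃* A))
    (hle : ∀ (Γ : Type u) [Group Γ] [Finite Γ] (σ : Γ →* G), IsStemExtension σ →
      Nat.card σ.ker ≤ Nat.card A) :
    HasSchurMultiplier G A := by
  obtain ⟨π, hπdef⟩ : ∃ π : FreeGroup G →* G, π = FreeGroup.lift id := ⟨_, rfl⟩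
  have hπ : Function.Surjective π := by
    rw [hπdef]; exact Cfsg.Agent.Lib.Helper12.Schur.lift_id_surjective G
  have hT := Cfsg.Agent.Lib.Helper12.Schur.hasSchurMultiplier_covT π hπ
  obtain ⟨Γ1, hg1, hf1, σ1, hσ1, ⟨e1⟩⟩ := hT.1
  obtain ⟨Γ0, hg0, hf0, σ0, hσ0, ⟨e0⟩⟩ := hex
  have : Finite (Cfsg.Agent.Lib.Helper12.Schur.covT π) := Finite.of_equiv _ e1.toEquiv
  have hcard : Nat.card (Cfsg.Agent.Lib.Helper12.Schur.covT π) ≤ Nat.card A := by
    rw [← Nat.card_congr e1.toEquiv]; exact hle Γ1 σ1 hσ1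
  obtain ⟨p0, hp0⟩ := hT.2 Γ0 σ0 hσ0
  have hsurj : Function.Surjective (e0.toMonoidHom.comp p0) := e0.surjective.comp hp0
  have hbij : Function.Bijective (e0.toMonoidHom.comp p0) :=
    hsurj.bijective_of_nat_card_le hcard
  refine ⟨⟨Γ0, hg0, hf0, σ0, hσ0, ⟨e0⟩⟩, ?_⟩
  intro Γ _ _ σ hσ
  obtain ⟨p, hp⟩ := hT.2 Γ σ hσ
  exact ⟨p.comp (MulEquiv.ofBijective _ hbij).symm.toMonoidHom,
    hp.comp (MulEquiv.ofBijective _ hbij).symm.surjective⟩

end Cfsg.Agent.Lib.Helper7.L34
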