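import Mathlib
import Cfsg.Prelude.Def_KGroupFacts
import Cfsg.Agent.H5.StemTC
import Cfsg.Agent.Lib.Helper5.Sp62Data
import Cfsg.Agent.Lib.Helper1.O8pData

/-!
# S2098 piece [E] (for helper1): the group presented by `relsW` is a stem extension of `Ω₈⁺(2)` with
kernel a four-group

`exists_cover_of` takes the statements of the pieces [C] (Todd–Coxeter bound), [M] (permutation model) and
[P] (perfectness) as hypotheses.  Only properties of `relsW` that survive an exchange of `conjW` are used:
the letters are `< 10` (by `decide`) and the five seventh powers belong to `relsW` (by its definition).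
The kernel is central because the generators have order dividing `7` and a `7`-group acting on a set of four
elements fixes all of them.
-/

set_option autoImplicit false
set_option linter.style.haveILetI false
set_option linter.unusedSectionVars false
set_option linter.unusedVariables false

namespace Cfsg.Agent.Lib.Helper1.O8p

open Cfsg Cfsg.H5.TCk

universe u

namespace Helper23

/-! ### words -/

theorem ev_congr' {Γ : Type*} [Group Γ] (g g' : ℕ → Γ) (t : ℕ) (h : ∀ i < t, g i = g' i)
    (w : List ℕ) (hw : w.all (fun l => decide (l < 2 * t)) = true) : ev g w = ev g' w := by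
  induction w with
  | nil => rfl
  | cons l w ih =>
    rw [List.all_cons, Bool.and_eq_true] at hw
    have hl : l < 2 * t := of_decide_eq_true hw.1
    have hl2 : l / 2 < t := by omega
    simp only [ev]
    rw [ih hw.2]
    congr 1
    unfold gl
    rw [h _ hl2]

theorem ev_replicate' {Γ : Type*} [Group Γ] (γ : ℕ → Γ) (n l : ℕ) :
    ev γ (List.replicate n l) = gl γ l ^ n := by
  induction n with
  | zero => simp [ev]
  | succ n ih => rw [List.replicate_succ, ev, ih, pow_succ']

set_option maxRecDepth 100000 in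
theorem relsW_all : ∀ r ∈ relsW, r.all (fun l => decide (l < 2 * 5)) = true := by
  decide +kernel

theorem wordZ1_all : wordZ1.all (fun l => decide (l < 2 * 5)) = true := by decide

theorem wordZ2_all : wordZ2.all (fun l => decide (l < 2 * 5)) = true := by decide

theorem pow7_mem (i : ℕ) (hi : i < 5) : List.replicate 7 (2 * i) ∈ relsW := by
  unfold relsW
  exact List.mem_append_left _ (List.mem_map.mpr ⟨i, List.mem_range.mpr hi, rfl⟩)

/-! ### the presented group -/

/-- the free generators as a sequence -/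
def fgen : ℕ → FreeGroup (ULift.{u} (Fin 5)) :=
  fun i => if h : i < 5 then FreeGroup.of (ULift.up ⟨i, h⟩) else 1

/-- the relators as elements of the free group -/
def relSet : Set (FreeGroup (ULift.{u} (Fin 5))) := {x | ∃ r ∈ relsW, x = ev fgen r}

/-- the group presented by `relsW` -/
abbrev Cover : Type u := PresentedGroup relSet.{u}

/-- its generators as a sequence -/
def cgen : ℕ → Cover.{u} := fun i => PresentedGroup.mk relSet (fgen i)

theorem cgen_rel (r : List ℕ) (hr : r ∈ relsW) : ev cgen.{u} r = 1 := by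
  have h1 := Cfsg.H5.StemTC.map_ev (PresentedGroup.mk relSet.{u}) fgen r
  have h2 : ev cgen.{u} r = PresentedGroup.mk relSet.{u} (ev fgen r) := h1.symm
  rw [h2]
  exact PresentedGroup.one_of_mem ⟨r, hr, rfl⟩

theorem cgen_pow7 (i : ℕ) (hi : i < 5) : cgen.{u} i ^ 7 = 1 := by
  have h := cgen_rel.{u} _ (pow7_mem i hi)
  rw [ev_replicate', gl_even] at h
  exact h

theorem closure_cgen :
    Subgroup.closure (Set.range fun i : Fin 5 => cgen.{u} i.val) = ⊤ := by
  rw [← PresentedGroup.closure_range_of relSet.{u}]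
  congr 1
  ext x
  constructor
  · rintro ⟨i, rfl⟩
    refine ⟨ULift.up i, ?_⟩
    show PresentedGroup.of (ULift.up i) = PresentedGroup.mk relSet (fgen i.val)
    unfold fgen
    rw [dif_pos i.2]
    rfl
  · rintro ⟨j, rfl⟩
    refine ⟨j.down, ?_⟩
    show PresentedGroup.mk relSet (fgen j.down.val) = PresentedGroup.of j
    unfold fgen
    rw [dif_pos j.down.2]
    rfl

/-- the universal property -/
theorem exists_hom {H : Type*} [Group H] (h : ℕ → H) (hrel : ∀ r ∈ relsW, ev h r = 1) :
    ∃ ψ : Cover.{u} →* H, ∀ w : List ℕ, w.all (fun l => decide (l < 2 * 5)) = true →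
      ψ (ev cgen w) = ev h w := by
  have hlift : ∀ i < 5, FreeGroup.lift (fun j : ULift.{u} (Fin 5) => h j.down.val) (fgen i) = h i := by
    intro i hi
    unfold fgen
    rw [dif_pos hi, FreeGroup.lift_apply_of]
  have hr : ∀ x ∈ relSet.{u}, FreeGroup.lift (fun j : ULift.{u} (Fin 5) => h j.down.val) x = 1 := by
    rintro x ⟨r, hr, rfl⟩
    rw [Cfsg.H5.StemTC.map_ev, ev_congr' _ h 5 hlift r (relsW_all r hr)]
    exact hrel r hr
  refine ⟨PresentedGroup.toGroup hr, fun w hw => ?_⟩
  rw [Cfsg.H5.StemTC.map_ev]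
  apply ev_congr' _ h 5 _ w hw
  intro i hi
  show PresentedGroup.toGroup hr (PresentedGroup.mk relSet (fgen i)) = h i
  unfold fgen
  rw [dif_pos hi]
  exact PresentedGroup.toGroup.of hr

/-! ### group-theoretic lemmas -/

theorem mem_center_of_gens {Γ : Type*} [Group Γ] (S : Set Γ) (hS : Subgroup.closure S = ⊤) (c : Γ)
    (hc : ∀ s ∈ S, s * c = c * s) : c ∈ Subgroup.center Γ := by
  rw [Subgroup.mem_center_iff]
  intro g
  have hg : g ∈ Subgroup.closure S := by rw [hS]; exact Subgroup.mem_top g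
  induction hg using Subgroup.closure_induction with
  | mem x hx => exact hc x hx
  | one => simp
  | mul x y _ _ hx hy => rw [mul_assoc, hy, ← mul_assoc, hx, mul_assoc]
  | inv x _ hx =>
    have := congrArg (fun z => x⁻¹ * z * x⁻¹) hx
    simpa [mul_assoc] using this.symm

/-- an element of order dividing `7` centralizes a normal subgroup of order `4` -/
theorem conj_fixed_of_pow_seven {Γ : Type*} [Group Γ] (N : Subgroup Γ) [hNn : N.Normal] [Finite N]
    (hN : Nat.card N = 4) (x : Γ) (hx : x ^ 7 = 1) (a : Γ) (ha : a ∈ N) : x * a * x⁻¹ = a := by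
  classical
  haveI : Fact (Nat.Prime 7) := ⟨by norm_num⟩
  have hP : IsPGroup 7 (Subgroup.zpowers x) := by
    intro y
    refine ⟨1, ?_⟩
    obtain ⟨k, hk⟩ := Subgroup.mem_zpowers_iff.mp y.2
    apply Subtype.ext
    rw [pow_one, Subgroup.coe_pow, Subgroup.coe_one, ← hk, ← zpow_natCast, ← zpow_mul, mul_comm,
      zpow_mul, zpow_natCast, hx, one_zpow]
  letI : MulAction (Subgroup.zpowers x) N :=
    MulAction.compHom N ((MulAut.conjNormal (H := N)).comp (Subgroup.zpowers x).subtype)
  have h := hP.card_modEq_card_fixedPoints N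
  have hle : Nat.card (MulAction.fixedPoints (Subgroup.zpowers x) N) ≤ Nat.card N :=
    Nat.card_le_card_of_injective Subtype.val Subtype.val_injective
  have heq : Nat.card (MulAction.fixedPoints (Subgroup.zpowers x) N) = Nat.card N := by
    rw [hN] at h hle ⊢
    unfold Nat.ModEq at h
    omega
  have huniv : MulAction.fixedPoints (Subgroup.zpowers x) N = Set.univ := by
    apply Set.eq_of_subset_of_ncard_le (Set.subset_univ _) _ Set.finite_univ
    rw [Set.ncard_univ, ← heq, Nat.card_coe_set_eq]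
  have hfix : (⟨a, ha⟩ : N) ∈ MulAction.fixedPoints (Subgroup.zpowers x) N := by
    rw [huniv]; exact Set.mem_univ _
  have h2 := hfix ⟨x, Subgroup.mem_zpowers x⟩
  have h3 : ((MulAut.conjNormal (H := N) x) ⟨a, ha⟩ : N) = ⟨a, ha⟩ := h2
  have h4 := congrArg Subtype.val h3
  rw [MulAut.conjNormal_apply] at h4
  exact h4

end Helper23

open Helper23 in
/-- [E] the cover: the group presented by `relsW`, with [C], [M], [P] as hypotheses -/
theorem exists_cover_of
    (hC : ∀ {Γ : Type u} [Group Γ] (γ : ℕ → Γ), (∀ r ∈ relsW, ev γ r = 1) →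
      Subgroup.closure (Set.range fun i : Fin 5 => γ i.val) = ⊤ → Finite Γ ∧ Nat.card Γ ≤ 696729600)
    (hM : ∃ p : ℕ → Equiv.Perm (Fin 480), (∀ r ∈ relsW, ev p r = 1) ∧
      ev p wordZ1 ≠ 1 ∧ ev p wordZ2 ≠ 1 ∧ ev p (wordZ1 ++ wordZ2) ≠ 1 ∧
      ev p (wordZ1 ++ wordZ1) = 1 ∧ ev p (wordZ2 ++ wordZ2) = 1)
    (hP : ∀ {G : Type u} [Group G] (g : ℕ → G),
      Subgroup.closure (Set.range fun i : Fin 5 => g i.val) = ⊤ → (∀ r ∈ relsW, ev g r = 1) →
      commutator G = ⊤)
    {G : Type u} [Group G] (g : ℕ → G) (hg : IsO8pTuple g) :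
    ∃ (Γ : Type u) (_ : Group Γ) (_ : Finite Γ) (σ : Γ →* G), IsStemExtension σ ∧
      Nonempty (σ.ker ≃* Multiplicative (ZMod 2 × ZMod 2)) := by
  classical
  obtain ⟨hcard, hgen, hrel, hz1, hz2⟩ := hg
  obtain ⟨z1, hz1def⟩ : ∃ z1 : Cover.{u}, z1 = ev cgen wordZ1 := ⟨_, rfl⟩
  obtain ⟨z2, hz2def⟩ : ∃ z2 : Cover.{u}, z2 = ev cgen wordZ2 := ⟨_, rfl⟩
  -- the homomorphism onto `G`
  obtain ⟨φ, hφ⟩ := exists_hom.{u} g hrel
  have hφgen : ∀ i : Fin 5, φ (cgen i.val) = g i.val := by
    intro i
    have := hφ [2 * i.val] (by fin_cases i <;> decide)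
    simpa [ev, gl_even] using this
  have hφsurj : Function.Surjective φ := by
    rw [← MonoidHom.range_eq_top, eq_top_iff, ← hgen, Subgroup.closure_le]
    rintro _ ⟨i, rfl⟩
    exact ⟨cgen i.val, hφgen i⟩
  have hz1ker : z1 ∈ φ.ker := by
    rw [MonoidHom.mem_ker, hz1def, hφ _ wordZ1_all]; exact hz1
  have hz2ker : z2 ∈ φ.ker := by
    rw [MonoidHom.mem_ker, hz2def, hφ _ wordZ2_all]; exact hz2
  -- the order of the cover
  obtain ⟨hfin, hcardC⟩ := hC (Γ := Cover.{u}) cgen (fun r hr => cgen_rel r hr) closure_cgen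
  have hcardker : Nat.card Cover.{u} = Nat.card G * Nat.card φ.ker := by
    rw [Subgroup.card_eq_card_quotient_mul_card_subgroup φ.ker,
      Nat.card_congr (QuotientGroup.quotientKerEquivOfSurjective φ hφsurj).toEquiv]
  have hkerle : Nat.card φ.ker ≤ 4 := by
    rw [hcard] at hcardker
    have h3 : 174182400 * Nat.card φ.ker ≤ 174182400 * 4 := by
      rw [← hcardker]; exact hcardC
    exact Nat.le_of_mul_le_mul_left h3 (by norm_num)
  -- the model
  obtain ⟨p, hprel, hp1, hp2, hp12, hp11, hp22⟩ := hM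
  obtain ⟨ψ, hψ⟩ := exists_hom.{u} p hprel
  have hψ1 : ψ z1 = ev p wordZ1 := by rw [hz1def, hψ _ wordZ1_all]
  have hψ2 : ψ z2 = ev p wordZ2 := by rw [hz2def, hψ _ wordZ2_all]
  have hn1 : ψ z1 ≠ 1 := by rw [hψ1]; exact hp1
  have hn2 : ψ z2 ≠ 1 := by rw [hψ2]; exact hp2
  have hn12 : ψ (z1 * z2) ≠ 1 := by rw [map_mul, hψ1, hψ2, ← ev_append]; exact hp12
  have hs1 : ψ (z1 * z1) = 1 := by rw [map_mul, hψ1, ← ev_append]; exact hp11
  have hs2 : ψ (z2 * z2) = 1 := by rw [map_mul, hψ2, ← ev_append]; exact hp22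
  have hne1 : z1 ≠ 1 := fun h => hn1 (by rw [h, map_one])
  have hne2 : z2 ≠ 1 := fun h => hn2 (by rw [h, map_one])
  have hne12 : z1 * z2 ≠ 1 := fun h => hn12 (by rw [h, map_one])
  have hne : z1 ≠ z2 := fun h => hn12 (by rw [← h]; exact hs1)
  -- the kernel has exactly the four elements `1, z1, z2, z1 z2`
  haveI : Finite φ.ker := inferInstance
  have hsub : (({1, z1, z2, z1 * z2} : Finset Cover.{u}) : Set Cover.{u}) ⊆ (φ.ker : Set Cover.{u}) := by
    intro x hx
    simp only [Finset.coe_insert, Finset.coe_singleton, Set.mem_insert_iff,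
      Set.mem_singleton_iff] at hx
    rcases hx with rfl | rfl | rfl | rfl
    · exact φ.ker.one_mem
    · exact hz1ker
    · exact hz2ker
    · exact φ.ker.mul_mem hz1ker hz2ker
  have hc4 : ({1, z1, z2, z1 * z2} : Finset Cover.{u}).card = 4 := by
    rw [Finset.card_insert_of_notMem, Finset.card_insert_of_notMem,
      Finset.card_insert_of_notMem, Finset.card_singleton]
    · simp only [Finset.mem_singleton]
      intro h
      apply hne1
      have := congrArg (· * z2⁻¹) h
      simpa [mul_assoc] using this.symm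
    · simp only [Finset.mem_insert, Finset.mem_singleton, not_or]
      refine ⟨hne, ?_⟩
      intro h
      apply hne2
      have := congrArg (z1⁻¹ * ·) h
      simpa [← mul_assoc] using this.symm
    · simp only [Finset.mem_insert, Finset.mem_singleton, not_or]
      exact ⟨Ne.symm hne1, Ne.symm hne2, Ne.symm hne12⟩
  have hkerfin : (φ.ker : Set Cover.{u}).Finite := Set.toFinite _
  have hker4 : Nat.card φ.ker = 4 := by
    apply le_antisymm hkerle
    rw [← SetLike.coe_sort_coe, Nat.card_coe_set_eq]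
    calc 4 = ({1, z1, z2, z1 * z2} : Finset Cover.{u}).card := hc4.symm
      _ = (({1, z1, z2, z1 * z2} : Finset Cover.{u}) : Set Cover.{u}).ncard :=
          (Set.ncard_coe_finset _).symm
      _ ≤ (φ.ker : Set Cover.{u}).ncard := Set.ncard_le_ncard hsub hkerfin
  have hkereq : (φ.ker : Set Cover.{u}) = (({1, z1, z2, z1 * z2} : Finset Cover.{u}) : Set Cover.{u}) := by
    symm
    apply Set.eq_of_subset_of_ncard_le hsub _ hkerfin
    rw [Set.ncard_coe_finset, hc4, ← Nat.card_coe_set_eq, SetLike.coe_sort_coe, hker4]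
  have hmem : ∀ k ∈ φ.ker, k = 1 ∨ k = z1 ∨ k = z2 ∨ k = z1 * z2 := by
    intro k hk
    have : k ∈ (φ.ker : Set Cover.{u}) := hk
    rw [hkereq] at this
    simpa using this
  -- an element of the kernel killed by `ψ` is trivial
  have hψinj : ∀ k ∈ φ.ker, ψ k = 1 → k = 1 := by
    intro k hk h
    rcases hmem k hk with h1 | h1 | h1 | h1
    · exact h1
    · exact absurd (h1 ▸ h) hn1
    · exact absurd (h1 ▸ h) hn2
    · exact absurd (h1 ▸ h) hn12
  have hsq1 : z1 * z1 = 1 := hψinj _ (φ.ker.mul_mem hz1ker hz1ker) hs1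
  have hsq2 : z2 * z2 = 1 := hψinj _ (φ.ker.mul_mem hz2ker hz2ker) hs2
  -- centrality: the generators have order dividing seven
  have hkercen : φ.ker ≤ Subgroup.center Cover.{u} := by
    intro k hk
    apply mem_center_of_gens _ closure_cgen k
    rintro _ ⟨i, rfl⟩
    have h := conj_fixed_of_pow_seven φ.ker hker4 (cgen i.val) (cgen_pow7 i.val i.2) k hk
    have := congrArg (· * cgen.{u} i.val) h
    simpa [mul_assoc] using this
  have hcomm12 : z2 * z1 = z1 * z2 :=
    Subgroup.mem_center_iff.mp (hkercen hz1ker) z2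
  -- Klein four
  have hexp : Monoid.exponent φ.ker = 2 := by
    have hdvd : Monoid.exponent φ.ker ∣ 2 := by
      apply Monoid.exponent_dvd_of_forall_pow_eq_one
      intro x
      apply Subtype.ext
      rw [Subgroup.coe_pow, Subgroup.coe_one, pow_two]
      rcases hmem x.1 x.2 with h | h | h | h <;> rw [h]
      · simp
      · exact hsq1
      · exact hsq2
      · rw [mul_assoc, ← mul_assoc z2, hcomm12, mul_assoc, hsq2, mul_one, hsq1]
    rcases (Nat.dvd_prime Nat.prime_two).mp hdvd with h | h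
    · exfalso
      rw [Monoid.exp_eq_one_iff] at h
      have := Nat.card_eq_one_iff_unique.mpr ⟨h, ⟨1⟩⟩
      omega
    · exact h
  haveI hK4 : IsKleinFour φ.ker := ⟨hker4, hexp⟩
  have hiso : Nonempty (φ.ker ≃* Multiplicative (ZMod 2 × ZMod 2)) := IsKleinFour.nonempty_mulEquiv
  -- perfectness
  have hperf : commutator Cover.{u} = ⊤ := hP cgen closure_cgen (fun r hr => cgen_rel r hr)
  refine ⟨Cover.{u}, inferInstance, hfin, φ, ⟨hφsurj, hkercen, ?_⟩, hiso⟩
  rw [hperf]; exact le_top

end Cfsg.Agent.Lib.Helper1.O8p
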