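import Mathlib

/-!
# TC6, field part (helper23): a monic quadratic `t² + t + c` over a finite field `F₀` has a root in the field `F`
with `|F| = |F₀|²`.
-/

set_option autoImplicit false

namespace Cfsg.Agent.Lib.Helper23.OETypeTC6

open Polynomial

theorem exists_root_quadratic {F : Type*} [Field F] [Fintype F] (F₀ : Subfield F)
    (hcard : Fintype.card F = Nat.card F₀ ^ 2) (c : F₀) : ∃ t : F, t ^ 2 + t + (c : F) = 0 := by
  classical
  set p : F₀[X] := X ^ 2 + X + C c with hp
  have hdeg : p.natDegree = 2 := by
    rw [hp]; compute_degree!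
  by_cases hroot : ∃ x : F₀, p.IsRoot x
  · obtain ⟨x, hx⟩ := hroot
    refine ⟨(x : F), ?_⟩
    have : x ^ 2 + x + c = 0 := by
      have := hx
      rw [hp, IsRoot.def] at this
      simpa using this
    have h2 := congrArg (fun y : F₀ => (y : F)) this
    simpa using h2
  · have hirr : Irreducible p := by
      apply irreducible_of_degree_le_three_of_not_isRoot
      · rw [hdeg]; decide
      · intro x hx; exact hroot ⟨x, hx⟩
    have hdvd : p ∣ X ^ Nat.card F₀ ^ 2 - X :=
      (hirr.natDegree_dvd_iff_dvd_X_pow_card_pow_sub_X (n := 2)).mp (by rw [hdeg])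
    have hmap : p.map (algebraMap F₀ F) ∣ (X ^ Nat.card F - X : F[X]) := by
      have := Polynomial.map_dvd (algebraMap F₀ F) hdvd
      rw [Polynomial.map_sub, Polynomial.map_pow, Polynomial.map_X] at this
      rw [Nat.card_eq_fintype_card, hcard]
      exact this
    have hne : (X ^ Nat.card F - X : F[X]) ≠ 0 := by
      rw [Nat.card_eq_fintype_card]
      exact FiniteField.X_pow_card_sub_X_ne_zero F Fintype.one_lt_card
    have hsplit : (p.map (algebraMap F₀ F)).Splits :=
      Splits.of_dvd splits_X_pow_nat_card_sub_X hne hmap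
    have hdeg' : (p.map (algebraMap F₀ F)).degree ≠ 0 := by
      rw [Polynomial.degree_map, Polynomial.degree_eq_natDegree (by
        intro h; rw [h] at hdeg; simp at hdeg), hdeg]
      norm_num
    obtain ⟨t, ht⟩ := hsplit.exists_eval_eq_zero hdeg'
    refine ⟨t, ?_⟩
    rw [hp] at ht
    have ht' : t ^ 2 + t + (algebraMap F₀ F) c = 0 := by simpa using ht
    exact ht'

end Cfsg.Agent.Lib.Helper23.OETypeTC6
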