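import Mathlib
import Cfsg.Prelude.Def_GeometricClasses

/-!
# TC6, descent part (helper23): the quadratic form `u ↦ ζ Q (P u)` on the `F₀`-points, as a Mathlib quadratic form
over the subfield `F₀`.
-/

set_option autoImplicit false
set_option linter.unusedSectionVars false

namespace Cfsg.Agent.Lib.Helper23.OETypeTC6

open Matrix Cfsg Cfsg.Geo QuadraticMap

variable {F : Type*} [Field F] {ι : Type} [Fintype ι] [DecidableEq ι]

/-- the embedding of the `F₀`-points -/
def emb (F₀ : Subfield F) (u : ι → F₀) : ι → F := fun i => (u i : F)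

theorem emb_add (F₀ : Subfield F) (u v : ι → F₀) : emb F₀ (u + v) = emb F₀ u + emb F₀ v := by
  funext i; simp [emb]

theorem emb_smul (F₀ : Subfield F) (a : F₀) (u : ι → F₀) : emb F₀ (a • u) = (a : F) • emb F₀ u := by
  funext i; simp [emb]

theorem emb_zero (F₀ : Subfield F) : emb F₀ (0 : ι → F₀) = 0 := by
  funext i; simp [emb]

theorem emb_injective (F₀ : Subfield F) : Function.Injective (emb (ι := ι) F₀) := by
  intro u v h
  funext i
  have := congrFun h i
  exact Subtype.ext this

theorem emb_single (F₀ : Subfield F) (i : ι) : emb F₀ (Pi.single i (1 : F₀)) = Pi.single i (1 : F) := by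
  funext j
  by_cases h : j = i
  · subst h; simp [emb]
  · simp [emb, Pi.single_eq_of_ne h]

/-- the transported and rescaled form -/
def QP (Q : (ι → F) → F) (P : GL ι F) (ζ : F) (v : ι → F) : F := ζ * Q ((P : Matrix ι ι F) *ᵥ v)

theorem polar_QP (Q : (ι → F) → F) (P : GL ι F) (ζ : F) (x y : ι → F) :
    polar (QP Q P ζ) x y = ζ * polar Q ((P : Matrix ι ι F) *ᵥ x) ((P : Matrix ι ι F) *ᵥ y) := by
  unfold polar QP
  rw [Matrix.mulVec_add]
  ring

theorem QP_smul {Q : (ι → F) → F} (hQ : IsNondegenerateQuadraticForm Q) (P : GL ι F) (ζ : F) (c : F)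
    (v : ι → F) : QP Q P ζ (c • v) = c ^ 2 * QP Q P ζ v := by
  unfold QP
  rw [Matrix.mulVec_smul, hQ.smul]
  ring

theorem isBilinearForm_polar_QP {Q : (ι → F) → F} (hQ : IsNondegenerateQuadraticForm Q) (P : GL ι F) (ζ : F) :
    IsBilinearForm (polar (QP Q P ζ)) where
  add_left x y v := by
    rw [polar_QP, polar_QP, polar_QP, Matrix.mulVec_add, hQ.polar_bilinear.add_left]; ring
  smul_left c x v := by
    rw [polar_QP, polar_QP, Matrix.mulVec_smul, hQ.polar_bilinear.smul_left]; ring
  add_right v x y := by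
    rw [polar_QP, polar_QP, polar_QP, Matrix.mulVec_add, hQ.polar_bilinear.add_right]; ring
  smul_right c v x := by
    rw [polar_QP, polar_QP, Matrix.mulVec_smul, hQ.polar_bilinear.smul_right]; ring

theorem QP_add (Q : (ι → F) → F) (P : GL ι F) (ζ : F) (x y : ι → F) :
    QP Q P ζ (x + y) = QP Q P ζ x + QP Q P ζ y + polar (QP Q P ζ) x y := by
  unfold polar; ring

theorem QP_zero {Q : (ι → F) → F} (hQ : IsNondegenerateQuadraticForm Q) (P : GL ι F) (ζ : F) :
    QP Q P ζ 0 = 0 := by
  have := QP_smul hQ P ζ 0 0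
  rw [zero_smul] at this
  rw [this]; ring

theorem polar_QP_self {Q : (ι → F) → F} (hQ : IsNondegenerateQuadraticForm Q) (P : GL ι F) (ζ : F)
    (x : ι → F) : polar (QP Q P ζ) x x = 2 * QP Q P ζ x := by
  have h := QP_smul hQ P ζ 2 x
  have h2 : (2 : F) • x = x + x := two_smul F x
  unfold polar
  rw [← h2, h]; ring

theorem polar_QP_comm (Q : (ι → F) → F) (P : GL ι F) (ζ : F) (x y : ι → F) :
    polar (QP Q P ζ) x y = polar (QP Q P ζ) y x := polar_comm _ x y

/-- membership of the polar values in `F₀` -/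
theorem polar_mem {Q : (ι → F) → F} {F₀ : Subfield F} {P : GL ι F} {ζ : F}
    (hrat : IsQuadFormRationalStructure (fun v => ζ * Q v) F₀ P) (u v : ι → F₀) :
    polar (QP Q P ζ) (emb F₀ u) (emb F₀ v) ∈ F₀ := by
  unfold polar
  rw [← emb_add]
  exact F₀.sub_mem (F₀.sub_mem (hrat _ (fun i => ((u + v) i).2)) (hrat _ (fun i => (u i).2)))
    (hrat _ (fun i => (v i).2))

/-- the companion bilinear map over `F₀` -/
noncomputable def B0 {Q : (ι → F) → F} (hQ : IsNondegenerateQuadraticForm Q) {F₀ : Subfield F} {P : GL ι F}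
    {ζ : F} (hrat : IsQuadFormRationalStructure (fun v => ζ * Q v) F₀ P) :
    LinearMap.BilinMap F₀ (ι → F₀) F₀ :=
  LinearMap.mk₂ F₀ (fun u v => ⟨polar (QP Q P ζ) (emb F₀ u) (emb F₀ v), polar_mem hrat u v⟩)
    (fun u u' v => by
      apply Subtype.ext
      simp only [Subfield.coe_add]
      rw [emb_add, (isBilinearForm_polar_QP hQ P ζ).add_left])
    (fun a u v => by
      apply Subtype.ext
      simp only [smul_eq_mul, Subfield.coe_mul]
      rw [emb_smul, (isBilinearForm_polar_QP hQ P ζ).smul_left])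
    (fun u v v' => by
      apply Subtype.ext
      simp only [Subfield.coe_add]
      rw [emb_add, (isBilinearForm_polar_QP hQ P ζ).add_right])
    (fun a u v => by
      apply Subtype.ext
      simp only [smul_eq_mul, Subfield.coe_mul]
      rw [emb_smul, (isBilinearForm_polar_QP hQ P ζ).smul_right])

/-- the quadratic form over `F₀` -/
noncomputable def q0 {Q : (ι → F) → F} (hQ : IsNondegenerateQuadraticForm Q) {F₀ : Subfield F} {P : GL ι F}
    {ζ : F} (hrat : IsQuadFormRationalStructure (fun v => ζ * Q v) F₀ P) :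
    QuadraticForm F₀ (ι → F₀) where
  toFun u := ⟨QP Q P ζ (emb F₀ u), hrat _ (fun i => (u i).2)⟩
  toFun_smul a u := by
    apply Subtype.ext
    simp only [smul_eq_mul, Subfield.coe_mul]
    rw [emb_smul, QP_smul hQ]
    ring
  exists_companion' := ⟨B0 hQ hrat, fun u v => by
    apply Subtype.ext
    simp only [Subfield.coe_add]
    rw [emb_add, QP_add]
    rfl⟩

theorem q0_coe {Q : (ι → F) → F} (hQ : IsNondegenerateQuadraticForm Q) {F₀ : Subfield F} {P : GL ι F}
    {ζ : F} (hrat : IsQuadFormRationalStructure (fun v => ζ * Q v) F₀ P) (u : ι → F₀) :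
    ((q0 hQ hrat u : F₀) : F) = QP Q P ζ (emb F₀ u) := rfl

theorem polar_q0_coe {Q : (ι → F) → F} (hQ : IsNondegenerateQuadraticForm Q) {F₀ : Subfield F} {P : GL ι F}
    {ζ : F} (hrat : IsQuadFormRationalStructure (fun v => ζ * Q v) F₀ P) (u v : ι → F₀) :
    ((polar (q0 hQ hrat) u v : F₀) : F) = polar (QP Q P ζ) (emb F₀ u) (emb F₀ v) := by
  unfold polar
  simp only [Subfield.coe_sub, q0_coe]
  rw [emb_add]

end Cfsg.Agent.Lib.Helper23.OETypeTC6
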