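import Mathlib
import Cfsg.Prelude.Def_GeometricClasses
import Cfsg.Agent.Lib.Helper23.OETypeTC6b

/-!
# TC6, part c (helper23): non-degeneracy of the descended form and totally singular spans
-/

set_option autoImplicit false
set_option linter.unusedSectionVars false

namespace Cfsg.Agent.Lib.Helper23.OETypeTC6

open Matrix Cfsg Cfsg.Geo QuadraticMap

variable {F : Type*} [Field F] {ι : Type} [Fintype ι] [DecidableEq ι]

/-- a linear functional from a bilinear form -/
def rightFun {f : (ι → F) → (ι → F) → F} (hf : IsBilinearForm f) (x : ι → F) : (ι → F) →ₗ[F] F where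
  toFun := f x
  map_add' := hf.add_right x
  map_smul' c v := by rw [hf.smul_right]; rfl

theorem bil_eq_zero_of_single {f : (ι → F) → (ι → F) → F} (hf : IsBilinearForm f) (x : ι → F)
    (h : ∀ i, f x (Pi.single i 1) = 0) (w : ι → F) : f x w = 0 := by
  have : rightFun hf x = 0 := by
    apply LinearMap.pi_ext
    intro i c
    have hc : (Pi.single i c : ι → F) = c • Pi.single i (1 : F) := by
      rw [← Pi.single_smul, smul_eq_mul, mul_one]
    rw [hc, map_smul]
    show c • f x (Pi.single i 1) = _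
    rw [h i]; simp
  have h2 := congrArg (fun L : (ι → F) →ₗ[F] F => L w) this
  exact h2

theorem P_inv_mulVec (P : GL ι F) (z : ι → F) :
    (P : Matrix ι ι F) *ᵥ (((P⁻¹ : GL ι F) : Matrix ι ι F) *ᵥ z) = z := by
  rw [Matrix.mulVec_mulVec, ← Units.val_mul, mul_inv_cancel, Units.val_one, Matrix.one_mulVec]

theorem inv_P_mulVec (P : GL ι F) (z : ι → F) :
    ((P⁻¹ : GL ι F) : Matrix ι ι F) *ᵥ ((P : Matrix ι ι F) *ᵥ z) = z := by
  rw [Matrix.mulVec_mulVec, ← Units.val_mul, inv_mul_cancel, Units.val_one, Matrix.one_mulVec]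

/-- the radical of the descended form is zero -/
theorem eq_zero_of_polar_q0 {Q : (ι → F) → F} (hQ : IsNondegenerateQuadraticForm Q) {F₀ : Subfield F}
    {P : GL ι F} {ζ : F} (hζ : ζ ≠ 0) (hrat : IsQuadFormRationalStructure (fun v => ζ * Q v) F₀ P)
    (u : ι → F₀) (h : ∀ v, polar (q0 hQ hrat) u v = 0) : u = 0 := by
  have h1 : ∀ w, polar (QP Q P ζ) (emb F₀ u) w = 0 := by
    apply bil_eq_zero_of_single (isBilinearForm_polar_QP hQ P ζ)
    intro i
    rw [← emb_single F₀ i, ← polar_q0_coe hQ hrat, h]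
    rfl
  have h2 : ∀ z, polar Q ((P : Matrix ι ι F) *ᵥ emb F₀ u) z = 0 := by
    intro z
    have := h1 (((P⁻¹ : GL ι F) : Matrix ι ι F) *ᵥ z)
    rw [polar_QP, P_inv_mulVec] at this
    rcases mul_eq_zero.mp this with h0 | h0
    · exact absurd h0 hζ
    · exact h0
  have h3 : (P : Matrix ι ι F) *ᵥ emb F₀ u = 0 := by
    by_contra hne
    obtain ⟨x, hx⟩ := (hQ.nondegenerate _ hne).2
    exact hx (h2 x)
  have h4 : emb F₀ u = 0 := by
    have := congrArg (fun z => ((P⁻¹ : GL ι F) : Matrix ι ι F) *ᵥ z) h3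
    simp only [inv_P_mulVec, Matrix.mulVec_zero] at this
    exact this
  apply emb_injective F₀
  rw [h4, emb_zero]

theorem nondegenerate_q0 {Q : (ι → F) → F} (hQ : IsNondegenerateQuadraticForm Q) {F₀ : Subfield F}
    {P : GL ι F} {ζ : F} (hζ : ζ ≠ 0) (hrat : IsQuadFormRationalStructure (fun v => ζ * Q v) F₀ P) :
    (polarBilin (q0 hQ hrat)).Nondegenerate := by
  constructor
  · intro u hu
    apply eq_zero_of_polar_q0 hQ hζ hrat u
    intro v
    have := hu v
    rwa [polarBilin_apply_apply] at this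
  · intro u hu
    apply eq_zero_of_polar_q0 hQ hζ hrat u
    intro v
    have := hu v
    rw [polarBilin_apply_apply] at this
    rw [polar_comm]
    exact this

/-- a family of pairwise orthogonal singular vectors spans a totally singular subspace -/
theorem QP_sum_eq_zero {Q : (ι → F) → F} (hQ : IsNondegenerateQuadraticForm Q) (P : GL ι F) (ζ : F)
    {κ : Type*} [DecidableEq κ] (g : κ → ι → F) (hg : ∀ i, QP Q P ζ (g i) = 0)
    (hgg : ∀ i j, polar (QP Q P ζ) (g i) (g j) = 0) (c : κ → F) (s : Finset κ) :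
    QP Q P ζ (∑ i ∈ s, c i • g i) = 0 ∧ ∀ j, polar (QP Q P ζ) (∑ i ∈ s, c i • g i) (g j) = 0 := by
  have hb := isBilinearForm_polar_QP hQ P ζ
  induction s using Finset.induction_on with
  | empty =>
    refine ⟨by simpa using QP_zero hQ P ζ, fun j => ?_⟩
    simp only [Finset.sum_empty]
    have := hb.smul_left 0 0 (g j)
    rw [zero_smul] at this
    rw [this]; ring
  | insert a s ha ih =>
    obtain ⟨ih1, ih2⟩ := ih
    rw [Finset.sum_insert ha]
    have hpol : ∀ j, polar (QP Q P ζ) (c a • g a + ∑ i ∈ s, c i • g i) (g j) = 0 := by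
      intro j
      rw [hb.add_left, hb.smul_left, hgg, ih2]; ring
    refine ⟨?_, hpol⟩
    rw [QP_add, QP_smul hQ, hg, ih1, hb.smul_left, polar_QP_comm, ih2]
    ring

end Cfsg.Agent.Lib.Helper23.OETypeTC6
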