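import Mathlib
import Cfsg.Prelude.Def_GeometricClasses
import Cfsg.Agent.Lib.Helper15.Witt4
import Cfsg.Agent.Lib.Helper23.OETypeTC6a
import Cfsg.Agent.Lib.Helper23.OETypeTC6c

/-!
# TC6 (helper23): an `F₀`-structure of index two carrying a multiple of `Q` forces plus type

`|F| = |F₀|²`, `Q` a non-degenerate quadratic form on `F^ι`, `|ι|` even, `ζ Q (P u) ∈ F₀` for all `F₀`-rational `u`:
then `Q` has a totally singular subspace of half the dimension.  Proof: Witt decomposition of the descended form over
`F₀` (helper15's `witt_main`); in the elliptic case the anisotropic plane `⟨x, y⟩` (`q x = 1`, `b(x,y) = 1`, `q y = ζ'`)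
becomes isotropic over `F`, because `t² + t + ζ'` has a root in `F`.
-/

set_option autoImplicit false
set_option linter.unusedSectionVars false

namespace Cfsg.Agent.Lib.Helper23.OETypeTC6

open Matrix Module Cfsg Cfsg.Geo QuadraticMap

variable {F : Type*} [Field F] {ι : Type} [Fintype ι] [DecidableEq ι]

/-- a linear functional from a bilinear form, left variable -/
def leftFun {f : (ι → F) → (ι → F) → F} (hf : IsBilinearForm f) (v : ι → F) : (ι → F) →ₗ[F] F where
  toFun x := f x v
  map_add' x y := hf.add_left x y v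
  map_smul' c x := by rw [hf.smul_left]; rfl

theorem bil_sum_left {f : (ι → F) → (ι → F) → F} (hf : IsBilinearForm f) {κ : Type*} (s : Finset κ)
    (c : κ → F) (g : κ → ι → F) (v : ι → F) :
    f (∑ i ∈ s, c i • g i) v = ∑ i ∈ s, c i * f (g i) v := by
  have := map_sum (leftFun hf v) (fun i => c i • g i) s
  simp only [leftFun, LinearMap.coe_mk, AddHom.coe_mk] at this
  rw [this]
  apply Finset.sum_congr rfl
  intro i _
  rw [hf.smul_left]

/-- the assembly: a linearly independent family of pairwise orthogonal singular vectors of half the dimension -/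
theorem plus_of_family {Q : (ι → F) → F} (hQ : IsNondegenerateQuadraticForm Q) (P : GL ι F) {ζ : F}
    (hζ : ζ ≠ 0) {κ : Type} [Fintype κ] [DecidableEq κ] (g : κ → ι → F) (hg : ∀ i, QP Q P ζ (g i) = 0)
    (hgg : ∀ i j, polar (QP Q P ζ) (g i) (g j) = 0) (hli : LinearIndependent F g)
    (hcard : 2 * Fintype.card κ = Fintype.card ι) : IsPlusTypeOn Q ⊤ := by
  classical
  refine ⟨Submodule.span F (Set.range (fun i => (P : Matrix ι ι F) *ᵥ g i)), le_top, ?_, ?_⟩
  · intro w hw
    obtain ⟨c, rfl⟩ := (Submodule.mem_span_range_iff_exists_fun F).mp hw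
    have h1 := (QP_sum_eq_zero hQ P ζ g hg hgg c Finset.univ).1
    have h2 : ∑ i, c i • ((P : Matrix ι ι F) *ᵥ g i) = (P : Matrix ι ι F) *ᵥ (∑ i, c i • g i) := by
      rw [Matrix.mulVec_sum]
      apply Finset.sum_congr rfl
      intro i _
      rw [Matrix.mulVec_smul]
    rw [h2]
    unfold QP at h1
    rcases mul_eq_zero.mp h1 with h0 | h0
    · exact absurd h0 hζ
    · exact h0
  · have hker : LinearMap.ker (Matrix.mulVecLin (P : Matrix ι ι F)) = ⊥ := by
      rw [LinearMap.ker_eq_bot']
      intro z hz
      rw [Matrix.mulVecLin_apply] at hz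
      have := congrArg (fun z => ((P⁻¹ : GL ι F) : Matrix ι ι F) *ᵥ z) hz
      simp only [inv_P_mulVec, Matrix.mulVec_zero] at this
      exact this
    have hli' : LinearIndependent F (fun i => (P : Matrix ι ι F) *ᵥ g i) := hli.map' _ hker
    rw [finrank_span_eq_card hli', finrank_top, Module.finrank_fintype_fun_eq_card, hcard]

/-- independence from a dual family -/
theorem linInd_of_dual {f : (ι → F) → (ι → F) → F} (hf : IsBilinearForm f) {κ : Type} [Fintype κ]
    [DecidableEq κ] (g h : κ → ι → F) (hgh : ∀ i j, f (g i) (h j) = if i = j then 1 else 0) :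
    LinearIndependent F g := by
  rw [Fintype.linearIndependent_iff]
  intro c hc j
  have h1 := bil_sum_left hf Finset.univ c g (h j)
  rw [hc] at h1
  have h0 : f 0 (h j) = 0 := by
    have := hf.smul_left 0 0 (h j)
    rw [zero_smul] at this
    rw [this]; ring
  rw [h0] at h1
  simp only [hgh, mul_ite, mul_one, mul_zero, Finset.sum_ite_eq', Finset.mem_univ, if_true] at h1
  exact h1.symm

/-- independence of a family extended by one vector killed by the dual family -/
theorem linInd_option {f : (ι → F) → (ι → F) → F} (hf : IsBilinearForm f) {κ : Type} [Fintype κ]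
    [DecidableEq κ] (g h : κ → ι → F) (w : ι → F) (hw : w ≠ 0)
    (hgh : ∀ i j, f (g i) (h j) = if i = j then 1 else 0) (hwh : ∀ j, f w (h j) = 0) :
    LinearIndependent F (fun o : Option κ => o.elim w g) := by
  rw [Fintype.linearIndependent_iff]
  intro c hc
  rw [Fintype.sum_option] at hc
  simp only [Option.elim] at hc
  have hj : ∀ j, c (some j) = 0 := by
    intro j
    have h1 := bil_sum_left hf Finset.univ (fun i => c (some i)) g (h j)
    have h2 : f (c none • w + ∑ i, c (some i) • g i) (h j) = 0 := by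
      rw [hc]
      have := hf.smul_left 0 0 (h j)
      rw [zero_smul] at this
      rw [this]; ring
    rw [hf.add_left, hf.smul_left, hwh, h1] at h2
    simp only [hgh, mul_ite, mul_one, mul_zero, Finset.sum_ite_eq', Finset.mem_univ, if_true] at h2
    simpa using h2
  have hnone : c none = 0 := by
    simp only [hj, zero_smul, Finset.sum_const_zero, add_zero] at hc
    rcases smul_eq_zero.mp hc with h0 | h0
    · exact h0
    · exact absurd h0 hw
  intro o
  cases o with
  | none => exact hnone
  | some j => exact hj j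

/-- **TC6**, generic index type -/
theorem plus_of_index_two_subfield_gen [Fintype F] {Q : (ι → F) → F} (hQ : IsNondegenerateQuadraticForm Q)
    (hn : Even (Fintype.card ι)) (F₀ : Subfield F) (P : GL ι F) (ζ : F) (hζ : ζ ≠ 0)
    (hcard : Fintype.card F = Nat.card F₀ ^ 2)
    (hrat : IsQuadFormRationalStructure (fun v => ζ * Q v) F₀ P) : IsPlusTypeOn Q ⊤ := by
  classical
  have hb := isBilinearForm_polar_QP hQ P ζ
  have hnd := nondegenerate_q0 hQ hζ hrat
  have hfr : finrank F₀ (ι → F₀) = Fintype.card ι := Module.finrank_fintype_fun_eq_card F₀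
  obtain ⟨k, e, f, ⟨he, hf, hef, hee, hff⟩, hcase⟩ :=
    Cfsg.Agent.Lib.Helper15.witt_main (F := F₀) (Fintype.card ι) (q0 hQ hrat) hnd hfr
  -- translation of the relations to `F`
  have he' : ∀ i, QP Q P ζ (emb F₀ (e i)) = 0 := by
    intro i
    rw [← q0_coe hQ hrat, he i]; rfl
  have hee' : ∀ i j, polar (QP Q P ζ) (emb F₀ (e i)) (emb F₀ (e j)) = 0 := by
    intro i j
    rw [← polar_q0_coe hQ hrat, hee i j]; rfl
  have hef' : ∀ i j, polar (QP Q P ζ) (emb F₀ (e i)) (emb F₀ (f j)) = if i = j then 1 else 0 := by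
    intro i j
    rw [← polar_q0_coe hQ hrat, hef i j]
    split_ifs <;> rfl
  rcases hcase with hd | ⟨hd, -⟩ | ⟨hd, x, y, ζ', hx, hxy, hy, hirr, hperp⟩
  · -- hyperbolic
    refine plus_of_family hQ P hζ (fun i : Fin k => emb F₀ (e i)) he' hee'
      (linInd_of_dual hb _ (fun j => emb F₀ (f j)) hef') ?_
    rw [Fintype.card_fin, ← hd]
  · -- odd dimension: impossible
    exfalso
    rcases hn with ⟨a, ha⟩
    omega
  · -- elliptic
    obtain ⟨t, ht⟩ := exists_root_quadratic F₀ hcard ζ'
    have hx' : QP Q P ζ (emb F₀ x) = 1 := by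
      rw [← q0_coe hQ hrat, hx]; rfl
    have hy' : QP Q P ζ (emb F₀ y) = (ζ' : F) := by
      rw [← q0_coe hQ hrat, hy]
    have hxy' : polar (QP Q P ζ) (emb F₀ x) (emb F₀ y) = 1 := by
      rw [← polar_q0_coe hQ hrat, hxy]; rfl
    have hxe : ∀ i, polar (QP Q P ζ) (emb F₀ x) (emb F₀ (e i)) = 0 := by
      intro i
      rw [← polar_q0_coe hQ hrat, (hperp i).1]; rfl
    have hxf : ∀ i, polar (QP Q P ζ) (emb F₀ x) (emb F₀ (f i)) = 0 := by
      intro i
      rw [← polar_q0_coe hQ hrat, (hperp i).2.1]; rfl
    have hye : ∀ i, polar (QP Q P ζ) (emb F₀ y) (emb F₀ (e i)) = 0 := by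
      intro i
      rw [← polar_q0_coe hQ hrat, (hperp i).2.2.1]; rfl
    have hyf : ∀ i, polar (QP Q P ζ) (emb F₀ y) (emb F₀ (f i)) = 0 := by
      intro i
      rw [← polar_q0_coe hQ hrat, (hperp i).2.2.2]; rfl
    set w : ι → F := t • emb F₀ x + emb F₀ y with hw
    have hwv : ∀ v, polar (QP Q P ζ) w v =
        t * polar (QP Q P ζ) (emb F₀ x) v + polar (QP Q P ζ) (emb F₀ y) v := by
      intro v
      rw [hw, hb.add_left, hb.smul_left]
    have hQw : QP Q P ζ w = 0 := by
      rw [hw, QP_add, QP_smul hQ, hx', hy', hb.smul_left, hxy']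
      linear_combination ht
    have hw0 : w ≠ 0 := by
      intro h0
      have h1 : polar (QP Q P ζ) w (emb F₀ y) = 0 := by
        rw [h0]
        have := hb.smul_left 0 0 (emb F₀ y)
        rw [zero_smul] at this
        rw [this]; ring
      rw [hwv, hxy', polar_QP_self hQ, hy'] at h1
      -- `t = -2 ζ'` is rational
      have ht2 : t = ((-(ζ' + ζ') : F₀) : F) := by
        push_cast
        linear_combination h1
      have h3 : ((( -(ζ' + ζ')) ^ 2 + (-(ζ' + ζ')) + ζ' : F₀) : F) = 0 := by
        push_cast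
        rw [ht2] at ht
        push_cast at ht
        exact ht
      have h4 : (-(ζ' + ζ')) ^ 2 + (-(ζ' + ζ')) + ζ' = 0 := by
        exact_mod_cast h3
      exact hirr _ h4
    have hli := linInd_option hb (fun i : Fin k => emb F₀ (e i)) (fun j => emb F₀ (f j)) w hw0 hef'
      (fun j => by rw [hwv, hxf, hyf]; ring)
    refine plus_of_family hQ P hζ (fun o : Option (Fin k) => o.elim w (fun i => emb F₀ (e i))) ?_ ?_ hli ?_
    · intro o
      cases o with
      | none => exact hQw
      | some i => exact he' i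
    · intro o o'
      cases o with
      | none =>
        cases o' with
        | none =>
          simp only [Option.elim]
          rw [polar_QP_self hQ, hQw]; ring
        | some j =>
          simp only [Option.elim]
          rw [hwv, hxe, hye]; ring
      | some i =>
        cases o' with
        | none =>
          simp only [Option.elim]
          rw [polar_QP_comm, hwv, hxe, hye]; ring
        | some j => exact hee' i j
    · rw [Fintype.card_option, Fintype.card_fin, hd]; ring

/-- **TC6** on `Fin n` -/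
theorem plus_of_index_two_subfield [Fintype F] {n : ℕ} {Q : (Fin n → F) → F}
    (hQ : IsNondegenerateQuadraticForm Q) (hn : Even n) (F₀ : Subfield F) (P : GL (Fin n) F) (ζ : F)
    (hζ : ζ ≠ 0) (hcard : Fintype.card F = Nat.card F₀ ^ 2)
    (hrat : IsQuadFormRationalStructure (fun v => ζ * Q v) F₀ P) : IsPlusTypeOn Q ⊤ :=
  plus_of_index_two_subfield_gen hQ (by rwa [Fintype.card_fin]) F₀ P ζ hζ hcard hrat

/-- **TC6** with the exact signature of `notes/OETypeSkel_helper7.lean.txt` -/
theorem isPlusTypeOn_top_of_subfield_two [Fintype F] {Q : (ι → F) → F} (hQ : IsNondegenerateQuadraticForm Q)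
    (hn : Even (Fintype.card ι)) (F₀ : Subfield F) (hcard : Fintype.card F = Nat.card F₀ ^ 2) (P : GL ι F)
    (ζ : F) (hζ : ζ ≠ 0) (hrat : IsQuadFormRationalStructure (fun v => ζ * Q v) F₀ P) : IsPlusTypeOn Q ⊤ :=
  plus_of_index_two_subfield_gen hQ hn F₀ P ζ hζ hcard hrat

end Cfsg.Agent.Lib.Helper23.OETypeTC6
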