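import Mathlib
import Cfsg.Agent.Lib.Helper1.SubfSLDefs
import Cfsg.Agent.Lib.Helper1.SubfSLEmb
import Cfsg.Agent.Lib.Helper15.Dk21

/-!
# S5639 FO-D1: the `Cfg` case of the Dickson application (farm-out piece for helper1)
-/

set_option autoImplicit false

namespace Cfsg.Agent.Lib.Helper23.S5639FOD1

open Matrix Cfsg.Agent.Lib.Helper13 Cfsg.Agent.Lib.Helper1.SubfSL
open Cfsg.Agent.Lib.Helper15.Dk Cfsg.Agent.Lib.Helper14 Cfsg.Agent.Lib.Helper15

variable {F : Type*} [Field F]

theorem neg_uu_sq (x : F) :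
    (-(uu x : SpecialLinearGroup (Fin 2) F)) * (-(uu x)) = uu (2 * x) := by
  rw [neg_mul_neg, uu_mul, two_mul]

/-- FO-D1: the `Cfg` case. -/
theorem app_cfg (h2 : (2 : F) ≠ 0) [Finite F] (K : Subfield F) (κ : F) (hκ : κ ∉ K)
    (D : Subgroup (SpecialLinearGroup (Fin 2) F)) (hW : (Wm : SpecialLinearGroup (Fin 2) F) ∈ D)
    (c : Cfg ((D.map (toPSL2 F)).comap (toPSL2 F)) κ Wm) :
    ∃ k : F, k ∉ K ∧ uu (k * κ) ∈ D := by
  obtain ⟨lam, hlam, c00, h00, c01, h01, c10, h10, c11, h11, e00, e01, e10, e11⟩ := c.core Wm c.hw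
  have hκ0 : κ ≠ 0 := c.hb₁
  have w01 : ((Wm : SpecialLinearGroup (Fin 2) F) : Matrix (Fin 2) (Fin 2) F) 0 1 = -1 := by
    simp [Wm]
  have w11 : ((Wm : SpecialLinearGroup (Fin 2) F) : Matrix (Fin 2) (Fin 2) F) 1 1 = 2 := by
    simp [Wm]
  rw [w01] at e01
  rw [w11] at e11
  have hc11 : c11 ≠ 0 := by
    rintro rfl
    rw [mul_zero] at e11
    exact h2 e11
  have hc01 : c01 ≠ 0 := by
    rintro rfl
    rw [mul_zero, zero_mul] at e01
    exact one_ne_zero (neg_eq_zero.mp e01)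
  -- κ = - c11 / (2 c01)
  have h2K : (2 : F) ∈ multField ((D.map (toPSL2 F)).comap (toPSL2 F)) := by
    have := (multField ((D.map (toPSL2 F)).comap (toPSL2 F))).add_mem
      (multField ((D.map (toPSL2 F)).comap (toPSL2 F))).one_mem
      (multField ((D.map (toPSL2 F)).comap (toPSL2 F))).one_mem
    rwa [one_add_one_eq_two] at this
  have hκK : κ ∈ multField ((D.map (toPSL2 F)).comap (toPSL2 F)) := by
    have e0 : lam * (κ * (2 * c01) + c11) = 0 := by
      linear_combination (-2) * e01 - e11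
    have e1 : κ * (2 * c01) + c11 = 0 := (mul_eq_zero.mp e0).resolve_left hlam
    have e : κ = -c11 / (2 * c01) := by
      rw [eq_div_iff (mul_ne_zero h2 hc01)]
      linear_combination e1
    rw [e]
    exact (multField _).div_mem ((multField _).neg_mem h11) ((multField _).mul_mem h2K h01)
  have hmem : uu (κ * κ) ∈ (D.map (toPSL2 F)).comap (toPSL2 F) :=
    (mem_multField _ κ).1 hκK κ c.hu
  rw [Subgroup.mem_comap, Subgroup.mem_map] at hmem
  obtain ⟨d, hd, hdeq⟩ := hmem
  rcases (toPSL2_eq_iff h2 d (uu (κ * κ))).1 hdeq with h | h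
  · exact ⟨κ, hκ, by rw [h]; exact hd⟩
  · refine ⟨2 * κ, ?_, ?_⟩
    · intro hk
      apply hκ
      have h2' : (2 : F) ∈ K := by
        have := K.add_mem K.one_mem K.one_mem
        rwa [one_add_one_eq_two] at this
      have : κ = (2 * κ) / 2 := by field_simp
      rw [this]
      exact K.div_mem hk h2'
    · have hd' : -(uu (κ * κ) : SpecialLinearGroup (Fin 2) F) ∈ D := by
        have : d = -uu (κ * κ) := by rw [h, neg_neg]
        rw [← this]; exact hd
      have := D.mul_mem hd' hd'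
      rw [neg_uu_sq] at this
      rw [mul_assoc]
      exact this

end Cfsg.Agent.Lib.Helper23.S5639FOD1
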