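import Mathlib
import Cfsg.Agent.Lib.Helper1.SubfSLDefs

/-!
# S5639 FO-G3: an element of `M \ H` mapping a rational point to a rational point
(farm-out piece for helper1).  `good_of_fix_rat_point_aux` takes the FO-G1' lemma
(`good_of_rat_center`) as a hypothesis `G1P K M`.
-/

set_option autoImplicit false

namespace Cfsg.Agent.Lib.Helper23.S5639FOG3

open Matrix Cfsg.Agent.Lib.Helper13 Cfsg.Agent.Lib.Helper1.SubfSL

variable {F : Type*} [Field F] {n : ℕ}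

/-- the conclusion of FO-G1' (`good_of_rat_center`) for a given `K`, `M` -/
def G1P (K : Subfield F) (M : Subgroup (GL (Fin n) F)) : Prop :=
  ∀ (u : Fin n → K), u ≠ 0 → ∀ ψ : Fin n → F, ψ ⬝ᵥ rvec K u = 0 → ¬ IsRat K ψ →
    InM M (tv (rvec K u) ψ) → Good K M

theorem vecMul_tv3 (φ a ψ : Fin n → F) : φ ᵥ* tv a ψ = φ + (φ ⬝ᵥ a) • ψ := by
  rw [tv, vecMul_add, vecMul_one, vecMul_vecMulVec]

theorem tv_smul_left3 (c : F) (a ψ : Fin n → F) : tv (c • a) ψ = tv a (c • ψ) := by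
  rw [tv, tv, smul_vecMulVec, vecMulVec_smul]

theorem rvec_ne_zero3 (K : Subfield F) {u : Fin n → K} (hu : u ≠ 0) : rvec K u ≠ 0 := by
  intro h
  apply hu
  apply rvec_inj K
  rw [h, rvec_zero]

theorem mat_ext_rows {A C : Matrix (Fin n) (Fin n) F}
    (h : ∀ i, (Pi.single i (1 : F) : Fin n → F) ᵥ* A = (Pi.single i (1 : F) : Fin n → F) ᵥ* C) :
    A = C := by
  ext i j
  have := congrFun (h i) j
  rwa [single_one_vecMul, single_one_vecMul] at this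

theorem exists_dual_one (K : Subfield F) {u : Fin n → K} (hu : u ≠ 0) :
    ∃ φ : Fin n → K, φ ⬝ᵥ u = 1 := by
  classical
  obtain ⟨i, hi⟩ : ∃ i, u i ≠ 0 := by
    by_contra hcon
    push Not at hcon
    exact hu (funext hcon)
  refine ⟨Pi.single i (u i)⁻¹, ?_⟩
  rw [single_dotProduct, inv_mul_cancel₀ hi]

/-- FO-G3 with FO-G1' as a hypothesis -/
theorem good_of_fix_rat_point_aux (K : Subfield F) (M : Subgroup (GL (Fin n) F))
    (hG1 : G1P K M)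
    (hH : H1 K n ≤ M) (ε : GL (Fin n) F) (hεM : ε ∈ M)
    (hεS : ε ∈ Cfsg.Geo.specialLinear (Fin n) F)
    (hεH : ε ∉ Cfsg.Geo.subfieldSubgroup K (1 : GL (Fin n) F))
    (u u' : Fin n → K) (hu : u ≠ 0) (θ : F)
    (h : (ε : Matrix (Fin n) (Fin n) F) *ᵥ rvec K u = θ • rvec K u') : Good K M := by
  classical
  have hEiE : ((ε⁻¹ : GL (Fin n) F) : Matrix (Fin n) (Fin n) F) * (ε : Matrix (Fin n) (Fin n) F) = 1 := by
    rw [← Units.val_mul, inv_mul_cancel, Units.val_one]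
  have hEEi : (ε : Matrix (Fin n) (Fin n) F) * ((ε⁻¹ : GL (Fin n) F) : Matrix (Fin n) (Fin n) F) = 1 := by
    rw [← Units.val_mul, mul_inv_cancel, Units.val_one]
  obtain ⟨E, hE⟩ : ∃ E : Matrix (Fin n) (Fin n) F, E = (ε : Matrix (Fin n) (Fin n) F) := ⟨_, rfl⟩
  obtain ⟨Ei, hEi⟩ : ∃ Ei : Matrix (Fin n) (Fin n) F,
      Ei = ((ε⁻¹ : GL (Fin n) F) : Matrix (Fin n) (Fin n) F) := ⟨_, rfl⟩
  rw [← hE, ← hEi] at hEiE hEEi
  rw [← hE] at h
  have hū : rvec K u ≠ 0 := rvec_ne_zero3 K hu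
  have hEū : E *ᵥ rvec K u ≠ 0 := by
    intro h0
    apply hū
    have := congrArg (fun v => Ei *ᵥ v) h0
    simpa [mulVec_mulVec, hEiE] using this
  have hθ : θ ≠ 0 := by
    rintro rfl
    rw [zero_smul] at h
    exact hEū h
  have hu' : u' ≠ 0 := by
    rintro rfl
    rw [rvec_zero, smul_zero] at h
    exact hEū h
  -- Ei ū' = θ⁻¹ ū
  have key1 : Ei *ᵥ rvec K u' = θ⁻¹ • rvec K u := by
    have := congrArg (fun v => θ⁻¹ • (Ei *ᵥ v)) h
    simp only [mulVec_mulVec, hEiE, one_mulVec, mulVec_smul, smul_smul, inv_mul_cancel₀ hθ,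
      one_smul] at this
    exact this.symm
  -- Step 1
  have step1 : ∀ φ₁ : Fin n → K, φ₁ ⬝ᵥ u = 0 →
      InM M (tv (rvec K u') (θ • (rvec K φ₁ ᵥ* Ei))) := by
    intro φ₁ h1
    have hA : InM M (tv (rvec K u) ((rvec K φ₁ ᵥ* Ei) ᵥ* (ε : Matrix (Fin n) (Fin n) F))) := by
      rw [← hE, vecMul_vecMul, hEiE, vecMul_one]
      exact (rat_tv_mem K u φ₁ h1).mono hH
    have := InM.conj_tv hεM hA
    rw [← hE, h, tv_smul_left3] at this
    exact this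
  have dot1 : ∀ φ₁ : Fin n → K, φ₁ ⬝ᵥ u = 0 →
      (θ • (rvec K φ₁ ᵥ* Ei)) ⬝ᵥ rvec K u' = 0 := by
    intro φ₁ h1
    rw [smul_dotProduct, ← dotProduct_mulVec, key1, dotProduct_smul, rvec_dot, h1]
    simp
  by_cases hall : ∀ φ₁ : Fin n → K, φ₁ ⬝ᵥ u = 0 → IsRat K (θ • (rvec K φ₁ ᵥ* Ei))
  swap
  · push Not at hall
    obtain ⟨φ₁, h1, hnr⟩ := hall
    exact hG1 u' hu' _ (dot1 φ₁ h1) hnr (step1 φ₁ h1)
  -- all rational
  obtain ⟨φs, hφs⟩ := exists_dual_one K hu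
  obtain ⟨ρs, hρs⟩ := exists_dual_one K hu'
  have hχ : ∀ i : Fin n, ((Pi.single i (1 : K) : Fin n → K) - (u i) • φs) ⬝ᵥ u = 0 := by
    intro i
    rw [sub_dotProduct, smul_dotProduct, hφs, single_dotProduct]
    simp
  choose r hr using fun i => hall _ (hχ i)
  obtain ⟨B, hB⟩ : ∃ B : Matrix (Fin n) (Fin n) K, B = Matrix.of fun i j => r i j + u i * ρs j :=
    ⟨_, rfl⟩
  obtain ⟨c, hc⟩ : ∃ c : Fin n → F, c = rvec K ρs - θ • (rvec K φs ᵥ* Ei) := ⟨_, rfl⟩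
  have hc0 : c ⬝ᵥ rvec K u' = 0 := by
    rw [hc, sub_dotProduct, smul_dotProduct, ← dotProduct_mulVec, key1, dotProduct_smul, rvec_dot,
      rvec_dot, hρs, hφs]
    simp [hθ]
  have hnc0 : (-c) ⬝ᵥ rvec K u' = 0 := by rw [neg_dotProduct, hc0, neg_zero]
  -- rows of rmat K B
  have hrow : ∀ i : Fin n, (Pi.single i (1 : F) : Fin n → F) ᵥ* rmat K B =
      rvec K (r i) + ((u i : K) : F) • rvec K ρs := by
    intro i
    rw [single_one_vecMul]
    ext j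
    simp [rmat, hB, rvec]
  have hri : ∀ i : Fin n, rvec K (r i) =
      θ • ((Pi.single i (1 : F) : Fin n → F) ᵥ* Ei) - ((u i : K) : F) • (θ • (rvec K φs ᵥ* Ei)) := by
    intro i
    rw [← hr i, rvec_sub, rvec_smul, rvec_single, sub_vecMul, smul_vecMul, smul_sub, smul_comm]
  have hrdot : ∀ i : Fin n, rvec K (r i) ⬝ᵥ rvec K u' = 0 := by
    intro i
    rw [← hr i]
    exact dot1 _ (hχ i)
  -- θ • Ei = rmat K B * tv ū' (-c)
  have hfac : θ • Ei = rmat K B * tv (rvec K u') (-c) := by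
    apply mat_ext_rows
    intro i
    rw [← vecMul_vecMul, hrow, vecMul_tv3, add_dotProduct, hrdot, smul_dotProduct, rvec_dot, hρs,
      vecMul_smul, hri i, hc]
    simp only [zero_add, smul_eq_mul, Subfield.coe_one, mul_one]
    module
  -- the rational part
  obtain ⟨t, ht, htS⟩ := exists_tvGL (rvec K u') c hc0
  have hEi' : Ei = θ⁻¹ • (rmat K B * tv (rvec K u') (-c)) := by
    rw [← hfac, smul_smul, inv_mul_cancel₀ hθ, one_smul]
  have hgval : ((ε⁻¹ * t : GL (Fin n) F) : Matrix (Fin n) (Fin n) F) = θ⁻¹ • rmat K B := by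
    rw [Units.val_mul, ← hEi, ht, hEi', smul_mul_assoc, mul_assoc, tv_neg_mul_tv _ _ hc0, mul_one]
  have hgsub : ε⁻¹ * t ∈ Cfsg.Geo.subfieldSubgroup K (1 : GL (Fin n) F) :=
    mem_subfield_one_of_eq K _ θ⁻¹ (inv_ne_zero hθ) B hgval
  have hgS : ε⁻¹ * t ∈ Cfsg.Geo.specialLinear (Fin n) F :=
    Subgroup.mul_mem _ (Subgroup.inv_mem _ hεS) htS
  have hgM : ε⁻¹ * t ∈ M := hH ⟨hgsub, hgS⟩
  have htM : t ∈ M := by
    have := M.mul_mem hεM hgM
    rwa [mul_inv_cancel_left] at this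
  have hcnr : ¬ IsRat K c := by
    rintro ⟨c₀, hc₀⟩
    apply hεH
    have hc₀0 : c₀ ⬝ᵥ u' = 0 := by
      rw [hc₀, rvec_dot] at hc0
      exact_mod_cast hc0
    obtain ⟨t₂, ht₂, ht₂v⟩ := rat_tv_mem K u' c₀ hc₀0
    have htt : t = t₂ := by
      apply Units.ext
      rw [ht, ht₂v, hc₀]
    have htsub : t ∈ Cfsg.Geo.subfieldSubgroup K (1 : GL (Fin n) F) := by
      rw [htt]; exact ht₂.1
    have := Subgroup.mul_mem _ htsub (Subgroup.inv_mem _ hgsub)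
    rwa [_root_.mul_inv_rev, inv_inv, mul_inv_cancel_left] at this
  exact hG1 u' hu' c hc0 hcnr ⟨t, htM, ht⟩

end Cfsg.Agent.Lib.Helper23.S5639FOG3
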