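import Mathlib
import Cfsg.Agent.Lib.Helper1.SubfSLDefs
import Cfsg.Agent.Lib.Helper7.S5639FOG
import Cfsg.Agent.Lib.Helper23.S5639FOG3

/-!
# S5639 FO-G3, exact skeleton signature (uses helper7's FO-G1' `good_of_rat_center`)
-/

set_option autoImplicit false

namespace Cfsg.Agent.Lib.Helper23.S5639FOG3

open Matrix Cfsg.Agent.Lib.Helper13 Cfsg.Agent.Lib.Helper1.SubfSL

variable {F : Type*} [Field F] {n : ℕ}

/-- FO-G3: an element of `M \ H` mapping a rational point to a rational point gives `Good`. -/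
theorem good_of_fix_rat_point (hn : 3 ≤ n) (K : Subfield F) (M : Subgroup (GL (Fin n) F))
    (hH : H1 K n ≤ M) (ε : GL (Fin n) F) (hεM : ε ∈ M)
    (hεS : ε ∈ Cfsg.Geo.specialLinear (Fin n) F)
    (hεH : ε ∉ Cfsg.Geo.subfieldSubgroup K (1 : GL (Fin n) F))
    (u u' : Fin n → K) (hu : u ≠ 0) (θ : F)
    (h : (ε : Matrix (Fin n) (Fin n) F) *ᵥ rvec K u = θ • rvec K u') : Good K M :=
  good_of_fix_rat_point_aux K M
    (fun u hu ψ hψ hψr h => Cfsg.Agent.Lib.Helper7.S5639.good_of_rat_center hn K M hH u hu ψ hψ hψr h)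
    hH ε hεM hεS hεH u u' hu θ h

end Cfsg.Agent.Lib.Helper23.S5639FOG3
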