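/-
helper23: farm-out piece B9 (`np_base_even`) for helper14's S2281.
Exact signature of notes/S2281_farmout_sigs_B.lean.txt.
-/
import Mathlib
import Cfsg.Agent.Lib.Helper14.RU0
import Cfsg.Agent.Lib.Helper14.RU1
import Cfsg.Agent.Lib.Helper2.RUGrow

set_option autoImplicit false

namespace Cfsg.Agent.Lib.Helper23.RU

open Matrix Cfsg.Agent.Lib.Helper6 Cfsg.Agent.Lib.Helper9.SpGen Cfsg.Agent.Lib.Helper14
  Cfsg.Agent.Lib.Helper14.RU

section general
variable {m : ℕ} {F : Type*} [Field F]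

local notation "ff" => Cfsg.sympForm m F
local notation "VV" => (Fin m ⊕ Fin m → F)

/-- a hyperbolic pair inside `X` spans a nondegenerate plane all of whose nonzero vectors are
in `X` -/
theorem pair_base (X : Set VV)
    (H1 : ∀ u v, u ∈ X → v ∈ X → ff u v ≠ 0 → ∀ l : F, u + l • v ∈ X)
    (H2 : ∀ u, u ∈ X → ∀ l : F, l ≠ 0 → l • u ∈ X)
    (a b : VV) (ha : a ∈ X) (hb : b ∈ X) (hab : ff a b ≠ 0) :
    (∀ w ∈ Submodule.span F {a, b}, w ≠ 0 → w ∈ X) ∧
    (∀ w ∈ Submodule.span F {a, b}, w ≠ 0 → ∃ z ∈ Submodule.span F {a, b}, ff w z ≠ 0) := by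
  have hba : ff b a ≠ 0 := by
    rw [sympForm_swap]; exact neg_ne_zero.mpr hab
  have haS : a ∈ Submodule.span F {a, b} := Submodule.subset_span (by simp)
  have hbS : b ∈ Submodule.span F {a, b} := Submodule.subset_span (by simp)
  constructor
  · intro w hw hw0
    obtain ⟨α, β, rfl⟩ := Submodule.mem_span_pair.mp hw
    by_cases hβ : β = 0
    · have hα : α ≠ 0 := by
        intro hα
        apply hw0
        rw [hα, hβ, zero_smul, zero_smul, add_zero]
      rw [hβ, zero_smul, add_zero]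
      exact H2 a ha α hα
    · have h1 := H2 b hb β hβ
      have hne : ff (β • b) a ≠ 0 := by
        rw [sympForm_smul_left]; exact mul_ne_zero hβ hba
      have h2 := H1 _ _ h1 ha hne α
      rwa [add_comm] at h2
  · intro w hw hw0
    obtain ⟨α, β, rfl⟩ := Submodule.mem_span_pair.mp hw
    by_cases hα : α = 0
    · have hβ : β ≠ 0 := by
        intro hβ
        apply hw0
        rw [hα, hβ, zero_smul, zero_smul, add_zero]
      refine ⟨a, haS, ?_⟩
      rw [hα, zero_smul, zero_add, sympForm_smul_left]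
      exact mul_ne_zero hβ hba
    · refine ⟨b, hbS, ?_⟩
      rw [sympForm_add_left, sympForm_smul_left, sympForm_smul_left, sympForm_self, mul_zero,
        add_zero]
      exact mul_ne_zero hα hab

/-- orthogonality to a span of a pair -/
theorem orth_span_pair {z a b : VV} (h1 : ff z a = 0) (h2 : ff z b = 0) :
    ∀ u ∈ Submodule.span F {a, b}, ff z u = 0 := by
  intro u hu
  obtain ⟨α, β, rfl⟩ := Submodule.mem_span_pair.mp hu
  rw [sympForm_add_right, sympForm_smul_right, sympForm_smul_right, h1, h2, mul_zero, mul_zero,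
    add_zero]

/-- orthogonality to a sup -/
theorem orth_sup {z : VV} {W W' : Submodule F VV} (h1 : ∀ u ∈ W, ff z u = 0)
    (h2 : ∀ u ∈ W', ff z u = 0) : ∀ u ∈ W ⊔ W', ff z u = 0 := by
  intro u hu
  obtain ⟨y, hy, p, hp, rfl⟩ := Submodule.mem_sup.mp hu
  rw [sympForm_add_right, h1 y hy, h2 p hp, add_zero]

end general

section
variable {k : ℕ} {F : Type*} [Field F]

local notation "ff" => Cfsg.sympForm (k + 3) F
local notation "VV" => (Fin (k + 3) ⊕ Fin (k + 3) → F)

theorem fin3_val_two : ((2 : Fin (k + 3)) : ℕ) = 2 := by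
  show 2 % (k + 3) = 2
  exact Nat.mod_eq_of_lt (by omega)
theorem fin3_val_one : ((1 : Fin (k + 3)) : ℕ) = 1 := by
  show 1 % (k + 3) = 1
  exact Nat.mod_eq_of_lt (by omega)
theorem fin3_ne_10 : (1 : Fin (k + 3)) ≠ 0 := by
  intro h; have := congrArg Fin.val h; rw [fin3_val_one] at this; simp at this
theorem fin3_ne_20 : (2 : Fin (k + 3)) ≠ 0 := by
  intro h; have := congrArg Fin.val h; rw [fin3_val_two] at this; simp at this
theorem fin3_ne_21 : (2 : Fin (k + 3)) ≠ 1 := by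
  intro h; have := congrArg Fin.val h; rw [fin3_val_two, fin3_val_one] at this; simp at this

/-- B9.  base of the growth argument, characteristic 2 (`n ≥ 3`). -/
theorem np_base_even (hF : ∃ a b : F, a ≠ 0 ∧ b ≠ 0 ∧ a ≠ b) (h2 : (2 : F) = 0)
    (X : Set VV)
    (H1 : ∀ u v, u ∈ X → v ∈ X → ff u v ≠ 0 → ∀ l : F, u + l • v ∈ X)
    (H2 : ∀ u, u ∈ X → ∀ l : F, l ≠ 0 → l • u ∈ X)
    (l : F) (hl : l ≠ 0)
    (h0 : (e 0 : VV) ∈ X) (hb : (f 0 : VV) + (f 1 : VV) ∈ X)
    (h02 : (e 0 : VV) + (e 2 : VV) ∈ X) (hw2 : (f 2 : VV) + l⁻¹ • (f 1 : VV) ∈ X)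
    (h01 : (e 0 : VV) + (e 1 : VV) ∈ X) (hf1 : (f 1 : VV) ∈ X) :
    ∀ v ∈ Wk (k + 3) F 3, v ≠ 0 → v ∈ X := by
  have n10 := fin3_ne_10 (k := k)
  have n20 := fin3_ne_20 (k := k)
  have n21 := fin3_ne_21 (k := k)
  have n01 := Ne.symm n10
  have n02 := Ne.symm n20
  have n12 := Ne.symm n21
  have hneg : (-1 : F) = 1 := by
    have : (1 : F) + 1 = 0 := by rw [one_add_one_eq_two]; exact h2
    exact neg_eq_of_add_eq_zero_left this
  -- the basic plane
  have hab : ff (e 0 : VV) ((f 0 : VV) + (f 1 : VV)) ≠ 0 := by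
    rw [sympForm_add_right, form_f_right, form_f_right, e_inl, e_inl, if_pos rfl, if_neg n10]
    simp
  obtain ⟨hW, hnd⟩ := pair_base X H1 H2 (e 0 : VV) ((f 0 : VV) + (f 1 : VV)) h0 hb hab
  set W : Submodule F VV := Submodule.span F {(e 0 : VV), (f 0 : VV) + (f 1 : VV)} with hWdef
  have he0W : (e 0 : VV) ∈ W := Submodule.subset_span (by simp)
  have hbW : (f 0 : VV) + (f 1 : VV) ∈ W := Submodule.subset_span (by simp)
  -- grow #1
  have hz1 : ∀ u ∈ W, ff (e 2 : VV) u = 0 := by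
    apply orth_span_pair
    · rw [form_e_right, e_inr]
    · rw [sympForm_add_right, form_f_right, form_f_right, e_inl, e_inl, if_neg n02, if_neg n12]
      simp
  have hz1' : ∀ u ∈ W, ff ((f 2 : VV) + l⁻¹ • (f 1 : VV)) u = 0 := by
    apply orth_span_pair
    · rw [form_e_right, Pi.add_apply, Pi.smul_apply, f_inr, f_inr, if_neg n02, if_neg n01]
      simp
    · rw [sympForm_add_right, form_f_right, form_f_right, Pi.add_apply, Pi.smul_apply,
        Pi.add_apply, Pi.smul_apply, f_inl, f_inl, f_inl, f_inl]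
      simp
  have hzz1 : ff (e 2 : VV) ((f 2 : VV) + l⁻¹ • (f 1 : VV)) ≠ 0 := by
    rw [sympForm_add_right, sympForm_smul_right, form_f_right, form_f_right, e_inl, e_inl,
      if_pos rfl, if_neg n12]
    simp
  have hx1' : (0 : VV) + ((f 2 : VV) + l⁻¹ • (f 1 : VV)) ∈ X := by rw [zero_add]; exact hw2
  obtain ⟨hW2, hnd2⟩ := Cfsg.Agent.Lib.Helper2.RU.grow hF X H1 H2 W hW hnd (e 0 : VV) 0 (e 2 : VV)
    ((f 2 : VV) + l⁻¹ • (f 1 : VV)) he0W W.zero_mem (e_ne_zero 0) hz1 hz1' hzz1 h02 hx1'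
  set W2 : Submodule F VV := W ⊔ Submodule.span F {(e 2 : VV), (f 2 : VV) + l⁻¹ • (f 1 : VV)}
    with hW2def
  have he2W2 : (e 2 : VV) ∈ W2 := Submodule.mem_sup_right (Submodule.subset_span (by simp))
  have hw2W2 : (f 2 : VV) + l⁻¹ • (f 1 : VV) ∈ W2 :=
    Submodule.mem_sup_right (Submodule.subset_span (by simp))
  have he0W2 : (e 0 : VV) ∈ W2 := Submodule.mem_sup_left he0W
  have hbW2 : (f 0 : VV) + (f 1 : VV) ∈ W2 := Submodule.mem_sup_left hbW
  -- grow #2
  have hlinv : l⁻¹ ≠ 0 := inv_ne_zero hl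
  have hwne : l⁻¹ • (e 2 : VV) ≠ 0 := smul_ne_zero hlinv (e_ne_zero 2)
  have hwW2 : l⁻¹ • (e 2 : VV) ∈ W2 := W2.smul_mem _ he2W2
  have hz2 : ∀ u ∈ W2, ff ((e 0 : VV) + (e 1 : VV) + l⁻¹ • (e 2 : VV)) u = 0 := by
    apply orth_sup
    · apply orth_span_pair
      · rw [form_e_right, Pi.add_apply, Pi.add_apply, Pi.smul_apply, e_inr, e_inr, e_inr]
        simp
      · rw [sympForm_add_right, form_f_right, form_f_right, Pi.add_apply, Pi.add_apply,
          Pi.smul_apply, Pi.add_apply, Pi.add_apply, Pi.smul_apply, e_inl, e_inl, e_inl, e_inl,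
          e_inl, e_inl, if_pos rfl, if_neg n01, if_neg n02, if_neg n10, if_pos rfl, if_neg n12]
        simp only [smul_eq_mul, mul_zero, add_zero, zero_add]
        rw [hneg, one_add_one_eq_two, h2]
    · apply orth_span_pair
      · rw [form_e_right, Pi.add_apply, Pi.add_apply, Pi.smul_apply, e_inr, e_inr, e_inr]
        simp
      · rw [sympForm_add_right, sympForm_smul_right, form_f_right, form_f_right, Pi.add_apply,
          Pi.add_apply, Pi.smul_apply, Pi.add_apply, Pi.add_apply, Pi.smul_apply, e_inl, e_inl,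
          e_inl, e_inl, e_inl, e_inl, if_neg n20, if_neg n21, if_pos rfl, if_neg n10, if_pos rfl,
          if_neg n12]
        simp only [smul_eq_mul, mul_zero, add_zero, zero_add, mul_one]
        rw [mul_neg, mul_one, ← neg_add, ← two_mul, h2, zero_mul, neg_zero]
  have hz2' : ∀ u ∈ W2, ff (f 1 : VV) u = 0 := by
    apply orth_sup
    · apply orth_span_pair
      · rw [form_e_right, f_inr, if_neg n01]
      · rw [sympForm_add_right, form_f_right, form_f_right, f_inl, f_inl]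
        simp
    · apply orth_span_pair
      · rw [form_e_right, f_inr, if_neg n21]
      · rw [sympForm_add_right, sympForm_smul_right, form_f_right, form_f_right, f_inl, f_inl]
        simp
  have hzz2 : ff ((e 0 : VV) + (e 1 : VV) + l⁻¹ • (e 2 : VV)) (f 1 : VV) ≠ 0 := by
    rw [form_f_right, Pi.add_apply, Pi.add_apply, Pi.smul_apply, e_inl, e_inl, e_inl,
      if_neg n10, if_pos rfl, if_neg n12]
    simp
  have hx2 : l⁻¹ • (e 2 : VV) + ((e 0 : VV) + (e 1 : VV) + l⁻¹ • (e 2 : VV)) ∈ X := by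
    have e0 : l⁻¹ • (e 2 : VV) + ((e 0 : VV) + (e 1 : VV) + l⁻¹ • (e 2 : VV)) =
        (e 0 : VV) + (e 1 : VV) + ((2 : F) * l⁻¹) • (e 2 : VV) := by
      rw [two_mul, add_smul]; abel
    rw [e0, h2, zero_mul, zero_smul, add_zero]
    exact h01
  have hx2' : (0 : VV) + (f 1 : VV) ∈ X := by rw [zero_add]; exact hf1
  obtain ⟨hW3, -⟩ := Cfsg.Agent.Lib.Helper2.RU.grow hF X H1 H2 W2 hW2 hnd2 (l⁻¹ • (e 2 : VV)) 0
    ((e 0 : VV) + (e 1 : VV) + l⁻¹ • (e 2 : VV)) (f 1 : VV) hwW2 W2.zero_mem hwne hz2 hz2' hzz2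
    hx2 hx2'
  set W3 : Submodule F VV :=
    W2 ⊔ Submodule.span F {(e 0 : VV) + (e 1 : VV) + l⁻¹ • (e 2 : VV), (f 1 : VV)} with hW3def
  have hzW3 : (e 0 : VV) + (e 1 : VV) + l⁻¹ • (e 2 : VV) ∈ W3 :=
    Submodule.mem_sup_right (Submodule.subset_span (by simp))
  have hf1W3 : (f 1 : VV) ∈ W3 := Submodule.mem_sup_right (Submodule.subset_span (by simp))
  have he0W3 : (e 0 : VV) ∈ W3 := Submodule.mem_sup_left he0W2
  have he2W3 : (e 2 : VV) ∈ W3 := Submodule.mem_sup_left he2W2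
  have hbW3 : (f 0 : VV) + (f 1 : VV) ∈ W3 := Submodule.mem_sup_left hbW2
  have hw2W3 : (f 2 : VV) + l⁻¹ • (f 1 : VV) ∈ W3 := Submodule.mem_sup_left hw2W2
  have hf0W3 : (f 0 : VV) ∈ W3 := by
    have := W3.sub_mem hbW3 hf1W3
    rwa [add_sub_cancel_right] at this
  have hf2W3 : (f 2 : VV) ∈ W3 := by
    have := W3.sub_mem hw2W3 (W3.smul_mem l⁻¹ hf1W3)
    rwa [add_sub_cancel_right] at this
  have he1W3 : (e 1 : VV) ∈ W3 := by
    have h1 := W3.sub_mem (W3.sub_mem hzW3 (W3.smul_mem l⁻¹ he2W3)) he0W3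
    have e0 : (e 0 : VV) + (e 1 : VV) + l⁻¹ • (e 2 : VV) - l⁻¹ • (e 2 : VV) - (e 0 : VV) =
        (e 1 : VV) := by abel
    rwa [e0] at h1
  intro v hv hv0
  apply hW3 v _ hv0
  have hdec : v = v (Sum.inl 0) • (e 0 : VV) + v (Sum.inl 1) • (e 1 : VV) +
      v (Sum.inl 2) • (e 2 : VV) + v (Sum.inr 0) • (f 0 : VV) + v (Sum.inr 1) • (f 1 : VV) +
      v (Sum.inr 2) • (f 2 : VV) := by
    funext c
    rcases c with i | i
    · simp only [Pi.add_apply, Pi.smul_apply, e_inl, f_inl, smul_eq_mul, mul_zero, add_zero]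
      by_cases h0' : i = 0
      · rw [h0', if_pos rfl, if_neg n01, if_neg n02]; simp
      by_cases h1' : i = 1
      · rw [h1', if_neg n10, if_pos rfl, if_neg n12]; simp
      by_cases h2' : i = 2
      · rw [h2', if_neg n20, if_neg n21, if_pos rfl]; simp
      rw [if_neg h0', if_neg h1', if_neg h2']
      have hi : 3 ≤ i.val := by
        have a0 : i.val ≠ 0 := fun h => h0' (Fin.ext (by rw [h]; rfl))
        have a1 : i.val ≠ 1 := fun h => h1' (Fin.ext (by rw [h, fin3_val_one]))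
        have a2 : i.val ≠ 2 := fun h => h2' (Fin.ext (by rw [h, fin3_val_two]))
        omega
      rw [(hv i hi).1]; simp
    · simp only [Pi.add_apply, Pi.smul_apply, e_inr, f_inr, smul_eq_mul, mul_zero, zero_add]
      by_cases h0' : i = 0
      · rw [h0', if_pos rfl, if_neg n01, if_neg n02]; simp
      by_cases h1' : i = 1
      · rw [h1', if_neg n10, if_pos rfl, if_neg n12]; simp
      by_cases h2' : i = 2
      · rw [h2', if_neg n20, if_neg n21, if_pos rfl]; simp
      rw [if_neg h0', if_neg h1', if_neg h2']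
      have hi : 3 ≤ i.val := by
        have a0 : i.val ≠ 0 := fun h => h0' (Fin.ext (by rw [h]; rfl))
        have a1 : i.val ≠ 1 := fun h => h1' (Fin.ext (by rw [h, fin3_val_one]))
        have a2 : i.val ≠ 2 := fun h => h2' (Fin.ext (by rw [h, fin3_val_two]))
        omega
      rw [(hv i hi).2]; simp
  rw [hdec]
  exact W3.add_mem (W3.add_mem (W3.add_mem (W3.add_mem (W3.add_mem (W3.smul_mem _ he0W3)
    (W3.smul_mem _ he1W3)) (W3.smul_mem _ he2W3)) (W3.smul_mem _ hf0W3)) (W3.smul_mem _ hf1W3))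
    (W3.smul_mem _ hf2W3)

end

end Cfsg.Agent.Lib.Helper23.RU
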