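import Mathlib
import Cfsg.Prelude.Def_Characters
import Cfsg.Agent.Lib.Helper11.S3282Defs

/-!
K2b + K2c of helper11's S3282 farm-out: the case `|K| = 2` of Brauer–Suzuki–Wall for `|G| = 12` and for
`G ≅ A₅`: a Sylow `3`- resp. `5`-subgroup `Q` is self-centralizing with `N(Q) = Q` resp. `N(Q) = Q⟨z⟩`.
-/

set_option autoImplicit false

namespace Cfsg.Agent.Lib.Helper23.S3282K2bc

open Cfsg Cfsg.Agent.Lib.Helper11 Cfsg.Agent.Lib.Helper11.S3282

universe u

variable {G : Type u} [Group G] {t s : G} {K : Subgroup G}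

/-- `C(t) = K ⊔ ⟨s⟩` is a `2`-group when `|K| = 2`. -/
theorem isPGroup_centralizer (h : Hyp t s K) (hk : Nat.card K = 2) :
    IsPGroup 2 (Subgroup.centralizer ({t} : Set G)) := by
  haveI : Fact (Nat.Prime 2) := ⟨Nat.prime_two⟩
  rw [← h.hH]
  have hK : IsPGroup 2 K := IsPGroup.of_card (n := 1) (by rw [hk, pow_one])
  have hS : IsPGroup 2 (Subgroup.zpowers s) :=
    IsPGroup.of_card (n := 1) (by rw [Nat.card_zpowers, h.hs, pow_one])
  apply IsPGroup.to_sup_of_normal_left' hK hS
  rw [Subgroup.zpowers_le]
  rw [Subgroup.mem_normalizer_iff]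
  intro x
  constructor
  · intro hx
    rw [h.hinv x hx]
    exact K.inv_mem hx
  · intro hx
    have h2 := h.hinv _ hx
    have hs2 : s * s = 1 := by
      have := pow_orderOf_eq_one s
      rw [h.hs, pow_two] at this
      exact this
    have hsinv : s⁻¹ = s := inv_eq_of_mul_eq_one_right hs2
    have e : s * (s * x * s⁻¹) * s⁻¹ = x := by
      rw [hsinv]
      calc s * (s * x * s) * s = (s * s) * x * (s * s) := by group
        _ = x := by rw [hs2, one_mul, mul_one]
    rw [e] at h2
    rw [h2]
    exact K.inv_mem hx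

/-- no element of odd prime order commutes with an involution. -/
theorem no_comm (h : Hyp t s K) (hk : Nat.card K = 2) {u x : G} (hu : orderOf u = 2)
    (hux : u * x = x * u) {p : ℕ} (hp : p.Prime) (hp2 : p ≠ 2) (hx : orderOf x = p) : False := by
  haveI : Fact (Nat.Prime 2) := ⟨Nat.prime_two⟩
  obtain ⟨c, hc⟩ := isConj_iff.mp (h.hconj u t hu h.ht)
  -- `c * u * c⁻¹ = t`
  have hmem : c * x * c⁻¹ ∈ Subgroup.centralizer ({t} : Set G) := by
    rw [Subgroup.mem_centralizer_iff]
    intro y hy
    rw [Set.mem_singleton_iff] at hy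
    rw [hy, ← hc]
    calc c * u * c⁻¹ * (c * x * c⁻¹) = c * (u * x) * c⁻¹ := by group
      _ = c * (x * u) * c⁻¹ := by rw [hux]
      _ = c * x * c⁻¹ * (c * u * c⁻¹) := by group
  have hP := isPGroup_centralizer h hk
  obtain ⟨k, hk2⟩ := (IsPGroup.iff_orderOf.mp hP) ⟨c * x * c⁻¹, hmem⟩
  rw [Subgroup.orderOf_mk] at hk2
  have e : orderOf (c * x * c⁻¹) = orderOf x := by
    have : c * x * c⁻¹ = MulAut.conj c x := rfl
    rw [this, MulEquiv.orderOf_eq]
  rw [e, hx] at hk2
  have h2p : p ∣ 2 ^ k := by rw [← hk2]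
  have := (Nat.prime_dvd_prime_iff_eq hp Nat.prime_two).mp (hp.dvd_of_dvd_pow h2p)
  exact hp2 this

/-- elements of a subgroup of prime order. -/
theorem prime_card_facts [Finite G] {p : ℕ} (hp : p.Prime) {Q : Subgroup G} (hQ : Nat.card Q = p)
    {x : G} (hx : x ∈ Q) (hx1 : x ≠ 1) : orderOf x = p ∧ Subgroup.zpowers x = Q := by
  have h1 : orderOf x ∣ p := by
    rw [← hQ]
    have := orderOf_dvd_natCard (⟨x, hx⟩ : Q)
    rwa [Subgroup.orderOf_mk] at this
  have h2 : orderOf x = p := by
    rcases (Nat.dvd_prime hp).mp h1 with h | h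
    · exact absurd (orderOf_eq_one_iff.mp h) hx1
    · exact h
  refine ⟨h2, ?_⟩
  apply Subgroup.eq_of_le_of_card_ge
  · rw [Subgroup.zpowers_le]; exact hx
  · rw [Nat.card_zpowers, h2, hQ]

/-- Cauchy in a subgroup of even order. -/
theorem exists_invol_of_even [Finite G] (S : Subgroup G) (h2 : 2 ∣ Nat.card S) :
    ∃ u ∈ S, orderOf u = 2 := by
  haveI : Fact (Nat.Prime 2) := ⟨Nat.prime_two⟩
  obtain ⟨u, hu⟩ := exists_prime_orderOf_dvd_card' (G := S) 2 h2
  refine ⟨(u : G), u.2, ?_⟩
  rw [← hu, Subgroup.orderOf_coe]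

theorem centralizer_le_normalizer_zpowers (x : G) :
    Subgroup.centralizer ({x} : Set G) ≤ Subgroup.normalizer (Subgroup.zpowers x : Set G) := by
  intro g hg
  have hgx : g * x = x * g := by
    have := (Subgroup.mem_centralizer_iff.mp hg) x (Set.mem_singleton x)
    exact this.symm
  have hconj : ∀ y ∈ Subgroup.zpowers x, g * y * g⁻¹ = y := by
    intro y hy
    obtain ⟨k, rfl⟩ := Subgroup.mem_zpowers_iff.mp hy
    have hc : Commute g (x ^ k) := (show Commute g x from hgx).zpow_right k
    calc g * x ^ k * g⁻¹ = x ^ k * g * g⁻¹ := by rw [hc.eq]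
      _ = x ^ k := by group
  rw [Subgroup.mem_normalizer_iff]
  intro y
  constructor
  · intro hy
    rw [hconj y hy]; exact hy
  · intro hy
    have h2 := hconj _ hy
    have e : g * (g * y * g⁻¹) * g⁻¹ = g * y * g⁻¹ := h2
    have e2 : g * y * g⁻¹ = y := by
      calc g * y * g⁻¹ = g⁻¹ * (g * (g * y * g⁻¹) * g⁻¹) * g := by group
        _ = g⁻¹ * (g * y * g⁻¹) * g := by rw [e]
        _ = y := by group
    rw [← e2]; exact hy

theorem le_centralizer_of_zpowers {x : G} {Q : Subgroup G} (hQ : Subgroup.zpowers x = Q) :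
    Q ≤ Subgroup.centralizer ({x} : Set G) := by
  intro y hy
  rw [← hQ] at hy
  obtain ⟨k, rfl⟩ := Subgroup.mem_zpowers_iff.mp hy
  rw [Subgroup.mem_centralizer_iff]
  intro z hz
  rw [Set.mem_singleton_iff] at hz
  rw [hz]
  exact ((Commute.refl x).zpow_right k).eq

/-- K2b -/
theorem K2_twelve [Finite G] (h : Hyp t s K) (hk : Nat.card K = 2) (hG : Nat.card G = 12) :
    ∃ Q : Subgroup G, Nat.card Q = 3 ∧
      (∀ x ∈ Q, x ≠ 1 → Subgroup.centralizer ({x} : Set G) = Q) ∧
      Subgroup.normalizer (Q : Set G) = Q := by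
  haveI : Fact (Nat.Prime 3) := ⟨Nat.prime_three⟩
  have hp3 : Nat.Prime 3 := Nat.prime_three
  obtain ⟨Q, hQ⟩ := Sylow.exists_subgroup_card_pow_prime (G := G) 3 (n := 1)
    (by rw [hG, pow_one]; norm_num)
  rw [pow_one] at hQ
  refine ⟨Q, hQ, ?_, ?_⟩
  · intro x hx hx1
    obtain ⟨hox, hzp⟩ := prime_card_facts hp3 hQ hx hx1
    have hle := le_centralizer_of_zpowers hzp
    symm
    apply Subgroup.eq_of_le_of_card_ge hle
    have h1 : Nat.card (Subgroup.centralizer ({x} : Set G)) ∣ 12 := by
      rw [← hG]; exact Subgroup.card_subgroup_dvd_card _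
    have h3 : 3 ∣ Nat.card (Subgroup.centralizer ({x} : Set G)) := by
      rw [← hQ]; exact Subgroup.card_dvd_of_le hle
    have h2 : ¬ 2 ∣ Nat.card (Subgroup.centralizer ({x} : Set G)) := by
      intro h2
      obtain ⟨u, huC, hu⟩ := exists_invol_of_even _ h2
      have hux : u * x = x * u := by
        have := (Subgroup.mem_centralizer_iff.mp huC) x (Set.mem_singleton x)
        exact this.symm
      exact no_comm h hk hu hux hp3 (by norm_num) hox
    rw [hQ]
    have hle12 : Nat.card (Subgroup.centralizer ({x} : Set G)) ≤ 12 :=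
      Nat.le_of_dvd (by norm_num) h1
    generalize Nat.card (Subgroup.centralizer ({x} : Set G)) = c at h1 h2 h3 hle12
    interval_cases c <;> omega
  · -- the normalizer
    have hidx : Q.index = 4 := by
      have := Q.card_mul_index
      rw [hQ, hG] at this
      omega
    have hQP : IsPGroup 3 Q := IsPGroup.of_card (n := 1) (by rw [hQ, pow_one])
    have hnd : ¬ 3 ∣ Q.index := by rw [hidx]; norm_num
    obtain ⟨P, hP⟩ : ∃ P : Sylow 3 G, (P : Subgroup G) = Q := ⟨hQP.toSylow hnd, hQP.toSylow_coe hnd⟩
    have hmod := card_sylow_modEq_one 3 G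
    rw [Sylow.card_eq_index_normalizer P] at hmod
    have hPQ : Subgroup.normalizer (P : Set G) = Subgroup.normalizer (Q : Set G) := by
      rw [← hP]; rfl
    rw [hPQ] at hmod
    have hmul := (Subgroup.normalizer (Q : Set G)).card_mul_index
    rw [hG] at hmul
    have h3 : 3 ∣ Nat.card (Subgroup.normalizer (Q : Set G)) := by
      rw [← hQ]; exact Subgroup.card_dvd_of_le Subgroup.le_normalizer
    -- the possible values
    have hcases : (Subgroup.normalizer (Q : Set G)).index = 1 ∨
        Nat.card (Subgroup.normalizer (Q : Set G)) = 3 := by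
      have hle12 : Nat.card (Subgroup.normalizer (Q : Set G)) ≤ 12 :=
        Nat.le_of_dvd (by norm_num) ⟨_, hmul.symm⟩
      unfold Nat.ModEq at hmod
      generalize Nat.card (Subgroup.normalizer (Q : Set G)) = c at hmul h3 hle12
      generalize (Subgroup.normalizer (Q : Set G)).index = i at hmul hmod
      interval_cases c <;> omega
    rcases hcases with h1 | h3'
    · exfalso
      have htop : Subgroup.normalizer (Q : Set G) = ⊤ := Subgroup.index_eq_one.mp h1
      obtain ⟨x, hx, hx1⟩ : ∃ x ∈ Q, x ≠ 1 := by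
        by_contra hcon
        push Not at hcon
        have : Q = ⊥ := (Subgroup.eq_bot_iff_forall Q).mpr hcon
        rw [this, Subgroup.card_bot] at hQ
        omega
      obtain ⟨hox, hzp⟩ := prime_card_facts hp3 hQ hx hx1
      have hx3 : x ^ 3 = 1 := by rw [← hox]; exact pow_orderOf_eq_one x
      have key : ∀ u : G, orderOf u = 2 → u * x * u⁻¹ = x⁻¹ := by
        intro u hu
        have huN : u ∈ Subgroup.normalizer (Q : Set G) := by rw [htop]; exact Subgroup.mem_top u
        have hy : u * x * u⁻¹ ∈ Q := (Subgroup.mem_normalizer_iff.mp huN x).mp hx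
        rw [← hzp] at hy
        obtain ⟨k, hk'⟩ := Subgroup.mem_zpowers_iff.mp hy
        have hred : x ^ (k % 3) = x ^ k := by
          have := zpow_mod_orderOf x k
          rw [hox] at this
          exact_mod_cast this
        have hk3 : k % 3 = 0 ∨ k % 3 = 1 ∨ k % 3 = 2 := by omega
        rcases hk3 with h0 | h0 | h0
        · exfalso
          rw [h0, zpow_zero] at hred
          rw [← hred] at hk'
          apply hx1
          have : u * x * u⁻¹ = 1 := hk'.symm
          calc x = u⁻¹ * (u * x * u⁻¹) * u := by group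
            _ = 1 := by rw [this]; group
        · exfalso
          rw [h0, zpow_one] at hred
          rw [← hred] at hk'
          have hux : u * x = x * u := by
            calc u * x = (u * x * u⁻¹) * u := by group
              _ = x * u := by rw [← hk']
          exact no_comm h hk hu hux hp3 (by norm_num) hox
        · rw [h0] at hred
          rw [← hk', ← hred]
          have : x ^ (2 : ℤ) = x ^ 2 := by norm_cast
          rw [this]
          apply eq_inv_of_mul_eq_one_left
          rw [← pow_succ, hx3]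
      have hts : orderOf (t * s) = 2 := by
        have hcomm : s * t = t * s := by
          have := (Subgroup.mem_centralizer_iff.mp h.hsH) t (Set.mem_singleton t)
          exact this.symm
        have ht2 : t * t = 1 := by
          have := pow_orderOf_eq_one t
          rw [h.ht, pow_two] at this
          exact this
        have hs2 : s * s = 1 := by
          have := pow_orderOf_eq_one s
          rw [h.hs, pow_two] at this
          exact this
        apply orderOf_eq_prime
        · rw [pow_two]
          calc t * s * (t * s) = t * (s * t) * s := by group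
            _ = t * (t * s) * s := by rw [hcomm]
            _ = (t * t) * (s * s) := by group
            _ = 1 := by rw [ht2, hs2, one_mul]
        · intro h1
          apply h.hsK
          have : s = t⁻¹ := eq_inv_of_mul_eq_one_right h1
          rw [this]
          exact K.inv_mem h.htK
      have e1 := key t h.ht
      have e2 := key s h.hs
      have e3 := key (t * s) hts
      have e4 : t * s * x * (t * s)⁻¹ = x := by
        calc t * s * x * (t * s)⁻¹ = t * (s * x * s⁻¹) * t⁻¹ := by group
          _ = t * x⁻¹ * t⁻¹ := by rw [e2]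
          _ = (t * x * t⁻¹)⁻¹ := by group
          _ = x := by rw [e1, inv_inv]
      rw [e4] at e3
      -- `x = x⁻¹`, `x ^ 3 = 1`
      apply hx1
      have hx2 : x * x = 1 := by
        calc x * x = x * x⁻¹ := by rw [← e3]
          _ = 1 := mul_inv_cancel x
      calc x = x ^ 3 * (x * x)⁻¹ := by group
        _ = 1 := by rw [hx3, hx2, inv_one, one_mul]
    · symm
      apply Subgroup.eq_of_le_of_card_ge Subgroup.le_normalizer
      rw [h3', hQ]

/-- K2c -/
theorem K2_sixty [Finite G] (h : Hyp t s K) (hk : Nat.card K = 2)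
    (hG : Nonempty (G ≃* ↥(alternatingGroup (Fin 5)))) :
    ∃ (Q : Subgroup G) (z : G), Nat.card G = 60 ∧ Nat.card Q = 5 ∧ orderOf z = 2 ∧
      (∀ x ∈ Q, x ≠ 1 → Subgroup.centralizer ({x} : Set G) = Q) ∧
      Subgroup.normalizer (Q : Set G) = Q ⊔ Subgroup.zpowers z := by
  obtain ⟨e⟩ := hG
  haveI : Fact (Nat.Prime 5) := ⟨by norm_num⟩
  have hp5 : Nat.Prime 5 := by norm_num
  have hcard : Nat.card G = 60 := by
    rw [Nat.card_congr e.toEquiv, nat_card_alternatingGroup, Nat.card_eq_fintype_card,
      Fintype.card_fin]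
    rfl
  have hsimple : IsSimpleGroup G := by
    haveI : IsSimpleGroup (alternatingGroup (Fin 5)) :=
      alternatingGroup.isSimpleGroup (by rw [Nat.card_eq_fintype_card, Fintype.card_fin])
    exact e.isSimpleGroup
  obtain ⟨Q, hQ⟩ := Sylow.exists_subgroup_card_pow_prime (G := G) 5 (n := 1)
    (by rw [hcard, pow_one]; norm_num)
  rw [pow_one] at hQ
  -- the normalizer has order 10
  have hidx : Q.index = 12 := by
    have := Q.card_mul_index
    rw [hQ, hcard] at this
    omega
  have hQP : IsPGroup 5 Q := IsPGroup.of_card (n := 1) (by rw [hQ, pow_one])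
  have hnd : ¬ 5 ∣ Q.index := by rw [hidx]; norm_num
  obtain ⟨P, hP⟩ : ∃ P : Sylow 5 G, (P : Subgroup G) = Q := ⟨hQP.toSylow hnd, hQP.toSylow_coe hnd⟩
  have hmod := card_sylow_modEq_one 5 G
  rw [Sylow.card_eq_index_normalizer P] at hmod
  have hPQ : Subgroup.normalizer (P : Set G) = Subgroup.normalizer (Q : Set G) := by
    rw [← hP]; rfl
  rw [hPQ] at hmod
  have hmul := (Subgroup.normalizer (Q : Set G)).card_mul_index
  rw [hcard] at hmul
  have h5 : 5 ∣ Nat.card (Subgroup.normalizer (Q : Set G)) := by
    rw [← hQ]; exact Subgroup.card_dvd_of_le Subgroup.le_normalizer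
  have hcases : (Subgroup.normalizer (Q : Set G)).index = 1 ∨
      Nat.card (Subgroup.normalizer (Q : Set G)) = 10 := by
    have hle60 : Nat.card (Subgroup.normalizer (Q : Set G)) ≤ 60 :=
      Nat.le_of_dvd (by norm_num) ⟨_, hmul.symm⟩
    unfold Nat.ModEq at hmod
    generalize Nat.card (Subgroup.normalizer (Q : Set G)) = c at hmul h5 hle60
    generalize (Subgroup.normalizer (Q : Set G)).index = i at hmul hmod
    interval_cases c <;> omega
  have hN10 : Nat.card (Subgroup.normalizer (Q : Set G)) = 10 := by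
    rcases hcases with h1 | h10
    · exfalso
      have htop : Subgroup.normalizer (Q : Set G) = ⊤ := Subgroup.index_eq_one.mp h1
      have hnormal : Q.Normal := Subgroup.normalizer_eq_top_iff.mp htop
      rcases hnormal.eq_bot_or_eq_top with hb | ht'
      · rw [hb, Subgroup.card_bot] at hQ; omega
      · rw [ht', Subgroup.card_top, hcard] at hQ; omega
    · exact h10
  obtain ⟨z, hzN, hz⟩ := exists_invol_of_even (Subgroup.normalizer (Q : Set G))
    (by rw [hN10]; norm_num)
  refine ⟨Q, z, hcard, hQ, hz, ?_, ?_⟩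
  · intro x hx hx1
    obtain ⟨hox, hzp⟩ := prime_card_facts hp5 hQ hx hx1
    have hle := le_centralizer_of_zpowers hzp
    symm
    apply Subgroup.eq_of_le_of_card_ge hle
    have hCN : Subgroup.centralizer ({x} : Set G) ≤ Subgroup.normalizer (Q : Set G) := by
      rw [← hzp]; exact centralizer_le_normalizer_zpowers x
    have h1 : Nat.card (Subgroup.centralizer ({x} : Set G)) ∣ 10 := by
      rw [← hN10]; exact Subgroup.card_dvd_of_le hCN
    have h3 : 5 ∣ Nat.card (Subgroup.centralizer ({x} : Set G)) := by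
      rw [← hQ]; exact Subgroup.card_dvd_of_le hle
    have h2 : ¬ 2 ∣ Nat.card (Subgroup.centralizer ({x} : Set G)) := by
      intro h2
      obtain ⟨u, huC, hu⟩ := exists_invol_of_even _ h2
      have hux : u * x = x * u := by
        have := (Subgroup.mem_centralizer_iff.mp huC) x (Set.mem_singleton x)
        exact this.symm
      exact no_comm h hk hu hux hp5 (by norm_num) hox
    rw [hQ]
    have hle10 : Nat.card (Subgroup.centralizer ({x} : Set G)) ≤ 10 :=
      Nat.le_of_dvd (by norm_num) h1
    generalize Nat.card (Subgroup.centralizer ({x} : Set G)) = c at h1 h2 h3 hle10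
    interval_cases c <;> omega
  · symm
    have hle : Q ⊔ Subgroup.zpowers z ≤ Subgroup.normalizer (Q : Set G) := by
      apply sup_le Subgroup.le_normalizer
      rw [Subgroup.zpowers_le]; exact hzN
    apply Subgroup.eq_of_le_of_card_ge hle
    rw [hN10]
    have d5 : 5 ∣ Nat.card (Q ⊔ Subgroup.zpowers z : Subgroup G) := by
      rw [← hQ]; exact Subgroup.card_dvd_of_le le_sup_left
    have d2 : 2 ∣ Nat.card (Q ⊔ Subgroup.zpowers z : Subgroup G) := by
      have : Nat.card (Subgroup.zpowers z) = 2 := by rw [Nat.card_zpowers, hz]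
      rw [← this]; exact Subgroup.card_dvd_of_le le_sup_right
    have hpos : 0 < Nat.card (Q ⊔ Subgroup.zpowers z : Subgroup G) := Nat.card_pos
    omega

end Cfsg.Agent.Lib.Helper23.S3282K2bc
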