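import Mathlib
import Cfsg.Agent.Lib.Helper1.Coprime
import Cfsg.Agent.Lib.Helper9.Signalizer

/-!
# Group-theoretic preliminaries for Kazarin's theorem (helper23)

* `relIndex_dvd_index_of_normal_right` : for `K` normal, `|K : K ∩ H|` divides `|G : H|`.
* `index_centralizer_subtype_dvd` : class sizes in a normal subgroup divide class sizes in `G`.
* `index_centralizer_quotient_dvd` : class sizes in a quotient divide class sizes in `G`.
* `isSolvable_iSup_of_normal` : a finite join of solvable subgroups, all normalized by a common
  overgroup containing them, is solvable.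
-/

set_option autoImplicit false

namespace Cfsg.Agent.Lib.Helper23.Kazarin

open Subgroup

universe u

variable {G : Type u} [Group G]

/-- For `K` normal: `|K : K ∩ H| = |HK : H|` divides `|G : H|`. -/
theorem relIndex_dvd_index_of_normal_right [Finite G] (H K : Subgroup G) [hK : K.Normal] :
    H.relIndex K ∣ H.index := by
  have h1 : H.relIndex (H ⊔ K) = H.relIndex K := by
    have hcH : 0 < Nat.card H := Nat.card_pos
    have a1 := Cfsg.Agent.Lib.Helper1.card_mul_relIndex_of_le (le_sup_left : H ≤ H ⊔ K)
    have a2 := Cfsg.Agent.Lib.Helper1.card_mul_relIndex_of_le (le_sup_right : K ≤ H ⊔ K)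
    rw [Subgroup.relIndex_sup_right] at a2
    have a3 := Cfsg.Agent.Lib.Helper1.card_mul_relIndex_of_le (inf_le_left : H ⊓ K ≤ H)
    rw [Subgroup.inf_relIndex_left] at a3
    have a4 := Cfsg.Agent.Lib.Helper1.card_mul_relIndex_of_le (inf_le_right : H ⊓ K ≤ K)
    rw [Subgroup.inf_relIndex_right] at a4
    apply Nat.eq_of_mul_eq_mul_left hcH
    rw [a1, ← a2, ← a4, ← a3]
    ring
  rw [← h1]
  exact Subgroup.relIndex_dvd_index_of_le le_sup_left

/-- The class size of `x` in a normal subgroup `H ∋ x` divides the class size of `x` in `G`. -/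
theorem index_centralizer_subtype_dvd [Finite G] (H : Subgroup G) [H.Normal] (x : G) (hx : x ∈ H) :
    (centralizer ({(⟨x, hx⟩ : H)} : Set H)).index ∣ (centralizer ({x} : Set G)).index := by
  have e : centralizer ({(⟨x, hx⟩ : H)} : Set H) = (centralizer ({x} : Set G)).subgroupOf H := by
    ext h
    rw [Subgroup.mem_subgroupOf, Subgroup.mem_centralizer_singleton_iff,
      Subgroup.mem_centralizer_singleton_iff]
    constructor
    · intro hh
      have := congrArg Subtype.val hh
      simpa using this
    · intro hh
      apply Subtype.ext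
      simpa using hh
  rw [e]
  exact relIndex_dvd_index_of_normal_right _ H

/-- The class size of the image of `x` in a quotient divides the class size of `x`. -/
theorem index_centralizer_quotient_dvd (A : Subgroup G) [A.Normal] (x : G) :
    (centralizer ({(QuotientGroup.mk x : G ⧸ A)} : Set (G ⧸ A))).index ∣
      (centralizer ({x} : Set G)).index := by
  have hle : (centralizer ({x} : Set G)).map (QuotientGroup.mk' A) ≤
      centralizer ({(QuotientGroup.mk x : G ⧸ A)} : Set (G ⧸ A)) := by
    rintro _ ⟨c, hc, rfl⟩
    have hc' : c * x = x * c := Subgroup.mem_centralizer_singleton_iff.mp hc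
    rw [Subgroup.mem_centralizer_singleton_iff]
    show (QuotientGroup.mk c : G ⧸ A) * QuotientGroup.mk x = QuotientGroup.mk x * QuotientGroup.mk c
    rw [← QuotientGroup.mk_mul, ← QuotientGroup.mk_mul, hc']
  exact (Subgroup.index_dvd_of_le hle).trans
    (Subgroup.index_map_dvd _ (QuotientGroup.mk'_surjective A))

/-- The class size of a power of `x` divides the class size of `x`. -/
theorem index_centralizer_zpow_dvd (x : G) (z : ℤ) :
    (centralizer ({x ^ z} : Set G)).index ∣ (centralizer ({x} : Set G)).index := by
  apply Subgroup.index_dvd_of_le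
  intro c hc
  rw [Subgroup.mem_centralizer_singleton_iff] at hc ⊢
  exact ((Commute.zpow_right (show Commute c x from hc) z)).eq

/-- The class size of a conjugate of `x` is the class size of `x`. -/
theorem index_centralizer_conj (x g : G) :
    (centralizer ({g * x * g⁻¹} : Set G)).index = (centralizer ({x} : Set G)).index := by
  have e : centralizer ({g * x * g⁻¹} : Set G) =
      (centralizer ({x} : Set G)).map (MulAut.conj g).toMonoidHom := by
    ext c
    rw [Subgroup.mem_map_equiv, Subgroup.mem_centralizer_singleton_iff,
      Subgroup.mem_centralizer_singleton_iff]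
    simp only [MulAut.conj_symm_apply]
    constructor
    · intro h
      calc g⁻¹ * c * g * x = g⁻¹ * (c * (g * x * g⁻¹)) * g := by group
        _ = g⁻¹ * ((g * x * g⁻¹) * c) * g := by rw [h]
        _ = x * (g⁻¹ * c * g) := by group
    · intro h
      calc c * (g * x * g⁻¹) = g * ((g⁻¹ * c * g) * x) * g⁻¹ := by group
        _ = g * (x * (g⁻¹ * c * g)) * g⁻¹ := by rw [h]
        _ = g * x * g⁻¹ * c := by group
  rw [e]
  exact Subgroup.index_map_equiv _ (MulAut.conj g)

/-- If `H` normalizes `A` and `B` then it normalizes `A ⊔ B`. -/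
theorem le_normalizer_sup {H A B : Subgroup G} (hA : H ≤ normalizer (A : Set G))
    (hB : H ≤ normalizer (B : Set G)) : H ≤ normalizer ((A ⊔ B : Subgroup G) : Set G) := by
  apply Cfsg.Agent.Lib.Helper1.le_normalizer_of_forall_conj_mem
  intro h hh n hn
  have key : (A ⊔ B) ≤ (A ⊔ B).comap (MulAut.conj h).toMonoidHom := by
    apply sup_le
    · intro a ha
      rw [Subgroup.mem_comap]
      apply Subgroup.mem_sup_left
      exact (Subgroup.mem_normalizer_iff.mp (hA hh) a).mp ha
    · intro b hb
      rw [Subgroup.mem_comap]
      apply Subgroup.mem_sup_right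
      exact (Subgroup.mem_normalizer_iff.mp (hB hh) b).mp hb
  exact key hn

/-- A finite join of solvable subgroups contained in and normalized by a common subgroup `H`
is solvable. -/
theorem isSolvable_iSup_of_normal {ι : Type*} [Finite ι] (f : ι → Subgroup G) (H : Subgroup G)
    (hle : ∀ i, f i ≤ H) (hn : ∀ i, H ≤ normalizer ((f i : Subgroup G) : Set G))
    (hs : ∀ i, Group.IsSolvable (f i)) : Group.IsSolvable ↥(⨆ i, f i) := by
  classical
  haveI : Fintype ι := Fintype.ofFinite ι
  have key : ∀ s : Finset ι, Group.IsSolvable ↥(s.sup f) ∧ s.sup f ≤ H ∧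
      H ≤ normalizer ((s.sup f : Subgroup G) : Set G) := by
    intro s
    induction s using Finset.induction_on with
    | empty =>
      refine ⟨?_, ?_, ?_⟩
      · rw [Finset.sup_empty]
        infer_instance
      · rw [Finset.sup_empty]; exact bot_le
      · rw [Finset.sup_empty]
        intro h _
        rw [Subgroup.mem_normalizer_iff]
        intro n
        simp [Subgroup.mem_bot]
    | insert a s _ ih =>
      obtain ⟨h1, h2, h3⟩ := ih
      rw [Finset.sup_insert]
      refine ⟨?_, sup_le (hle a) h2, le_normalizer_sup (hn a) h3⟩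
      exact Cfsg.Agent.Lib.Helper9.isSolvable_sup_of_le_normalizer (hs a) h1 (h2.trans (hn a))
  have := (key Finset.univ).1
  rwa [Finset.sup_univ_eq_iSup] at this

end Cfsg.Agent.Lib.Helper23.Kazarin
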