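import Mathlib
import Cfsg.Prelude.Def_Blocks
import Cfsg.Agent.Lib.Helper2.BurnsidePQ
import Cfsg.Agent.Lib.Helper2.DegreeRatio
import Cfsg.Agent.Lib.Helper24.Covering94
import Cfsg.Agent.Lib.Helper24.Principal
import Cfsg.Agent.Lib.Helper25.EvenDegree

/-!
# The block-theoretic core of Kazarin's theorem (helper23)

Let `x` have a class of `p`-power size, `G = ⟨x^G⟩`, and `r ≠ p` a prime.  For `χ` in the
principal `r`-block the central character congruence forces `χ x ≠ 0`; if moreover `p ∤ χ 1`
then by Burnside's vanishing lemma `x` acts as a scalar, hence so does all of `G`, so the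
commutator subgroup `D` lies in `ker χ`.  By Navarro 9.4 every nonprincipal `θ` in the principal
`r`-block of `D` lies under such a `χ` with `p ∣ χ 1`, and if `p ∤ |G : D|` then `p ∣ θ 1`.
Block orthogonality in `D` at an element of order `r` then gives `1 + p α = 0`, a contradiction.
-/

set_option autoImplicit false

namespace Cfsg.Agent.Lib.Helper23.Kazarin

open Subgroup Module
open Cfsg.Agent.Lib.Helper2 Cfsg.Agent.Lib.Helper24
open scoped ComplexConjugate

universe u

variable {G : Type u} [Group G] [Fintype G]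

/-- Step A: a character of `p'`-degree in the principal `r`-block has the commutator subgroup in
its kernel. -/
theorem commutator_le_ker_of_principal {p r : ℕ} (hp : p.Prime) (hpr : p ≠ r)
    {M : Ideal Cfsg.AlgInt} (hM : Cfsg.IsPModular r M) (x : G) {k : ℕ}
    (hcl : (centralizer ({x} : Set G)).index = p ^ k)
    (hgen : normalClosure ({x} : Set G) = ⊤)
    (n : ℕ) (ρ : Representation ℂ G (Fin n → ℂ)) (hρ : ρ.IsIrreducible)
    (hmem : Cfsg.SameBlock M (fun _ : G => (1 : ℂ)) ρ.character) (hpn : ¬ p ∣ n) :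
    ∀ d ∈ commutator G, ρ d = 1 := by
  haveI := hρ
  have hfin : finrank ℂ (Fin n → ℂ) = n := Module.finrank_fin_fun ℂ
  have hr : r.Prime := hM.1
  have hne0 : ρ.character x ≠ 0 := by
    intro h0
    have h1 := hmem x
    have e : Cfsg.centralChar (fun _ : G => (1 : ℂ)) x - Cfsg.centralChar ρ.character x
        = ((p ^ k : ℕ) : ℂ) := by
      unfold Cfsg.centralChar
      rw [h0, hcl]
      simp
    rw [e] at h1
    have h2 := (memLocalIdeal_natCast_iff hM (p ^ k)).mp h1
    have h3 := Nat.Prime.dvd_of_dvd_pow hr h2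
    exact hpr ((Nat.prime_dvd_prime_iff_eq hr hp).mp h3).symm
  have hcop : Nat.Coprime (finrank ℂ (Fin n → ℂ)) (centralizer ({x} : Set G)).index := by
    rw [hfin, hcl]
    exact Nat.Coprime.pow_right _ ((Nat.Prime.coprime_iff_not_dvd hp).mpr hpn).symm
  rcases char_eq_zero_or_norm_eq_of_coprime ρ x hcop with h | h
  · exact absurd h hne0
  have hx : x ∈ scalarSubgroup ρ := (norm_char_eq_finrank_iff ρ x).mp h
  have htop : scalarSubgroup ρ = ⊤ := by
    apply top_le_iff.mp
    rw [← hgen]
    exact normalClosure_le_normal (Set.singleton_subset_iff.mpr hx)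
  have hsc : ∀ g : G, ∃ ω : ℂ, ρ g = ω • (LinearMap.id : (Fin n → ℂ) →ₗ[ℂ] (Fin n → ℂ)) := by
    intro g
    have : g ∈ scalarSubgroup ρ := by rw [htop]; exact mem_top g
    exact this
  have hle : commutator G ≤ MonoidHom.ker ρ := by
    rw [commutator_def, Subgroup.commutator_le]
    intro a _ b _
    rw [MonoidHom.mem_ker, commutatorElement_def, map_mul, map_mul, map_mul]
    obtain ⟨ωa, ha⟩ := hsc a
    obtain ⟨ωb, hb⟩ := hsc b
    have hcomm : ρ a * ρ b = ρ b * ρ a := by
      rw [ha, hb]
      ext v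
      simp [smul_smul, mul_comm]
    calc ρ a * ρ b * ρ a⁻¹ * ρ b⁻¹ = ρ b * (ρ a * ρ a⁻¹) * ρ b⁻¹ := by
          rw [hcomm, mul_assoc (ρ b)]
      _ = 1 := by
          rw [← map_mul, mul_inv_cancel, map_one, mul_one, ← map_mul, mul_inv_cancel, map_one]
  intro d hd
  exact hle hd

/-- Step B: every nonprincipal character in the principal `r`-block of the commutator subgroup
has degree divisible by `p`. -/
theorem prime_dvd_degree_of_principal {p r : ℕ} (hp : p.Prime) (hpr : p ≠ r)
    {M : Ideal Cfsg.AlgInt} (hM : Cfsg.IsPModular r M) (x : G) {k : ℕ}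
    (hcl : (centralizer ({x} : Set G)).index = p ^ k)
    (hgen : normalClosure ({x} : Set G) = ⊤)
    (hidx : ¬ p ∣ (commutator G).index) [Fintype (commutator G)]
    (θ : Cfsg.IrrCharacter (commutator G)) (hθ : θ ∈ Cfsg.principalBlock M (commutator G))
    (hθ1 : θ ≠ trivIrr (commutator G)) :
    ∃ m : ℕ, (θ : commutator G → ℂ) 1 = ((p * m : ℕ) : ℂ) := by
  classical
  have hcov : ∃ χ ∈ Cfsg.principalBlock M G, ∃ θ' ∈ Cfsg.principalBlock M (commutator G),
      Cfsg.classInner (fun n : commutator G => (χ : G → ℂ) n) (θ' : commutator G → ℂ) ≠ 0 := by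
    refine ⟨trivIrr G, trivIrr_mem_principalBlock hM, trivIrr (commutator G),
      trivIrr_mem_principalBlock hM, ?_⟩
    have := classInner_irrCharacter_self (trivIrr (commutator G))
    have e : (fun n : commutator G => ((trivIrr G : Cfsg.IrrCharacter G) : G → ℂ) n)
        = ((trivIrr (commutator G) : Cfsg.IrrCharacter (commutator G)) : commutator G → ℂ) := rfl
    rw [e, this]
    exact one_ne_zero
  obtain ⟨χ, hχB, hχθ⟩ := exists_over_of_covering (commutator G) hM
    (Cfsg.principalBlock M G) isPBlock_principalBlock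
    (Cfsg.principalBlock M (commutator G)) isPBlock_principalBlock hcov θ hθ
  obtain ⟨b, d, hd, hbd, hb⟩ := Cfsg.Agent.Lib.Helper2.DegreeRatio.main (commutator G)
    (χ : G → ℂ) χ.2 (θ : commutator G → ℂ) θ.2 hχθ
  have hpbd : p ∣ b * d := by
    by_contra hnd
    obtain ⟨n, ρ, hρ, hρχ⟩ := χ.2
    have hn : n = b * d := by
      have h1 : ρ.character 1 = (finrank ℂ (Fin n → ℂ) : ℂ) := Representation.char_one ρ
      rw [Module.finrank_fin_fun, hρχ, hbd] at h1
      exact_mod_cast h1.symm
    have hmem : Cfsg.SameBlock M (fun _ : G => (1 : ℂ)) ρ.character := by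
      rw [hρχ]; exact hχB
    have hker := commutator_le_ker_of_principal hp hpr hM x hcl hgen n ρ hρ hmem (hn ▸ hnd)
    apply hχθ
    have hconst : (fun n' : commutator G => (χ : G → ℂ) n')
        = ((χ : G → ℂ) 1) • ((trivIrr (commutator G) : Cfsg.IrrCharacter (commutator G)) :
            commutator G → ℂ) := by
      funext d'
      show (χ : G → ℂ) d' = (χ : G → ℂ) 1 * 1
      rw [mul_one, ← hρχ]
      show LinearMap.trace ℂ _ (ρ (d' : G)) = LinearMap.trace ℂ _ (ρ 1)
      rw [hker d' d'.2, map_one ρ]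
    rw [hconst, classInner_smul_left, classInner_irrCharacter_ne (Ne.symm hθ1), mul_zero]
  have hpb : ¬ p ∣ b := fun h => hidx (h.trans hb)
  obtain ⟨m, hm⟩ := (hp.dvd_mul.mp hpbd).resolve_left hpb
  exact ⟨m, by rw [hd, hm]⟩

/-- The block-theoretic contradiction. -/
theorem false_of_block {p r : ℕ} (hp : p.Prime) (hr : r.Prime) (hpr : p ≠ r) (x : G) {k : ℕ}
    (hcl : (centralizer ({x} : Set G)).index = p ^ k)
    (hgen : normalClosure ({x} : Set G) = ⊤)
    (hidx : ¬ p ∣ (commutator G).index) (hrD : r ∣ Nat.card (commutator G)) : False := by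
  classical
  haveI : Fintype (commutator G) := Fintype.ofFinite _
  haveI : Fintype (Cfsg.IrrCharacter (commutator G)) := Fintype.ofFinite _
  obtain ⟨M, hM⟩ := Cfsg.Agent.Lib.Helper25.exists_isPModular r hr
  haveI : Fact r.Prime := ⟨hr⟩
  obtain ⟨y, hy⟩ := exists_prime_orderOf_dvd_card' (G := commutator G) r hrD
  have horth := block_orthogonality hM (Cfsg.principalBlock M (commutator G))
    isPBlock_principalBlock (1 : commutator G) y (by
      intro g j hj
      rw [one_pow, one_mul] at hj
      have h1 : y ^ j = 1 := by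
        have := mul_left_cancel (a := g) (b := 1) (c := y ^ j) (by rw [mul_one]; exact hj)
        exact this.symm
      rw [← hy]
      exact orderOf_dvd_of_pow_eq_one h1)
  rw [finsum_mem_eq_sum_ite] at horth
  -- split off the principal character
  have key : ∀ θ : Cfsg.IrrCharacter (commutator G), θ ≠ trivIrr (commutator G) →
      ∃ β : ℂ, IsIntegral ℤ β ∧
        (if θ ∈ Cfsg.principalBlock M (commutator G) then
          (θ : commutator G → ℂ) 1 * conj ((θ : commutator G → ℂ) y) else 0) = (p : ℂ) * β := by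
    intro θ hθ1
    by_cases hθ : θ ∈ Cfsg.principalBlock M (commutator G)
    · obtain ⟨m, hm⟩ := prime_dvd_degree_of_principal hp hpr hM x hcl hgen hidx θ hθ hθ1
      refine ⟨(m : ℂ) * (θ : commutator G → ℂ) y⁻¹, ?_, ?_⟩
      · apply IsIntegral.mul isIntegral_algebraMap
        obtain ⟨n, ρ, _, hρ⟩ := θ.2
        rw [← hρ]
        exact char_isIntegral ρ y⁻¹
      · rw [if_pos hθ, hm, IrrCharacter.apply_inv]
        push_cast
        ring
    · exact ⟨0, isIntegral_zero, by rw [if_neg hθ, mul_zero]⟩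
  choose! β hβint hβ using key
  rw [← Finset.add_sum_erase Finset.univ _ (Finset.mem_univ (trivIrr (commutator G)))] at horth
  have h1 : (if trivIrr (commutator G) ∈ Cfsg.principalBlock M (commutator G) then
      ((trivIrr (commutator G) : Cfsg.IrrCharacter (commutator G)) : commutator G → ℂ) 1 *
        conj (((trivIrr (commutator G) : Cfsg.IrrCharacter (commutator G)) :
          commutator G → ℂ) y) else 0) = 1 := by
    rw [if_pos (trivIrr_mem_principalBlock hM)]
    show (1 : ℂ) * conj (1 : ℂ) = 1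
    simp
  rw [h1] at horth
  have h2 : ∑ θ ∈ Finset.univ.erase (trivIrr (commutator G)),
      (if θ ∈ Cfsg.principalBlock M (commutator G) then
          (θ : commutator G → ℂ) 1 * conj ((θ : commutator G → ℂ) y) else 0)
      = (p : ℂ) * ∑ θ ∈ Finset.univ.erase (trivIrr (commutator G)), β θ := by
    rw [Finset.mul_sum]
    apply Finset.sum_congr rfl
    intro θ hθ
    exact hβ θ (Finset.ne_of_mem_erase hθ)
  rw [h2] at horth
  have hB : IsIntegral ℤ (∑ θ ∈ Finset.univ.erase (trivIrr (commutator G)), β θ) := by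
    apply IsIntegral.sum
    intro θ hθ
    exact hβint θ (Finset.ne_of_mem_erase hθ)
  set B := ∑ θ ∈ Finset.univ.erase (trivIrr (commutator G)), β θ with hBdef
  have hpne : (p : ℂ) ≠ 0 := by exact_mod_cast hp.ne_zero
  have hBval : B = ((-1 / p : ℚ) : ℂ) := by
    push_cast
    field_simp
    linear_combination horth
  obtain ⟨z, hz⟩ := exists_int_of_isIntegral_of_rat (-1 / p : ℚ) hBval hB
  rw [hBval] at hz
  have h3 : (-1 : ℚ) / p = z := by exact_mod_cast hz
  have hpq : (p : ℚ) ≠ 0 := by exact_mod_cast hp.ne_zero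
  have h4 : (-1 : ℚ) = z * p := by
    rw [← h3]; field_simp
  have h5 : (-1 : ℤ) = z * p := by exact_mod_cast h4
  have h6 : (p : ℤ) ∣ 1 := ⟨-z, by linarith⟩
  have h7 : p ∣ 1 := by exact_mod_cast h6
  exact hp.one_lt.ne' (Nat.dvd_one.mp h7)

end Cfsg.Agent.Lib.Helper23.Kazarin
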