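import Mathlib
import Cfsg.Agent.Lib.Helper23.KazarinBasic
import Cfsg.Agent.Lib.Helper23.KazarinBlock
import Cfsg.Agent.Lib.Lead.ClassPow
import Cfsg.Agent.Lib.Helper1.Cores

/-!
# Kazarin's theorem (helper23)

`isSolvable_normalClosure_of_index_prime_pow` : if the conjugacy class of `x` has prime power
size then the normal closure of `x` is solvable.
-/

set_option autoImplicit false

namespace Cfsg.Agent.Lib.Helper23.Kazarin

open Subgroup
open scoped commutatorElement

universe u

/-- Kazarin's theorem for `p'`-elements, by induction on the group order. -/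
theorem isSolvable_normalClosure_of_coprime (p : ℕ) (hp : p.Prime) :
    ∀ n : ℕ, ∀ (G : Type u) [Group G] [Finite G], Nat.card G = n → ∀ x : G,
      (orderOf x).Coprime p → (∃ k : ℕ, (centralizer ({x} : Set G)).index = p ^ k) →
      Group.IsSolvable (normalClosure ({x} : Set G)) := by
  intro n
  induction n using Nat.strong_induction_on with
  | _ n ih =>
  intro G _ _ hn x hxp hcl'
  obtain ⟨k, hcl⟩ := hcl'
  by_cases hH : normalClosure ({x} : Set G) = ⊤
  · -- `G = ⟨x^G⟩`
    suffices hG : Group.IsSolvable G by infer_instance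
    by_contra hns
    -- (i) no nontrivial solvable normal subgroup
    have hno : ∀ A : Subgroup G, A.Normal → Group.IsSolvable A → A = ⊥ := by
      intro A hA hAs
      by_contra hAne
      haveI := hA
      have hlt : Nat.card (G ⧸ A) < n := by
        rw [← hn, ← Subgroup.index_eq_card, ← Subgroup.card_mul_index A]
        have h1 : 1 < Nat.card A := (Subgroup.one_lt_card_iff_ne_bot A).mpr hAne
        have h2 : 0 < A.index := Nat.pos_of_ne_zero Subgroup.index_ne_zero_of_finite
        nlinarith
      have hord : (orderOf (QuotientGroup.mk x : G ⧸ A)).Coprime p :=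
        Nat.Coprime.coprime_dvd_left (orderOf_map_dvd (QuotientGroup.mk' A) x) hxp
      obtain ⟨j, _, hj⟩ := (Nat.dvd_prime_pow hp).mp (hcl ▸ index_centralizer_quotient_dvd A x)
      have hsol := ih _ hlt (G ⧸ A) rfl (QuotientGroup.mk x) hord ⟨j, hj⟩
      have htop : normalClosure ({(QuotientGroup.mk x : G ⧸ A)} : Set (G ⧸ A)) = ⊤ := by
        have h1 := Subgroup.map_normalClosure ({x} : Set G) (QuotientGroup.mk' A)
          (QuotientGroup.mk'_surjective A)
        rw [hH, Set.image_singleton, Subgroup.map_top_of_surjective _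
          (QuotientGroup.mk'_surjective A)] at h1
        exact h1.symm
      rw [htop] at hsol
      have hQ : Group.IsSolvable (G ⧸ A) :=
        Group.isSolvable_of_surjective (f := (⊤ : Subgroup (G ⧸ A)).subtype)
          (fun q => ⟨⟨q, mem_top q⟩, rfl⟩)
      haveI := hAs
      exact hns (Group.isSolvable_of_ker_le_range A.subtype (QuotientGroup.mk' A) (by simp))
    -- (ii) `G = G' ⟨x⟩`
    have hsup : commutator G ⊔ zpowers x = ⊤ := by
      apply top_le_iff.mp
      rw [← hH, normalClosure, closure_le]
      intro y hy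
      obtain ⟨b, hb, hby⟩ := Group.mem_conjugatesOfSet_iff.1 hy
      rw [Set.mem_singleton_iff] at hb
      subst hb
      obtain ⟨c, hc⟩ := isConj_iff.1 hby
      rw [← hc]
      have e : c * b * c⁻¹ = ⁅c, b⁆ * b := by rw [commutatorElement_def]; group
      rw [e]
      refine mul_mem (mem_sup_left ?_) (mem_sup_right (mem_zpowers b))
      rw [_root_.commutator_def]
      exact commutator_mem_commutator (mem_top c) (mem_top b)
    have hidx : ¬ p ∣ (commutator G).index := by
      have h1 : (commutator G).index = (commutator G).relIndex (zpowers x) := by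
        rw [← Subgroup.relIndex_top_right, ← hsup, Subgroup.relIndex_sup_left]
      have h2 : (commutator G).relIndex (zpowers x) ∣ orderOf x := by
        rw [← Nat.card_zpowers]
        exact Subgroup.relIndex_dvd_card _ _
      intro hp'
      have h3 : p ∣ orderOf x := (h1 ▸ hp').trans h2
      exact hp.one_lt.ne' (Nat.eq_one_of_dvd_coprimes hxp h3 dvd_rfl)
    -- (iii) a prime `r ≠ p` dividing `|G'|`
    have hex : ∃ r : ℕ, r.Prime ∧ r ≠ p ∧ r ∣ Nat.card (commutator G) := by
      by_contra hcon
      push Not at hcon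
      have hpow : Nat.card (commutator G)
          = p ^ (Nat.card (commutator G)).primeFactorsList.length := by
        apply Nat.eq_prime_pow_of_unique_prime_dvd Nat.card_pos.ne'
        intro d hd hdvd
        by_contra hne
        exact hcon d hd hne hdvd
      haveI : Fact p.Prime := ⟨hp⟩
      have hPG : IsPGroup p (commutator G) := IsPGroup.of_card hpow
      haveI := hPG.isNilpotent
      have hsD : Group.IsSolvable (commutator G) := inferInstance
      exact hns (Group.isSolvable_of_ker_le_range (commutator G).subtype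
        (Abelianization.of (G := G)) (by simp))
    obtain ⟨r, hr, hrp, hrD⟩ := hex
    haveI : Fintype G := Fintype.ofFinite G
    exact false_of_block hp hr (Ne.symm hrp) x hcl hH hidx hrD
  · -- `H = ⟨x^G⟩ < G`
    set H := normalClosure ({x} : Set G) with hHdef
    have hHn : H.Normal := normalClosure_normal
    have hxH : x ∈ H := subset_normalClosure (Set.mem_singleton x)
    have hlt : Nat.card H < n := by
      rw [← hn, ← Subgroup.card_mul_index H]
      have h1 : H.index ≠ 1 := fun h => hH (Subgroup.index_eq_one.mp h)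
      have h2 : H.index ≠ 0 := Subgroup.index_ne_zero_of_finite
      have h3 : 0 < Nat.card H := Nat.card_pos
      have h4 : 2 ≤ H.index := by omega
      nlinarith
    have hmem : ∀ g : G, g * x * g⁻¹ ∈ H := fun g => hHn.conj_mem x hxH g
    let f : G → Subgroup G := fun g =>
      (normalClosure ({(⟨g * x * g⁻¹, hmem g⟩ : H)} : Set H)).map H.subtype
    have hle : ∀ g, f g ≤ H := fun g => Subgroup.map_subtype_le _
    have hnorm : ∀ g, H ≤ normalizer ((f g : Subgroup G) : Set G) := by
      intro g
      apply Cfsg.Agent.Lib.Helper1.le_normalizer_of_forall_conj_mem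
      rintro h hh _ ⟨t, ht, rfl⟩
      refine ⟨(⟨h, hh⟩ : H) * t * (⟨h, hh⟩ : H)⁻¹, ?_, rfl⟩
      exact (normalClosure_normal (s := ({(⟨g * x * g⁻¹, hmem g⟩ : H)} : Set H))).conj_mem t ht _
    have hsol : ∀ g, Group.IsSolvable (f g) := by
      intro g
      have hord : (orderOf (⟨g * x * g⁻¹, hmem g⟩ : H)).Coprime p := by
        have e1 : orderOf (⟨g * x * g⁻¹, hmem g⟩ : H) = orderOf (g * x * g⁻¹) :=
          (Subgroup.orderOf_coe (⟨g * x * g⁻¹, hmem g⟩ : H)).symm
        have e2 : orderOf (g * x * g⁻¹) = orderOf x :=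
          orderOf_injective (MulAut.conj g).toMonoidHom (MulAut.conj g).injective x
        rw [e1, e2]
        exact hxp
      have hdvd : (centralizer ({(⟨g * x * g⁻¹, hmem g⟩ : H)} : Set H)).index ∣ p ^ k := by
        rw [← hcl, ← index_centralizer_conj x g]
        exact index_centralizer_subtype_dvd H (g * x * g⁻¹) (hmem g)
      obtain ⟨j, _, hj⟩ := (Nat.dvd_prime_pow hp).mp hdvd
      have h1 := ih _ hlt H rfl (⟨g * x * g⁻¹, hmem g⟩ : H) hord ⟨j, hj⟩
      exact Group.isSolvable_of_surjective
        (f := (H.subtype.subgroupMap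
          (normalClosure ({(⟨g * x * g⁻¹, hmem g⟩ : H)} : Set H))))
        (H.subtype.subgroupMap_surjective _)
    have hS := isSolvable_iSup_of_normal f H hle hnorm hsol
    have hHle : H ≤ ⨆ g, f g := by
      rw [hHdef, normalClosure, closure_le]
      intro y hy
      obtain ⟨b, hb, hby⟩ := Group.mem_conjugatesOfSet_iff.1 hy
      rw [Set.mem_singleton_iff] at hb
      subst hb
      obtain ⟨c, hc⟩ := isConj_iff.1 hby
      rw [← hc]
      apply (le_iSup f c)
      exact ⟨⟨c * b * c⁻¹, hmem c⟩, subset_normalClosure (Set.mem_singleton _), rfl⟩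
    exact Group.isSolvable_of_isSolvable_injective (f := Subgroup.inclusion hHle)
      (Subgroup.inclusion_injective hHle)

/-- **Kazarin's theorem**: if the conjugacy class of `x` has prime power size, the normal closure
of `x` is solvable. -/
theorem isSolvable_normalClosure_of_index_prime_pow {G : Type u} [Group G] [Finite G] {p : ℕ}
    (hp : p.Prime) (x : G) {k : ℕ} (hcl : (centralizer ({x} : Set G)).index = p ^ k) :
    Group.IsSolvable (normalClosure ({x} : Set G)) := by
  haveI : Fact p.Prime := ⟨hp⟩
  have hn0 : orderOf x ≠ 0 := (orderOf_pos x).ne'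
  set n := orderOf x with hn
  set j := n.factorization p with hj
  set m := n / p ^ j with hm
  have hnm : p ^ j * m = n := Nat.ordProj_mul_ordCompl_eq_self n p
  have hcop : Nat.Coprime (p ^ j) m := Nat.Coprime.pow_left _ (Nat.coprime_ordCompl hp hn0)
  have hbez : ((p ^ j : ℕ) : ℤ) * Nat.gcdA (p ^ j) m + (m : ℤ) * Nat.gcdB (p ^ j) m = 1 := by
    rw [← Nat.gcd_eq_gcd_ab, hcop.gcd_eq_one]; simp
  set u := Nat.gcdA (p ^ j) m with hu
  set v := Nat.gcdB (p ^ j) m with hv
  set a := x ^ ((m : ℤ) * v) with ha
  set b := x ^ (((p ^ j : ℕ) : ℤ) * u) with hb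
  have hab : b * a = x := by
    rw [ha, hb, ← zpow_add, hbez, zpow_one]
  have hxn : x ^ n = 1 := pow_orderOf_eq_one x
  have hapow : a ^ p ^ j = 1 := by
    rw [ha, ← zpow_natCast, ← zpow_mul]
    have e : (m : ℤ) * v * ((p ^ j : ℕ) : ℤ) = ((n : ℕ) : ℤ) * v := by
      rw [← hnm]; push_cast; ring
    rw [e, zpow_mul, zpow_natCast, hxn, one_zpow]
  have hbpow : b ^ m = 1 := by
    rw [hb, ← zpow_natCast, ← zpow_mul]
    have e : ((p ^ j : ℕ) : ℤ) * u * (m : ℤ) = ((n : ℕ) : ℤ) * u := by
      rw [← hnm]; push_cast; ring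
    rw [e, zpow_mul, zpow_natCast, hxn, one_zpow]
  have hbcop : (orderOf b).Coprime p := by
    have h1 : orderOf b ∣ m := orderOf_dvd_of_pow_eq_one hbpow
    exact Nat.Coprime.coprime_dvd_left h1 (Nat.coprime_ordCompl hp hn0).symm
  obtain ⟨ia, _, hia⟩ := (Nat.dvd_prime_pow hp).mp (hcl ▸ index_centralizer_zpow_dvd x ((m : ℤ) * v))
  obtain ⟨ib, _, hib⟩ := (Nat.dvd_prime_pow hp).mp
    (hcl ▸ index_centralizer_zpow_dvd x (((p ^ j : ℕ) : ℤ) * u))
  have haO : a ∈ Cfsg.pCore p G :=
    Cfsg.Agent.Lib.Lead.mem_pCore_of_class_pow p a ⟨j, hapow⟩ hia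
  have hbS := isSolvable_normalClosure_of_coprime p hp _ G rfl b hbcop ⟨ib, hib⟩
  haveI hOn : (Cfsg.pCore p G).Normal := Cfsg.Agent.Lib.Helper1.pCore_normal p
  have hOs : Group.IsSolvable (Cfsg.pCore p G) := by
    haveI := (Cfsg.Agent.Lib.Helper1.pCore_isPGroup (G := G) p).isNilpotent
    infer_instance
  have hsupS : Group.IsSolvable ↥(Cfsg.pCore p G ⊔ normalClosure ({b} : Set G)) := by
    apply Cfsg.Agent.Lib.Helper9.isSolvable_sup_of_le_normalizer hOs hbS
    rw [Subgroup.normalizer_eq_top]
    exact le_top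
  have hle : normalClosure ({x} : Set G) ≤ Cfsg.pCore p G ⊔ normalClosure ({b} : Set G) := by
    apply normalClosure_le_normal
    rw [Set.singleton_subset_iff, ← hab]
    exact mul_mem (mem_sup_right (subset_normalClosure (Set.mem_singleton b))) (mem_sup_left haO)
  exact Group.isSolvable_of_isSolvable_injective (f := Subgroup.inclusion hle)
    (Subgroup.inclusion_injective hle)

end Cfsg.Agent.Lib.Helper23.Kazarin
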