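import Mathlib
import Cfsg.Prelude.Def_GeometricClasses
import Cfsg.Agent.Lib.Helper7.AschDefs
import Cfsg.Agent.Lib.Helper11.AschCliffDefs

/-!
# S5630 block I4, pieces CL1 (`isSemisimple_envEnd`) and CL2' (`homog_of_commuting`)  (helper23)
-/

set_option autoImplicit false

namespace Cfsg.Agent.Lib.Helper23.S5630I4CL

open Matrix Cfsg Cfsg.Geo Cfsg.Agent.Lib.Helper7.Asch Cfsg.Agent.Lib.Helper11.Cliff
open scoped MatrixGroups Kronecker

variable {n : ℕ} {F : Type*} [Field F]

/-- the ring structure of `envEnd X`, as a local instance (instance resolution for `AddCommGroup ↥m`,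
`m : Submodule (envEnd X) _`, does not find it by itself) -/
@[reducible] def instRingEnvEnd (X : Subgroup (GL (Fin n) F)) : Ring (envEnd X) := inferInstance

attribute [local instance] instRingEnvEnd

theorem envEnd_smul_def (X : Subgroup (GL (Fin n) F)) (a : envEnd X) (v : Fin n → F) :
    a • v = (a : Module.End F (Fin n → F)) v := rfl

theorem mulVec_mem_of_mem (X : Subgroup (GL (Fin n) F)) (N : Submodule (envEnd X) (Fin n → F))
    {x : GL (Fin n) F} (hx : x ∈ X) {u : Fin n → F} (hu : u ∈ N) :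
    (x : Matrix (Fin n) (Fin n) F) *ᵥ u ∈ N := by
  have := N.smul_mem ⟨_, toLin_mem_envEnd hx⟩ hu
  rwa [envEnd_smul_def, Matrix.toLin'_apply] at this

/-- the translate `g N` of an `envEnd X`-submodule by an element `g` normalising `X` -/
def tr (X : Subgroup (GL (Fin n) F)) (g : GL (Fin n) F) (hg : ∀ x ∈ X, g⁻¹ * x * g ∈ X)
    (N : Submodule (envEnd X) (Fin n → F)) : Submodule (envEnd X) (Fin n → F) :=
  envSub X ((N.restrictScalars F).map (Matrix.toLin' (g : Matrix (Fin n) (Fin n) F))) (by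
    rintro x hx _ ⟨u, hu, rfl⟩
    refine ⟨((g⁻¹ * x * g : GL (Fin n) F) : Matrix (Fin n) (Fin n) F) *ᵥ u, ?_, ?_⟩
    · exact mulVec_mem_of_mem X N (hg x hx) hu
    · rw [Matrix.toLin'_apply, Matrix.toLin'_apply, Matrix.mulVec_mulVec, Matrix.mulVec_mulVec,
        ← Units.val_mul, ← Units.val_mul]
      congr 2
      group)

theorem mem_tr (X : Subgroup (GL (Fin n) F)) (g : GL (Fin n) F) (hg : ∀ x ∈ X, g⁻¹ * x * g ∈ X)
    (N : Submodule (envEnd X) (Fin n → F)) (v : Fin n → F) :
    v ∈ tr X g hg N ↔ ∃ u ∈ N, (g : Matrix (Fin n) (Fin n) F) *ᵥ u = v := by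
  unfold tr
  rw [mem_envSub, Submodule.mem_map]
  simp only [Submodule.restrictScalars_mem, Matrix.toLin'_apply]

theorem tr_mono (X : Subgroup (GL (Fin n) F)) (g : GL (Fin n) F) (hg : ∀ x ∈ X, g⁻¹ * x * g ∈ X)
    {N N' : Submodule (envEnd X) (Fin n → F)} (h : N ≤ N') : tr X g hg N ≤ tr X g hg N' := by
  intro v hv
  rw [mem_tr] at hv ⊢
  obtain ⟨u, hu, rfl⟩ := hv
  exact ⟨u, h hu, rfl⟩

theorem tr_tr (X : Subgroup (GL (Fin n) F)) (g k : GL (Fin n) F) (hg : ∀ x ∈ X, g⁻¹ * x * g ∈ X)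
    (hk : ∀ x ∈ X, k⁻¹ * x * k ∈ X) (hgk : g * k = 1) (N : Submodule (envEnd X) (Fin n → F)) :
    tr X g hg (tr X k hk N) = N := by
  ext v
  rw [mem_tr]
  have e : ∀ w : Fin n → F, (g : Matrix (Fin n) (Fin n) F) *ᵥ ((k : Matrix (Fin n) (Fin n) F) *ᵥ w) = w := by
    intro w
    rw [Matrix.mulVec_mulVec, ← Units.val_mul, hgk, Units.val_one, Matrix.one_mulVec]
  constructor
  · rintro ⟨u, hu, rfl⟩
    rw [mem_tr] at hu
    obtain ⟨w, hw, rfl⟩ := hu
    rwa [e]
  · intro hv
    exact ⟨(k : Matrix (Fin n) (Fin n) F) *ᵥ v, (mem_tr X k hk N _).mpr ⟨v, hv, rfl⟩, e v⟩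

/-- translation by `g` as an order automorphism of the lattice of `envEnd X`-submodules -/
def trIso (X : Subgroup (GL (Fin n) F)) (g : GL (Fin n) F) (hg : ∀ x ∈ X, g⁻¹ * x * g ∈ X)
    (hg' : ∀ x ∈ X, g⁻¹⁻¹ * x * g⁻¹ ∈ X) :
    Submodule (envEnd X) (Fin n → F) ≃o Submodule (envEnd X) (Fin n → F) where
  toFun := tr X g hg
  invFun := tr X g⁻¹ hg'
  left_inv N := tr_tr X g⁻¹ g hg' hg (inv_mul_cancel g) N
  right_inv N := tr_tr X g g⁻¹ hg hg' (mul_inv_cancel g) N
  map_rel_iff' := by
    intro N N'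
    change tr X g hg N ≤ tr X g hg N' ↔ N ≤ N'
    constructor
    · intro h
      have := tr_mono X g⁻¹ hg' h
      rwa [tr_tr X g⁻¹ g hg' hg (inv_mul_cancel g), tr_tr X g⁻¹ g hg' hg (inv_mul_cancel g)] at this
    · exact tr_mono X g hg

theorem tr_socle_le (X : Subgroup (GL (Fin n) F)) (g : GL (Fin n) F) (hg : ∀ x ∈ X, g⁻¹ * x * g ∈ X)
    (hg' : ∀ x ∈ X, g⁻¹⁻¹ * x * g⁻¹ ∈ X) :
    tr X g hg (sSup {m : Submodule (envEnd X) (Fin n → F) | IsSimpleModule (envEnd X) m}) ≤
      sSup {m : Submodule (envEnd X) (Fin n → F) | IsSimpleModule (envEnd X) m} := by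
  have h1 : tr X g hg (sSup {m : Submodule (envEnd X) (Fin n → F) | IsSimpleModule (envEnd X) m}) =
      trIso X g hg hg' (sSup {m : Submodule (envEnd X) (Fin n → F) | IsSimpleModule (envEnd X) m}) := rfl
  rw [h1, OrderIso.map_sSup]
  refine iSup₂_le fun m hm => le_sSup ?_
  rw [Set.mem_ofPred_eq, isSimpleModule_iff_isAtom] at hm ⊢
  exact (OrderIso.isAtom_iff _ _).mpr hm

/-- **CL1** (Clifford): the restriction to a normalised subgroup of an irreducible module is semisimple -/
theorem isSemisimple_envEnd (G X : Subgroup (GL (Fin n) F)) (hG : Irr G) (hX : NormBy G X) :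
    IsSemisimpleModule (envEnd X) (Fin n → F) := by
  haveI : IsArtinian (envEnd X) (Fin n → F) := isArtinian_of_tower F inferInstance
  apply IsSemisimpleModule.of_sSup_simples_eq_top
  have hinv : ∀ s ∈ matrixSet G,
      ((sSup {m : Submodule (envEnd X) (Fin n → F) | IsSimpleModule (envEnd X) m}).restrictScalars F).map
        (Matrix.toLin' s) ≤
      (sSup {m : Submodule (envEnd X) (Fin n → F) | IsSimpleModule (envEnd X) m}).restrictScalars F := by
    rintro _ ⟨g, hg, rfl⟩
    have h1 : ∀ x ∈ X, g⁻¹ * x * g ∈ X := fun x hx => by simpa using hX g⁻¹ (inv_mem hg) x hx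
    have h2 : ∀ x ∈ X, g⁻¹⁻¹ * x * g⁻¹ ∈ X := fun x hx => by simpa using hX g hg x hx
    have := tr_socle_le X g h1 h2
    intro v hv
    exact this hv
  rcases hG _ hinv with h | h
  · rw [Submodule.restrictScalars_eq_bot_iff] at h
    rcases eq_bot_or_exists_atom_le (⊤ : Submodule (envEnd X) (Fin n → F)) with h0 | ⟨a, ha, -⟩
    · rw [h, h0]
    · exfalso
      have hle : a ≤ sSup {m : Submodule (envEnd X) (Fin n → F) | IsSimpleModule (envEnd X) m} :=
        le_sSup (isSimpleModule_iff_isAtom.mpr ha)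
      rw [h] at hle
      exact ha.1 (le_bot_iff.mp hle)
  · rwa [Submodule.restrictScalars_eq_top_iff] at h

theorem toLin_comm_envEnd (X : Subgroup (GL (Fin n) F)) (c : GL (Fin n) F)
    (hc : ∀ x ∈ X, x * c = c * x) (a : Module.End F (Fin n → F)) (ha : a ∈ envEnd X) :
    Matrix.toLin' (c : Matrix (Fin n) (Fin n) F) * a = a * Matrix.toLin' (c : Matrix (Fin n) (Fin n) F) := by
  have h1 := Algebra.adjoin_le_centralizer_centralizer F
    ((fun g : GL (Fin n) F => Matrix.toLin' (g : Matrix (Fin n) (Fin n) F)) '' (X : Set (GL (Fin n) F))) ha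
  rw [Subalgebra.mem_centralizer_iff] at h1
  refine h1 _ ?_
  rw [Subalgebra.coe_centralizer, Set.mem_centralizer_iff]
  rintro _ ⟨x, hx, rfl⟩
  simp only
  rw [Module.End.mul_eq_comp, Module.End.mul_eq_comp, ← Matrix.toLin'_mul, ← Matrix.toLin'_mul,
    ← Units.val_mul, ← Units.val_mul, hc x hx]

/-- **CL2'**: if `X ⊔ C` is irreducible and `C` centralises `X` then `X` is homogeneous -/
theorem homog_of_commuting (X C : Subgroup (GL (Fin n) F)) (hI : Irr (X ⊔ C))
    (hcomm : ∀ x ∈ X, ∀ c ∈ C, x * c = c * x) : Homog X := by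
  have hnorm : NormBy (X ⊔ C) X := by
    have hle : X ⊔ C ≤ Subgroup.normalizer (X : Set (GL (Fin n) F)) := by
      refine sup_le Subgroup.le_normalizer ?_
      intro c hc
      rw [Subgroup.mem_normalizer_iff]
      intro x
      constructor
      · intro hx
        have : c * x * c⁻¹ = x := by rw [← hcomm x hx c hc]; group
        rwa [this]
      · intro hx
        have h2 := hcomm _ hx c hc
        have : x = c * x * c⁻¹ := by
          have : c * x * c⁻¹ * c = c * (c * x * c⁻¹) := h2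
          have h3 : c * x = c * (c * x * c⁻¹) := by rw [← this]; group
          exact mul_left_cancel h3
        rw [this]; exact hx
    intro g hg x hx
    exact ((Subgroup.mem_normalizer_iff.mp (hle hg)) x).mp hx
  haveI := isSemisimple_envEnd (X ⊔ C) X hI hnorm
  unfold Homog
  rw [isIsotypic_iff_isFullyInvariant_imp_bot_or_top]
  intro N hN
  have hXs : X ≤ subspaceStabilizer (N.restrictScalars F) := by
    intro x hx v
    constructor
    · intro hv
      exact mulVec_mem_of_mem X N hx hv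
    · intro hv
      have := mulVec_mem_of_mem X N (inv_mem hx) hv
      change ((x⁻¹ : GL (Fin n) F) : Matrix (Fin n) (Fin n) F) *ᵥ ((x : Matrix (Fin n) (Fin n) F) *ᵥ v) ∈ N at this
      rwa [Matrix.mulVec_mulVec, ← Units.val_mul, inv_mul_cancel, Units.val_one, Matrix.one_mulVec] at this
  have hCmem : ∀ c ∈ C, ∀ v ∈ N, (c : Matrix (Fin n) (Fin n) F) *ᵥ v ∈ N := by
    intro c hc v hv
    let f : Module.End (envEnd X) (Fin n → F) :=
      { toFun := fun v => (c : Matrix (Fin n) (Fin n) F) *ᵥ v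
        map_add' := fun u w => Matrix.mulVec_add _ u w
        map_smul' := by
          rintro ⟨a, ha⟩ u
          have := toLin_comm_envEnd X c (fun x hx => hcomm x hx c hc) a ha
          have h2 := LinearMap.congr_fun this u
          simp only [Module.End.mul_apply, Matrix.toLin'_apply] at h2
          exact h2 }
    exact hN f hv
  have hCs : C ≤ subspaceStabilizer (N.restrictScalars F) := by
    intro c hc v
    constructor
    · intro hv
      exact hCmem c hc v hv
    · intro hv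
      have := hCmem c⁻¹ (inv_mem hc) _ hv
      change ((c⁻¹ : GL (Fin n) F) : Matrix (Fin n) (Fin n) F) *ᵥ ((c : Matrix (Fin n) (Fin n) F) *ᵥ v) ∈ N at this
      rwa [Matrix.mulVec_mulVec, ← Units.val_mul, inv_mul_cancel, Units.val_one, Matrix.one_mulVec] at this
  have hinv : ∀ s ∈ matrixSet (X ⊔ C),
      (N.restrictScalars F).map (Matrix.toLin' s) ≤ N.restrictScalars F := by
    rintro _ ⟨g, hg, rfl⟩ _ ⟨v, hv, rfl⟩
    rw [Matrix.toLin'_apply]
    exact ((sup_le hXs hCs) hg v).mp hv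
  rcases hI _ hinv with h | h
  · left; rwa [Submodule.restrictScalars_eq_bot_iff] at h
  · right; rwa [Submodule.restrictScalars_eq_top_iff] at h

end Cfsg.Agent.Lib.Helper23.S5630I4CL
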