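import Mathlib
import Cfsg.Prelude.Def_GeometricClasses
import Cfsg.Agent.Lib.Helper7.AschDefs
import Cfsg.Agent.Lib.Helper11.AschCliffDefs
import Cfsg.Agent.Lib.Helper11.AschCliffAct
import Cfsg.Agent.Lib.Helper11.FormCliffDefs
import Cfsg.Agent.Lib.Helper23.S5630CoreF1

/-!
# Clifford theory with a form: pieces FC-COMM (the commutant and its centre are closed under adjoints)  (helper23)

Also (own versions of FC-GRAM / FC-ADJ): `repr`, `gram_det`, `adjL`, `adjR`.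
-/

set_option autoImplicit false

namespace Cfsg.Agent.Lib.Helper23.FCliffCOMM

open Matrix Cfsg Cfsg.Geo Cfsg.Agent.Lib.Helper7.Asch Cfsg.Agent.Lib.Helper11.Cliff
  Cfsg.Agent.Lib.Helper11.CliffAct Cfsg.Agent.Lib.Helper11.FCliff
open scoped MatrixGroups Kronecker

variable {n : ℕ} {F : Type*} [Field F] {σ : F ≃+* F} {f : (Fin n → F) → (Fin n → F) → F}

theorem isSesq_of_rsForm (hf : RSForm σ f) : Cfsg.Agent.Lib.Helper23.S5630CoreF.IsSesq σ f :=
  ⟨hf.add_left, hf.smul_left, hf.add_right, hf.smul_right⟩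

/-- `f u v = uᵀ G σ(v)` -/
theorem repr (hf : RSForm σ f) (u v : Fin n → F) :
    f u v = u ⬝ᵥ (gramMatrix f *ᵥ fun b => σ (v b)) :=
  Cfsg.Agent.Lib.Helper23.S5630CoreF.sesq_repr σ f (isSesq_of_rsForm hf) u v

theorem gram_det (hf : RSForm σ f) : IsUnit (gramMatrix f).det :=
  (Matrix.isUnit_iff_isUnit_det _).mp
    (Cfsg.Agent.Lib.Helper23.S5630CoreF.gram_isUnit σ f (isSesq_of_rsForm hf) hf.nondeg)

/-- **FC-GRAM-a** (own version, spare) -/
theorem eq_formOfGram (hf : RSForm σ f) (x y : Fin n → F) :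
    f x y = formOfGram σ (gramMatrix f) x y := by
  rw [repr hf]
  simp only [formOfGram, dotProduct, Matrix.mulVec, Finset.mul_sum, mul_assoc]

theorem sigma_mulVec (R : Matrix (Fin n) (Fin n) F) (v : Fin n → F) :
    (fun b => σ ((R *ᵥ v) b)) = R.map σ *ᵥ (fun b => σ (v b)) := by
  funext i
  simp [Matrix.mulVec, dotProduct, map_sum, map_mul]

theorem map_symm_map (M : Matrix (Fin n) (Fin n) F) : (M.map σ.symm).map σ = M := by
  ext i j; simp

theorem mulVec_dot (B : Matrix (Fin n) (Fin n) F) (u w : Fin n → F) :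
    (B *ᵥ u) ⬝ᵥ w = u ⬝ᵥ (Bᵀ *ᵥ w) := by
  rw [Matrix.dotProduct_mulVec, Matrix.vecMul_transpose]

/-- **FC-ADJ-a** (own version) -/
theorem adjL (hf : RSForm σ f) (B : Matrix (Fin n) (Fin n) F) (u v : Fin n → F) :
    f (B *ᵥ u) v = f u (radjM σ (gramMatrix f) B *ᵥ v) := by
  have hdet := gram_det hf
  rw [repr hf, repr hf, sigma_mulVec]
  unfold radjM
  rw [map_symm_map, Matrix.mulVec_mulVec]
  have h1 : gramMatrix f * ((gramMatrix f)⁻¹ * Bᵀ * gramMatrix f) = Bᵀ * gramMatrix f := by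
    rw [← mul_assoc, ← mul_assoc, Matrix.mul_nonsing_inv _ hdet, one_mul]
  rw [h1, ← Matrix.mulVec_mulVec, mulVec_dot]

/-- **FC-ADJ-b** (own version) -/
theorem adjR (hf : RSForm σ f) (B : Matrix (Fin n) (Fin n) F) (u v : Fin n → F) :
    f u (B *ᵥ v) = f (ladjM σ (gramMatrix f) B *ᵥ u) v := by
  have hdet := gram_det hf
  rw [repr hf, repr hf, sigma_mulVec, mulVec_dot]
  unfold ladjM
  rw [Matrix.transpose_transpose, Matrix.mulVec_mulVec, Matrix.mulVec_mulVec]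
  have h1 : gramMatrix f * B.map σ * (gramMatrix f)⁻¹ * gramMatrix f = gramMatrix f * B.map σ := by
    rw [mul_assoc, Matrix.nonsing_inv_mul _ hdet, mul_one]
  rw [h1]

theorem eq_of_mulVec_eq {A B : Matrix (Fin n) (Fin n) F} (h : ∀ v, A *ᵥ v = B *ᵥ v) : A = B := by
  apply Matrix.toLin'.injective
  apply LinearMap.ext
  intro v
  rw [Matrix.toLin'_apply, Matrix.toLin'_apply, h]

/-- an isometry can be moved to the other side (first argument) -/
theorem isoL {X : Subgroup (GL (Fin n) F)} (hX : FixesForm (matrixSet X) f) {x : GL (Fin n) F}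
    (hx : x ∈ X) (u v : Fin n → F) :
    f ((x : Matrix (Fin n) (Fin n) F) *ᵥ u) v =
      f u (((x⁻¹ : GL (Fin n) F) : Matrix (Fin n) (Fin n) F) *ᵥ v) := by
  have h := hX _ ⟨x⁻¹, X.inv_mem hx, rfl⟩ ((x : Matrix (Fin n) (Fin n) F) *ᵥ u) v
  rw [Matrix.mulVec_mulVec, ← Units.val_mul, inv_mul_cancel, Units.val_one, Matrix.one_mulVec] at h
  exact h.symm

theorem comm_inv {X : Subgroup (GL (Fin n) F)} {M : Matrix (Fin n) (Fin n) F} (hM : M ∈ commAlg X)
    {x : GL (Fin n) F} (hx : x ∈ X) (u : Fin n → F) :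
    M *ᵥ (((x⁻¹ : GL (Fin n) F) : Matrix (Fin n) (Fin n) F) *ᵥ u) =
      ((x⁻¹ : GL (Fin n) F) : Matrix (Fin n) (Fin n) F) *ᵥ (M *ᵥ u) := by
  rw [Matrix.mulVec_mulVec, Matrix.mulVec_mulVec, (mem_commAlg_iff X M).mp hM x⁻¹ (X.inv_mem hx)]

theorem radjM_mem_commAlg (hf : RSForm σ f) (X : Subgroup (GL (Fin n) F))
    (hX : FixesForm (matrixSet X) f) (M : Matrix (Fin n) (Fin n) F) (hM : M ∈ commAlg X) :
    radjM σ (gramMatrix f) M ∈ commAlg X := by
  rw [mem_commAlg_iff]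
  intro x hx
  apply eq_of_mulVec_eq
  intro v
  apply hf.eq_of_forall_left
  intro u
  rw [← Matrix.mulVec_mulVec, ← Matrix.mulVec_mulVec, form_mulVec_right hX hx, ← adjL hf, ← adjL hf,
    form_mulVec_right hX hx, comm_inv hM hx]

/-- **FC-COMM-a** -/
theorem isAdjointClosedFor_commAlg (hf : RSForm σ f) (X : Subgroup (GL (Fin n) F))
    (hX : FixesForm (matrixSet X) f) : IsAdjointClosedFor f (commAlg X) := by
  intro k hk
  exact ⟨radjM σ (gramMatrix f) k, radjM_mem_commAlg hf X hX k hk, fun u v => adjL hf k u v⟩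

/-- **FC-COMM-a'** -/
theorem ladjM_mem_commAlg (hf : RSForm σ f) (X : Subgroup (GL (Fin n) F))
    (hX : FixesForm (matrixSet X) f) (M : Matrix (Fin n) (Fin n) F) (hM : M ∈ commAlg X) :
    ladjM σ (gramMatrix f) M ∈ commAlg X := by
  rw [mem_commAlg_iff]
  intro x hx
  apply eq_of_mulVec_eq
  intro u
  apply hf.eq_of_forall_right
  intro v
  rw [← Matrix.mulVec_mulVec, ← Matrix.mulVec_mulVec, isoL hX hx, ← adjR hf, ← adjR hf,
    isoL hX hx, comm_inv hM hx]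

/-- **FC-COMM-b** -/
theorem isAdjointClosedFor_cenAlg (hf : RSForm σ f) (X : Subgroup (GL (Fin n) F))
    (hX : FixesForm (matrixSet X) f) : IsAdjointClosedFor f (cenAlg X) := by
  intro M hM
  rw [mem_cenAlg_iff] at hM
  refine ⟨radjM σ (gramMatrix f) M, ?_, fun u v => adjL hf M u v⟩
  rw [mem_cenAlg_iff]
  refine ⟨radjM_mem_commAlg hf X hX M hM.1, ?_⟩
  intro C hC
  apply eq_of_mulVec_eq
  intro v
  apply hf.eq_of_forall_left
  intro u
  have hC'' := ladjM_mem_commAlg hf X hX C hC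
  rw [← Matrix.mulVec_mulVec, ← Matrix.mulVec_mulVec, adjR hf C, ← adjL hf, ← adjL hf, adjR hf C,
    Matrix.mulVec_mulVec, Matrix.mulVec_mulVec, hM.2 _ hC'']

theorem adj_pow (k k' : Matrix (Fin n) (Fin n) F) (h : ∀ u v, f (k *ᵥ u) v = f u (k' *ᵥ v)) (j : ℕ) :
    ∀ u v, f ((k ^ j) *ᵥ u) v = f u ((k' ^ j) *ᵥ v) := by
  induction j with
  | zero => intro u v; simp
  | succ j ih =>
    intro u v
    rw [pow_succ, pow_succ', ← Matrix.mulVec_mulVec, ← Matrix.mulVec_mulVec, ih, h]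

/-- **FC-COMM-c** -/
theorem isAdjointClosedFor_of_canonical (hf : RSForm σ f) (E K : Subalgebra F (Matrix (Fin n) (Fin n) F)) (N : ℕ)
    (hE : IsAdjointClosedFor f E) (hK : ∀ x, x ∈ K ↔ x ∈ E ∧ x ^ N = x) : IsAdjointClosedFor f K := by
  intro k hk
  obtain ⟨hkE, hkN⟩ := (hK k).mp hk
  obtain ⟨k', hk'E, hk'⟩ := hE k hkE
  refine ⟨k', (hK k').mpr ⟨hk'E, ?_⟩, hk'⟩
  apply eq_of_mulVec_eq
  intro v
  apply hf.eq_of_forall_left
  intro u
  rw [← adj_pow k k' hk' N, hkN, hk']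

end Cfsg.Agent.Lib.Helper23.FCliffCOMM
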