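import Mathlib
import Cfsg.Prelude.Def_GeometricClasses
import Cfsg.Agent.Lib.Helper7.AschDefs
import Cfsg.Agent.Lib.Helper8.S5630I4TENS
import Cfsg.Agent.Lib.Helper23.S5630CoreF1

/-!
# Clifford theory with a form: piece FC-SCHUR (`sesq_schur`)  (helper23)
-/

set_option autoImplicit false

namespace Cfsg.Agent.Lib.Helper23.FCliffSCHUR

open Matrix Cfsg Cfsg.Geo Cfsg.Agent.Lib.Helper7.Asch
open scoped MatrixGroups Kronecker

variable {n : ℕ} {F : Type*} [Field F] {σ : F ≃+* F}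

theorem map_map_symm {d : ℕ} (M : Matrix (Fin d) (Fin d) F) : (M.map σ).map σ.symm = M := by
  ext i j; simp

theorem map_symm_map {d : ℕ} (M : Matrix (Fin d) (Fin d) F) : (M.map σ.symm).map σ = M := by
  ext i j; simp

/-- **FC-SCHUR** -/
theorem sesq_schur {d : ℕ} (Y : Subgroup (GL (Fin d) F)) (hY : AbsIrr Y) (Z₁ Z₂ : Matrix (Fin d) (Fin d) F)
    (h1 : ∀ y ∈ Y, (y : Matrix (Fin d) (Fin d) F)ᵀ * Z₁ * (y : Matrix (Fin d) (Fin d) F).map σ = Z₁)
    (h2 : ∀ y ∈ Y, (y : Matrix (Fin d) (Fin d) F)ᵀ * Z₂ * (y : Matrix (Fin d) (Fin d) F).map σ = Z₂)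
    (hne : Z₁ ≠ 0) : IsUnit Z₁.det ∧ ∃ c : F, Z₂ = c • Z₁ := by
  -- intertwining relation for `A := Z₁.map σ.symm`
  have hint : ∀ y ∈ Y, ∃ y' : Matrix (Fin d) (Fin d) F,
      Z₁.map σ.symm * (y : Matrix (Fin d) (Fin d) F) = y' * Z₁.map σ.symm := by
    intro y hy
    refine ⟨(((y⁻¹ : GL (Fin d) F) : Matrix (Fin d) (Fin d) F)ᵀ).map σ.symm, ?_⟩
    have h := h1 y⁻¹ (inv_mem hy)
    -- (y⁻¹)ᵀ Z₁ = Z₁ σ(y)
    have hσ : ((y⁻¹ : GL (Fin d) F) : Matrix (Fin d) (Fin d) F).map σ *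
        (y : Matrix (Fin d) (Fin d) F).map σ = 1 := by
      rw [← Matrix.map_mul, ← Units.val_mul, inv_mul_cancel, Units.val_one]
      exact Matrix.map_one σ (map_zero σ) (map_one σ)
    have h3 : ((y⁻¹ : GL (Fin d) F) : Matrix (Fin d) (Fin d) F)ᵀ * Z₁ =
        Z₁ * (y : Matrix (Fin d) (Fin d) F).map σ := by
      calc ((y⁻¹ : GL (Fin d) F) : Matrix (Fin d) (Fin d) F)ᵀ * Z₁
          = ((y⁻¹ : GL (Fin d) F) : Matrix (Fin d) (Fin d) F)ᵀ * Z₁ *
            (((y⁻¹ : GL (Fin d) F) : Matrix (Fin d) (Fin d) F).map σ *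
              (y : Matrix (Fin d) (Fin d) F).map σ) := by rw [hσ, mul_one]
        _ = (((y⁻¹ : GL (Fin d) F) : Matrix (Fin d) (Fin d) F)ᵀ * Z₁ *
            ((y⁻¹ : GL (Fin d) F) : Matrix (Fin d) (Fin d) F).map σ) *
              (y : Matrix (Fin d) (Fin d) F).map σ := by simp only [mul_assoc]
        _ = Z₁ * (y : Matrix (Fin d) (Fin d) F).map σ := by rw [h]
    have h4 := congrArg (fun M : Matrix (Fin d) (Fin d) F => M.map σ.symm) h3
    simp only [Matrix.map_mul, map_map_symm] at h4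
    exact h4.symm
  have hZ : Z₁.map σ.symm ≠ 0 := by
    intro h0
    apply hne
    have := congrArg (fun M : Matrix (Fin d) (Fin d) F => M.map σ) h0
    simp only [map_symm_map] at this
    rw [this]
    ext i j; simp
  have hU : IsUnit (Z₁.map σ.symm) :=
    (Cfsg.Agent.Lib.Helper8.S5630I4TENS.zero_or_isUnit_of_intertwines Y hY.1 _ hint).resolve_left hZ
  have hdet : IsUnit Z₁.det := by
    have h5 : IsUnit (Z₁.map σ.symm).det := (Matrix.isUnit_iff_isUnit_det _).mp hU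
    have h6 : (Z₁.map σ.symm).det = σ.symm Z₁.det := by
      have := (RingHom.map_det (σ.symm : F →+* F) Z₁).symm
      simpa [RingHom.mapMatrix_apply] using this
    rw [h6] at h5
    have h7 := h5.map σ
    simpa using h7
  refine ⟨hdet, ?_⟩
  have hG1 : Z₁ * Z₁⁻¹ = 1 := Matrix.mul_nonsing_inv _ hdet
  have hG2 : Z₁⁻¹ * Z₁ = 1 := Matrix.nonsing_inv_mul _ hdet
  obtain ⟨M, hM⟩ : ∃ M : Matrix (Fin d) (Fin d) F, M = Z₂ * Z₁⁻¹ := ⟨_, rfl⟩
  have hcomm : ∀ s ∈ matrixSet Y, Mᵀ * s = s * Mᵀ := by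
    rintro s ⟨y, hy, rfl⟩
    have hXY : (y : Matrix (Fin d) (Fin d) F) * ((y⁻¹ : GL (Fin d) F) : Matrix (Fin d) (Fin d) F) = 1 := by
      rw [← Units.val_mul, mul_inv_cancel, Units.val_one]
    have h3 : M * (y : Matrix (Fin d) (Fin d) F)ᵀ = (y : Matrix (Fin d) (Fin d) F)ᵀ * M := by
      rw [hM]
      exact Cfsg.Agent.Lib.Helper23.S5630CoreF.comm_of_fix σ _ _ _ _ _ hXY hG1 hG2 (h1 y hy) (h2 y hy)
    have h4 := congrArg Matrix.transpose h3
    rw [Matrix.transpose_mul, Matrix.transpose_mul, Matrix.transpose_transpose] at h4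
    exact h4.symm
  obtain ⟨c, hc⟩ := hY.2 Mᵀ hcomm
  have hMc : M = c • (1 : Matrix (Fin d) (Fin d) F) := by
    have := congrArg Matrix.transpose hc
    rw [Matrix.transpose_transpose, Matrix.transpose_smul, Matrix.transpose_one] at this
    exact this
  refine ⟨c, ?_⟩
  calc Z₂ = Z₂ * (Z₁⁻¹ * Z₁) := by rw [hG2, mul_one]
    _ = M * Z₁ := by rw [hM, mul_assoc]
    _ = c • Z₁ := by rw [hMc, Matrix.smul_mul, one_mul]

end Cfsg.Agent.Lib.Helper23.FCliffSCHUR
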