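import Mathlib
import Cfsg.Prelude.Def_KGroupFacts
import Cfsg.Agent.S0102
import Cfsg.Agent.H5.TCkSound
import Cfsg.Agent.H5.StemTC
import Cfsg.Agent.H5.StemLift
import Cfsg.Agent.Lib.Helper1.Sp62L
import Cfsg.Agent.Lib.Helper12.McLWData
import Cfsg.Agent.Lib.Helper12.McLWCover

/-!
# S2047 piece [UP] (helper23 for helper12): the order of the kernel of a finite stem extension of a
`McL`-tuple group divides `3`, with the statements of [P], [C], [T], [ODD], [M] as hypotheses.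
-/

set_option autoImplicit false
set_option linter.unusedVariables false
set_option linter.style.haveILetI false

namespace Cfsg.Agent.Lib.Helper12.McLW

open Cfsg Cfsg.H5.TCk
open Cfsg.Agent.Lib.Helper5.Sp62 (cr crOf)
open Cfsg.H5.StemTC (cword cwords)

universe u v

namespace Helper23

theorem perfect_of_stem {Γ : Type u} {G : Type v} [Group Γ] [Group G] (σ : Γ →* G)
    (hσ : IsStemExtension σ) (hperf : commutator G = ⊤) : commutator Γ = ⊤ := by
  obtain ⟨hs, _, hcomm⟩ := hσ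
  rw [eq_top_iff]
  intro x _
  have hx : σ x ∈ (commutator Γ).map σ := by
    have h1 : (commutator Γ).map σ = commutator G := by
      rw [commutator_def, commutator_def, Subgroup.map_commutator, ← MonoidHom.range_eq_map,
        MonoidHom.range_eq_top.mpr hs]
    rw [h1, hperf]; exact Subgroup.mem_top _
  obtain ⟨y, hy, hyx⟩ := hx
  have hk : y⁻¹ * x ∈ σ.ker := by
    rw [MonoidHom.mem_ker, map_mul, map_inv, hyx, inv_mul_cancel]
  have : x = y * (y⁻¹ * x) := by group
  rw [this]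
  exact mul_mem hy (hcomm hk)

theorem card_eq_ker_mul {Γ : Type u} {G : Type v} [Group Γ] [Group G] (σ : Γ →* G)
    (hs : Function.Surjective σ) : Nat.card Γ = Nat.card σ.ker * Nat.card G := by
  rw [← Subgroup.card_mul_index σ.ker, Subgroup.index_ker, MonoidHom.range_eq_top.mpr hs,
    Subgroup.card_top]

theorem ev_replicate {Γ : Type u} [Group Γ] (γ : ℕ → Γ) (l x : ℕ) :
    ev γ (List.replicate l x) = gl γ x ^ l := by
  induction l with
  | zero => simp [ev]
  | succ l ih => rw [List.replicate_succ, ev, ih, pow_succ']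

theorem ev_pow7 {Γ : Type u} [Group Γ] (γ : ℕ → Γ) (i : ℕ) :
    ev γ (List.replicate 7 (2 * i)) = γ i ^ 7 := by
  rw [ev_replicate, gl_even]

theorem ev_single {Γ : Type u} [Group Γ] (γ : ℕ → Γ) (i : ℕ) : ev γ [2 * i] = γ i := by
  rw [ev, ev, mul_one, gl_even]

theorem factorization_seven : (898128000 : ℕ).factorization 7 = 1 := by
  have e : (898128000 : ℕ) = 7 ^ 1 * 128304000 := by norm_num
  rw [e, Nat.factorization_mul (by norm_num) (by norm_num), Finsupp.add_apply,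
    Nat.Prime.factorization_pow (by norm_num), Finsupp.single_eq_same,
    Nat.factorization_eq_zero_of_not_dvd (by norm_num)]

set_option maxRecDepth 100000 in
theorem conjW_idx : ∀ q ∈ conjW, q.2.1 < 5 ∧ q.2.2.1 / 2 < 5 := by decide

set_option maxRecDepth 100000 in
theorem tightW_all : ∀ w ∈ tightW, w.all (fun l => decide (l < 2 * 2)) = true := by decide

theorem wordZ_mem_weakW : wordZ ∈ weakW := by decide

theorem mem_powW {n : ℕ} {r : List ℕ} (h : r ∈ powW n) : ∃ i, i < n ∧ r = List.replicate 7 (2 * i) := by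
  unfold powW at h
  obtain ⟨i, hi, rfl⟩ := List.mem_map.mp h
  exact ⟨i, List.mem_range.mp hi, rfl⟩

theorem pow7_mem_powW {n i : ℕ} (hi : i < n) : List.replicate 7 (2 * i) ∈ powW n := by
  unfold powW
  exact List.mem_map.mpr ⟨i, List.mem_range.mpr hi, rfl⟩

theorem mem_relsW {r : List ℕ} (h : r ∈ relsW) :
    (∃ i, i < 5 ∧ r = List.replicate 7 (2 * i)) ∨ (∃ q, q ∈ conjW ∧ r = crOf q) ∨ r ∈ tightW ∨
      ∃ ρ, ρ ∈ weakW ∧ ∃ k, k < 5 ∧ r = cword ρ k := by
  unfold relsW at h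
  rcases List.mem_append.mp h with h | h
  · rcases List.mem_append.mp h with h | h
    · rcases List.mem_append.mp h with h | h
      · exact Or.inl (mem_powW h)
      · obtain ⟨q, hq, rfl⟩ := List.mem_map.mp h
        exact Or.inr (Or.inl ⟨q, hq, rfl⟩)
    · exact Or.inr (Or.inr (Or.inl h))
  · unfold cwords at h
    obtain ⟨ρ, hρ, h2⟩ := List.mem_flatMap.mp h
    obtain ⟨k, hk, rfl⟩ := List.mem_map.mp h2
    exact Or.inr (Or.inr (Or.inr ⟨ρ, hρ, k, List.mem_range.mp hk, rfl⟩))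

theorem pow7_mem_relsG {i : ℕ} (hi : i < 5) : List.replicate 7 (2 * i) ∈ relsG := by
  unfold relsG
  exact List.mem_append_left _ (List.mem_append_left _ (List.mem_append_left _ (pow7_mem_powW hi)))

theorem conj_mem_relsG {q : List ℕ × ℕ × ℕ × ℕ} (hq : q ∈ conjW) : crOf q ∈ relsG := by
  unfold relsG
  exact List.mem_append_left _ (List.mem_append_left _
    (List.mem_append_right _ (List.mem_map.mpr ⟨q, hq, rfl⟩)))

theorem tight_mem_relsG {w : List ℕ} (hw : w ∈ tightW) : w ∈ relsG := by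
  unfold relsG
  exact List.mem_append_left _ (List.mem_append_right _ hw)

theorem weak_mem_relsG {w : List ℕ} (hw : w ∈ weakW) : w ∈ relsG := by
  unfold relsG
  exact List.mem_append_right _ hw

theorem mem_relsAB {r : List ℕ} (h : r ∈ relsAB) :
    (∃ i, i < 5 ∧ r = List.replicate 7 (2 * i)) ∨ ∃ q, q ∈ conjW ∧ r = crOf q := by
  unfold relsAB at h
  rcases List.mem_append.mp h with h | h
  · obtain ⟨i, hi, rfl⟩ := mem_powW h
    exact Or.inl ⟨i, by omega, rfl⟩
  · obtain ⟨q, hq, rfl⟩ := List.mem_map.mp h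
    refine Or.inr ⟨q, ?_, rfl⟩
    unfold conjW
    exact List.mem_append_left _ hq

end Helper23

open Helper23 in
/-- [UP] the upper bound, with the statements of [P], [C], [T], [ODD], [M] as hypotheses -/
theorem card_ker_dvd_three_of
    (hP : ∀ {H : Type u} [Group H] (h : ℕ → H),
      Subgroup.closure (Set.range fun i : Fin 5 => h i.val) = ⊤ →
      (∀ r ∈ relsW, ev h r = 1) → commutator H = ⊤)
    (hC : ∀ {Δ : Type u} [Group Δ] (δ : ℕ → Δ), (∀ r ∈ relsW, ev δ r = 1) →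
      Subgroup.closure (Set.range fun i : Fin 5 => δ i.val) = ⊤ →
      Finite Δ ∧ Nat.card Δ ≤ 5388768000)
    (hT : ∀ {G : Type u} {Δ : Type u} [Group G] [Group Δ] [Finite Δ] (τ : Δ →* G),
      Odd (Nat.card τ.ker) → ∀ (g : ℕ → G) (δ : ℕ → Δ), (∀ i < 2, τ (δ i) = g i) →
      168 ≤ Nat.card (Subgroup.closure (Set.range fun i : Fin 2 => g i.val)) →
      (∀ r ∈ relsAB, ev δ r = 1) → ∀ w : List ℕ, w.all (fun l => decide (l < 2 * 2)) = true →
      ev g w = 1 → ev δ w = 1)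
    (hOdd : ∀ {G : Type u} [Group G] (g u : ℕ → G), IsMcLTuple g u →
      ∀ {Δ : Type u} [Group Δ] [Finite Δ] (τ : Δ →* G), IsStemExtension τ → Odd (Nat.card τ.ker))
    (hM : ∃ p : ℕ → Equiv.Perm (Fin 66825), (∀ r ∈ relsW, ev p r = 1) ∧
      ev p wordZ ≠ 1 ∧ ev p (wordZ ++ wordZ ++ wordZ) = 1)
    {G : Type u} [Group G] (g u : ℕ → G) (hg : IsMcLTuple g u)
    {Γ : Type u} [Group Γ] [Finite Γ] (σ : Γ →* G) (hσ : IsStemExtension σ) :
    Nat.card σ.ker ∣ 3 := by
  classical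
  have hodd : Odd (Nat.card σ.ker) := hOdd g u hg σ hσ
  obtain ⟨hcard, hgen, hrel, h168, _, _⟩ := hg
  haveI : Finite G := Nat.finite_of_card_ne_zero (by rw [hcard]; norm_num)
  haveI : Fact (Nat.Prime 7) := ⟨by norm_num⟩
  -- the relators of the cover hold in `G`
  have hrelWG : ∀ r ∈ relsW, ev g r = 1 := by
    intro r hr
    rcases mem_relsW hr with ⟨i, hi, rfl⟩ | ⟨q, hq, rfl⟩ | ht | ⟨ρ, hρ, k, hk, rfl⟩
    · exact hrel _ (pow7_mem_relsG hi)
    · exact hrel _ (conj_mem_relsG hq)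
    · exact hrel _ (tight_mem_relsG ht)
    · apply Cfsg.H5.StemTC.ev_cword
      rw [hrel ρ (weak_mem_relsG hρ)]
      exact Subgroup.one_mem _
  have hGperf : commutator G = ⊤ := hP g hgen hrelWG
  have hΓperf : commutator Γ = ⊤ := perfect_of_stem σ hσ hGperf
  have hcyc : ∀ P : Sylow 7 G, IsCyclic P := by
    intro P
    have hc : Nat.card P = 7 ^ (Nat.card G).factorization 7 := Sylow.card_eq_multiplicity P
    rw [hcard, factorization_seven, pow_one] at hc
    exact isCyclic_of_prime_card hc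
  have hnd : ¬ 7 ∣ Nat.card σ.ker :=
    Cfsg.Agent.S0102.result hGperf hcyc σ hσ.1 hσ.2.1 hΓperf
  have hcop : (7 : ℕ).Coprime (Nat.card σ.ker) :=
    (Nat.Prime.coprime_iff_not_dvd (by norm_num)).mpr hnd
  have hg7 : ∀ i < 5, g i ^ 7 = 1 := by
    intro i hi
    rw [← ev_pow7]
    exact hrel _ (pow7_mem_relsG hi)
  have hex : ∀ k : ℕ, ∃ y : Γ, σ y = g k ∧ (k < 5 → y ^ 7 = 1) := by
    intro k
    by_cases hk : k < 5
    · obtain ⟨y, hy1, hy2⟩ := Cfsg.Agent.Lib.Helper5.Sp62.exists_lift_pow_eq_one σ hσ.1 hσ.2.1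
        hcop (g k) (hg7 k hk)
      exact ⟨y, hy1, fun _ => hy2⟩
    · obtain ⟨y, hy⟩ := hσ.1 (g k)
      exact ⟨y, hy, fun h => absurd h hk⟩
  choose γh hγσ hγ7 using hex
  have hσγ : (fun k => σ (γh k)) = g := funext hγσ
  -- powers and conjugation relators for the lifts
  have hpc : ∀ r : List ℕ, ((∃ i, i < 5 ∧ r = List.replicate 7 (2 * i)) ∨
      ∃ q, q ∈ conjW ∧ r = crOf q) → ev γh r = 1 := by
    rintro r (⟨i, hi, rfl⟩ | ⟨q, hq, rfl⟩)
    · rw [ev_pow7]; exact hγ7 i hi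
    · have hidx := conjW_idx q hq
      have hqrel : crOf q ∈ relsG := conj_mem_relsG hq
      unfold Cfsg.Agent.Lib.Helper5.Sp62.crOf at hqrel ⊢
      apply Cfsg.Agent.Lib.Helper5.Sp62.ev_cr_eq_one σ hσ.2.1 hcop γh _ _ _ _
        (hγ7 _ hidx.1) (hγ7 _ hidx.2)
      rw [hσγ]
      exact hrel _ hqrel
  have hAB : ∀ r ∈ relsAB, ev γh r = 1 := fun r hr => hpc r (mem_relsAB hr)
  have hrelΓ : ∀ r ∈ relsW, ev γh r = 1 := by
    intro r hr
    rcases mem_relsW hr with h | h | ht | ⟨ρ, hρ, k, hk, rfl⟩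
    · exact hpc r (Or.inl h)
    · exact hpc r (Or.inr h)
    · exact hT σ hodd g γh (fun i _ => hγσ i) h168 hAB r (tightW_all r ht)
        (hrel r (tight_mem_relsG ht))
    · apply Cfsg.H5.StemTC.ev_cword
      apply hσ.2.1
      rw [MonoidHom.mem_ker, Cfsg.H5.StemTC.map_ev, hσγ]
      exact hrel ρ (weak_mem_relsG hρ)
  have hgenΓ : Subgroup.closure (Set.range fun i : Fin 5 => γh i.val) = ⊤ := by
    apply Cfsg.H5.StemLift.eq_top_of_map_eq_top σ hσ
    rw [MonoidHom.map_closure, ← Set.range_comp]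
    have : (⇑σ ∘ fun i : Fin 5 => γh i.val) = fun i : Fin 5 => g i.val := by
      funext i; exact hγσ i.val
    rw [this, hgen]
  -- the cover maps onto `Γ`
  obtain ⟨ψ, hψ⟩ := exists_hom.{u} γh hrelΓ
  have hψsurj : Function.Surjective ψ := by
    rw [← MonoidHom.range_eq_top, eq_top_iff, ← hgenΓ, Subgroup.closure_le]
    rintro _ ⟨i, rfl⟩
    refine ⟨ev cgen.{u} [2 * i.val], ?_⟩
    rw [hψ [2 * i.val] (by
      have := i.2
      simp only [List.all_cons, List.all_nil, Bool.and_true, decide_eq_true_eq]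
      omega), ev_single]
  obtain ⟨hfinC, hleC⟩ := hC cgen.{u} cgen_rel closure_cgen
  haveI : Finite Cover.{u} := hfinC
  -- the kernel of `Cover → G`
  let θ : Cover.{u} →* G := σ.comp ψ
  have hθsurj : Function.Surjective θ := hσ.1.comp hψsurj
  have h1 : Nat.card Cover.{u} = Nat.card θ.ker * Nat.card G := card_eq_ker_mul θ hθsurj
  have h2 : Nat.card Cover.{u} = Nat.card ψ.ker * Nat.card Γ := card_eq_ker_mul ψ hψsurj
  have h3 : Nat.card Γ = Nat.card σ.ker * Nat.card G := card_eq_ker_mul σ hσ.1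
  have hGpos : 0 < Nat.card G := by rw [hcard]; norm_num
  have hK6 : Nat.card θ.ker ≤ 6 := by
    rw [h1, hcard] at hleC
    omega
  have hdvd : Nat.card σ.ker ∣ Nat.card θ.ker := by
    have : Nat.card θ.ker * Nat.card G = (Nat.card ψ.ker * Nat.card σ.ker) * Nat.card G := by
      rw [← h1, h2, h3, mul_assoc]
    have h4 := Nat.eq_of_mul_eq_mul_right hGpos this
    rw [h4]
    exact Dvd.intro_left _ rfl
  -- the central element of order three
  obtain ⟨p, hp1, hp2, hp3⟩ := hM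
  obtain ⟨φ, hφ⟩ := exists_hom.{u} p hp1
  have hzφ : φ (ev cgen.{u} wordZ) = ev p wordZ := hφ wordZ wordZ_all
  have hzK : ev cgen.{u} wordZ ∈ θ.ker := by
    rw [MonoidHom.mem_ker]
    show σ (ψ (ev cgen.{u} wordZ)) = 1
    rw [hψ wordZ wordZ_all, Cfsg.H5.StemTC.map_ev, hσγ]
    exact hrel wordZ (weak_mem_relsG wordZ_mem_weakW)
  have hord : orderOf (ev p wordZ) = 3 := by
    haveI : Fact (Nat.Prime 3) := ⟨by norm_num⟩
    apply orderOf_eq_prime _ hp2
    rw [ev_append, ev_append] at hp3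
    rw [pow_succ, pow_succ, pow_one]
    exact hp3
  have h3K : 3 ∣ Nat.card θ.ker := by
    have e1 : orderOf (φ (ev cgen.{u} wordZ)) ∣ orderOf (ev cgen.{u} wordZ) := orderOf_map_dvd φ _
    rw [hzφ, hord] at e1
    have e2 : orderOf (⟨ev cgen.{u} wordZ, hzK⟩ : θ.ker) = orderOf (ev cgen.{u} wordZ) :=
      Subgroup.orderOf_mk _ hzK
    have e3 : orderOf (⟨ev cgen.{u} wordZ, hzK⟩ : θ.ker) ∣ Nat.card θ.ker := orderOf_dvd_natCard _
    rw [e2] at e3
    exact e1.trans e3
  -- arithmetic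
  have hKpos : 0 < Nat.card θ.ker := Nat.card_pos
  have hk6 : Nat.card σ.ker ≤ 6 := (Nat.le_of_dvd hKpos hdvd).trans hK6
  obtain ⟨m, hm⟩ := h3K
  have hm' : m = 1 ∨ m = 2 := by omega
  rcases hm' with rfl | rfl
  · rw [hm] at hdvd
    exact hdvd
  · rw [hm] at hdvd
    obtain ⟨t, ht⟩ := hodd
    have hpos : 0 < Nat.card σ.ker := Nat.card_pos
    have : Nat.card σ.ker = 1 ∨ Nat.card σ.ker = 3 ∨ Nat.card σ.ker = 5 := by omega
    rcases this with h | h | h
    · rw [h]; exact one_dvd _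
    · rw [h]
    · rw [h] at hdvd
      omega

end Cfsg.Agent.Lib.Helper12.McLW
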