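import Mathlib
import Cfsg.Prelude.Def_GeometricClasses
import Cfsg.Agent.Lib.Helper7.AschDefs
import Cfsg.Agent.Lib.Helper8.S5630I4TENS
import Cfsg.Agent.Lib.Helper11.AschCliffDefs
import Cfsg.Agent.Lib.Helper11.AschCliffAct
import Cfsg.Agent.Lib.Helper11.FormCliffDefs
import Cfsg.Agent.Lib.Helper23.FCliffSCHUR

/-!
# Clifford theory with a form: piece FC-TENS (`gram_kron_of_fixes`)  (helper23)
-/

set_option autoImplicit false

namespace Cfsg.Agent.Lib.Helper23.FCliffTENS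

open Matrix Cfsg Cfsg.Geo Cfsg.Agent.Lib.Helper7.Asch Cfsg.Agent.Lib.Helper11.Cliff
  Cfsg.Agent.Lib.Helper11.CliffAct Cfsg.Agent.Lib.Helper11.FCliff
  Cfsg.Agent.Lib.Helper8.S5630I4TENS
open scoped MatrixGroups Kronecker

variable {n : ℕ} {F : Type*} [Field F] {σ : F ≃+* F}

section general

variable {κ : Type} [Fintype κ] [DecidableEq κ]

/-- `g` is linear in the first argument and `σ`-semilinear in the second (general index type) -/
structure IsSesqK (σ : F ≃+* F) (g : (κ → F) → (κ → F) → F) : Prop where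
  add_left : ∀ x y v, g (x + y) v = g x v + g y v
  smul_left : ∀ (c : F) (x v : κ → F), g (c • x) v = c * g x v
  add_right : ∀ v x y, g v (x + y) = g v x + g v y
  smul_right : ∀ (c : F) (v x : κ → F), g v (c • x) = σ c * g v x

theorem semilin_expandK (τ : F → F) (g : (κ → F) → F) (hadd : ∀ x y, g (x + y) = g x + g y)
    (hsmul : ∀ (c : F) x, g (c • x) = τ c * g x) (v : κ → F) :
    g v = ∑ b, τ (v b) * g (Pi.single b 1) := by
  have h0 : g 0 = 0 := by
    have := hadd 0 0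
    simpa using this
  have hsum : ∀ (s : Finset κ) (w : κ → κ → F),
      g (∑ b ∈ s, w b) = ∑ b ∈ s, g (w b) := by
    intro s w
    induction s using Finset.induction_on with
    | empty => simp [h0]
    | insert a s ha ih => rw [Finset.sum_insert ha, Finset.sum_insert ha, hadd, ih]
  have hv : v = ∑ b, v b • (Pi.single b (1 : F) : κ → F) := by
    funext i
    simp [Finset.sum_apply, Pi.single_apply]
  conv_lhs => rw [hv]
  rw [hsum]
  exact Finset.sum_congr rfl (fun b _ => hsmul _ _)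

omit [DecidableEq κ] in
theorem formOfGram_eq_dot (G : Matrix κ κ F) (x y : κ → F) :
    formOfGram σ G x y = x ⬝ᵥ (G *ᵥ fun b => σ (y b)) := by
  simp only [formOfGram, dotProduct, Matrix.mulVec, Finset.mul_sum, mul_assoc]

theorem sesq_reprK (g : (κ → F) → (κ → F) → F) (hg : IsSesqK σ g) (u v : κ → F) :
    g u v = formOfGram σ (gramMatrix g) u v := by
  rw [semilin_expandK id (fun x => g x v) (fun x y => hg.add_left x y v)
    (fun c x => hg.smul_left c x v) u]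
  simp only [formOfGram, id]
  refine Finset.sum_congr rfl (fun a _ => ?_)
  rw [semilin_expandK (fun c => σ c) (fun x => g (Pi.single a 1) x) (fun x y => hg.add_right _ x y)
    (fun c x => hg.smul_right c _ x) v, Finset.mul_sum]
  refine Finset.sum_congr rfl (fun b _ => ?_)
  simp only [gramMatrix]
  ring

theorem gram_fixK (g : (κ → F) → (κ → F) → F) (hg : IsSesqK σ g)
    (X : Matrix κ κ F) (hX : ∀ u v, g (X *ᵥ u) (X *ᵥ v) = g u v) :
    Xᵀ * gramMatrix g * X.map σ = gramMatrix g := by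
  ext a b
  have h := hX (Pi.single a 1) (Pi.single b 1)
  rw [sesq_reprK g hg] at h
  have hG : g (Pi.single a 1) (Pi.single b 1) = gramMatrix g a b := rfl
  rw [hG, Matrix.mulVec_single_one, Matrix.mulVec_single_one] at h
  rw [← h]
  simp only [Matrix.mul_apply, Matrix.transpose_apply, Matrix.map_apply, formOfGram,
    Matrix.col_apply, Finset.sum_mul]
  rw [Finset.sum_comm]

theorem gram_isUnitK (g : (κ → F) → (κ → F) → F) (hg : IsSesqK σ g)
    (hnd : IsNondegenerateForm g) : IsUnit (gramMatrix g) := by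
  rw [← Matrix.mulVec_injective_iff_isUnit]
  intro w w' hww
  have h0 : gramMatrix g *ᵥ (w - w') = 0 := by
    rw [Matrix.mulVec_sub]; exact sub_eq_zero.mpr hww
  set v : κ → F := fun b => σ.symm ((w - w') b) with hv
  have hσv : (fun b => σ (v b)) = w - w' := by
    funext b; simp [hv]
  have hall : ∀ x, g x v = 0 := by
    intro x
    rw [sesq_reprK g hg, formOfGram_eq_dot, hσv, h0, dotProduct_zero]
  have hv0 : v = 0 := by
    by_contra hne
    obtain ⟨⟨x, hx⟩, -⟩ := hnd v hne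
    exact hx (hall x)
  have : w - w' = 0 := by
    rw [← hσv, hv0]; funext b; simp
  exact sub_eq_zero.mp this

end general

theorem kron_one_map {d s : ℕ} (a : Matrix (Fin d) (Fin d) F) :
    (a ⊗ₖ (1 : Matrix (Fin s) (Fin s) F)).map σ = (a.map σ) ⊗ₖ (1 : Matrix (Fin s) (Fin s) F) := by
  ext ⟨i, j⟩ ⟨k, l⟩
  simp only [Matrix.map_apply, Matrix.kroneckerMap_apply, Matrix.one_apply]
  split_ifs <;> simp

theorem kron_one_transpose {d s : ℕ} (a : Matrix (Fin d) (Fin d) F) :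
    (a ⊗ₖ (1 : Matrix (Fin s) (Fin s) F))ᵀ = aᵀ ⊗ₖ (1 : Matrix (Fin s) (Fin s) F) := by
  rw [← Matrix.kroneckerMap_transpose, Matrix.transpose_one]

theorem blk_sandwich {d s : ℕ} (A B : Matrix (Fin d) (Fin d) F)
    (Γ : Matrix (Fin d × Fin s) (Fin d × Fin s) F) (j l : Fin s) :
    blk ((A ⊗ₖ (1 : Matrix (Fin s) (Fin s) F)) * Γ * (B ⊗ₖ (1 : Matrix (Fin s) (Fin s) F))) j l =
      A * blk Γ j l * B := by
  rw [blk_mul_kron, blk_kron_mul]

variable {f : (Fin n → F) → (Fin n → F) → F}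

set_option maxHeartbeats 800000 in
/-- **FC-TENS** -/
theorem gram_kron_of_fixes (hf : RSForm σ f) {d s : ℕ} (hd : 1 ≤ d) (hs : 1 ≤ s)
    (e : Fin n ≃ Fin d × Fin s) (P : GL (Fin n) F) (Y : Subgroup (GL (Fin d) F)) (hY : AbsIrr Y)
    (hfix : FixesForm (matrixSet (Y.map (kronL e P))) f) :
    ∃ (G₁ : Matrix (Fin d) (Fin d) F) (G₂ : Matrix (Fin s) (Fin s) F), IsUnit G₁.det ∧ IsUnit G₂.det ∧
      (∀ y ∈ Y, (y : Matrix (Fin d) (Fin d) F)ᵀ * G₁ * (y : Matrix (Fin d) (Fin d) F).map σ = G₁) ∧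
      ∀ x y : Fin d × Fin s → F,
        f ((P : Matrix (Fin n) (Fin n) F) *ᵥ (x ∘ e)) ((P : Matrix (Fin n) (Fin n) F) *ᵥ (y ∘ e)) =
          formOfGram σ (G₁ ⊗ₖ G₂) x y := by
  classical
  obtain ⟨g, hg⟩ : ∃ g : (Fin d × Fin s → F) → (Fin d × Fin s → F) → F, ∀ x y,
      g x y = f ((P : Matrix (Fin n) (Fin n) F) *ᵥ (x ∘ e)) ((P : Matrix (Fin n) (Fin n) F) *ᵥ (y ∘ e)) :=
    ⟨_, fun _ _ => rfl⟩
  have hadd : ∀ x y : Fin d × Fin s → F, (x + y) ∘ e = x ∘ e + y ∘ e := fun _ _ => rfl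
  have hsmul : ∀ (c : F) (x : Fin d × Fin s → F), (c • x) ∘ e = c • (x ∘ e) := fun _ _ => rfl
  have hsesq : IsSesqK σ g :=
    { add_left := fun x y v => by rw [hg, hg, hg, hadd, Matrix.mulVec_add, hf.add_left]
      smul_left := fun c x v => by rw [hg, hg, hsmul, Matrix.mulVec_smul, hf.smul_left]
      add_right := fun v x y => by rw [hg, hg, hg, hadd, Matrix.mulVec_add, hf.add_right]
      smul_right := fun c v x => by rw [hg, hg, hsmul, Matrix.mulVec_smul, hf.smul_right] }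
  have hnd : IsNondegenerateForm g := by
    intro x hx
    have hx' : (P : Matrix (Fin n) (Fin n) F) *ᵥ (x ∘ e) ≠ 0 := by
      intro h0
      apply hx
      have h1 := congrArg (fun w => ((P⁻¹ : GL (Fin n) F) : Matrix (Fin n) (Fin n) F) *ᵥ w) h0
      simp only [Matrix.mulVec_mulVec, ← Units.val_mul, inv_mul_cancel, Units.val_one,
        Matrix.one_mulVec, Matrix.mulVec_zero] at h1
      funext p
      have := congrFun h1 (e.symm p)
      simpa using this
    have hback : ∀ w : Fin n → F, (P : Matrix (Fin n) (Fin n) F) *ᵥ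
        (((((P⁻¹ : GL (Fin n) F) : Matrix (Fin n) (Fin n) F) *ᵥ w) ∘ e.symm) ∘ e) = w := by
      intro w
      have : ((((P⁻¹ : GL (Fin n) F) : Matrix (Fin n) (Fin n) F) *ᵥ w) ∘ e.symm) ∘ e =
          ((P⁻¹ : GL (Fin n) F) : Matrix (Fin n) (Fin n) F) *ᵥ w := by
        funext k; simp
      rw [this, Matrix.mulVec_mulVec, ← Units.val_mul, mul_inv_cancel, Units.val_one, Matrix.one_mulVec]
    obtain ⟨⟨w, hw⟩, ⟨w', hw'⟩⟩ := hf.nondeg _ hx'
    refine ⟨⟨(((P⁻¹ : GL (Fin n) F) : Matrix (Fin n) (Fin n) F) *ᵥ w) ∘ e.symm, ?_⟩,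
      ⟨(((P⁻¹ : GL (Fin n) F) : Matrix (Fin n) (Fin n) F) *ᵥ w') ∘ e.symm, ?_⟩⟩
    · rw [hg, hback]; exact hw
    · rw [hg, hback]; exact hw'
  -- invariance
  have hinv : ∀ a ∈ Y, ∀ x y : Fin d × Fin s → F,
      g (((a : Matrix (Fin d) (Fin d) F) ⊗ₖ (1 : Matrix (Fin s) (Fin s) F)) *ᵥ x)
        (((a : Matrix (Fin d) (Fin d) F) ⊗ₖ (1 : Matrix (Fin s) (Fin s) F)) *ᵥ y) = g x y := by
    intro a ha x y
    have key : ∀ z : Fin d × Fin s → F,
        ((kronL e P a : GL (Fin n) F) : Matrix (Fin n) (Fin n) F) *ᵥ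
          ((P : Matrix (Fin n) (Fin n) F) *ᵥ (z ∘ e)) =
        (P : Matrix (Fin n) (Fin n) F) *ᵥ
          ((((a : Matrix (Fin d) (Fin d) F) ⊗ₖ (1 : Matrix (Fin s) (Fin s) F)) *ᵥ z) ∘ e) := by
      intro z
      rw [kronL_val]
      unfold kronLM
      rw [Matrix.mulVec_mulVec, mul_assoc, mul_assoc, ← Units.val_mul, inv_mul_cancel, Units.val_one,
        mul_one, ← Matrix.mulVec_mulVec, Matrix.reindex_apply, Equiv.symm_symm,
        Matrix.submatrix_mulVec_equiv]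
      have hz : (z ∘ e) ∘ e.symm = z := by funext p; simp
      rw [hz]
    have h := hfix _ ⟨kronL e P a, ⟨a, ha, rfl⟩, rfl⟩
      ((P : Matrix (Fin n) (Fin n) F) *ᵥ (x ∘ e)) ((P : Matrix (Fin n) (Fin n) F) *ᵥ (y ∘ e))
    rw [key, key] at h
    rw [hg, hg]
    exact h
  obtain ⟨Γ, hΓ⟩ : ∃ Γ : Matrix (Fin d × Fin s) (Fin d × Fin s) F, Γ = gramMatrix g := ⟨_, rfl⟩
  have hΓfix : ∀ a ∈ Y, ∀ j l, (a : Matrix (Fin d) (Fin d) F)ᵀ * blk Γ j l *
      (a : Matrix (Fin d) (Fin d) F).map σ = blk Γ j l := by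
    intro a ha j l
    have h1 := gram_fixK g hsesq _ (hinv a ha)
    rw [← hΓ, kron_one_transpose, kron_one_map] at h1
    have h2 := congrArg (fun M => blk M j l) h1
    simp only [blk_sandwich] at h2
    exact h2
  have hΓunit : IsUnit Γ.det := by
    rw [hΓ]
    exact (Matrix.isUnit_iff_isUnit_det _).mp (gram_isUnitK g hsesq hnd)
  -- a non-zero block
  haveI : Nonempty (Fin d × Fin s) := ⟨(⟨0, hd⟩, ⟨0, hs⟩)⟩
  have hΓne : Γ ≠ 0 := by
    intro h0
    rw [h0, Matrix.det_zero] at hΓunit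
    exact not_isUnit_zero hΓunit
  obtain ⟨p, q, hpq⟩ : ∃ p q, Γ p q ≠ 0 := by
    by_contra hcon
    apply hΓne
    ext p q
    by_contra hpq
    exact hcon ⟨p, q, hpq⟩
  have hZ0 : blk Γ p.2 q.2 ≠ 0 := by
    intro h0
    apply hpq
    have := congrFun (congrFun h0 p.1) q.1
    rw [blk_apply] at this
    exact this
  have hsch : ∀ j l, IsUnit (blk Γ p.2 q.2).det ∧ ∃ c : F, blk Γ j l = c • blk Γ p.2 q.2 := fun j l =>
    Cfsg.Agent.Lib.Helper23.FCliffSCHUR.sesq_schur Y hY (blk Γ p.2 q.2) (blk Γ j l)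
      (fun y hy => hΓfix y hy p.2 q.2) (fun y hy => hΓfix y hy j l) hZ0
  have hc : ∀ j l, ∃ c : F, blk Γ j l = c • blk Γ p.2 q.2 := fun j l => (hsch j l).2
  choose c hc using hc
  have hΓeq : Γ = blk Γ p.2 q.2 ⊗ₖ (Matrix.of c : Matrix (Fin s) (Fin s) F) := by
    ext ⟨i, j⟩ ⟨k, l⟩
    have h1 : Γ (i, j) (k, l) = blk Γ j l i k := rfl
    rw [h1, hc j l, Matrix.kroneckerMap_apply, Matrix.smul_apply, smul_eq_mul, Matrix.of_apply, mul_comm]
  have hG2 : IsUnit (Matrix.of c : Matrix (Fin s) (Fin s) F).det := by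
    have h1 := hΓunit
    rw [hΓeq, Matrix.det_kronecker] at h1
    have h2 := isUnit_of_mul_isUnit_right h1
    rw [Fintype.card_fin] at h2
    exact (isUnit_pow_iff (by omega)).mp h2
  refine ⟨blk Γ p.2 q.2, Matrix.of c, (hsch p.2 q.2).1, hG2,
    fun y hy => hΓfix y hy p.2 q.2, fun x y => ?_⟩
  rw [← hg, sesq_reprK g hsesq, ← hΓ, ← hΓeq]

end Cfsg.Agent.Lib.Helper23.FCliffTENS
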