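import Mathlib
import Cfsg.Agent.Lib.Helper28.TensUDefs

/-!
# S5670 FO-CL (for helper28): elements of `⟨x₁, x₂⟩` fix common fixed vectors and move vectors inside the
sum of the commutator spaces; two root elements whose commutator spaces lie in each other's fixed spaces commute.
-/

set_option autoImplicit false

namespace Cfsg.Agent.Lib.Helper23.S5670CL

open Matrix Module
open Cfsg.Agent.Lib.Helper16.Tens Cfsg.Agent.Lib.Helper10.TensFund Cfsg.Agent.Lib.Helper28.TensU
open scoped Kronecker

variable {F : Type*} [Field F] {a b : ℕ}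

local notation "V" => (Fin a × Fin b → F)

/-- FO-CL (a) -/
theorem closure_fix (x₁ x₂ δ : GL (Fin a × Fin b) F)
    (hδ : δ ∈ Subgroup.closure ({x₁, x₂} : Set (GL (Fin a × Fin b) F)))
    (v : V) (h₁ : act x₁ v = v) (h₂ : act x₂ v = v) : act δ v = v := by
  induction hδ using Subgroup.closure_induction with
  | mem x hx =>
    rcases hx with rfl | hx
    · exact h₁
    · rw [Set.mem_singleton_iff] at hx
      rw [hx]; exact h₂
  | one => exact act_one v
  | mul x y _ _ hx hy => rw [act_mul, hy, hx]
  | inv x _ hx =>
    have := act_inv_act x v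
    rw [hx] at this
    exact this

/-- FO-CL (b) -/
theorem closure_sub_mem (x₁ x₂ δ : GL (Fin a × Fin b) F)
    (hδ : δ ∈ Subgroup.closure ({x₁, x₂} : Set (GL (Fin a × Fin b) F)))
    (S : Submodule F V) (h₁ : ∀ v, act x₁ v - v ∈ S) (h₂ : ∀ v, act x₂ v - v ∈ S) (v : V) :
    act δ v - v ∈ S := by
  induction hδ using Subgroup.closure_induction generalizing v with
  | mem x hx =>
    rcases hx with rfl | hx
    · exact h₁ v
    · rw [Set.mem_singleton_iff] at hx
      rw [hx]; exact h₂ v
  | one => rw [act_one, sub_self]; exact S.zero_mem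
  | mul x y _ _ hx hy =>
    have e : act (x * y) v - v = (act x (act y v) - act y v) + (act y v - v) := by
      rw [act_mul]; abel
    rw [e]
    exact S.add_mem (hx _) (hy _)
  | inv x _ hx =>
    have h := hx (act x⁻¹ v)
    rw [act_act_inv] at h
    have e : act x⁻¹ v - v = -(v - act x⁻¹ v) := by abel
    rw [e]
    exact S.neg_mem h

/-- FO-CL (c): two "root elements" whose commutator spaces lie in each other's fixed spaces commute -/
theorem commute_of_sub_mem (x x' : GL (Fin a × Fin b) F) (L L' C C' : Submodule F V)
    (h₁ : ∀ v, act x v - v ∈ L) (h₁' : ∀ v, act x' v - v ∈ L') (h₂ : ∀ v ∈ C, act x v = v)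
    (h₂' : ∀ v ∈ C', act x' v = v) (hL : L ≤ C') (hL' : L' ≤ C) : x * x' = x' * x := by
  have key : ∀ v, act (x * x') v = act (x' * x) v := by
    intro v
    rw [act_mul, act_mul]
    have e1 : act x (act x' v) = act x v + (act x' v - v) := by
      have : act x' v = v + (act x' v - v) := by abel
      conv_lhs => rw [this]
      rw [map_add, h₂ _ (hL' (h₁' v))]
    have e2 : act x' (act x v) = act x' v + (act x v - v) := by
      have : act x v = v + (act x v - v) := by abel
      conv_lhs => rw [this]
      rw [map_add, h₂' _ (hL (h₁ v))]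
    rw [e1, e2]
    abel
  apply Units.ext
  apply Matrix.toLin'.injective
  apply LinearMap.ext
  intro v
  have := key v
  rw [act_apply, act_apply] at this
  rw [Matrix.toLin'_apply, Matrix.toLin'_apply]
  exact this

end Cfsg.Agent.Lib.Helper23.S5670CL
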