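import Mathlib
import Cfsg.Agent.Lib.Helper2.SylowTrick

/-!
# S5670 FO-ST (for helper28): the Sylow trick in the coset form used by T1.

`x₁, x₂ ∈ H` of order dividing `p`, `x₁ ∈ N` fixing only the coset `N` of `H/(H ∩ N)`, `x₂` fixing at most the coset `g₂ N`:
some `δ ∈ ⟨x₁, x₂⟩` has `δ g₂ ∈ N`.  Derived from `Helper2.SylowTrick.sylow_trick`.
-/

set_option autoImplicit false

namespace Cfsg.Agent.Lib.Helper23.S5670ST

open MulAction

theorem isPGroup_zpowers_of_pow {G : Type*} [Group G] (p : ℕ) (x : G) (hx : x ^ p = 1) :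
    IsPGroup p (Subgroup.zpowers x) := by
  rintro ⟨g, hg⟩
  obtain ⟨k, rfl⟩ := Subgroup.mem_zpowers_iff.mp hg
  refine ⟨1, ?_⟩
  apply Subtype.ext
  rw [Subgroup.coe_pow, Subgroup.coe_one, pow_one]
  change (x ^ k) ^ p = 1
  rw [← zpow_natCast, ← zpow_mul, mul_comm, zpow_mul, zpow_natCast, hx, one_zpow]

/-- FO-ST: the Sylow trick -/
theorem sylow_trick {G : Type*} [Group G] (p : ℕ) [Fact p.Prime] (H N : Subgroup G) [Finite H]
    (x₁ x₂ g₂ : G) (hx₁ : x₁ ∈ H) (hx₂ : x₂ ∈ H) (hg₂ : g₂ ∈ H) (ho₁ : x₁ ^ p = 1) (ho₂ : x₂ ^ p = 1)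
    (hx₁N : x₁ ∈ N) (hfix₁ : ∀ g ∈ H, g⁻¹ * x₁ * g ∈ N → g ∈ N)
    (hfix₂ : ∀ g ∈ H, g⁻¹ * x₂ * g ∈ N → g₂⁻¹ * g ∈ N) :
    ∃ δ ∈ Subgroup.closure ({x₁, x₂} : Set G), δ * g₂ ∈ N := by
  classical
  set N' : Subgroup H := N.subgroupOf H with hN'
  have hmemN' : ∀ g : H, g ∈ N' ↔ (g : G) ∈ N := fun g => Subgroup.mem_subgroupOf
  let y₁ : H := ⟨x₁, hx₁⟩
  let y₂ : H := ⟨x₂, hx₂⟩
  let γ₂ : H := ⟨g₂, hg₂⟩
  have hy₁ : y₁ ^ p = 1 := Subtype.ext (by rw [Subgroup.coe_pow, Subgroup.coe_one]; exact ho₁)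
  have hy₂ : y₂ ^ p = 1 := Subtype.ext (by rw [Subgroup.coe_pow, Subgroup.coe_one]; exact ho₂)
  have hS₁ := isPGroup_zpowers_of_pow p y₁ hy₁
  have hS₂ := isPGroup_zpowers_of_pow p y₂ hy₂
  -- fixed cosets
  have hfixed : ∀ (y g : H), y • (QuotientGroup.mk g : H ⧸ N') = QuotientGroup.mk g ↔
      ((g : G)⁻¹ * (y : G) * (g : G)) ∈ N := by
    intro y g
    rw [MulAction.Quotient.smul_mk, QuotientGroup.eq, hmemN']
    have e : (((y • g)⁻¹ * g : H) : G) = ((g : G)⁻¹ * (y : G) * (g : G))⁻¹ := by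
      rw [smul_eq_mul]
      push_cast
      group
    rw [e, inv_mem_iff]
  have hw₁ : ∀ w : H ⧸ N', y₁ • w = w ↔ w = QuotientGroup.mk 1 := by
    intro w
    induction w using QuotientGroup.induction_on with
    | H g =>
      rw [hfixed]
      constructor
      · intro h
        have hg := hfix₁ g g.2 h
        rw [QuotientGroup.eq, hmemN']
        push_cast
        rw [mul_one]
        exact N.inv_mem hg
      · intro h
        rw [QuotientGroup.eq, hmemN'] at h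
        have hg : (g : G) ∈ N := by
          have := N.inv_mem h
          push_cast at this
          rw [mul_one, inv_inv] at this
          exact this
        exact N.mul_mem (N.mul_mem (N.inv_mem hg) hx₁N) hg
  have hw₂' : ∀ w : H ⧸ N', y₂ • w = w → w = QuotientGroup.mk γ₂ := by
    intro w
    induction w using QuotientGroup.induction_on with
    | H g =>
      rw [hfixed]
      intro h
      have hg := hfix₂ g g.2 h
      rw [QuotientGroup.eq, hmemN']
      have := N.inv_mem hg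
      push_cast
      rw [mul_inv_rev, inv_inv] at this
      exact this
  have hcard := Cfsg.Agent.Lib.Helper2.SylowTrick.card_modEq_one (α := H ⧸ N') p
    (Subgroup.zpowers y₁) hS₁ y₁ (Subgroup.mem_zpowers y₁) _ hw₁
  obtain ⟨w₀, hw₀⟩ := Cfsg.Agent.Lib.Helper2.SylowTrick.exists_fixed (α := H ⧸ N') p
    (Subgroup.zpowers y₂) hS₂ hcard
  have hw₀' : w₀ = QuotientGroup.mk γ₂ := hw₂' w₀ (hw₀ y₂ (Subgroup.mem_zpowers y₂))
  have hw₂ : ∀ w : H ⧸ N', y₂ • w = w ↔ w = QuotientGroup.mk γ₂ := by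
    intro w
    constructor
    · exact hw₂' w
    · rintro rfl
      rw [← hw₀']
      exact hw₀ y₂ (Subgroup.mem_zpowers y₂)
  obtain ⟨δ, hδ, -, hδw⟩ := Cfsg.Agent.Lib.Helper2.SylowTrick.sylow_trick (α := H ⧸ N') p
    (Subgroup.zpowers y₁) (Subgroup.zpowers y₂) hS₁ hS₂ y₁ y₂ (Subgroup.mem_zpowers y₁)
    (Subgroup.mem_zpowers y₂) _ _ hw₁ hw₂
  refine ⟨(δ : G), ?_, ?_⟩
  · have hle : Subgroup.zpowers y₁ ⊔ Subgroup.zpowers y₂ ≤
        (Subgroup.closure ({x₁, x₂} : Set G)).comap H.subtype := by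
      apply sup_le
      · rw [Subgroup.zpowers_le, Subgroup.mem_comap]
        exact Subgroup.subset_closure (Set.mem_insert _ _)
      · rw [Subgroup.zpowers_le, Subgroup.mem_comap]
        exact Subgroup.subset_closure (Set.mem_insert_of_mem _ rfl)
    exact hle hδ
  · rw [MulAction.Quotient.smul_mk, QuotientGroup.eq, hmemN'] at hδw
    have := N.inv_mem hδw
    rw [smul_eq_mul] at this
    push_cast at this
    rw [mul_one, inv_inv] at this
    exact this

end Cfsg.Agent.Lib.Helper23.S5670ST
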