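import Mathlib
import Cfsg.Agent.Lib.Helper7.AschDefs

/-!
# S5630, block I5 (helper23; architect helper7): the group-theoretic dichotomy

Let `S` be a central subgroup of a finite group `G` and `H` a subgroup not contained in `S`.  A subgroup `N ≤ H` of minimal
order among the `H`-normalised subgroups not contained in `S` is either "elementary abelian modulo `S`" (`x ^ r ∈ S` and
`⁅x, y⁆ ∈ S` on `N` for a prime `r`), or perfect; in the latter case a subgroup `L` of minimal order among the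
`N`-normalised subgroups of `N` not contained in `S` is perfect, simple modulo `S`, and each `H`-conjugate of `L`
is equal to `L` or commutes with `L` elementwise.
-/

set_option autoImplicit false

namespace Cfsg.Agent.Lib.Helper23.S5630I5

open scoped commutatorElement

section abstract

variable {G : Type*} [Group G]

/-- `N` is normalised by `T` -/
def NB (T N : Subgroup G) : Prop := ∀ h ∈ T, ∀ x ∈ N, h * x * h⁻¹ ∈ N

/-- the conjugate subgroup `h L h⁻¹` -/
def cjs (h : G) (L : Subgroup G) : Subgroup G := L.map (MulAut.conj h).toMonoidHom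

theorem mem_cjs {h : G} {L : Subgroup G} {y : G} : y ∈ cjs h L ↔ h⁻¹ * y * h ∈ L := by
  unfold cjs
  rw [Subgroup.mem_map_equiv, MulAut.conj_symm_apply]

theorem conj_mem_cjs {h x : G} {L : Subgroup G} (hx : x ∈ L) : h * x * h⁻¹ ∈ cjs h L := by
  rw [mem_cjs]
  have : h⁻¹ * (h * x * h⁻¹) * h = x := by group
  rw [this]
  exact hx

theorem cjs_one (L : Subgroup G) : cjs 1 L = L := by
  ext y
  rw [mem_cjs]
  simp

theorem cjs_mul (g h : G) (L : Subgroup G) : cjs (g * h) L = cjs g (cjs h L) := by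
  ext y
  rw [mem_cjs, mem_cjs, mem_cjs]
  have : (g * h)⁻¹ * y * (g * h) = h⁻¹ * (g⁻¹ * y * g) * h := by group
  rw [this]

theorem cjs_mono (h : G) {L L' : Subgroup G} (hLL : L ≤ L') : cjs h L ≤ cjs h L' :=
  Subgroup.map_mono hLL

theorem cjs_commutator (h : G) (A B : Subgroup G) : cjs h ⁅A, B⁆ = ⁅cjs h A, cjs h B⁆ :=
  Subgroup.map_commutator A B _

theorem card_cjs (h : G) (L : Subgroup G) : Nat.card (cjs h L) = Nat.card L :=
  Subgroup.card_map_of_injective (MulAut.conj h).injective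

theorem cjs_le_of_central {S : Subgroup G} (hS : S ≤ Subgroup.center G) (h : G) : cjs h S ≤ S := by
  intro y hy
  rw [mem_cjs] at hy
  have hc := hS hy
  rw [Subgroup.mem_center_iff] at hc
  have : y = h⁻¹ * y * h := by
    have h1 := hc h
    -- h * (h⁻¹ * y * h) = (h⁻¹ * y * h) * h
    have : h * (h⁻¹ * y * h) = y * h := by group
    rw [this] at h1
    exact mul_right_cancel h1
  rw [this]
  exact hy

theorem cjs_eq_of_NB {T N : Subgroup G} (hN : NB T N) {h : G} (hh : h ∈ T) : cjs h N = N := by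
  apply le_antisymm
  · intro y hy
    rw [mem_cjs] at hy
    have := hN h hh _ hy
    have e : h * (h⁻¹ * y * h) * h⁻¹ = y := by group
    rwa [e] at this
  · intro y hy
    rw [mem_cjs]
    have := hN h⁻¹ (T.inv_mem hh) y hy
    rwa [inv_inv] at this

theorem NB_commutator {T N : Subgroup G} (hN : NB T N) : NB T ⁅N, N⁆ := by
  intro h hh x hx
  have := conj_mem_cjs (h := h) hx
  rwa [cjs_commutator, cjs_eq_of_NB hN hh] at this

theorem NB_self (N : Subgroup G) : NB N N := fun h hh x hx => N.mul_mem (N.mul_mem hh hx) (N.inv_mem hh)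

theorem commutator_self_le (L : Subgroup G) : ⁅L, L⁆ ≤ L := by
  rw [Subgroup.commutator_le]
  intro x hx y hy
  rw [commutatorElement_def]
  exact L.mul_mem (L.mul_mem (L.mul_mem hx hy) (L.inv_mem hx)) (L.inv_mem hy)

/-- a minimal `T`-normalised subgroup of `A` not contained in `S` -/
theorem exists_min [Finite G] (S T A : Subgroup G) (hA : NB T A) (hAS : ¬ A ≤ S) :
    ∃ N : Subgroup G, N ≤ A ∧ NB T N ∧ ¬ N ≤ S ∧
      ∀ K : Subgroup G, K ≤ N → NB T K → K ≤ S ∨ K = N := by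
  obtain ⟨N, ⟨hNA, hNn, hNS⟩, hmin⟩ := Set.exists_min_image
    {N : Subgroup G | N ≤ A ∧ NB T N ∧ ¬ N ≤ S} (fun N => Nat.card N) (Set.toFinite _)
    ⟨A, le_refl A, hA, hAS⟩
  refine ⟨N, hNA, hNn, hNS, ?_⟩
  intro K hKN hKn
  by_cases hKS : K ≤ S
  · exact Or.inl hKS
  · right
    exact Subgroup.eq_of_le_of_card_ge hKN (hmin K ⟨hKN.trans hNA, hKn, hKS⟩)

/-- the elements commuting with `T` modulo the normal subgroup `S` -/
def cmod (S : Subgroup G) (hS : S ≤ Subgroup.center G) (T : Subgroup G) : Subgroup G where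
  carrier := {g | ∀ t ∈ T, ⁅g, t⁆ ∈ S}
  one_mem' := by
    intro t _
    rw [commutatorElement_def]
    simp
  mul_mem' := by
    intro a b ha hb t ht
    have e : ⁅a * b, t⁆ = a * ⁅b, t⁆ * a⁻¹ * ⁅a, t⁆ := by
      simp only [commutatorElement_def]; group
    rw [e]
    refine S.mul_mem ?_ (ha t ht)
    have := cjs_le_of_central hS a (conj_mem_cjs (h := a) (hb t ht))
    exact this
  inv_mem' := by
    intro a ha t ht
    have e : ⁅a⁻¹, t⁆ = a⁻¹ * (⁅a, t⁆)⁻¹ * (a⁻¹)⁻¹ := by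
      simp only [commutatorElement_def]; group
    rw [e]
    exact cjs_le_of_central hS a⁻¹ (conj_mem_cjs (h := a⁻¹) (S.inv_mem (ha t ht)))

theorem commutator_le_iff_le_cmod (S : Subgroup G) (hS : S ≤ Subgroup.center G) (A B : Subgroup G) :
    ⁅A, B⁆ ≤ S ↔ A ≤ cmod S hS B := by
  rw [Subgroup.commutator_le]
  rfl

/-- pairwise commuting modulo `S` subgroups generate a subgroup that is abelian modulo `S` -/
theorem commutator_iSup_le {ι : Sort*} (S : Subgroup G) (hS : S ≤ Subgroup.center G) (A : ι → Subgroup G)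
    (h : ∀ i j, ⁅A i, A j⁆ ≤ S) : ⁅⨆ i, A i, ⨆ i, A i⁆ ≤ S := by
  rw [commutator_le_iff_le_cmod S hS]
  apply iSup_le
  intro j
  rw [← commutator_le_iff_le_cmod S hS, Subgroup.commutator_comm, commutator_le_iff_le_cmod S hS]
  apply iSup_le
  intro i
  rw [← commutator_le_iff_le_cmod S hS]
  exact h i j

/-- the power map modulo `S` on a group that is abelian modulo the central subgroup `S` -/
theorem pow_mul_mod (S N : Subgroup G) (hS : S ≤ Subgroup.center G)
    (hcomm : ∀ x ∈ N, ∀ y ∈ N, ⁅x, y⁆ ∈ S) (x y : G) (hx : x ∈ N) (hy : y ∈ N) (k : ℕ) :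
    ∃ s ∈ S, (x * y) ^ k = x ^ k * y ^ k * s := by
  induction k with
  | zero => exact ⟨1, S.one_mem, by simp⟩
  | succ k ih =>
    obtain ⟨s, hs, ih⟩ := ih
    obtain ⟨c, hcdef⟩ : ∃ c : G, c = ⁅(y ^ k)⁻¹, x⁻¹⁆ := ⟨_, rfl⟩
    have hcS : c ∈ S := by
      rw [hcdef]
      exact hcomm _ (N.inv_mem (N.pow_mem hy k)) _ (N.inv_mem hx)
    have hsc := (Subgroup.mem_center_iff.1 (hS hs))
    have hcc := (Subgroup.mem_center_iff.1 (hS hcS))
    refine ⟨c * s, S.mul_mem hcS hs, ?_⟩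
    have h1 : x * y ^ k * c = y ^ k * x := by
      rw [hcdef, commutatorElement_def]; group
    calc (x * y) ^ (k + 1) = x ^ k * y ^ k * s * (x * y) := by rw [pow_succ, ih]
      _ = x ^ k * y ^ k * ((x * y) * s) := by rw [mul_assoc (x ^ k * y ^ k), ← hsc (x * y)]
      _ = x ^ k * (y ^ k * x) * y * s := by group
      _ = x ^ k * (x * y ^ k * c) * y * s := by rw [h1]
      _ = x ^ k * x * y ^ k * (c * y) * s := by group
      _ = x ^ k * x * y ^ k * (y * c) * s := by rw [hcc y]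
      _ = x ^ (k + 1) * y ^ (k + 1) * (c * s) := by rw [pow_succ, pow_succ]; group

/-- case (a): `⁅N, N⁆ ≤ S` -/
theorem case_a [Finite G] (S H N : Subgroup G) (hS : S ≤ Subgroup.center G) (hNn : NB H N) (hNS : ¬ N ≤ S)
    (hmin : ∀ K : Subgroup G, K ≤ N → NB H K → K ≤ S ∨ K = N) (hD : ⁅N, N⁆ ≤ S) :
    ∃ r : ℕ, r.Prime ∧ (∀ x ∈ N, x ^ r ∈ S) ∧ (∀ x ∈ N, ∀ y ∈ N, ⁅x, y⁆ ∈ S) := by
  classical
  have hcomm : ∀ x ∈ N, ∀ y ∈ N, ⁅x, y⁆ ∈ S := fun x hx y hy =>
    hD (Subgroup.commutator_mem_commutator hx hy)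
  obtain ⟨x₀, hx₀N, hx₀S⟩ := SetLike.not_le_iff_exists.1 hNS
  have hex : ∃ m : ℕ, 0 < m ∧ x₀ ^ m ∈ S :=
    ⟨orderOf x₀, orderOf_pos x₀, by rw [pow_orderOf_eq_one]; exact S.one_mem⟩
  obtain ⟨m, hm⟩ : ∃ m : ℕ, m = Nat.find hex := ⟨_, rfl⟩
  have hm_spec : 0 < m ∧ x₀ ^ m ∈ S := by rw [hm]; exact Nat.find_spec hex
  have hm_min : ∀ k : ℕ, k < m → ¬ (0 < k ∧ x₀ ^ k ∈ S) := by
    intro k hk; rw [hm] at hk; exact Nat.find_min hex hk
  have hm1 : m ≠ 1 := by
    intro h1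
    rw [h1, pow_one] at hm_spec
    exact hx₀S hm_spec.2
  obtain ⟨r, hr⟩ : ∃ r : ℕ, r = m.minFac := ⟨_, rfl⟩
  have hrp : r.Prime := by rw [hr]; exact Nat.minFac_prime hm1
  have hrm : r ∣ m := by rw [hr]; exact Nat.minFac_dvd m
  obtain ⟨d, hd⟩ := hrm
  have hd0 : 0 < d := by
    rcases Nat.eq_zero_or_pos d with h | h
    · rw [h, mul_zero] at hd; omega
    · exact h
  have hdm : d < m := by
    have := hrp.two_le
    nlinarith
  obtain ⟨y, hy⟩ : ∃ y : G, y = x₀ ^ d := ⟨_, rfl⟩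
  have hyN : y ∈ N := by rw [hy]; exact N.pow_mem hx₀N d
  have hyS : y ∉ S := by
    intro h
    rw [hy] at h
    exact hm_min d hdm ⟨hd0, h⟩
  have hyr : y ^ r ∈ S := by
    rw [hy, ← pow_mul, mul_comm, ← hd]
    exact hm_spec.2
  -- the subgroup of elements with `x ^ r ∈ S`
  obtain ⟨K, hK⟩ : ∃ K : Subgroup G, ∀ x, x ∈ K ↔ x ∈ N ∧ x ^ r ∈ S := by
    refine ⟨{ carrier := {x | x ∈ N ∧ x ^ r ∈ S}, mul_mem' := ?_, one_mem' := ?_, inv_mem' := ?_ }, fun x => Iff.rfl⟩
    · rintro a b ⟨haN, haS⟩ ⟨hbN, hbS⟩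
      refine ⟨N.mul_mem haN hbN, ?_⟩
      obtain ⟨s, hs, e⟩ := pow_mul_mod S N hS hcomm a b haN hbN r
      rw [e]
      exact S.mul_mem (S.mul_mem haS hbS) hs
    · exact ⟨N.one_mem, by rw [one_pow]; exact S.one_mem⟩
    · rintro a ⟨haN, haS⟩
      exact ⟨N.inv_mem haN, by rw [inv_pow]; exact S.inv_mem haS⟩
  have hKN : K ≤ N := fun x hx => ((hK x).1 hx).1
  have hKn : NB H K := by
    intro h hh x hx
    obtain ⟨hxN, hxS⟩ := (hK x).1 hx
    refine (hK _).2 ⟨hNn h hh x hxN, ?_⟩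
    rw [conj_pow]
    exact cjs_le_of_central hS h (conj_mem_cjs (h := h) hxS)
  rcases hmin K hKN hKn with h | h
  · exact absurd (h ((hK y).2 ⟨hyN, hyr⟩)) hyS
  · refine ⟨r, hrp, ?_, hcomm⟩
    intro x hx
    rw [← h] at hx
    exact ((hK x).1 hx).2

/-- case (b): `⁅N, N⁆ = N` -/
theorem case_b [Finite G] (S H N : Subgroup G) (hS : S ≤ Subgroup.center G) (hNH : N ≤ H) (hNn : NB H N)
    (hNS : ¬ N ≤ S) (hmin : ∀ K : Subgroup G, K ≤ N → NB H K → K ≤ S ∨ K = N) (hD : ⁅N, N⁆ = N) :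
    ∃ L : Subgroup G, L ≤ H ∧ ¬ L ≤ S ∧ ⁅L, L⁆ = L ∧
      (∀ K : Subgroup G, K ≤ L → NB L K → K ≤ S ∨ K = L) ∧
      (∀ h ∈ H, (∀ x ∈ L, h * x * h⁻¹ ∈ L) ∨
        (∀ x ∈ L, ∀ y ∈ L, (h * x * h⁻¹) * y = y * (h * x * h⁻¹))) := by
  classical
  obtain ⟨L, hLN, hLn, hLS, hLmin⟩ := exists_min S N N (NB_self N) hNS
  -- the conjugates
  have c1 : ∀ h ∈ H, cjs h L ≤ N := by
    intro h hh
    rw [← cjs_eq_of_NB hNn hh]
    exact cjs_mono h hLN
  have c2 : ∀ h ∈ H, NB N (cjs h L) := by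
    intro h hh n hn y hy
    rw [mem_cjs] at hy ⊢
    have hn' : h⁻¹ * n * h ∈ N := by
      have := hNn h⁻¹ (H.inv_mem hh) n hn
      rwa [inv_inv] at this
    have := hLn _ hn' _ hy
    have e : h⁻¹ * (n * y * n⁻¹) * h = h⁻¹ * n * h * (h⁻¹ * y * h) * (h⁻¹ * n * h)⁻¹ := by group
    rw [e]
    exact this
  -- distinct conjugates commute modulo `S`
  have c3 : ∀ h ∈ H, cjs h L ≠ L → ⁅L, cjs h L⁆ ≤ S := by
    intro h hh hne
    have hinf : L ⊓ cjs h L ≤ S := by
      have hn : NB N (L ⊓ cjs h L) := fun n hn x hx => ⟨hLn n hn x hx.1, c2 h hh n hn x hx.2⟩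
      rcases hLmin _ inf_le_left hn with h1 | h1
      · exact h1
      · exfalso
        apply hne
        have hle : L ≤ cjs h L := inf_eq_left.1 h1
        exact (Subgroup.eq_of_le_of_card_ge hle (le_of_eq (card_cjs h L))).symm
    refine le_trans ?_ hinf
    rw [Subgroup.commutator_le]
    intro x hx y hy
    rw [commutatorElement_def]
    constructor
    · have : y * x⁻¹ * y⁻¹ ∈ L := by
        have := hLn y (c1 h hh hy) x⁻¹ (L.inv_mem hx)
        exact this
      have e : x * y * x⁻¹ * y⁻¹ = x * (y * x⁻¹ * y⁻¹) := by group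
      rw [e]
      exact L.mul_mem hx this
    · have : x * y * x⁻¹ ∈ cjs h L := c2 h hh x (hLN hx) y hy
      exact (cjs h L).mul_mem this ((cjs h L).inv_mem hy)
  have c5 : ∀ h₁ ∈ H, ∀ h₂ ∈ H, cjs h₁ L = cjs h₂ L ∨ ⁅cjs h₁ L, cjs h₂ L⁆ ≤ S := by
    intro h₁ hh₁ h₂ hh₂
    have e : cjs h₂ L = cjs h₁ (cjs (h₁⁻¹ * h₂) L) := by
      rw [← cjs_mul]
      congr 1
      group
    have hh : h₁⁻¹ * h₂ ∈ H := H.mul_mem (H.inv_mem hh₁) hh₂
    by_cases hc : cjs (h₁⁻¹ * h₂) L = L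
    · left
      rw [e, hc]
    · right
      rw [e, ← cjs_commutator]
      exact (cjs_mono h₁ (c3 _ hh hc)).trans (cjs_le_of_central hS h₁)
  -- the normal closure of `L` is `N`
  have hP : (⨆ h : H, cjs (h : G) L) = N := by
    have hPN : (⨆ h : H, cjs (h : G) L) ≤ N := iSup_le fun h => c1 h h.2
    have hPn : NB H (⨆ h : H, cjs (h : G) L) := by
      intro g hg x hx
      have := conj_mem_cjs (h := g) hx
      unfold cjs at this
      rw [Subgroup.map_iSup] at this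
      revert this
      apply (iSup_le (a := ⨆ h : H, cjs (h : G) L) ?_)
      intro h
      change cjs g (cjs (h : G) L) ≤ _
      rw [← cjs_mul]
      exact le_iSup (fun h : H => cjs (h : G) L) ⟨g * h, H.mul_mem hg h.2⟩
    have hPS : ¬ (⨆ h : H, cjs (h : G) L) ≤ S := by
      intro h
      apply hLS
      refine le_trans ?_ h
      have := le_iSup (fun h : H => cjs (h : G) L) ⟨1, H.one_mem⟩
      simpa [cjs_one] using this
    rcases hmin _ hPN hPn with h | h
    · exact absurd h hPS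
    · exact h
  -- `L` is perfect
  have hperf : ⁅L, L⁆ = L := by
    rcases hLmin _ (commutator_self_le L) (NB_commutator hLn) with h | h
    · exfalso
      apply hNS
      have : ⁅⨆ h : H, cjs (h : G) L, ⨆ h : H, cjs (h : G) L⁆ ≤ S := by
        apply commutator_iSup_le S hS
        intro i j
        rcases c5 i i.2 j j.2 with e | e
        · rw [← e, ← cjs_commutator]
          exact (cjs_mono _ h).trans (cjs_le_of_central hS _)
        · exact e
      rw [hP, hD] at this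
      exact this
    · exact h
  -- distinct conjugates commute
  have c6 : ∀ h ∈ H, cjs h L ≠ L → ⁅L, cjs h L⁆ = ⊥ := by
    intro h hh hne
    have hcen : ∀ X : Subgroup G, ⁅⁅L, cjs h L⁆, X⁆ = ⊥ := by
      intro X
      rw [Subgroup.commutator_eq_bot_iff_le_centralizer]
      exact ((c3 h hh hne).trans hS).trans (Subgroup.center_le_centralizer _)
    have h1 : ⁅⁅L, cjs h L⁆, L⁆ = ⊥ := hcen L
    have h2 : ⁅⁅cjs h L, L⁆, L⁆ = ⊥ := by
      rw [Subgroup.commutator_comm (cjs h L) L]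
      exact hcen L
    have := Subgroup.commutator_commutator_eq_bot_of_rotate h1 h2
    rwa [hperf] at this
  have c7 : ∀ h ∈ H, cjs h L ≠ L → ∀ y ∈ L, ∀ z ∈ cjs h L, z * y = y * z := by
    intro h hh hne y hy z hz
    have := c6 h hh hne
    rw [Subgroup.commutator_eq_bot_iff_le_centralizer] at this
    have h1 := this hy
    rw [Subgroup.mem_centralizer_iff] at h1
    exact h1 z hz
  refine ⟨L, hLN.trans hNH, hLS, hperf, ?_, ?_⟩
  · -- simplicity modulo `S`
    intro K hKL hKn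
    apply hLmin K hKL
    -- `K` is normalised by `N`
    have hnorm : N ≤ Subgroup.normalizer (K : Set G) := by
      rw [← hP]
      apply iSup_le
      intro h
      intro z hz
      rw [Subgroup.mem_normalizer_iff]
      by_cases hc : cjs (h : G) L = L
      · rw [hc] at hz
        intro k
        constructor
        · intro hk
          exact hKn z hz k hk
        · intro hk
          have := hKn z⁻¹ (L.inv_mem hz) _ hk
          have e : z⁻¹ * (z * k * z⁻¹) * z⁻¹⁻¹ = k := by group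
          rwa [e] at this
      · intro k
        constructor
        · intro hk
          have := c7 h h.2 hc k (hKL hk) z hz
          have e : z * k * z⁻¹ = k := by rw [this]; group
          rw [e]; exact hk
        · intro hk
          have := c7 h h.2 hc _ (hKL hk) z⁻¹ ((cjs (h : G) L).inv_mem hz)
          have e : k = z⁻¹ * (z * k * z⁻¹) * z := by group
          rw [e, this]
          have e2 : z * k * z⁻¹ * z⁻¹ * z = z * k * z⁻¹ := by group
          rw [e2]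
          exact hk
    intro n hn x hx
    exact (Subgroup.mem_normalizer_iff.1 (hnorm hn) x).1 hx
  · intro h hh
    by_cases hc : cjs h L = L
    · left
      intro x hx
      rw [← hc]
      exact conj_mem_cjs hx
    · right
      intro x hx y hy
      exact c7 h hh hc y hy _ (conj_mem_cjs hx)

/-- **the group-theoretic dichotomy**, abstract form -/
theorem dichotomy [Finite G] (S H : Subgroup G) (hS : S ≤ Subgroup.center G) (hH : ¬ H ≤ S) :
    (∃ (N : Subgroup G) (r : ℕ), N ≤ H ∧ NB H N ∧ ¬ N ≤ S ∧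
      (∀ K : Subgroup G, K ≤ N → NB H K → K ≤ S ∨ K = N) ∧ r.Prime ∧
      (∀ x ∈ N, x ^ r ∈ S) ∧ (∀ x ∈ N, ∀ y ∈ N, ⁅x, y⁆ ∈ S)) ∨
    (∃ L : Subgroup G, L ≤ H ∧ ¬ L ≤ S ∧ ⁅L, L⁆ = L ∧
      (∀ K : Subgroup G, K ≤ L → NB L K → K ≤ S ∨ K = L) ∧
      (∀ h ∈ H, (∀ x ∈ L, h * x * h⁻¹ ∈ L) ∨
        (∀ x ∈ L, ∀ y ∈ L, (h * x * h⁻¹) * y = y * (h * x * h⁻¹)))) := by
  obtain ⟨N, hNH, hNn, hNS, hmin⟩ := exists_min S H H (NB_self H) hH
  rcases hmin _ (commutator_self_le N) (NB_commutator hNn) with hD | hD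
  · left
    obtain ⟨r, hr, hpow, hcomm⟩ := case_a S H N hS hNn hNS hmin hD
    exact ⟨N, r, hNH, hNn, hNS, hmin, hr, hpow, hcomm⟩
  · right
    exact case_b S H N hS hNH hNn hNS hmin hD

end abstract

section concrete

open Matrix Cfsg.Geo Cfsg.Agent.Lib.Helper7.Asch

variable {F : Type*} [Field F] {n : ℕ}

theorem scalars_le_center : scalars (Fin n) F ≤ Subgroup.center (GL (Fin n) F) := by
  intro g hg
  rw [mem_scalars_iff] at hg
  obtain ⟨c, hc⟩ := hg
  rw [Subgroup.mem_center_iff]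
  intro x
  apply Units.ext
  rw [Units.val_mul, Units.val_mul, hc, Matrix.mul_smul, Matrix.smul_mul, Matrix.mul_one, Matrix.one_mul]

/-- **I5** the group-theoretic dichotomy, exact stub signature of `AschTop.group_dichotomy` -/
theorem group_dichotomy [Fintype F] (H : Subgroup (GL (Fin n) F)) (hH : ¬ H ≤ scalars (Fin n) F) :
    (∃ (N : Subgroup (GL (Fin n) F)) (r : ℕ), N ≤ H ∧ NormBy H N ∧ ¬ N ≤ scalars (Fin n) F ∧
      (∀ K : Subgroup (GL (Fin n) F), K ≤ N → NormBy H K → K ≤ scalars (Fin n) F ∨ K = N) ∧ r.Prime ∧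
      (∀ x ∈ N, x ^ r ∈ scalars (Fin n) F) ∧ (∀ x ∈ N, ∀ y ∈ N, ⁅x, y⁆ ∈ scalars (Fin n) F)) ∨
    (∃ L : Subgroup (GL (Fin n) F), L ≤ H ∧ ¬ L ≤ scalars (Fin n) F ∧ ⁅L, L⁆ = L ∧ SimpleModScal L ∧
      (∀ h ∈ H, (∀ x ∈ L, h * x * h⁻¹ ∈ L) ∨ (∀ x ∈ L, ∀ y ∈ L, (h * x * h⁻¹) * y = y * (h * x * h⁻¹)))) :=
  dichotomy (scalars (Fin n) F) H scalars_le_center hH

end concrete

end Cfsg.Agent.Lib.Helper23.S5630I5
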