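import Mathlib
import Cfsg.Prelude.Def_GeometricClasses
import Cfsg.Agent.Lib.Helper13.TensorNM
import Cfsg.Agent.Lib.Helper15.MonoA
import Cfsg.Agent.Lib.Helper15.BlkA

/-!
# BlkMax FO-L3: an element outside the block stabiliser spreads a block vector over two blocks
-/

set_option autoImplicit false

namespace Cfsg.Agent.Lib.Helper23.BlkMax

open Matrix Cfsg Cfsg.Geo Cfsg.Agent.Lib.Helper13.TNM Cfsg.Agent.Lib.Helper15.MonoMax
  Cfsg.Agent.Lib.Helper15.BlkMax

variable {t m : ℕ} {F : Type*} [Field F]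

theorem gl_inv_mul_val {κ : Type} [Fintype κ] [DecidableEq κ] (g : GL κ F) :
    ((g⁻¹ : GL κ F) : Matrix κ κ F) * (g : Matrix κ κ F) = 1 := by
  rw [← Units.val_mul, inv_mul_cancel, Units.val_one]

theorem gl_mul_inv_val {κ : Type} [Fintype κ] [DecidableEq κ] (g : GL κ F) :
    (g : Matrix κ κ F) * ((g⁻¹ : GL κ F) : Matrix κ κ F) = 1 := by
  rw [← Units.val_mul, mul_inv_cancel, Units.val_one]

theorem gl_exists_col_ne {κ : Type} [Fintype κ] [DecidableEq κ] (g : GL κ F) (j : κ) :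
    ∃ l, (g : Matrix κ κ F) l j ≠ 0 := by
  by_contra h
  push Not at h
  have := congrFun (congrFun (gl_inv_mul_val g) j) j
  rw [Matrix.mul_apply, Matrix.one_apply_eq] at this
  rw [Finset.sum_eq_zero (fun l _ => by rw [h l, mul_zero])] at this
  exact zero_ne_one this

theorem gl_exists_row_ne {κ : Type} [Fintype κ] [DecidableEq κ] (g : GL κ F) (l : κ) :
    ∃ j, (g : Matrix κ κ F) l j ≠ 0 := by
  by_contra h
  push Not at h
  have := congrFun (congrFun (gl_mul_inv_val g) l) l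
  rw [Matrix.mul_apply, Matrix.one_apply_eq] at this
  rw [Finset.sum_eq_zero (fun j _ => by rw [h j, zero_mul])] at this
  exact zero_ne_one this

/-- a block-monomial invertible matrix (w.r.t. a permutation of the blocks) lies in the block
stabiliser: only the condition on `g` itself is needed -/
theorem mem_decStab_of_blockMonomial' (g : GL (Fin t × Fin m) F) (π : Equiv.Perm (Fin t))
    (h1 : ∀ a a' : Fin t × Fin m, a.1 ≠ π a'.1 → (g : Matrix (Fin t × Fin m) (Fin t × Fin m) F) a a' = 0) :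
    g ∈ decompositionStabilizer (blk (F := F) (Prod.fst : Fin t × Fin m → Fin t)) := by
  classical
  apply mem_decStab_of_blockMonomial (Prod.fst : Fin t × Fin m → Fin t) g π h1
  intro a a' ha
  -- `y` = column `a'` of `g⁻¹`
  obtain ⟨y, hy⟩ : ∃ y : Fin t × Fin m → F,
      y = fun b => ((g⁻¹ : GL (Fin t × Fin m) F) : Matrix (Fin t × Fin m) (Fin t × Fin m) F) b a' :=
    ⟨_, rfl⟩
  have hgy : (g : Matrix (Fin t × Fin m) (Fin t × Fin m) F) *ᵥ y = Pi.single a' 1 := by
    funext b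
    have := congrFun (congrFun (gl_mul_inv_val g) b) a'
    rw [Matrix.mul_apply] at this
    rw [Matrix.mulVec, dotProduct, hy, this, Matrix.one_apply, Pi.single_apply]
  have hπa : π a.1 ≠ a'.1 := by
    intro h
    apply ha
    rw [← h, Equiv.symm_apply_apply]
  obtain ⟨z, hz⟩ : ∃ z : Fin t × Fin m → F, z = fun b => if b.1 = a.1 then y b else 0 := ⟨_, rfl⟩
  have hzc : ∀ c, z c = if c.1 = a.1 then y c else 0 := fun c => by rw [hz]
  have hgz : (g : Matrix (Fin t × Fin m) (Fin t × Fin m) F) *ᵥ z = 0 := by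
    funext b
    rw [Pi.zero_apply, Matrix.mulVec, dotProduct]
    by_cases hb : b.1 = π a.1
    · have e1 : ∑ c, (g : Matrix (Fin t × Fin m) (Fin t × Fin m) F) b c * z c =
          ∑ c, (g : Matrix (Fin t × Fin m) (Fin t × Fin m) F) b c * y c := by
        apply Finset.sum_congr rfl
        intro c _
        by_cases hc : c.1 = a.1
        · rw [hzc, if_pos hc]
        · have : (g : Matrix (Fin t × Fin m) (Fin t × Fin m) F) b c = 0 := by
            apply h1
            rw [hb]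
            exact fun h => hc (π.injective h).symm
          rw [this, zero_mul, zero_mul]
      have e2 := congrFun hgy b
      rw [Matrix.mulVec, dotProduct] at e2
      rw [e1, e2, Pi.single_apply, if_neg]
      intro h
      apply hπa
      rw [← hb, h]
    · apply Finset.sum_eq_zero
      intro c _
      by_cases hc : c.1 = a.1
      · have : (g : Matrix (Fin t × Fin m) (Fin t × Fin m) F) b c = 0 := by
          apply h1
          rw [hc]; exact hb
        rw [this, zero_mul]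
      · rw [hzc, if_neg hc, mul_zero]
  have hz0 : z = 0 := by
    have := congrArg (fun v => ((g⁻¹ : GL (Fin t × Fin m) F) :
      Matrix (Fin t × Fin m) (Fin t × Fin m) F) *ᵥ v) hgz
    simpa [Matrix.mulVec_mulVec, gl_inv_mul_val] using this
  have := congrFun hz0 a
  rw [hzc, if_pos rfl, Pi.zero_apply, hy] at this
  exact this

/-- FO-L3, exact signature -/
theorem exists_spread (g : GL (Fin t × Fin m) F)
    (hg : g ∉ decompositionStabilizer (blk (F := F) (Prod.fst : Fin t × Fin m → Fin t))) :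
    ∃ (i : Fin t) (a : Fin t × Fin m → F), OnBlk i a ∧ ∃ k l : Fin t, k ≠ l ∧
      (∃ x, ((g : Matrix (Fin t × Fin m) (Fin t × Fin m) F) *ᵥ a) (k, x) ≠ 0) ∧
      (∃ y, ((g : Matrix (Fin t × Fin m) (Fin t × Fin m) F) *ᵥ a) (l, y) ≠ 0) := by
  classical
  by_contra hcon
  apply hg
  have H : ∀ (i : Fin t) (a : Fin t × Fin m → F), OnBlk i a → ∀ k l : Fin t, k ≠ l →
      (∃ x, ((g : Matrix (Fin t × Fin m) (Fin t × Fin m) F) *ᵥ a) (k, x) ≠ 0) →
      (∃ y, ((g : Matrix (Fin t × Fin m) (Fin t × Fin m) F) *ᵥ a) (l, y) ≠ 0) → False :=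
    fun i a ha k l hkl h1 h2 => hcon ⟨i, a, ha, k, l, hkl, h1, h2⟩
  rcases Nat.eq_zero_or_pos m with hm0 | hm
  · subst hm0
    exact mem_decStab_of_blockMonomial' g 1 (fun a => (Fin.elim0 a.2))
  -- the block of each column
  have hsingle : ∀ a' : Fin t × Fin m, OnBlk a'.1 (Pi.single a' (1 : F)) := by
    intro a' b hb
    rw [Pi.single_apply, if_neg]
    rintro rfl; exact hb rfl
  have hcolumn : ∀ a' b : Fin t × Fin m,
      ((g : Matrix (Fin t × Fin m) (Fin t × Fin m) F) *ᵥ Pi.single a' 1) b =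
        (g : Matrix (Fin t × Fin m) (Fin t × Fin m) F) b a' := by
    intro a' b
    rw [Matrix.mulVec_single_one]; rfl
  have hβ : ∀ a' : Fin t × Fin m, ∃ k : Fin t,
      (∃ x, (g : Matrix (Fin t × Fin m) (Fin t × Fin m) F) (k, x) a' ≠ 0) ∧
      ∀ b : Fin t × Fin m, b.1 ≠ k → (g : Matrix (Fin t × Fin m) (Fin t × Fin m) F) b a' = 0 := by
    intro a'
    obtain ⟨b₀, hb₀⟩ := gl_exists_col_ne g a'
    refine ⟨b₀.1, ⟨b₀.2, hb₀⟩, fun b hb => ?_⟩
    by_contra hne
    apply H a'.1 _ (hsingle a') b₀.1 b.1 (Ne.symm hb)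
    · exact ⟨b₀.2, by rw [hcolumn]; exact hb₀⟩
    · exact ⟨b.2, by rw [hcolumn]; exact hne⟩
  choose β hβ1 hβ2 using hβ
  have hβeq : ∀ (i : Fin t) (x x' : Fin m), β (i, x) = β (i, x') := by
    intro i x x'
    by_contra hne
    obtain ⟨x₀, hx₀⟩ := hβ1 (i, x)
    obtain ⟨y₀, hy₀⟩ := hβ1 (i, x')
    have hon : OnBlk i ((Pi.single (i, x) (1 : F) : Fin t × Fin m → F) + Pi.single (i, x') (1 : F)) := by
      intro b hb
      rw [Pi.add_apply, hsingle (i, x) b hb, hsingle (i, x') b hb, add_zero]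
    apply H i _ hon (β (i, x)) (β (i, x')) hne
    · refine ⟨x₀, ?_⟩
      rw [Matrix.mulVec_add, Pi.add_apply, hcolumn, hcolumn, hβ2 (i, x') (β (i, x), x₀) hne, add_zero]
      exact hx₀
    · refine ⟨y₀, ?_⟩
      rw [Matrix.mulVec_add, Pi.add_apply, hcolumn, hcolumn,
        hβ2 (i, x) (β (i, x'), y₀) (Ne.symm hne), zero_add]
      exact hy₀
  obtain ⟨π₀, hπ₀⟩ : ∃ π₀ : Fin t → Fin t, π₀ = fun i => β (i, ⟨0, hm⟩) := ⟨_, rfl⟩
  have hπβ : ∀ a' : Fin t × Fin m, β a' = π₀ a'.1 := by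
    intro a'
    rw [hπ₀]
    exact hβeq a'.1 a'.2 ⟨0, hm⟩
  have hsurj : Function.Surjective π₀ := by
    intro k
    obtain ⟨a', ha'⟩ := gl_exists_row_ne g (k, ⟨0, hm⟩)
    refine ⟨a'.1, ?_⟩
    by_contra hne
    apply ha'
    apply hβ2
    rw [hπβ]
    exact fun h => hne h.symm
  have hbij : Function.Bijective π₀ := ⟨Finite.injective_iff_surjective.mpr hsurj, hsurj⟩
  apply mem_decStab_of_blockMonomial' g (Equiv.ofBijective π₀ hbij)
  intro a a' ha
  apply hβ2
  rw [hπβ]
  exact ha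

end Cfsg.Agent.Lib.Helper23.BlkMax
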