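import Mathlib
import Cfsg.Agent.Lib.Helper23.BlkL3
import Cfsg.Agent.Lib.Helper10.BlkComm

/-!
# BlkMax FO-B1: the starting transvection
-/

set_option autoImplicit false

namespace Cfsg.Agent.Lib.Helper23.BlkMax

open Matrix Cfsg Cfsg.Geo Cfsg.Agent.Lib.Helper13.TNM Cfsg.Agent.Lib.Helper15.MonoMax
  Cfsg.Agent.Lib.Helper15.BlkMax

variable {t m : ℕ} {F : Type*} [Field F]

/-- block transvections belong to `SS` (local copy of FO-S) -/
theorem tvGL_mem_SS' (k : Fin t) (b θ : Fin t × Fin m → F) (hb : OnBlk k b) (hθ : OnBlk k θ)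
    (h : θ ⬝ᵥ b = 0) : tvGL b θ h ∈ SS t m F := by
  refine ⟨?_, tvGL_mem_SL b θ h⟩
  apply mem_decStab_of_blockMonomial' _ 1
  intro a a' ha
  have hne : a ≠ a' := fun e => ha (by rw [e]; rfl)
  rw [tvGL_val, tv, Matrix.add_apply, Matrix.one_apply_ne hne, zero_add, Matrix.vecMulVec_apply]
  by_cases hak : a.1 = k
  · have : a'.1 ≠ k := fun h' => ha (by rw [hak, h']; rfl)
    rw [hθ a' this, mul_zero]
  · rw [hb a hak, zero_mul]

/-- FO-B1, exact signature -/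
theorem exists_start (hm : 2 ≤ m) (M : Subgroup (GL (Fin t × Fin m) F)) (hSM : SS t m F ≤ M)
    (g : GL (Fin t × Fin m) F) (hgM : g ∈ M)
    (hg : g ∉ decompositionStabilizer (blk (F := F) (Prod.fst : Fin t × Fin m → Fin t))) :
    ∃ c ψ : Fin t × Fin m → F, ψ ⬝ᵥ c = 0 ∧ ψ ≠ 0 ∧ InTv M c ψ ∧ ∃ k l : Fin t, k ≠ l ∧
      (∃ x, c (k, x) ≠ 0) ∧ (∃ y, c (l, y) ≠ 0) := by
  classical
  obtain ⟨i, a, ha, k, l, hkl, hck, hcl⟩ := exists_spread g hg
  have ha0 : a ≠ 0 := by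
    rintro rfl
    obtain ⟨x, hx⟩ := hck
    rw [Matrix.mulVec_zero] at hx
    exact hx rfl
  obtain ⟨a₀, ha₀⟩ : ∃ a₀, a a₀ ≠ 0 := by
    by_contra h
    push Not at h
    exact ha0 (funext h)
  have ha₀i : a₀.1 = i := by
    by_contra h
    exact ha₀ (ha a₀ h)
  obtain ⟨x₁, hx₁⟩ : ∃ x₁ : Fin m, x₁ ≠ a₀.2 := by
    by_cases h : a₀.2 = ⟨0, by omega⟩
    · exact ⟨⟨1, by omega⟩, by rw [h]; simp [Fin.ext_iff]⟩
    · exact ⟨⟨0, by omega⟩, fun h' => h h'.symm⟩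
  have hne : ((i, x₁) : Fin t × Fin m) ≠ a₀ := by
    intro h
    apply hx₁
    rw [← h]
  obtain ⟨φ, hφ⟩ : ∃ φ : Fin t × Fin m → F,
      φ = a a₀ • (Pi.single (i, x₁) (1 : F) : Fin t × Fin m → F) -
        a (i, x₁) • (Pi.single a₀ (1 : F) : Fin t × Fin m → F) := ⟨_, rfl⟩
  have hφa : φ ⬝ᵥ a = 0 := by
    rw [hφ, sub_dotProduct, smul_dotProduct, smul_dotProduct,
      single_one_dotProduct, single_one_dotProduct, smul_eq_mul, smul_eq_mul]
    ring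
  have hφon : OnBlk i φ := by
    intro b hb
    have h1 : b ≠ (i, x₁) := fun h => hb (by rw [h])
    have h2 : b ≠ a₀ := fun h => hb (by rw [h, ha₀i])
    rw [hφ]
    simp only [Pi.sub_apply, Pi.smul_apply, Pi.single_apply, if_neg h1, if_neg h2, smul_zero,
      sub_zero]
  have hφ0 : φ ≠ 0 := by
    intro h0
    have := congrFun h0 (i, x₁)
    rw [hφ] at this
    simp only [Pi.sub_apply, Pi.smul_apply, Pi.single_apply, if_neg hne, if_true,
      smul_eq_mul, mul_one, mul_zero, sub_zero, Pi.zero_apply] at this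
    exact ha₀ this
  have hT : InTv M a φ := by
    rw [inTv_iff M a φ hφa]
    exact hSM (tvGL_mem_SS' i a φ ha hφon hφa)
  have hconj := Cfsg.Agent.Lib.Helper10.BlkComm.InTv.conj hT hφa hgM
  refine ⟨(g : Matrix (Fin t × Fin m) (Fin t × Fin m) F) *ᵥ a,
    φ ᵥ* ((g⁻¹ : GL (Fin t × Fin m) F) : Matrix (Fin t × Fin m) (Fin t × Fin m) F), ?_, ?_, hconj,
    k, l, hkl, hck, hcl⟩
  · rw [Matrix.dotProduct_mulVec, Matrix.vecMul_vecMul, gl_inv_mul_val, Matrix.vecMul_one, hφa]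
  · intro h0
    apply hφ0
    have : (φ ᵥ* ((g⁻¹ : GL (Fin t × Fin m) F) : Matrix (Fin t × Fin m) (Fin t × Fin m) F)) ᵥ*
        (g : Matrix (Fin t × Fin m) (Fin t × Fin m) F) = φ := by
      rw [Matrix.vecMul_vecMul, gl_inv_mul_val, Matrix.vecMul_one]
    rw [← this, h0, Matrix.zero_vecMul]

end Cfsg.Agent.Lib.Helper23.BlkMax
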