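/-
helper23: farm-out piece FO-4 (`isometry_of_realIn`) for helper15's S3589.
Exact signature of notes/S3589_farmout_helper15.lean.txt.
-/
import Mathlib
import Cfsg.Prelude.Def_Classical
import Cfsg.Agent.Lib.Helper15.SO8a
import Cfsg.Agent.Lib.Helper15.QuadCount7
import Cfsg.Agent.Lib.Helper15.QuadClassify

set_option autoImplicit false
open Module QuadraticMap

namespace Cfsg.Agent.Lib.Helper23.S3589

open Cfsg.Agent.Lib.Helper15

variable {F : Type*} [Field F] [Fintype F]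

/-- anisotropy of `z₁² + z₁z₂ + ζ z₂²` from irreducibility of `t² + t + ζ` -/
theorem aniso_of_irred (ζ : F) (hirr : ∀ t : F, t ^ 2 + t + ζ ≠ 0) :
    ∀ z₁ z₂ : F, z₁ ^ 2 + 1 * z₁ * z₂ + ζ * z₂ ^ 2 = 0 → z₁ = 0 ∧ z₂ = 0 := by
  intro z₁ z₂ h
  by_cases h2 : z₂ = 0
  · subst h2
    refine ⟨?_, rfl⟩
    have : z₁ ^ 2 = 0 := by linear_combination h
    exact pow_eq_zero_iff (two_ne_zero) |>.1 this
  · exfalso
    apply hirr (z₁ / z₂)
    field_simp
    linear_combination h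

/-- the value counts of two anisotropic binary forms agree -/
theorem card_binForm_eq_card (a b a' b' : F)
    (hab : ∀ z₁ z₂ : F, z₁ ^ 2 + a * z₁ * z₂ + b * z₂ ^ 2 = 0 → z₁ = 0 ∧ z₂ = 0)
    (hab' : ∀ z₁ z₂ : F, z₁ ^ 2 + a' * z₁ * z₂ + b' * z₂ ^ 2 = 0 → z₁ = 0 ∧ z₂ = 0) (c : F) :
    Nat.card {w : Fin 2 → F // binForm a' b' w = c} = Nat.card {z : Fin 2 → F // binForm a b z = c} := by
  classical
  rw [card_binForm_value a b hab c, card_binForm_value a' b' hab' c]

/-- a linear automorphism of the plane carrying one anisotropic binary form to another -/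
theorem exists_equiv_binForm (a b a' b' : F)
    (hab : ∀ z₁ z₂ : F, z₁ ^ 2 + a * z₁ * z₂ + b * z₂ ^ 2 = 0 → z₁ = 0 ∧ z₂ = 0)
    (hab' : ∀ z₁ z₂ : F, z₁ ^ 2 + a' * z₁ * z₂ + b' * z₂ ^ 2 = 0 → z₁ = 0 ∧ z₂ = 0) :
    ∃ Φ : (Fin 2 → F) ≃ₗ[F] (Fin 2 → F), ∀ x, binForm a' b' (Φ x) = binForm a b x := by
  obtain ⟨Φ, hΦ⟩ := exists_isometry_binForm a b hab (binForm a' b') (nondegenerate_binForm a' b' hab')
    (by rw [Module.finrank_pi, Fintype.card_fin]) (card_binForm_eq_card a b a' b' hab hab')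
  have hinj : Function.Injective Φ := by
    rw [← LinearMap.ker_eq_bot, LinearMap.ker_eq_bot']
    intro x hx
    have h1 := hΦ x
    rw [hx, map_zero] at h1
    exact (binForm_eq_zero_iff a b hab x).1 h1.symm
  exact ⟨LinearEquiv.ofInjectiveEndo Φ hinj, fun x => by
    rw [LinearEquiv.coe_ofInjectiveEndo]; exact hΦ x⟩

/-- the block map: identity on the hyperbolic coordinates, `Φ` on the binary part -/
def blockFun (Φ : (Fin 2 → F) →ₗ[F] (Fin 2 → F)) (w : (Fin 3 ⊕ Fin 3) ⊕ Fin 2 → F) :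
    (Fin 3 ⊕ Fin 3) ⊕ Fin 2 → F :=
  Sum.elim (fun i => w (Sum.inl i)) (Φ (fun j => w (Sum.inr j)))

/-- the block map as a linear equivalence -/
def blockEquiv (Φ : (Fin 2 → F) ≃ₗ[F] (Fin 2 → F)) :
    ((Fin 3 ⊕ Fin 3) ⊕ Fin 2 → F) ≃ₗ[F] ((Fin 3 ⊕ Fin 3) ⊕ Fin 2 → F) where
  toFun := blockFun (Φ : (Fin 2 → F) →ₗ[F] (Fin 2 → F))
  invFun := blockFun (Φ.symm : (Fin 2 → F) →ₗ[F] (Fin 2 → F))
  map_add' := by
    intro x y
    funext c
    rcases c with i | j
    · rfl
    · show Φ (fun j => (x + y) (Sum.inr j)) j = Φ (fun j => x (Sum.inr j)) j + Φ (fun j => y (Sum.inr j)) j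
      have : (fun j => (x + y) (Sum.inr j)) = (fun j => x (Sum.inr j)) + (fun j => y (Sum.inr j)) := rfl
      rw [this, map_add]
      rfl
  map_smul' := by
    intro r x
    funext c
    rcases c with i | j
    · rfl
    · show Φ (fun j => (r • x) (Sum.inr j)) j = r • Φ (fun j => x (Sum.inr j)) j
      have : (fun j => (r • x) (Sum.inr j)) = r • (fun j => x (Sum.inr j)) := rfl
      rw [this, map_smul]
      rfl
  left_inv := by
    intro x
    funext c
    rcases c with i | j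
    · rfl
    · show Φ.symm (fun j => Φ (fun j => x (Sum.inr j)) j) j = x (Sum.inr j)
      have : (fun j => Φ (fun j => x (Sum.inr j)) j) = Φ (fun j => x (Sum.inr j)) := rfl
      rw [this, LinearEquiv.symm_apply_apply]
  right_inv := by
    intro x
    funext c
    rcases c with i | j
    · rfl
    · show Φ (fun j => Φ.symm (fun j => x (Sum.inr j)) j) j = x (Sum.inr j)
      have : (fun j => Φ.symm (fun j => x (Sum.inr j)) j) = Φ.symm (fun j => x (Sum.inr j)) := rfl
      rw [this, LinearEquiv.apply_symm_apply]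

theorem quadFormMinus_eq (a b : F) (w : (Fin 3 ⊕ Fin 3) ⊕ Fin 2 → F) :
    Cfsg.quadFormMinus 3 F a b w =
      (∑ i : Fin 3, w (.inl (.inl i)) * w (.inl (.inr i))) + binForm a b (fun j => w (Sum.inr j)) := by
  rw [binForm_apply]
  rfl

theorem quadFormMinus_blockEquiv (a b a' b' : F) (Φ : (Fin 2 → F) ≃ₗ[F] (Fin 2 → F))
    (hΦ : ∀ x, binForm a' b' (Φ x) = binForm a b x) (w : (Fin 3 ⊕ Fin 3) ⊕ Fin 2 → F) :
    Cfsg.quadFormMinus 3 F a' b' (blockEquiv Φ w) = Cfsg.quadFormMinus 3 F a b w := by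
  rw [quadFormMinus_eq, quadFormMinus_eq]
  have h1 : (fun j => (blockEquiv Φ w) (Sum.inr j)) = Φ (fun j => w (Sum.inr j)) := rfl
  rw [h1, hΦ]
  rfl

/-- from a linear automorphism of the coordinate space preserving a function `Qf` to an element
of the isometry group, with the same order -/
theorem exists_isometryGroup_of_equiv {ι : Type} [Fintype ι] [DecidableEq ι] (Qf : (ι → F) → F)
    (g : (ι → F) ≃ₗ[F] (ι → F)) (hg : ∀ u, Qf (g u) = Qf u) :
    ∃ x : ↥(Cfsg.isometryGroup F Qf), orderOf x = orderOf g := by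
  let e1 : ((ι → F) ≃ₗ[F] (ι → F)) ≃* LinearMap.GeneralLinearGroup F (ι → F) :=
    (LinearMap.GeneralLinearGroup.generalLinearEquiv F (ι → F)).symm
  let e2 : LinearMap.GeneralLinearGroup F (ι → F) ≃* GL ι F := Matrix.GeneralLinearGroup.toLin.symm
  let A : GL ι F := e2 (e1 g)
  have hA : ∀ u, (A : Matrix ι ι F).mulVec u = g u := by
    intro u
    have h1 : Matrix.GeneralLinearGroup.toLin A = e1 g := by
      show Matrix.GeneralLinearGroup.toLin (Matrix.GeneralLinearGroup.toLin.symm (e1 g)) = e1 g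
      exact MulEquiv.apply_symm_apply _ _
    have h2 : (LinearMap.GeneralLinearGroup.generalLinearEquiv F (ι → F)) (e1 g) = g :=
      MulEquiv.apply_symm_apply _ _
    have h3 : ((Matrix.GeneralLinearGroup.toLin A : LinearMap.GeneralLinearGroup F (ι → F)) :
        (ι → F) →ₗ[F] (ι → F)) u = (A : Matrix ι ι F).mulVec u := by
      rw [Matrix.GeneralLinearGroup.coe_toLin]
      rfl
    rw [← h3, h1]
    have h4 : ((e1 g : LinearMap.GeneralLinearGroup F (ι → F)) : (ι → F) →ₗ[F] (ι → F)) u =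
        (LinearMap.GeneralLinearGroup.generalLinearEquiv F (ι → F)) (e1 g) u := rfl
    rw [h4, h2]
  have hmem : A ∈ Cfsg.isometryGroup F Qf := by
    rw [mem_isometryGroup_iff]
    intro u
    rw [hA, hg]
  refine ⟨⟨A, hmem⟩, ?_⟩
  rw [Subgroup.orderOf_mk]
  show orderOf (e2 (e1 g)) = orderOf g
  rw [MulEquiv.orderOf_eq, MulEquiv.orderOf_eq]

/-- conjugation by a linear equivalence, as a group isomorphism of automorphism groups -/
def conjAut {V W : Type*} [AddCommGroup V] [Module F V] [AddCommGroup W] [Module F W]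
    (θ : W ≃ₗ[F] V) : (V ≃ₗ[F] V) ≃* (W ≃ₗ[F] W) where
  toFun g := (θ.trans g).trans θ.symm
  invFun h := (θ.symm.trans h).trans θ
  left_inv g := by
    ext v
    simp
  right_inv h := by
    ext w
    simp
  map_mul' g h := by
    ext w
    simp [LinearEquiv.mul_apply]

theorem conjAut_apply {V W : Type*} [AddCommGroup V] [Module F V] [AddCommGroup W] [Module F W]
    (θ : W ≃ₗ[F] V) (g : V ≃ₗ[F] V) (w : W) : conjAut θ g w = θ.symm (g (θ w)) := rfl

/-- FO-4.  From an abstract 8-dimensional realisation of minus type to the matrix group. -/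
theorem isometry_of_realIn [CharP F 2] (a b : F)
    (hab : ∀ z₁ z₂ : F, z₁ ^ 2 + a * z₁ * z₂ + b * z₂ ^ 2 = 0 → z₁ = 0 ∧ z₂ = 0)
    {V : Type*} [AddCommGroup V] [Module F V] [FiniteDimensional F V] (hV : finrank F V = 8) {N : ℕ}
    (h : Cfsg.Agent.Lib.Helper15.SO8.RealIn F V false N) :
    ∃ g : ↥(Cfsg.isometryGroup F (Cfsg.quadFormMinus 3 F a b)), orderOf g = N := by
  classical
  obtain ⟨Q, g, hnd, hiso, hord, hcnt⟩ := h
  simp only [Bool.false_eq_true, if_false] at hcnt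
  have hfin : Finite V := Module.finite_of_finite F
  rcases classify_even Q hnd 4 (by norm_num) (by rw [hV]) with ⟨φ, hφ⟩ | ⟨ζ, hirr, φ, hφ⟩
  · exfalso
    have h1 : SO8.nz F Q = Nat.card {v : Fin 4 ⊕ Fin 4 → F // Cfsg.quadFormPlus 4 F v = 0} := by
      unfold SO8.nz
      apply Nat.card_congr
      exact φ.toEquiv.subtypeEquiv (fun v => by rw [hφ v]; rfl)
    rw [card_plus_value 4 0, if_pos rfl] at h1
    have h2 : Nat.card V = Fintype.card F ^ 8 := by
      rw [Module.natCard_eq_pow_finrank (K := F) (V := V), hV, Nat.card_eq_fintype_card]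
    rw [h1, h2] at hcnt
    have hq : 1 ≤ Fintype.card F := Fintype.card_pos
    obtain ⟨r, hr⟩ : ∃ r, Fintype.card F ^ 4 = r + 1 :=
      ⟨Fintype.card F ^ 4 - 1, by have := Nat.pow_pos (n := 4) hq; omega⟩
    have h3 : Fintype.card F ^ 4 - 1 = r := by omega
    have h4 : Fintype.card F ^ (4 - 1) = Fintype.card F ^ 3 := rfl
    rw [h3, h4] at hcnt
    have h5 : Fintype.card F ^ 8 = Fintype.card F * ((r + 1) * Fintype.card F ^ 3) := by
      rw [← hr]; ring
    have h6 : Fintype.card F ^ 3 ≤ Fintype.card F ^ 4 := Nat.pow_le_pow_right hq (by norm_num)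
    have h7 : (r + 1) * Fintype.card F ^ 3 ≤ r * Fintype.card F ^ 3 + Fintype.card F ^ 4 := by
      nlinarith
    have h8 := Nat.mul_le_mul_left (Fintype.card F) h7
    omega
  · have φ' : V ≃ₗ[F] ((Fin 3 ⊕ Fin 3) ⊕ Fin 2 → F) := φ
    have hφ' : ∀ v, Q v = Cfsg.quadFormMinus 3 F 1 ζ (φ v) := hφ
    obtain ⟨Φ, hΦ⟩ := exists_equiv_binForm a b 1 ζ hab (aniso_of_irred ζ hirr)
    let θ : ((Fin 3 ⊕ Fin 3) ⊕ Fin 2 → F) ≃ₗ[F] V := (blockEquiv Φ).trans φ.symm
    have hθ : ∀ w, Q (θ w) = Cfsg.quadFormMinus 3 F a b w := by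
      intro w
      rw [hφ' (θ w)]
      show Cfsg.quadFormMinus 3 F 1 ζ (φ (φ.symm (blockEquiv Φ w))) = _
      rw [LinearEquiv.apply_symm_apply]
      exact quadFormMinus_blockEquiv a b 1 ζ Φ hΦ w
    have hg' : ∀ w, Cfsg.quadFormMinus 3 F a b (conjAut θ g w) = Cfsg.quadFormMinus 3 F a b w := by
      intro w
      rw [← hθ, conjAut_apply, LinearEquiv.apply_symm_apply, hiso, hθ]
    obtain ⟨x, hx⟩ := exists_isometryGroup_of_equiv (Cfsg.quadFormMinus 3 F a b) (conjAut θ g) hg'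
    refine ⟨x, ?_⟩
    rw [hx, MulEquiv.orderOf_eq, hord]

end Cfsg.Agent.Lib.Helper23.S3589
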