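import Mathlib
import Cfsg.Agent.Lib.Helper1.ClassTwo

set_option autoImplicit false

/-!
Dedekind–Baer: finite groups all of whose subgroups are normal (Hamiltonian groups).
-/

namespace Cfsg.Agent.Lib.Helper23.Dedekind

open scoped commutatorElement

variable {G : Type*} [Group G]

/-- in a cyclic group of order `p^a`, the elements of order dividing `p` lie in `⟨x^(p^(a-1))⟩` -/
theorem mem_zpowers_pow_of_pow_eq_one [Finite G] {p a : ℕ} (hp : p.Prime) (ha : 1 ≤ a) (x g : G)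
    (hx : orderOf x = p ^ a) (hg : g ∈ Subgroup.zpowers x) (hgp : g ^ p = 1) :
    g ∈ Subgroup.zpowers (x ^ (p ^ (a - 1))) := by
  obtain ⟨k, rfl⟩ := (Submonoid.mem_powers_iff _ _).mp (mem_powers_iff_mem_zpowers.mpr hg)
  have h1 : p ^ a ∣ k * p := by
    rw [← hx]
    exact orderOf_dvd_of_pow_eq_one (by rw [pow_mul]; exact hgp)
  have h2 : p ^ (a - 1) ∣ k := by
    have : p ^ a = p ^ (a - 1) * p := by
      rw [← pow_succ]
      congr 1
      omega
    rw [this] at h1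
    exact Nat.dvd_of_mul_dvd_mul_right hp.pos h1
  obtain ⟨j, rfl⟩ := h2
  rw [pow_mul]
  exact Subgroup.pow_mem _ (Subgroup.mem_zpowers _) j

/-- a nontrivial element of a group of prime order generates it -/
theorem mem_zpowers_of_prime_order [Finite G] {p : ℕ} (hp : p.Prime) (w c : G)
    (hw : orderOf w = p) (hc : c ∈ Subgroup.zpowers w) (hc1 : c ≠ 1) :
    w ∈ Subgroup.zpowers c := by
  have : Fact p.Prime := ⟨hp⟩
  have hle : Subgroup.zpowers c ≤ Subgroup.zpowers w := Subgroup.zpowers_le.mpr hc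
  have hoc : orderOf c = p := by
    have h1 : c ^ p = 1 := by
      obtain ⟨k, rfl⟩ := Subgroup.mem_zpowers_iff.mp hc
      rw [← zpow_natCast, ← zpow_mul, mul_comm, zpow_mul, zpow_natCast, ← hw,
        pow_orderOf_eq_one, one_zpow]
    exact orderOf_eq_prime h1 hc1
  have := Subgroup.eq_of_le_of_card_ge hle
    (by rw [Nat.card_zpowers, Nat.card_zpowers, hw, hoc])
  rw [this]
  exact Subgroup.mem_zpowers w

theorem choose_two_mul_two (n : ℕ) : n.choose 2 * 2 = n * (n - 1) := by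
  rw [Nat.choose_two_right, Nat.div_mul_cancel (Nat.even_mul_pred_self n).two_dvd]

theorem prime_dvd_choose_two_of_odd {p m : ℕ} (hp : p.Prime) (hp2 : p ≠ 2) (hm : 1 ≤ m) :
    p ∣ (p ^ m).choose 2 := by
  have h2 : p ∣ (p ^ m).choose 2 * 2 := by
    rw [choose_two_mul_two]
    exact Dvd.dvd.mul_right (dvd_pow_self p (by omega)) _
  have h3 : Nat.Coprime p 2 := (Nat.coprime_primes hp Nat.prime_two).mpr hp2
  exact h3.dvd_of_dvd_mul_right h2

theorem two_dvd_choose_two {m : ℕ} (hm : 2 ≤ m) : 2 ∣ (2 ^ m).choose 2 := by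
  have h1 := choose_two_mul_two (2 ^ m)
  set N := 2 ^ m - 1 with hN
  have h2 : 2 ^ m = 2 * 2 ^ (m - 1) := by
    rw [← pow_succ']
    congr 1
    omega
  have h3 : (2 ^ m).choose 2 = 2 ^ (m - 1) * N := by
    have : (2 ^ m).choose 2 * 2 = 2 ^ (m - 1) * N * 2 := by
      rw [h1]
      have : 2 ^ m * N = 2 ^ (m - 1) * N * 2 := by
        rw [h2]
        ring
      exact this
    exact Nat.eq_of_mul_eq_mul_right (by norm_num) this
  rw [h3]
  exact Dvd.dvd.mul_right (dvd_pow_self 2 (by omega)) _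

/-- the core of the Dedekind–Baer argument: a minimal non-commuting pair is a quaternion pair -/
theorem core [Finite G] (hn : ∀ H : Subgroup G, H.Normal) (x y : G) (hxy : ¬ Commute x y)
    (hmin : ∀ x' y' : G, ¬ Commute x' y' → orderOf x + orderOf y ≤ orderOf x' + orderOf y')
    (hyx : orderOf y ≤ orderOf x) :
    x ^ 4 = 1 ∧ x ^ 2 ≠ 1 ∧ y ^ 2 = x ^ 2 ∧ y * x * y⁻¹ = x⁻¹ := by
  set c := ⁅x, y⁆ with hc
  have hc1 : c ≠ 1 := fun h => hxy (commutatorElement_eq_one_iff_commute.mp h)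
  have hcx : c ∈ Subgroup.zpowers x := by
    have h1 : y * x⁻¹ * y⁻¹ ∈ Subgroup.zpowers x :=
      (hn (Subgroup.zpowers x)).conj_mem _ (Subgroup.inv_mem _ (Subgroup.mem_zpowers x)) y
    have h2 : c = x * (y * x⁻¹ * y⁻¹) := by
      rw [hc, commutatorElement_def]
      group
    rw [h2]
    exact Subgroup.mul_mem _ (Subgroup.mem_zpowers x) h1
  have hcy : c ∈ Subgroup.zpowers y := by
    have h1 : x * y * x⁻¹ ∈ Subgroup.zpowers y :=
      (hn (Subgroup.zpowers y)).conj_mem _ (Subgroup.mem_zpowers y) x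
    rw [hc, commutatorElement_def]
    exact Subgroup.mul_mem _ h1 (Subgroup.inv_mem _ (Subgroup.mem_zpowers y))
  have hccx : Commute c x := by
    obtain ⟨k, hk⟩ := Subgroup.mem_zpowers_iff.mp hcx
    rw [← hk]
    exact (Commute.refl x).zpow_left k
  have hccy : Commute c y := by
    obtain ⟨k, hk⟩ := Subgroup.mem_zpowers_iff.mp hcy
    rw [← hk]
    exact (Commute.refl y).zpow_left k
  have hpowx : ∀ n : ℕ, ⁅x ^ n, y⁆ = c ^ n := fun n =>
    Cfsg.Agent.Lib.Helper1.commutatorElement_pow_left hccx.eq n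
  have hyxc : ⁅y, x⁆ = c⁻¹ := by rw [hc, commutatorElement_inv]
  have hpowy : ∀ n : ℕ, ⁅x, y ^ n⁆ = c ^ n := by
    intro n
    have h0 : ⁅y, x⁆ * y = y * ⁅y, x⁆ := by
      rw [hyxc]
      exact (hccy.inv_left).eq
    have h1 : ⁅y ^ n, x⁆ = ⁅y, x⁆ ^ n :=
      Cfsg.Agent.Lib.Helper1.commutatorElement_pow_left (x := y) (y := x) h0 n
    rw [← commutatorElement_inv, h1, hyxc, inv_pow, inv_inv]
  have hx1 : x ≠ 1 := by
    rintro rfl
    exact hxy (Commute.one_left y)
  have hy1 : y ≠ 1 := by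
    rintro rfl
    exact hxy (Commute.one_right x)
  -- primes dividing the orders kill c
  have hkillx : ∀ q : ℕ, q.Prime → q ∣ orderOf x → c ^ q = 1 := by
    intro q hq hqx
    rw [← hpowx]
    rw [commutatorElement_eq_one_iff_commute]
    by_contra hncomm
    have h1 := hmin (x ^ q) y hncomm
    have h2 : orderOf (x ^ q) = orderOf x / q := orderOf_pow_of_dvd hq.ne_zero hqx
    have h3 : orderOf x / q < orderOf x := Nat.div_lt_self (orderOf_pos x) hq.one_lt
    omega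
  have hkilly : ∀ q : ℕ, q.Prime → q ∣ orderOf y → c ^ q = 1 := by
    intro q hq hqy
    rw [← hpowy]
    rw [commutatorElement_eq_one_iff_commute]
    by_contra hncomm
    have h1 := hmin x (y ^ q) hncomm
    have h2 : orderOf (y ^ q) = orderOf y / q := orderOf_pow_of_dvd hq.ne_zero hqy
    have h3 : orderOf y / q < orderOf y := Nat.div_lt_self (orderOf_pos y) hq.one_lt
    omega
  have hox1 : orderOf x ≠ 1 := fun h => hx1 (orderOf_eq_one_iff.mp h)
  have hoy1 : orderOf y ≠ 1 := fun h => hy1 (orderOf_eq_one_iff.mp h)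
  obtain ⟨p, hp, hpx⟩ := Nat.exists_prime_and_dvd hox1
  have hcp : c ^ p = 1 := hkillx p hp hpx
  have hpF : Fact p.Prime := ⟨hp⟩
  have hoc : orderOf c = p := orderOf_eq_prime hcp hc1
  have huniq : ∀ q : ℕ, q.Prime → c ^ q = 1 → q = p := by
    intro q hq hcq
    have : p ∣ q := by rw [← hoc]; exact orderOf_dvd_of_pow_eq_one hcq
    exact ((Nat.prime_dvd_prime_iff_eq hp hq).mp this).symm
  have hxpow : orderOf x = p ^ (orderOf x).primeFactorsList.length :=
    Nat.eq_prime_pow_of_unique_prime_dvd (orderOf_pos x).ne'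
      (fun {d} hd hdx => huniq d hd (hkillx d hd hdx))
  have hypow : orderOf y = p ^ (orderOf y).primeFactorsList.length :=
    Nat.eq_prime_pow_of_unique_prime_dvd (orderOf_pos y).ne'
      (fun {d} hd hdy => huniq d hd (hkilly d hd hdy))
  set a := (orderOf x).primeFactorsList.length with ha
  set b := (orderOf y).primeFactorsList.length with hb
  have ha1 : 1 ≤ a := by
    rcases Nat.eq_zero_or_pos a with h | h
    · rw [h, pow_zero] at hxpow
      exact absurd hxpow hox1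
    · exact h
  have hb1 : 1 ≤ b := by
    rcases Nat.eq_zero_or_pos b with h | h
    · rw [h, pow_zero] at hypow
      exact absurd hypow hoy1
    · exact h
  have hba : b ≤ a := by
    rw [hxpow, hypow] at hyx
    exact (Nat.pow_le_pow_iff_right hp.one_lt).mp hyx
  -- the elements of order p
  set u := x ^ (p ^ (a - 1)) with hu
  set v := y ^ (p ^ (b - 1)) with hv
  have hpa : p ^ a = p ^ (a - 1) * p := by
    rw [← pow_succ]
    congr 1
    omega
  have hpb : p ^ b = p ^ (b - 1) * p := by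
    rw [← pow_succ]
    congr 1
    omega
  have hou : orderOf u = p := by
    rw [hu, orderOf_pow_of_dvd (pow_ne_zero _ hp.ne_zero) (by rw [hxpow, hpa]; exact dvd_mul_right _ _),
      hxpow, hpa, Nat.mul_div_cancel_left _ (pow_pos hp.pos _)]
  have hov : orderOf v = p := by
    rw [hv, orderOf_pow_of_dvd (pow_ne_zero _ hp.ne_zero) (by rw [hypow, hpb]; exact dvd_mul_right _ _),
      hypow, hpb, Nat.mul_div_cancel_left _ (pow_pos hp.pos _)]
  have hcu : c ∈ Subgroup.zpowers u := mem_zpowers_pow_of_pow_eq_one hp ha1 x c hxpow hcx hcp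
  have hcv : c ∈ Subgroup.zpowers v := mem_zpowers_pow_of_pow_eq_one hp hb1 y c hypow hcy hcp
  have hvc : v ∈ Subgroup.zpowers c := mem_zpowers_of_prime_order hp v c hov hcv hc1
  have hvu : v⁻¹ ∈ Subgroup.zpowers u :=
    Subgroup.inv_mem _ ((Subgroup.zpowers_le.mpr hcu) hvc)
  obtain ⟨t₀, ht₀⟩ := (Submonoid.mem_powers_iff _ _).mp (mem_powers_iff_mem_zpowers.mpr hvu)
  -- the modified element
  set t := t₀ * p ^ (a - b) with ht
  set n := p ^ (b - 1) with hn'
  set y₁ := x ^ t * y with hy₁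
  have hcomm1 : ⁅x, y₁⁆ = c := by
    have h1 : ⁅x, y₁⁆ = x ^ t * c * (x ^ t)⁻¹ := by
      rw [hy₁, hc, commutatorElement_def, commutatorElement_def]
      have hxt : x * x ^ t = x ^ t * x := ((Commute.refl x).pow_right t).eq
      calc x * (x ^ t * y) * x⁻¹ * (x ^ t * y)⁻¹
          = (x * x ^ t) * y * x⁻¹ * y⁻¹ * (x ^ t)⁻¹ := by group
        _ = x ^ t * (x * y * x⁻¹ * y⁻¹) * (x ^ t)⁻¹ := by rw [hxt]; group
    rw [h1, ((hccx.pow_right t).symm).eq, mul_inv_cancel_right]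
  have hncomm1 : ¬ Commute x y₁ := by
    rw [← commutatorElement_eq_one_iff_commute, hcomm1]
    exact hc1
  have hord1 : orderOf y ≤ orderOf y₁ := by
    have := hmin x y₁ hncomm1
    omega
  have hy₁n : y₁ ^ n ≠ 1 := by
    intro h
    have h1 : orderOf y₁ ∣ n := orderOf_dvd_of_pow_eq_one h
    have h2 : orderOf y₁ ≤ n := Nat.le_of_dvd (pow_pos hp.pos _) h1
    have h3 : n < p ^ b := by
      rw [hn']
      exact Nat.pow_lt_pow_right hp.one_lt (by omega)
    rw [hypow] at hord1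
    omega
  -- the power formula
  have hyxt : ⁅y, x ^ t⁆ = (c ^ t)⁻¹ := by rw [← commutatorElement_inv, hpowx]
  have hformula : y₁ ^ n = (x ^ t) ^ n * y ^ n * ((c ^ t)⁻¹) ^ (n.choose 2) := by
    rw [hy₁, ← hyxt]
    apply Cfsg.Agent.Lib.Helper1.mul_pow_of_commutator_central
    · rw [hyxt]
      exact (((hccx.pow_left t).pow_right t).inv_left).eq
    · rw [hyxt]
      exact ((hccy.pow_left t).inv_left).eq
  have hxtn : (x ^ t) ^ n = v⁻¹ := by
    rw [← pow_mul, ht, hn', ← ht₀, hu, ← pow_mul]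
    congr 1
    have : p ^ (a - b) * p ^ (b - 1) = p ^ (a - 1) := by
      rw [← pow_add]
      congr 1
      omega
    rw [mul_assoc, this, mul_comm]
  have hyn : y ^ n = v := rfl
  rw [hxtn, hyn, inv_mul_cancel, one_mul, inv_pow, ← pow_mul] at hformula
  have hnd : ¬ p ∣ t * n.choose 2 := by
    intro hd
    apply hy₁n
    rw [hformula, inv_eq_one]
    obtain ⟨m, hm⟩ := hd
    rw [hm, pow_mul, hcp, one_pow]
  -- arithmetic consequences
  have hb2 : 2 ≤ b := by
    by_contra hlt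
    have hb' : b = 1 := by omega
    apply hnd
    have : n = 1 := by rw [hn', hb']; simp
    rw [this]
    simp
  have hp2 : p = 2 := by
    by_contra hne
    apply hnd
    exact Dvd.dvd.mul_left (prime_dvd_choose_two_of_odd hp hne (by omega)) _
  subst hp2
  have hb3 : b = 2 := by
    by_contra hne
    apply hnd
    exact Dvd.dvd.mul_left (two_dvd_choose_two (by omega)) _
  have ha2 : a = 2 := by
    by_contra hne
    apply hnd
    have : 2 ∣ t := by
      rw [ht]
      exact Dvd.dvd.mul_left (dvd_pow_self 2 (by omega)) _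
    exact Dvd.dvd.mul_right this _
  -- conclusion
  have hox4 : orderOf x = 4 := by rw [hxpow, ha2]; norm_num
  have hoy4 : orderOf y = 4 := by rw [hypow, hb3]; norm_num
  have hu2 : u = x ^ 2 := by rw [hu, ha2]; norm_num
  have hv2 : v = y ^ 2 := by rw [hv, hn', hb3]; norm_num
  -- c = u = v (the unique involution)
  have hcu' : c = u := by
    obtain ⟨k, hk⟩ := Subgroup.mem_zpowers_iff.mp hcu
    have hu2' : u ^ (2 : ℤ) = 1 := by
      rw [zpow_ofNat, ← hou]
      exact pow_orderOf_eq_one u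
    rcases Int.even_or_odd' k with ⟨l, hl | hl⟩
    · exfalso
      apply hc1
      rw [← hk, hl, zpow_mul, hu2', one_zpow]
    · rw [← hk, hl, zpow_add, zpow_mul, hu2', one_zpow, one_mul, zpow_one]
  have hcv' : c = v := by
    obtain ⟨k, hk⟩ := Subgroup.mem_zpowers_iff.mp hcv
    have hv2' : v ^ (2 : ℤ) = 1 := by
      rw [zpow_ofNat, ← hov]
      exact pow_orderOf_eq_one v
    rcases Int.even_or_odd' k with ⟨l, hl | hl⟩
    · exfalso
      apply hc1
      rw [← hk, hl, zpow_mul, hv2', one_zpow]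
    · rw [← hk, hl, zpow_add, zpow_mul, hv2', one_zpow, one_mul, zpow_one]
  refine ⟨?_, ?_, ?_, ?_⟩
  · rw [← hox4]
    exact pow_orderOf_eq_one x
  · rw [← hu2, ← hcu']
    exact hc1
  · rw [← hv2, ← hu2, ← hcv', ← hcu']
  · -- c = x y x⁻¹ y⁻¹ = x^2 gives y x⁻¹ y⁻¹ = x
    have h1 : x * y * x⁻¹ * y⁻¹ = x ^ 2 := by
      rw [← commutatorElement_def, ← hc, hcu', hu2]
    have h2 : y * x⁻¹ * y⁻¹ = x := by
      have : x * (y * x⁻¹ * y⁻¹) = x * x := by
        rw [← pow_two, ← h1]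
        group
      exact mul_left_cancel this
    have h3 : (y * x⁻¹ * y⁻¹)⁻¹ = x⁻¹ := by rw [h2]
    rw [← h3]
    group


theorem exists_quaternion_pair [Finite G] (hn : ∀ H : Subgroup G, H.Normal)
    (hna : ∃ x y : G, ¬ Commute x y) :
    ∃ x y : G, x ^ 4 = 1 ∧ x ^ 2 ≠ 1 ∧ y ^ 2 = x ^ 2 ∧ y * x * y⁻¹ = x⁻¹ := by
  classical
  let S : Set ℕ := {m | ∃ x y : G, ¬ Commute x y ∧ orderOf x + orderOf y = m}
  have hS : S.Nonempty := by
    obtain ⟨x, y, h⟩ := hna
    exact ⟨_, x, y, h, rfl⟩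
  obtain ⟨x, y, hxy, hm⟩ := Nat.sInf_mem hS
  have hmin : ∀ x' y' : G, ¬ Commute x' y' →
      orderOf x + orderOf y ≤ orderOf x' + orderOf y' := by
    intro x' y' h
    rw [hm]
    exact Nat.sInf_le ⟨x', y', h, rfl⟩
  rcases le_total (orderOf y) (orderOf x) with h | h
  · exact ⟨x, y, core hn x y hxy hmin h⟩
  · refine ⟨y, x, core hn y x (fun hc => hxy hc.symm) ?_ h⟩
    intro x' y' h'
    have := hmin x' y' h'
    omega

/-- the involution of a cyclic group of order `2m` -/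
theorem eq_pow_of_mem_zpowers_of_sq (a y : G) (m : ℕ) (hm : 0 < m)
    (ha : orderOf a = 2 * m) (hy : y ∈ Subgroup.zpowers a) (hy2 : y * y = 1)
    (hy1 : y ≠ 1) : y = a ^ m := by
  have hfin : IsOfFinOrder a := orderOf_pos_iff.mp (by rw [ha]; omega)
  obtain ⟨k, rfl⟩ := (Submonoid.mem_powers_iff _ _).mp (hfin.mem_powers_iff_mem_zpowers.mpr hy)
  have h1 : a ^ (2 * k) = 1 := by rw [two_mul, pow_add]; exact hy2
  have h2 : 2 * m ∣ 2 * k := by rw [← ha]; exact orderOf_dvd_of_pow_eq_one h1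
  have h3 : m ∣ k := (Nat.mul_dvd_mul_iff_left (by norm_num)).mp h2
  obtain ⟨j, rfl⟩ := h3
  have h4 : a ^ (2 * m) = 1 := by rw [← ha]; exact pow_orderOf_eq_one a
  rcases Nat.even_or_odd' j with ⟨l, rfl | rfl⟩
  · exfalso
    apply hy1
    rw [← mul_assoc, mul_comm m 2, pow_mul, h4, one_pow]
  · rw [mul_add, mul_one, pow_add, ← mul_assoc, mul_comm m 2, pow_mul, h4, one_pow, one_mul]

/-- elements of a group generated by an involution -/
theorem eq_one_or_eq_of_mem_zpowers (u : G) (hu : u * u = 1) (a : G)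
    (ha : a ∈ Subgroup.zpowers u) : a = 1 ∨ a = u := by
  obtain ⟨n, rfl⟩ := Subgroup.mem_zpowers_iff.mp ha
  have h2 : u ^ (2 : ℤ) = 1 := by rw [zpow_two]; exact hu
  rcases Int.even_or_odd' n with ⟨k, hk | hk⟩
  · left
    rw [hk, zpow_mul, h2, one_zpow]
  · right
    rw [hk, zpow_add, zpow_mul, h2, one_zpow, one_mul, zpow_one]

section Quat

variable (x y : G)

/-- the map `QuaternionGroup 2 → G` attached to a quaternion pair -/
def quatFun : QuaternionGroup 2 → G
  | .a i => x ^ i.val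
  | .xa i => y * x ^ i.val

theorem zp_add {N : ℕ} [NeZero N] (hx : x ^ N = 1) (i j : ZMod N) :
    x ^ (i + j).val = x ^ i.val * x ^ j.val := by
  rw [ZMod.val_add, ← pow_eq_pow_mod _ hx, pow_add]

theorem zp_neg {N : ℕ} [NeZero N] (hx : x ^ N = 1) (i : ZMod N) :
    x ^ (-i).val = (x ^ i.val)⁻¹ := by
  have h := zp_add x hx (-i) i
  rw [neg_add_cancel, ZMod.val_zero, pow_zero] at h
  exact eq_inv_of_mul_eq_one_left h.symm

theorem zp_sub {N : ℕ} [NeZero N] (hx : x ^ N = 1) (i j : ZMod N) :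
    x ^ (j - i).val = x ^ j.val * (x ^ i.val)⁻¹ := by
  rw [sub_eq_add_neg, zp_add x hx, zp_neg x hx]

variable {x y}

theorem pow_mul_eq_of_conj (hconj : y * x * y⁻¹ = x⁻¹) (k : ℕ) :
    x ^ k * y = y * (x ^ k)⁻¹ := by
  have h1 : y * x ^ k * y⁻¹ = (x ^ k)⁻¹ := by rw [← conj_pow, hconj, inv_pow]
  have h2 : y * (x ^ k)⁻¹ * y⁻¹ = x ^ k := by
    rw [← inv_inj]
    simp only [mul_inv_rev, inv_inv]
    rw [← mul_assoc]
    exact h1
  calc x ^ k * y = (y * (x ^ k)⁻¹ * y⁻¹) * y := by rw [h2]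
    _ = y * (x ^ k)⁻¹ := by group

theorem quatFun_mul (hx4 : x ^ (2 * 2) = 1) (hy2 : y ^ 2 = x ^ 2)
    (hconj : y * x * y⁻¹ = x⁻¹) (q r : QuaternionGroup 2) :
    quatFun x y (q * r) = quatFun x y q * quatFun x y r := by
  have hswap := pow_mul_eq_of_conj hconj
  have hcomm : ∀ k l : ℕ, (x ^ k)⁻¹ * x ^ l = x ^ l * (x ^ k)⁻¹ := fun k l =>
    (((Commute.refl x).pow_pow k l).inv_left).eq
  rcases q with i | i <;> rcases r with j | j
  · change x ^ (i + j).val = x ^ i.val * x ^ j.val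
    exact zp_add x hx4 i j
  · change y * x ^ (j - i).val = x ^ i.val * (y * x ^ j.val)
    rw [zp_sub x hx4, ← mul_assoc (x ^ i.val), hswap, mul_assoc y, hcomm]
  · change y * x ^ (i + j).val = y * x ^ i.val * x ^ j.val
    rw [zp_add x hx4, mul_assoc]
  · change x ^ (((2 : ℕ) : ZMod (2 * 2)) + j - i).val = y * x ^ i.val * (y * x ^ j.val)
    rw [zp_sub x hx4, zp_add x hx4]
    have h2 : (((2 : ℕ) : ZMod (2 * 2))).val = 2 := rfl
    rw [h2]
    calc x ^ 2 * x ^ j.val * (x ^ i.val)⁻¹ = y ^ 2 * ((x ^ i.val)⁻¹ * x ^ j.val) := by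
          rw [hy2, hcomm, mul_assoc]
      _ = y * (y * (x ^ i.val)⁻¹) * x ^ j.val := by rw [pow_two]; simp only [mul_assoc]
      _ = y * (x ^ i.val * y) * x ^ j.val := by rw [hswap]
      _ = y * x ^ i.val * (y * x ^ j.val) := by group

/-- the homomorphism `QuaternionGroup 2 →* G` attached to a quaternion pair -/
def quatHom (hx4 : x ^ (2 * 2) = 1) (hy2 : y ^ 2 = x ^ 2) (hconj : y * x * y⁻¹ = x⁻¹) :
    QuaternionGroup 2 →* G :=
  MonoidHom.mk' (quatFun x y) (quatFun_mul hx4 hy2 hconj)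

theorem orderOf_eq_four (hx4 : x ^ (2 * 2) = 1) (hx2 : x ^ 2 ≠ 1) : orderOf x = 4 := by
  have : Fact (Nat.Prime 2) := ⟨Nat.prime_two⟩
  have h := orderOf_eq_prime_pow (x := x) (p := 2) (n := 1) (by rw [pow_one]; exact hx2)
    (by norm_num; norm_num at hx4; exact hx4)
  rw [h]
  norm_num

theorem not_commute_of_quat (hx2 : x ^ 2 ≠ 1) (hconj : y * x * y⁻¹ = x⁻¹) : ¬ Commute y x := by
  intro hc
  have h1 : x = x⁻¹ := by
    have := hconj
    rw [hc.eq, mul_inv_cancel_right] at this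
    exact this
  apply hx2
  rw [pow_two]
  nth_rewrite 2 [h1]
  exact mul_inv_cancel x

theorem quatHom_injective (hx4 : x ^ (2 * 2) = 1) (hx2 : x ^ 2 ≠ 1) (hy2 : y ^ 2 = x ^ 2)
    (hconj : y * x * y⁻¹ = x⁻¹) : Function.Injective (quatHom hx4 hy2 hconj) := by
  rw [injective_iff_map_eq_one]
  rintro (i | i) h
  · change x ^ i.val = 1 at h
    have ho := orderOf_eq_four hx4 hx2
    have h1 : 4 ∣ i.val := by
      rw [← ho]
      exact orderOf_dvd_of_pow_eq_one h
    have h2 : i.val < 2 * 2 := ZMod.val_lt i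
    have h3 : i.val = 0 := by omega
    have h4 : i = 0 := (ZMod.val_eq_zero i).mp h3
    rw [h4]
    rfl
  · exfalso
    change y * x ^ i.val = 1 at h
    have hy : y = (x ^ i.val)⁻¹ := eq_inv_of_mul_eq_one_left h
    apply not_commute_of_quat hx2 hconj
    rw [hy]
    exact ((Commute.refl x).pow_left _).inv_left

theorem mem_range_quatHom (hx4 : x ^ (2 * 2) = 1) (hy2 : y ^ 2 = x ^ 2)
    (hconj : y * x * y⁻¹ = x⁻¹) (q : G) (hq : q ∈ (quatHom hx4 hy2 hconj).range) :
    ∃ k : ℕ, q = x ^ k ∨ q = y * x ^ k := by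
  obtain ⟨(i | i), rfl⟩ := hq
  · exact ⟨i.val, Or.inl rfl⟩
  · exact ⟨i.val, Or.inr rfl⟩

theorem x_mem_range_quatHom (hx4 : x ^ (2 * 2) = 1) (hy2 : y ^ 2 = x ^ 2)
    (hconj : y * x * y⁻¹ = x⁻¹) : x ∈ (quatHom hx4 hy2 hconj).range := by
  refine ⟨QuaternionGroup.a 1, ?_⟩
  change x ^ (1 : ZMod (2 * 2)).val = x
  have h1 : (1 : ZMod (2 * 2)).val = 1 := rfl
  rw [h1, pow_one]

theorem y_mem_range_quatHom (hx4 : x ^ (2 * 2) = 1) (hy2 : y ^ 2 = x ^ 2)
    (hconj : y * x * y⁻¹ = x⁻¹) : y ∈ (quatHom hx4 hy2 hconj).range := by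
  refine ⟨QuaternionGroup.xa 0, ?_⟩
  change y * x ^ (0 : ZMod (2 * 2)).val = y
  rw [ZMod.val_zero, pow_zero, mul_one]

/-- `x y x⁻¹ = y⁻¹` in a quaternion pair -/
theorem conj_y_of_quat (hy2 : y ^ 2 = x ^ 2) (hconj : y * x * y⁻¹ = x⁻¹) :
    x * y * x⁻¹ = y⁻¹ := by
  have h1 := pow_mul_eq_of_conj hconj 1
  rw [pow_one] at h1
  calc x * y * x⁻¹ = y * (x ^ 2)⁻¹ := by rw [h1]; group
    _ = y⁻¹ := by rw [← hy2]; group

/-- an element of a group generated by a central-type involution: the centre of the quaternion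
group -/
theorem eq_one_or_sq_of_mem_range_of_commute (hx4 : x ^ (2 * 2) = 1) (hx2 : x ^ 2 ≠ 1)
    (hy2 : y ^ 2 = x ^ 2) (hconj : y * x * y⁻¹ = x⁻¹) (q : G)
    (hq : q ∈ (quatHom hx4 hy2 hconj).range) (hqx : Commute q x) (hqy : Commute q y) :
    q = 1 ∨ q = x ^ 2 := by
  obtain ⟨k, rfl | rfl⟩ := mem_range_quatHom hx4 hy2 hconj q hq
  · -- x^k commutes with y: x^k = (x^k)⁻¹
    have h1 := pow_mul_eq_of_conj hconj k
    rw [hqy.eq] at h1
    have h2 : x ^ k = (x ^ k)⁻¹ := mul_left_cancel h1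
    have h3 : x ^ k * x ^ k = 1 := by
      nth_rewrite 2 [h2]
      exact mul_inv_cancel _
    have ho := orderOf_eq_four hx4 hx2
    by_cases h1' : x ^ k = 1
    · exact Or.inl h1'
    · right
      have : (4 : ℕ) = 2 * 2 := by norm_num
      rw [this] at ho
      exact eq_pow_of_mem_zpowers_of_sq x (x ^ k) 2 (by norm_num) ho
        (Subgroup.pow_mem _ (Subgroup.mem_zpowers x) k) h3 h1'
  · exfalso
    -- y * x^k commutes with x, so y commutes with x
    apply not_commute_of_quat hx2 hconj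
    have h1 : Commute (x ^ k) x := (Commute.refl x).pow_left k
    have h2 : y = (y * x ^ k) * (x ^ k)⁻¹ := by group
    rw [h2]
    exact hqx.mul_left h1.inv_left


theorem conj_eq_or_inv (hN : (Subgroup.zpowers x).Normal) (hx4 : x ^ (2 * 2) = 1)
    (hx2 : x ^ 2 ≠ 1) (g : G) : g * x * g⁻¹ = x ∨ g * x * g⁻¹ = x⁻¹ := by
  have hmem : g * x * g⁻¹ ∈ Subgroup.zpowers x := hN.conj_mem x (Subgroup.mem_zpowers x) g
  have hfin : IsOfFinOrder x := isOfFinOrder_iff_pow_eq_one.mpr ⟨2 * 2, by norm_num, hx4⟩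
  obtain ⟨k, hk⟩ := (Submonoid.mem_powers_iff _ _).mp
    (hfin.mem_powers_iff_mem_zpowers.mpr hmem)
  rw [pow_eq_pow_mod k hx4] at hk
  have hlt : k % (2 * 2) < 2 * 2 := Nat.mod_lt _ (by norm_num)
  obtain ⟨r, hr⟩ : ∃ r, r = k % (2 * 2) := ⟨_, rfl⟩
  rw [← hr] at hk hlt
  have h4 : x ^ 4 = 1 := by norm_num at hx4; exact hx4
  interval_cases r
  · exfalso
    rw [pow_zero] at hk
    have : x = 1 := conj_eq_one_iff.mp hk.symm
    apply hx2
    rw [this, one_pow]
  · left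
    rw [pow_one] at hk
    exact hk.symm
  · exfalso
    have h1 : (g * x * g⁻¹) ^ 2 = 1 := by rw [← hk, ← pow_mul]; exact h4
    rw [conj_pow] at h1
    exact hx2 (conj_eq_one_iff.mp h1)
  · right
    rw [← hk]
    exact eq_inv_of_mul_eq_one_left (by rw [← pow_succ]; exact h4)

theorem commute_of_conj_eq {q g : G} (z : G) (h : q * z * q⁻¹ = g * z * g⁻¹) :
    Commute (q⁻¹ * g) z := by
  have h1 : q⁻¹ * g * z * (q⁻¹ * g)⁻¹ = z := by
    calc q⁻¹ * g * z * (q⁻¹ * g)⁻¹ = q⁻¹ * (g * z * g⁻¹) * q := by group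
      _ = q⁻¹ * (q * z * q⁻¹) * q := by rw [h]
      _ = z := by group
  exact mul_inv_eq_iff_eq_mul.mp h1

/-- `G = Q C_G(Q)` for a quaternion pair in a Dedekind group -/
theorem exists_mem_range_mul_centralizer (hNx : (Subgroup.zpowers x).Normal)
    (hNy : (Subgroup.zpowers y).Normal) (hx4 : x ^ (2 * 2) = 1) (hx2 : x ^ 2 ≠ 1)
    (hy2 : y ^ 2 = x ^ 2) (hconj : y * x * y⁻¹ = x⁻¹) (g : G) :
    ∃ q ∈ (quatHom hx4 hy2 hconj).range, Commute (q⁻¹ * g) x ∧ Commute (q⁻¹ * g) y := by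
  have hy4 : y ^ (2 * 2) = 1 := by rw [pow_mul, hy2, ← pow_mul]; exact hx4
  have hy2' : y ^ 2 ≠ 1 := by rw [hy2]; exact hx2
  have hxQ := x_mem_range_quatHom hx4 hy2 hconj
  have hyQ := y_mem_range_quatHom hx4 hy2 hconj
  have hxyx := conj_y_of_quat hy2 hconj
  rcases conj_eq_or_inv hNx hx4 hx2 g with hgx | hgx <;>
  rcases conj_eq_or_inv hNy hy4 hy2' g with hgy | hgy
  · refine ⟨1, Subgroup.one_mem _, commute_of_conj_eq x ?_, commute_of_conj_eq y ?_⟩
    · rw [hgx]; group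
    · rw [hgy]; group
  · refine ⟨x, hxQ, commute_of_conj_eq x ?_, commute_of_conj_eq y ?_⟩
    · rw [hgx]; group
    · rw [hgy, hxyx]
  · refine ⟨y, hyQ, commute_of_conj_eq x ?_, commute_of_conj_eq y ?_⟩
    · rw [hgx, hconj]
    · rw [hgy]; group
  · refine ⟨y * x, Subgroup.mul_mem _ hyQ hxQ, commute_of_conj_eq x ?_, commute_of_conj_eq y ?_⟩
    · rw [hgx, ← hconj]; group
    · rw [hgy]
      calc y * x * y * (y * x)⁻¹ = y * (x * y * x⁻¹) * y⁻¹ := by group
        _ = y⁻¹ := by rw [hxyx]; group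

/-- in a Dedekind group, an element of order dividing 4 centralizing a quaternion pair is an
involution -/
theorem sq_eq_one_of_commute (hn : ∀ H : Subgroup G, H.Normal) (hx4 : x ^ (2 * 2) = 1)
    (hx2 : x ^ 2 ≠ 1) (hy2 : y ^ 2 = x ^ 2) (hconj : y * x * y⁻¹ = x⁻¹) (g : G)
    (hgx : Commute g x) (hgy : Commute g y) (hg4 : g ^ (2 * 2) = 1) : g ^ 2 = 1 := by
  set w := g * y with hw
  set c := x ^ 2 with hc
  have hcc : c * c = 1 := by
    rw [hc, ← pow_add]
    exact hx4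
  have hxyx := conj_y_of_quat hy2 hconj
  have hcx : Commute c x := (Commute.refl x).pow_left 2
  have hgc : Commute g c := hgx.pow_right 2
  have h1 : x * w * x⁻¹ * w⁻¹ = c := by
    calc x * w * x⁻¹ * w⁻¹ = (x * g) * y * x⁻¹ * y⁻¹ * g⁻¹ := by rw [hw]; group
      _ = g * (x * y * x⁻¹) * y⁻¹ * g⁻¹ := by rw [← hgx.eq]; group
      _ = g * (y⁻¹ * y⁻¹) * g⁻¹ := by rw [hxyx]; group
      _ = (y ^ 2)⁻¹ := by
          have : g * (y⁻¹ * y⁻¹) = (y⁻¹ * y⁻¹) * g :=
            ((hgy.inv_right).mul_right (hgy.inv_right)).eq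
          rw [this]
          group
      _ = c := by
          rw [hy2]
          exact inv_eq_of_mul_eq_one_left hcc
  have hcw : c ∈ Subgroup.zpowers w := by
    have h2 : x * w * x⁻¹ ∈ Subgroup.zpowers w :=
      (hn (Subgroup.zpowers w)).conj_mem w (Subgroup.mem_zpowers w) x
    rw [← h1]
    exact Subgroup.mul_mem _ h2 (Subgroup.inv_mem _ (Subgroup.mem_zpowers w))
  have hw2 : w * w = g ^ 2 * c := by
    calc w * w = g * (y * g) * y := by rw [hw]; group
      _ = g * (g * y) * y := by rw [hgy.eq]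
      _ = g ^ 2 * y ^ 2 := by rw [pow_two, pow_two]; simp only [mul_assoc]
      _ = g ^ 2 * c := by rw [hy2]
  have hw4 : w ^ (2 * 2) = 1 := by
    rw [pow_mul, pow_two w, hw2, ((hgc.pow_left 2).mul_pow 2), ← pow_mul, hg4, one_mul, pow_two]
    exact hcc
  by_cases hww : w * w = 1
  · exfalso
    rcases eq_one_or_eq_of_mem_zpowers w hww c hcw with h | h
    · exact hx2 h
    · apply not_commute_of_quat hx2 hconj
      have hg : g = c * y⁻¹ := by rw [h, hw]; group
      have h3 : Commute (c⁻¹ * g) x := (hcx.inv_left).mul_left hgx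
      rw [hg, inv_mul_cancel_left] at h3
      exact Commute.inv_left_iff.mp h3
  · have how : orderOf w = 4 := orderOf_eq_four hw4 (by rw [pow_two]; exact hww)
    have h2 : c = w ^ 2 :=
      eq_pow_of_mem_zpowers_of_sq w c 2 (by norm_num) (by rw [how]) hcw hcc hx2
    rw [pow_two, hw2] at h2
    calc g ^ 2 = g ^ 2 * c * c⁻¹ := by group
      _ = c * c⁻¹ := by rw [← h2]
      _ = 1 := mul_inv_cancel c

theorem sq_eq_one_of_commute_of_pow (hn : ∀ H : Subgroup G, H.Normal) (hx4 : x ^ (2 * 2) = 1)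
    (hx2 : x ^ 2 ≠ 1) (hy2 : y ^ 2 = x ^ 2) (hconj : y * x * y⁻¹ = x⁻¹) (k : ℕ) :
    ∀ g : G, Commute g x → Commute g y → g ^ (2 ^ k) = 1 → g ^ 2 = 1 := by
  induction k with
  | zero =>
    intro g _ _ h
    rw [pow_zero, pow_one] at h
    rw [h, one_pow]
  | succ k ih =>
    intro g hgx hgy h
    rcases Nat.eq_zero_or_pos k with rfl | hk
    · simpa using h
    · obtain ⟨k', rfl⟩ := Nat.exists_eq_succ_of_ne_zero hk.ne'
      have h1 : (g ^ (2 ^ k')) ^ (2 * 2) = 1 := by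
        have h0 : 2 ^ (k'.succ + 1) = 2 ^ k' * (2 * 2) := by
          rw [pow_succ, pow_succ]
          ring
        rw [← pow_mul, ← h0]
        exact h
      have h2 := sq_eq_one_of_commute hn hx4 hx2 hy2 hconj (g ^ (2 ^ k'))
        (hgx.pow_left _) (hgy.pow_left _) h1
      apply ih g hgx hgy
      rw [pow_succ, pow_mul]
      exact h2

end Quat

end Cfsg.Agent.Lib.Helper23.Dedekind
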