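import Mathlib

/-!
FO-T3c of helper16's S5637 farm-out (pure matrix lemma): an `SL_a`-conjugation-invariant subspace of
`M_a(F)` containing `1` and a non-scalar matrix contains all matrix units `E_pq`, `p ≠ q`
(except for `a = 2 = |F|`).
-/

set_option autoImplicit false

namespace Cfsg.Agent.Lib.Helper23.S5637T3c

open Matrix

variable {F : Type*} [Field F] {a : ℕ}

/-- conjugation by the transvection `1 + x E_pq`, minus the identity -/
theorem delta_mem (S : Submodule F (Matrix (Fin a) (Fin a) F))
    (hconj : ∀ α : Matrix (Fin a) (Fin a) F, α.det = 1 → ∀ A ∈ S, α * A * α⁻¹ ∈ S)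
    {B : Matrix (Fin a) (Fin a) F} (hB : B ∈ S) {p q : Fin a} (hpq : p ≠ q) (x : F) :
    single p q x * B - B * single p q x - single p q x * B * single p q x ∈ S := by
  have hdet : (1 + single p q x : Matrix (Fin a) (Fin a) F).det = 1 :=
    det_transvection_of_ne p q hpq x
  have hEE : single p q x * single p q x = (0 : Matrix (Fin a) (Fin a) F) :=
    single_mul_single_of_ne _ _ _ _ hpq.symm _
  have hinv : (1 + single p q x : Matrix (Fin a) (Fin a) F)⁻¹ = 1 - single p q x := by
    apply inv_eq_right_inv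
    calc (1 + single p q x) * (1 - single p q x)
        = 1 - single p q x * single p q x := by noncomm_ring
      _ = 1 := by rw [hEE, sub_zero]
  have h := hconj _ hdet B hB
  rw [hinv] at h
  have h2 := S.sub_mem h hB
  convert h2 using 1
  noncomm_ring

theorem single_eq_smul (p q : Fin a) (c : F) :
    (single p q c : Matrix (Fin a) (Fin a) F) = c • single p q (1 : F) := by
  rw [smul_single, smul_eq_mul, mul_one]

/-- if `|F| ≥ 3`, the linear and the quadratic part of `delta` can be separated -/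
theorem single_mem_of_sep (S : Submodule F (Matrix (Fin a) (Fin a) F))
    (hconj : ∀ α : Matrix (Fin a) (Fin a) F, α.det = 1 → ∀ A ∈ S, α * A * α⁻¹ ∈ S)
    {x : F} (hx0 : x ≠ 0) (hx1 : x ≠ 1)
    {B : Matrix (Fin a) (Fin a) F} (hB : B ∈ S) {p q : Fin a} (hpq : p ≠ q) (hne : B q p ≠ 0) :
    single p q (1 : F) ∈ S := by
  have h1 := delta_mem S hconj hB hpq 1
  have hx := delta_mem S hconj hB hpq x
  have h3 := S.sub_mem (S.smul_mem x h1) hx
  have e : x • (single p q 1 * B - B * single p q 1 - single p q 1 * B * single p q 1) -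
      (single p q x * B - B * single p q x - single p q x * B * single p q x) =
      ((x * x - x) * B q p) • single p q (1 : F) := by
    rw [single_mul_mul_single, single_mul_mul_single, single_eq_smul p q x,
      single_eq_smul p q (1 * B q p * 1), single_eq_smul p q (x * B q p * x)]
    simp only [Matrix.smul_mul, Matrix.mul_smul]
    module
  rw [e] at h3
  have hc : (x * x - x) * B q p ≠ 0 := by
    apply mul_ne_zero _ hne
    have : x * x - x = x * (x - 1) := by ring
    rw [this]
    exact mul_ne_zero hx0 (sub_ne_zero.mpr hx1)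
  have h4 := S.smul_mem ((x * x - x) * B q p)⁻¹ h3
  rwa [smul_smul, inv_mul_cancel₀ hc, one_smul] at h4

/-- row move -/
theorem move_row (S : Submodule F (Matrix (Fin a) (Fin a) F))
    (hconj : ∀ α : Matrix (Fin a) (Fin a) F, α.det = 1 → ∀ A ∈ S, α * A * α⁻¹ ∈ S)
    {p q r : Fin a} (hE : single p q (1 : F) ∈ S) (hrp : r ≠ p) (hrq : r ≠ q) :
    single r q (1 : F) ∈ S := by
  have h := delta_mem S hconj hE hrp 1
  have e1 : single r p (1 : F) * single p q (1 : F) = single r q (1 : F) := by
    rw [single_mul_single_same, one_mul]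
  have e2 : single p q (1 : F) * single r p (1 : F) = 0 :=
    single_mul_single_of_ne _ _ _ _ hrq.symm _
  have e3 : single r q (1 : F) * single r p (1 : F) = 0 :=
    single_mul_single_of_ne _ _ _ _ hrq.symm _
  rwa [e1, e2, e3, sub_zero, sub_zero] at h

/-- column move -/
theorem move_col (S : Submodule F (Matrix (Fin a) (Fin a) F))
    (hconj : ∀ α : Matrix (Fin a) (Fin a) F, α.det = 1 → ∀ A ∈ S, α * A * α⁻¹ ∈ S)
    {p q r : Fin a} (hE : single p q (1 : F) ∈ S) (hrp : r ≠ p) (hrq : r ≠ q) :
    single p r (1 : F) ∈ S := by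
  have h := delta_mem S hconj hE hrq.symm 1
  have e1 : single q r (1 : F) * single p q (1 : F) = 0 :=
    single_mul_single_of_ne _ _ _ _ hrp _
  have e2 : single p q (1 : F) * single q r (1 : F) = single p r (1 : F) := by
    rw [single_mul_single_same, one_mul]
  rw [e1, e2, zero_mul, zero_sub, sub_zero] at h
  have := S.neg_mem h
  rwa [neg_neg] at this

theorem single_mul_eq (A : Matrix (Fin a) (Fin a) F) (p q : Fin a)
    (h : ∀ j, j ≠ q → A q j = 0) : single p q (1 : F) * A = single p q (A q q) := by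
  ext i j
  by_cases hi : i = p
  · subst hi
    rw [single_mul_apply_same, one_mul]
    by_cases hj : j = q
    · subst hj
      rw [single_apply_same]
    · rw [h j hj, single_apply_of_ne]
      rintro ⟨-, h2⟩
      exact hj h2.symm
  · rw [single_mul_apply_of_ne _ _ _ _ _ hi, single_apply_of_ne]
    rintro ⟨h2, -⟩
    exact hi h2.symm

theorem mul_single_eq (A : Matrix (Fin a) (Fin a) F) (p q : Fin a)
    (h : ∀ i, i ≠ p → A i p = 0) : A * single p q (1 : F) = single p q (A p p) := by
  ext i j
  by_cases hj : j = q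
  · subst hj
    rw [mul_single_apply_same, mul_one]
    by_cases hi : i = p
    · subst hi
      rw [single_apply_same]
    · rw [h i hi, single_apply_of_ne]
      rintro ⟨h2, -⟩
      exact hi h2.symm
  · rw [mul_single_apply_of_ne _ _ _ _ _ hj, single_apply_of_ne]
    rintro ⟨-, h2⟩
    exact hj h2.symm

/-- diagonal non-scalar case -/
theorem single_mem_of_diag (S : Submodule F (Matrix (Fin a) (Fin a) F))
    (hconj : ∀ α : Matrix (Fin a) (Fin a) F, α.det = 1 → ∀ A ∈ S, α * A * α⁻¹ ∈ S)
    {A : Matrix (Fin a) (Fin a) F} (hA : A ∈ S) (hoff : ∀ i j : Fin a, i ≠ j → A i j = 0)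
    {p q : Fin a} (hpq : p ≠ q) (hne : A p p ≠ A q q) : single p q (1 : F) ∈ S := by
  have h := delta_mem S hconj hA hpq 1
  rw [single_mul_mul_single, hoff q p hpq.symm, mul_zero, zero_mul, single_zero, sub_zero,
    single_mul_eq A p q (fun j hj => hoff q j hj.symm),
    mul_single_eq A p q (fun i hi => hoff i p hi),
    single_eq_smul p q (A q q), single_eq_smul p q (A p p), ← sub_smul] at h
  have hc : A q q - A p p ≠ 0 := sub_ne_zero.mpr hne.symm
  have h4 := S.smul_mem (A q q - A p p)⁻¹ h
  rwa [smul_smul, inv_mul_cancel₀ hc, one_smul] at h4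

/-- off-diagonal case, `a ≥ 3` -/
theorem single_mem_of_offdiag (S : Submodule F (Matrix (Fin a) (Fin a) F))
    (h1 : (1 : Matrix (Fin a) (Fin a) F) ∈ S)
    (hconj : ∀ α : Matrix (Fin a) (Fin a) F, α.det = 1 → ∀ A ∈ S, α * A * α⁻¹ ∈ S)
    {A : Matrix (Fin a) (Fin a) F} (hA : A ∈ S) {p q r : Fin a} (hpq : p ≠ q) (hrp : r ≠ p)
    (hrq : r ≠ q) (hne : A q p ≠ 0) : single p q (1 : F) ∈ S := by
  obtain ⟨c, hc⟩ : ∃ c, c = A q p := ⟨_, rfl⟩
  have hC := delta_mem S hconj hA hpq 1
  have h_c : single p q (1 : F) * A * single p q (1 : F) = single p q c := by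
    rw [single_mul_mul_single, one_mul, mul_one, hc]
  rw [h_c] at hC
  obtain ⟨C', hC'⟩ : ∃ C', C' = single p q (1 : F) * A - A * single p q (1 : F) - single p q c -
      c • (1 : Matrix (Fin a) (Fin a) F) := ⟨_, rfl⟩
  have hC'S : C' ∈ S := by
    rw [hC']
    exact S.sub_mem hC (S.smul_mem c h1)
  have hM := delta_mem S hconj hC'S hrp.symm 1
  -- `E_pr * C'`
  have h_a : single p r (1 : F) * (single p q (1 : F) * A) = 0 := by
    rw [← Matrix.mul_assoc, single_mul_single_of_ne _ _ _ _ hrp, Matrix.zero_mul]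
  have h_b : single p r (1 : F) * (A * single p q (1 : F)) = single p q (A r p) := by
    rw [← Matrix.mul_assoc, single_mul_mul_single, one_mul, mul_one]
  have h_d : single p r (1 : F) * single p q c = 0 := single_mul_single_of_ne _ _ _ _ hrp _
  have hEC : single p r (1 : F) * C' = - single p q (A r p) - c • single p r (1 : F) := by
    rw [hC', Matrix.mul_sub, Matrix.mul_sub, Matrix.mul_sub, h_a, h_b, h_d, Matrix.mul_smul,
      Matrix.mul_one]
    module
  -- `C' * E_pr`
  have h_e : single p q (1 : F) * A * single p r (1 : F) = single p r c := by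
    rw [single_mul_mul_single, one_mul, mul_one, hc]
  have h_f : A * single p q (1 : F) * single p r (1 : F) = 0 := by
    rw [Matrix.mul_assoc, single_mul_single_of_ne _ _ _ _ hpq.symm, Matrix.mul_zero]
  have h_g : single p q c * single p r (1 : F) = 0 := single_mul_single_of_ne _ _ _ _ hpq.symm _
  have hCE : C' * single p r (1 : F) = 0 := by
    rw [hC', Matrix.sub_mul, Matrix.sub_mul, Matrix.sub_mul, h_e, h_f, h_g, Matrix.smul_mul,
      Matrix.one_mul, single_eq_smul p r c]
    module
  rw [Matrix.mul_assoc, hCE, Matrix.mul_zero, sub_zero, sub_zero, hEC] at hM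
  -- last step
  have hL := delta_mem S hconj hM hrq 1
  have k1 : single r q (1 : F) * (- single p q (A r p) - c • single p r (1 : F)) = 0 := by
    rw [Matrix.mul_sub, Matrix.mul_neg, Matrix.mul_smul,
      single_mul_single_of_ne _ _ _ _ hpq.symm, single_mul_single_of_ne _ _ _ _ hpq.symm]
    simp
  have k2 : (- single p q (A r p) - c • single p r (1 : F)) * single r q (1 : F) =
      - (c • single p q (1 : F)) := by
    rw [Matrix.sub_mul, Matrix.neg_mul, Matrix.smul_mul,
      single_mul_single_of_ne _ _ _ _ hrq.symm, single_mul_single_same, one_mul]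
    simp
  rw [k1, k2, Matrix.zero_mul, sub_zero, zero_sub, neg_neg] at hL
  have hc0 : c ≠ 0 := by rw [hc]; exact hne
  have h4 := S.smul_mem c⁻¹ hL
  rwa [smul_smul, inv_mul_cancel₀ hc0, one_smul] at h4

/-- FO-T3c -/
theorem single_mem_of_invariant [Fintype F] (ha : 2 ≤ a)
    (hex : ¬ (a = 2 ∧ Fintype.card F = 2))
    (S : Submodule F (Matrix (Fin a) (Fin a) F)) (h1 : (1 : Matrix (Fin a) (Fin a) F) ∈ S)
    (hconj : ∀ α : Matrix (Fin a) (Fin a) F, α.det = 1 → ∀ A ∈ S, α * A * α⁻¹ ∈ S)
    (A : Matrix (Fin a) (Fin a) F) (hA : A ∈ S)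
    (hAs : ¬ ∃ c : F, A = c • (1 : Matrix (Fin a) (Fin a) F)) :
    ∀ p q : Fin a, p ≠ q → Matrix.single p q (1 : F) ∈ S := by
  classical
  -- the two kinds of non-scalar matrices
  have hcases : (∃ p q : Fin a, p ≠ q ∧ A q p ≠ 0) ∨
      ((∀ i j : Fin a, i ≠ j → A i j = 0) ∧ ∃ p q : Fin a, p ≠ q ∧ A p p ≠ A q q) := by
    by_cases h : ∃ p q : Fin a, p ≠ q ∧ A q p ≠ 0
    · exact Or.inl h
    · right
      push Not at h
      have hoff : ∀ i j : Fin a, i ≠ j → A i j = 0 := fun i j hij => h j i hij.symm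
      refine ⟨hoff, ?_⟩
      by_contra hcon
      push Not at hcon
      apply hAs
      refine ⟨A ⟨0, by omega⟩ ⟨0, by omega⟩, ?_⟩
      ext i j
      rw [Matrix.smul_apply, Matrix.one_apply]
      by_cases hij : i = j
      · subst hij
        rw [if_pos rfl, smul_eq_mul, mul_one]
        by_cases h0 : i = ⟨0, by omega⟩
        · rw [h0]
        · exact hcon i _ h0
      · rw [if_neg hij, smul_zero]
        exact hoff i j hij
  by_cases ha2 : a = 2
  · -- `a = 2`, `|F| ≥ 3`
    have hF : Fintype.card F ≠ 2 := fun h => hex ⟨ha2, h⟩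
    obtain ⟨x, hx0, hx1⟩ : ∃ x : F, x ≠ 0 ∧ x ≠ 1 := by
      have hlt : ({0, 1} : Finset F).card < (Finset.univ : Finset F).card := by
        rw [Finset.card_univ]
        have h2 : ({0, 1} : Finset F).card = 2 := Finset.card_pair zero_ne_one
        have h3 : 1 < Fintype.card F := Fintype.one_lt_card
        omega
      obtain ⟨x, -, hx⟩ := Finset.exists_mem_notMem_of_card_lt_card hlt
      simp only [Finset.mem_insert, Finset.mem_singleton, not_or] at hx
      exact ⟨x, hx.1, hx.2⟩
    have hone : ∃ p q : Fin a, p ≠ q ∧ single p q (1 : F) ∈ S := by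
      rcases hcases with ⟨p, q, hpq, hne⟩ | ⟨hoff, p, q, hpq, hne⟩
      · exact ⟨p, q, hpq, single_mem_of_sep S hconj hx0 hx1 hA hpq hne⟩
      · exact ⟨p, q, hpq, single_mem_of_diag S hconj hA hoff hpq hne⟩
    obtain ⟨p, q, hpq, hE⟩ := hone
    have hE' : single q p (1 : F) ∈ S := by
      apply single_mem_of_sep S hconj hx0 hx1 hE hpq.symm
      rw [single_apply_same]
      exact one_ne_zero
    intro p' q' hpq'
    have : (p' = p ∧ q' = q) ∨ (p' = q ∧ q' = p) := by
      subst ha2
      have h1 := p.2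
      have h2 := q.2
      have h3 := p'.2
      have h4 := q'.2
      simp only [Fin.ext_iff, ne_eq] at hpq hpq' ⊢
      omega
    rcases this with ⟨rfl, rfl⟩ | ⟨rfl, rfl⟩
    · exact hE
    · exact hE'
  · -- `a ≥ 3`
    have ha3 : 2 < a := by omega
    have hone : ∃ p q : Fin a, p ≠ q ∧ single p q (1 : F) ∈ S := by
      rcases hcases with ⟨p, q, hpq, hne⟩ | ⟨hoff, p, q, hpq, hne⟩
      · obtain ⟨r, hrp, hrq⟩ := Fin.exists_ne_and_ne_of_two_lt p q ha3
        exact ⟨p, q, hpq, single_mem_of_offdiag S h1 hconj hA hpq hrp hrq hne⟩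
      · exact ⟨p, q, hpq, single_mem_of_diag S hconj hA hoff hpq hne⟩
    obtain ⟨p, q, hpq, hE⟩ := hone
    -- swap
    have hswap : ∀ p q : Fin a, p ≠ q → single p q (1 : F) ∈ S → single q p (1 : F) ∈ S := by
      intro p q hpq hE
      obtain ⟨r, hrp, hrq⟩ := Fin.exists_ne_and_ne_of_two_lt p q ha3
      have s1 : single r q (1 : F) ∈ S := move_row S hconj hE hrp hrq
      have s2 : single r p (1 : F) ∈ S := move_col S hconj s1 hrp.symm hpq
      exact move_row S hconj s2 hrq.symm hpq.symm
    have hrow : ∀ p q p' : Fin a, p ≠ q → single p q (1 : F) ∈ S → p' ≠ q →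
        single p' q (1 : F) ∈ S := by
      intro p q p' hpq hE hp'q
      by_cases hp : p' = p
      · rw [hp]; exact hE
      · exact move_row S hconj hE hp hp'q
    have hcol : ∀ p q q' : Fin a, p ≠ q → single p q (1 : F) ∈ S → q' ≠ p →
        single p q' (1 : F) ∈ S := by
      intro p q q' hpq hE hq'p
      by_cases hq : q' = q
      · rw [hq]; exact hE
      · exact move_col S hconj hE hq'p hq
    intro p' q' hpq'
    by_cases hqp' : p' = q
    · have s1 := hswap p q hpq hE
      rw [hqp']
      exact hcol q p q' hpq.symm s1 (by rw [← hqp']; exact hpq'.symm)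
    · have s1 := hrow p q p' hpq hE hqp'
      exact hcol p' q q' hqp' s1 hpq'.symm

end Cfsg.Agent.Lib.Helper23.S5637T3c
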