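import Mathlib
import Cfsg.Agent.Lib.Helper17.ExtFDefs
import Cfsg.Agent.Lib.Helper25.ExtFEa

/-!
# S5886 FO-P3: `3r ≤ n` — a commutator of two root elements is an `F`-transvection
-/

set_option autoImplicit false

namespace Cfsg.Agent.Lib.Helper23.S5886P3

open Matrix Module Cfsg.Agent.Lib.Helper17.ExtF

variable {F : Type*} [Field F] [Fintype F] {L : Type*} [Field L] [Algebra F L] {n : ℕ}
  (ρ : L →ₐ[F] Matrix (Fin n) (Fin n) F) {r : ℕ}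

omit [Fintype F] in
/-- the `L`-transvection `v ↦ v + ρ (ψ v) e` (`ψ e = 0`) as an element of `H` -/
theorem exists_elem (H : Subgroup (GL (Fin n) F)) (hE : HasElem ρ H)
    (ψ : (Fin n → F) →ₗ[F] L) (hψ : Lin ρ ψ) (e : Fin n → F) (he : ψ e = 0) :
    ∃ x : GL (Fin n) F, x ∈ H ∧ (∀ v, act x v = v + ρ (ψ v) *ᵥ e) ∧
      (∀ v, act x⁻¹ v = v - ρ (ψ v) *ᵥ e) := by
  obtain ⟨A, hAdef⟩ : ∃ A : (Fin n → F) →ₗ[F] (Fin n → F), A = (orb ρ e) ∘ₗ ψ := ⟨_, rfl⟩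
  have hA : ∀ v, A v = ρ (ψ v) *ᵥ e := fun v => by rw [hAdef]; rfl
  have hψA : ∀ v, ψ (A v) = 0 := fun v => by rw [hA, hψ, he, mul_zero]
  have hAA : ∀ v, A (A v) = 0 := fun v => by
    rw [hA (A v), hψA, map_zero, Matrix.zero_mulVec]
  obtain ⟨x, hx, hx'⟩ := exists_gl (LinearMap.id + A) (LinearMap.id - A)
    (by
      intro v
      simp only [LinearMap.add_apply, LinearMap.sub_apply, LinearMap.id_apply, map_sub, hAA]
      abel)
    (by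
      intro v
      simp only [LinearMap.add_apply, LinearMap.sub_apply, LinearMap.id_apply, map_add, hAA]
      abel)
  have hx1 : ∀ v, act x v = v + ρ (ψ v) *ᵥ e := fun v => by
    rw [hx, LinearMap.add_apply, LinearMap.id_apply, hA]
  refine ⟨x, ?_, hx1, fun v => ?_⟩
  · apply hE ψ e hψ _ x hx1
    rw [he, add_zero, map_one]
  · rw [hx', LinearMap.sub_apply, LinearMap.id_apply, hA]

/-- FO-P3, exact signature -/
theorem hasOneT0_of_config_three (hr : r.Prime) (hrk : finrank F L = r) (hn : 3 * r ≤ n)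
    (H : Subgroup (GL (Fin n) F)) (hE : HasElem ρ H) (v₁ v₀ : Fin n → F) (g₀ : GL (Fin n) F)
    (hc : Config ρ H r v₁ v₀ g₀) : HasOneT0 ρ H := by
  classical
  obtain ⟨hg₀, hv₁, hv₀, hfr⟩ := hc
  have hr0 : 0 < r := hr.pos
  haveI : FiniteDimensional F L := Module.finite_of_finrank_pos (by omega)
  obtain ⟨P₁, hP₁⟩ : ∃ P₁, P₁ = pt ρ v₁ := ⟨_, rfl⟩
  obtain ⟨P', hP'⟩ : ∃ P', P' = (pt ρ v₀).map (actL g₀) := ⟨_, rfl⟩
  rw [← hP₁, ← hP'] at hfr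
  have hfP₁ : finrank F ↥P₁ = r := by
    rw [hP₁]; exact Cfsg.Agent.Lib.Helper25.ExtFEa.finrank_pt ρ hrk hr0 hv₁
  have hginj : Function.Injective (actL g₀) := act_injective g₀
  have hfP' : finrank F ↥P' = r := by
    rw [hP', ← (Submodule.equivMapOfInjective (actL g₀) hginj (pt ρ v₀)).finrank_eq]
    exact Cfsg.Agent.Lib.Helper25.ExtFEa.finrank_pt ρ hrk hr0 hv₀
  have hD1 : P₁ ⊓ P' < P₁ := by
    refine lt_of_le_of_ne inf_le_left (fun h => ?_)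
    rw [h] at hfr; omega
  have hD2 : P₁ ⊓ P' < P' := by
    refine lt_of_le_of_ne inf_le_right (fun h => ?_)
    rw [h] at hfr; omega
  obtain ⟨p, hpP, hpD⟩ := SetLike.exists_of_lt hD1
  obtain ⟨w, hwP, hwD⟩ := SetLike.exists_of_lt hD2
  have hpP' : p ∉ P' := fun h => hpD ⟨hpP, h⟩
  obtain ⟨pt', hpt'⟩ : ∃ pt' : L, ρ pt' *ᵥ v₁ = p := by
    rw [hP₁] at hpP; exact (mem_pt ρ v₁ p).mp hpP
  -- E2
  obtain ⟨ψ, hψ, hψv₁, hψw, e, hψe⟩ :=
    Cfsg.Agent.Lib.Helper25.ExtFEa.exists_lin_two ρ hrk hr0 hn v₁ w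
  have hψP₁ : ∀ v ∈ P₁, ψ v = 0 := by
    intro v hv
    rw [hP₁] at hv
    obtain ⟨c, rfl⟩ := (mem_pt ρ v₁ v).mp hv
    exact hψ.map_orb hψv₁ c
  have hψP' : ∀ v ∈ P', ψ v = 0 := by
    have hK : P' ⊓ LinearMap.ker ψ = P' := by
      apply Submodule.eq_of_le_of_finrank_le inf_le_left
      have hlt : P₁ ⊓ P' < P' ⊓ LinearMap.ker ψ := by
        refine lt_of_le_of_ne (le_inf inf_le_right (fun v hv => hψP₁ v hv.1)) (fun h => ?_)
        apply hwD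
        rw [h]
        exact ⟨hwP, hψw⟩
      have := Submodule.finrank_lt_finrank_of_lt hlt
      omega
    intro v hv
    have : v ∈ P' ⊓ LinearMap.ker ψ := by rw [hK]; exact hv
    exact LinearMap.mem_ker.mp this.2
  -- E1
  have hq : act g₀⁻¹ p ∉ pt ρ v₀ := by
    intro h
    apply hpP'
    rw [hP']
    refine ⟨act g₀⁻¹ p, h, ?_⟩
    rw [actL_apply, act_act_inv]
  obtain ⟨ψ'', hψ'', hψ''v₀, hψ''p⟩ :=
    Cfsg.Agent.Lib.Helper25.ExtFEa.exists_lin_sep ρ hrk hr0 v₀ (act g₀⁻¹ p) hq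
  obtain ⟨x, hxH, hx, hxi⟩ := exists_elem ρ H hE ψ hψ v₁ hψv₁
  obtain ⟨x'', hx''H, hx'', hx''i⟩ := exists_elem ρ H hE ψ'' hψ'' v₀ hψ''v₀
  obtain ⟨Bf, hBfdef⟩ : ∃ Bf : (Fin n → F) →ₗ[F] (Fin n → F),
      Bf = (actL g₀) ∘ₗ (orb ρ v₀) ∘ₗ ψ'' ∘ₗ (actL g₀⁻¹) := ⟨_, rfl⟩
  have hBf : ∀ v, Bf v = act g₀ (ρ (ψ'' (act g₀⁻¹ v)) *ᵥ v₀) := fun v => by rw [hBfdef]; rfl
  obtain ⟨y, hydef⟩ : ∃ y, y = g₀ * x'' * g₀⁻¹ := ⟨_, rfl⟩
  have hyH : y ∈ H := by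
    rw [hydef]; exact H.mul_mem (H.mul_mem hg₀ hx''H) (H.inv_mem hg₀)
  have hy : ∀ v, act y v = v + Bf v := by
    intro v
    rw [hydef, act_mul, act_mul, hx'', act_add, act_act_inv, hBf]
  have hyi : ∀ v, act y⁻¹ v = v - Bf v := by
    intro v
    have : y⁻¹ = g₀ * x''⁻¹ * g₀⁻¹ := by rw [hydef]; group
    rw [this, act_mul, act_mul, hx''i, act_sub, act_act_inv, hBf]
  have hB1 : ∀ v ∈ P', Bf v = 0 := by
    intro v hv
    rw [hP'] at hv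
    obtain ⟨u, hu, rfl⟩ := hv
    obtain ⟨c, rfl⟩ := (mem_pt ρ v₀ u).mp hu
    rw [hBf, actL_apply, act_inv_act, hψ''.map_orb hψ''v₀, map_zero, Matrix.zero_mulVec, act_zero]
  have hB2 : ∀ v, Bf v ∈ P' := by
    intro v
    rw [hP', hBf]
    exact ⟨_, smul_mem_pt ρ v₀ _, rfl⟩
  have hψB : ∀ v, ψ (Bf v) = 0 := fun v => hψP' _ (hB2 v)
  have hBB : ∀ v, Bf (Bf v) = 0 := fun v => hB1 _ (hB2 v)
  have hcomm : ∀ v, act (x * y * x⁻¹ * y⁻¹) v = v - Bf (ρ (ψ v) *ᵥ v₁) := by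
    intro v
    rw [act_mul, act_mul, act_mul, hyi, hxi, hy, hx]
    have e1 : ψ (v - Bf v) = ψ v := by rw [map_sub, hψB, sub_zero]
    rw [e1]
    have e2 : Bf (v - Bf v - ρ (ψ v) *ᵥ v₁) = Bf v - Bf (ρ (ψ v) *ᵥ v₁) := by
      rw [map_sub, map_sub, hBB, sub_zero]
    rw [e2]
    have e3 : ψ (v - Bf v - ρ (ψ v) *ᵥ v₁ + (Bf v - Bf (ρ (ψ v) *ᵥ v₁))) = ψ v := by
      rw [map_add, map_sub, map_sub, map_sub, hψB, hψB, hψ, hψv₁, mul_zero]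
      ring
    rw [e3]
    abel
  -- the hyperplane `Dt` of `L`
  obtain ⟨Dt, hDt⟩ : ∃ Dt : Submodule F L, Dt = P'.comap (orb ρ v₁) := ⟨_, rfl⟩
  have hDtmem : ∀ c, c ∈ Dt ↔ ρ c *ᵥ v₁ ∈ P' := by
    intro c; rw [hDt]; rfl
  have hfDt : finrank F ↥Dt + 1 = r := by
    have h1 : Dt.map (orb ρ v₁) = P₁ ⊓ P' := by
      rw [hDt, Submodule.map_comap_eq, hP₁]; rfl
    have h2 := (Submodule.equivMapOfInjective (orb ρ v₁)
      (Cfsg.Agent.Lib.Helper25.ExtFEa.orb_injective ρ hv₁) Dt).finrank_eq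
    rw [h1] at h2
    rw [h2]; exact hfr
  have hptDt : pt' ∉ Dt := by
    rw [hDtmem, hpt']; exact hpP'
  have htop : Dt ⊔ Submodule.span F {pt'} = ⊤ := by
    apply Submodule.eq_top_of_finrank_eq
    have hlt : Dt < Dt ⊔ Submodule.span F {pt'} := by
      refine lt_of_le_of_ne le_sup_left (fun h => hptDt ?_)
      rw [h]; exact Submodule.mem_sup_right (Submodule.mem_span_singleton_self pt')
    have h1 := Submodule.finrank_lt_finrank_of_lt hlt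
    have h2 := Submodule.finrank_le (Dt ⊔ Submodule.span F {pt'})
    omega
  obtain ⟨f, hfpt, hfDt'⟩ := Submodule.exists_le_ker_of_notMem hptDt
  obtain ⟨τ, hτ⟩ : ∃ τ : L →ₗ[F] F, τ = (f pt')⁻¹ • f := ⟨_, rfl⟩
  have hτpt : τ pt' = 1 := by
    rw [hτ, LinearMap.smul_apply, smul_eq_mul, inv_mul_cancel₀ hfpt]
  have hτDt : ∀ c ∈ Dt, τ c = 0 := by
    intro c hc
    rw [hτ, LinearMap.smul_apply, LinearMap.mem_ker.mp (hfDt' hc), smul_zero]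
  have hu₀ : Bf p = act g₀ v₀ := by rw [hBf, hψ''p, rho_one_mulVec]
  have hβ : ∀ c : L, Bf (ρ c *ᵥ v₁) = τ c • act g₀ v₀ := by
    intro c
    have hc : c ∈ Dt ⊔ Submodule.span F {pt'} := by rw [htop]; trivial
    obtain ⟨d, hd, s, hs, rfl⟩ := Submodule.mem_sup.mp hc
    obtain ⟨t, rfl⟩ := Submodule.mem_span_singleton.mp hs
    rw [rho_add_mulVec, map_add, hB1 _ ((hDtmem d).mp hd), zero_add, map_add, hτDt d hd, zero_add,
      map_smul, Matrix.smul_mulVec, hpt', map_smul, hu₀, map_smul, hτpt, smul_eq_mul, mul_one]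
  refine ⟨ψ, -τ, act g₀ v₀, hψ, ⟨e, hψe⟩, ?_, ?_, ?_, ?_⟩
  · intro h0
    have h1 : (-τ) pt' = 0 := by rw [h0]; rfl
    rw [LinearMap.neg_apply, hτpt] at h1
    exact one_ne_zero (neg_eq_zero.mp h1)
  · exact fun h0 => hv₀ ((act_eq_zero_iff g₀ v₀).mp h0)
  · apply hψP'
    rw [hP']
    exact ⟨v₀, self_mem_pt ρ v₀, rfl⟩
  · intro g hg
    have : g = x * y * x⁻¹ * y⁻¹ := by
      apply gl_ext
      intro v
      rw [hg, hcomm, hβ]
      simp only [LinearMap.comp_apply, LinearMap.neg_apply, neg_smul, sub_eq_add_neg]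
    rw [this]
    exact H.mul_mem (H.mul_mem (H.mul_mem hxH hyH) (H.inv_mem hxH)) (H.inv_mem hyH)

end Cfsg.Agent.Lib.Helper23.S5886P3
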