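import Cfsg.Agent.Lib.Helper7.U62M.Defs

set_option autoImplicit false
set_option maxRecDepth 100000
set_option linter.unusedVariables false

/-! S2091 (architect helper7): the three central elements of the covering group `PW1`, exactly as in
the skeleton `notes/S2091_Skel_helper7.lean.txt` (shared by [EX-SU], [EX-FiB], [EX-FiC], [EX]). -/

namespace Cfsg.Agent.Lib.Helper7.U62M

open Cfsg Cfsg.Agent.Helper4.TC

/-- the three central elements -/
noncomputable def r2 : PW1 := evc (PresentedGroup.of (rels := RW1)) dec rho2
noncomputable def r3 : PW1 := evc (PresentedGroup.of (rels := RW1)) dec rho3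
noncomputable def r5 : PW1 := evc (PresentedGroup.of (rels := RW1)) dec rho5

end Cfsg.Agent.Lib.Helper7.U62M
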