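import Mathlib

/-!
# Monomial groups, the "dense" case: abstract frame combinatorics

A frame `col : Fin n → (Fin n → F)` (a basis), invariant up to scalars under the even
permutations `sw2 a b c e = swap a b * swap c e` of the coordinates in `S`.
`struct_A`: every frame vector with at most one zero coordinate is constant on `S` off one
coordinate.
-/

set_option autoImplicit false

namespace Cfsg.Agent.Lib.Helper23.MonDense

open Matrix

variable {F : Type*} [Field F] {n : ℕ}

/-- permutation action on vectors -/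
def pm (σ : Equiv.Perm (Fin n)) (u : Fin n → F) : Fin n → F := fun l => u (σ l)

/-- the even permutation `swap a b * swap c e` -/
def sw2 (a b c e : Fin n) : Equiv.Perm (Fin n) := Equiv.swap a b * Equiv.swap c e

theorem sw2_apply (a b c e m : Fin n) : sw2 a b c e m = Equiv.swap a b (Equiv.swap c e m) := rfl

theorem sw2_of_notMem (a b c e m : Fin n) (ha : m ≠ a) (hb : m ≠ b) (hc : m ≠ c) (he : m ≠ e) :
    sw2 a b c e m = m := by
  rw [sw2_apply, Equiv.swap_apply_of_ne_of_ne hc he, Equiv.swap_apply_of_ne_of_ne ha hb]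

theorem sw2_self (a b : Fin n) : sw2 a b a b = 1 := by
  rw [sw2, Equiv.swap_mul_self]

/-- at most one zero coordinate -/
def AtMostOneZero (u : Fin n → F) : Prop := ∀ l l', u l = 0 → u l' = 0 → l = l'

/-- invariance of a frame under the even permutations `sw2 a b c e` with support in `S` -/
def Inv (S : Finset (Fin n)) (col : Fin n → Fin n → F) : Prop :=
  ∀ a b c e, a ∈ S → b ∈ S → c ∈ S → e ∈ S → a ≠ b → c ≠ e → ∀ j, ∃ (j' : Fin n) (lam : F),
    pm (sw2 a b c e) (col j) = lam • col j'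

theorem exists_two_pairs (S : Finset (Fin n)) (hS : 4 ≤ S.card) (u : Fin n → F)
    (h : ¬ ∃ (β : F) (i : Fin n), ∀ l ∈ S, l ≠ i → u l = β) :
    ∃ i j k l, i ∈ S ∧ j ∈ S ∧ k ∈ S ∧ l ∈ S ∧ i ≠ j ∧ i ≠ k ∧ i ≠ l ∧ j ≠ k ∧ j ≠ l ∧ k ≠ l ∧
      u i ≠ u j ∧ u k ≠ u l := by
  push Not at h
  obtain ⟨a, haS⟩ : S.Nonempty := by
    rw [← Finset.card_pos]; omega
  obtain ⟨b, hbS, hba, hub⟩ := h (u a) a
  obtain ⟨k, hkS, hkb, huk⟩ := h (u a) b
  obtain ⟨l, hlS, hla, hul⟩ := h (u b) a
  have hka : k ≠ a := fun e => huk (by rw [e])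
  have hlb : l ≠ b := fun e => hul (by rw [e])
  by_cases hkl : k = l
  · subst hkl
    -- three distinct values at a, b, k
    obtain ⟨m, hmS, hm⟩ : ∃ m ∈ S, m ∉ ({a, b, k} : Finset (Fin n)) := by
      apply Finset.exists_mem_notMem_of_card_lt_card
      calc ({a, b, k} : Finset (Fin n)).card ≤ 3 := Finset.card_le_three
        _ < S.card := by omega
    simp only [Finset.mem_insert, Finset.mem_singleton, not_or] at hm
    obtain ⟨hma, hmb, hmk⟩ := hm
    by_cases hum : u m = u a
    · -- pairs (m, b), (a, k)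
      refine ⟨m, b, a, k, hmS, hbS, haS, hkS, hmb, hma, hmk, hba, hkb.symm, hka.symm, ?_, ?_⟩
      · rw [hum]; exact fun e => hub e.symm
      · exact fun e => huk e.symm
    · -- pairs (m, a), (b, k)
      refine ⟨m, a, b, k, hmS, haS, hbS, hkS, hma, hmb, hmk, hba.symm, hka.symm, hkb.symm, hum, ?_⟩
      exact fun e => hul e.symm
  · -- pairs (a, k), (b, l)
    refine ⟨a, k, b, l, haS, hkS, hbS, hlS, hka.symm, hba.symm, hla.symm, hkb, hkl, hlb.symm, ?_, ?_⟩
    · exact fun e => huk e.symm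
    · exact fun e => hul e.symm


theorem exists_nonzero_off (hn : 6 ≤ n) (u : Fin n → F) (h1 : AtMostOneZero u) (i j k l : Fin n) :
    ∃ m, m ≠ i ∧ m ≠ j ∧ m ≠ k ∧ m ≠ l ∧ u m ≠ 0 := by
  have hc : 1 < (Finset.univ \ ({i, j, k, l} : Finset (Fin n))).card := by
    have h4 : ({i, j, k, l} : Finset (Fin n)).card ≤ 4 := Finset.card_le_four
    have := Finset.card_sdiff_add_card_eq_card (Finset.subset_univ ({i, j, k, l} : Finset (Fin n)))
    rw [Finset.card_univ, Fintype.card_fin] at this
    omega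
  obtain ⟨m₁, hm₁, m₂, hm₂, hne⟩ := Finset.one_lt_card.mp hc
  simp only [Finset.mem_sdiff, Finset.mem_univ, true_and, Finset.mem_insert, Finset.mem_singleton,
    not_or] at hm₁ hm₂
  by_cases h : u m₁ = 0
  · refine ⟨m₂, hm₂.1, hm₂.2.1, hm₂.2.2.1, hm₂.2.2.2, fun h2 => hne (h1 _ _ h h2)⟩
  · exact ⟨m₁, hm₁.1, hm₁.2.1, hm₁.2.2.1, hm₁.2.2.2, h⟩

/-- five vectors which agree with `u` off `{i,j,k,l}`, have the same coordinate sum on `{i,j,k,l}`,
and are linearly independent: impossible -/
theorem five_in_four (u : Fin n → F) (i j k l m₀ : Fin n) (hij : i ≠ j) (hik : i ≠ k) (hil : i ≠ l)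
    (hjk : j ≠ k) (hjl : j ≠ l) (hkl : k ≠ l)
    (hm₀ : u m₀ ≠ 0) (hm₀i : m₀ ≠ i) (hm₀j : m₀ ≠ j) (hm₀k : m₀ ≠ k) (hm₀l : m₀ ≠ l)
    (x : Fin 5 → Fin n → F) (hoff : ∀ t m, m ≠ i → m ≠ j → m ≠ k → m ≠ l → x t m = u m)
    (hsum : ∀ t, x t i + x t j + x t k + x t l = u i + u j + u k + u l)
    (hli : LinearIndependent F x) : False := by
  classical
  let P : (Fin n → F) →ₗ[F] (Fin 4 → F) :=
    LinearMap.pi ![LinearMap.proj i, LinearMap.proj j, LinearMap.proj k, LinearMap.proj m₀]
  have h5 : ¬ LinearIndependent F (fun t => P (x t)) := by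
    intro h
    have := h.fintype_card_le_finrank
    simp at this
  obtain ⟨c, hc, t₀, ht₀⟩ := Fintype.not_linearIndependent_iff.mp h5
  have hz : ∑ t, c t • x t = 0 := by
    have hP : P (∑ t, c t • x t) = 0 := by
      rw [map_sum]
      simp only [map_smul]
      exact hc
    have hPi := congrFun hP 0
    have hPj := congrFun hP 1
    have hPk := congrFun hP 2
    have hPm := congrFun hP 3
    simp only [P, LinearMap.pi_apply, Matrix.cons_val_zero, Matrix.cons_val_one,
      LinearMap.proj_apply, Pi.zero_apply, Finset.sum_apply, Pi.smul_apply, smul_eq_mul] at hPi hPj hPk hPm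
    simp only [Matrix.cons_val, LinearMap.proj_apply, Finset.sum_apply, Pi.smul_apply, smul_eq_mul] at hPk hPm
    have hcs : ∑ t, c t = 0 := by
      have : ∑ t, c t * x t m₀ = (∑ t, c t) * u m₀ := by
        rw [Finset.sum_mul]
        exact Finset.sum_congr rfl (fun t _ => by rw [hoff t m₀ hm₀i hm₀j hm₀k hm₀l])
      rw [this] at hPm
      exact (mul_eq_zero.mp hPm).resolve_right hm₀
    have hl : ∑ t, c t * x t l = 0 := by
      have h4 : ∑ t, c t * (x t i + x t j + x t k + x t l) = 0 := by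
        have : ∑ t, c t * (x t i + x t j + x t k + x t l) = (∑ t, c t) * (u i + u j + u k + u l) := by
          rw [Finset.sum_mul]
          exact Finset.sum_congr rfl (fun t _ => by rw [hsum t])
        rw [this, hcs, zero_mul]
      have h5 : ∑ t, c t * (x t i + x t j + x t k + x t l) =
          ∑ t, c t * x t i + ∑ t, c t * x t j + ∑ t, c t * x t k + ∑ t, c t * x t l := by
        simp only [mul_add, Finset.sum_add_distrib]
      rw [h5, hPi, hPj, hPk, zero_add, zero_add, zero_add] at h4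
      exact h4
    funext m
    simp only [Finset.sum_apply, Pi.smul_apply, smul_eq_mul, Pi.zero_apply]
    by_cases hmi : m = i
    · rw [hmi]; exact hPi
    by_cases hmj : m = j
    · rw [hmj]; exact hPj
    by_cases hmk : m = k
    · rw [hmk]; exact hPk
    by_cases hml : m = l
    · rw [hml]; exact hl
    have : ∑ t, c t * x t m = (∑ t, c t) * u m := by
      rw [Finset.sum_mul]
      exact Finset.sum_congr rfl (fun t _ => by rw [hoff t m hmi hmj hmk hml])
    rw [this, hcs, zero_mul]
  exact ht₀ (Fintype.linearIndependent_iff.mp hli c hz t₀)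


/-- (A): a frame vector with at most one zero is constant on `S` off one coordinate -/
theorem struct_A (hn : 6 ≤ n) (S : Finset (Fin n)) (hS : 4 ≤ S.card) (col : Fin n → Fin n → F)
    (li : LinearIndependent F col) (inv : Inv S col) (j₁ : Fin n) (h1 : AtMostOneZero (col j₁)) :
    ∃ (β : F) (i : Fin n), ∀ l ∈ S, l ≠ i → col j₁ l = β := by
  by_contra hcon
  obtain ⟨i, j, k, l, hiS, hjS, hkS, hlS, hij, hik, hil, hjk, hjl, hkl, hab, hcd⟩ :=
    exists_two_pairs S hS (col j₁) hcon
  obtain ⟨u, hu⟩ : ∃ u, u = col j₁ := ⟨_, rfl⟩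
  rw [← hu] at hab hcd h1
  obtain ⟨m₀, hm₀i, hm₀j, hm₀k, hm₀l, hm₀⟩ := exists_nonzero_off hn u h1 i j k l
  let σs : Fin 5 → Equiv.Perm (Fin n) :=
    ![sw2 i j i j, sw2 i j k l, sw2 i j j k, sw2 j k i j, sw2 j l l k]
  let x : Fin 5 → Fin n → F := fun t => pm (σs t) u
  have hinv : ∀ t, ∃ (j' : Fin n) (lam : F), x t = lam • col j' := by
    intro t
    fin_cases t
    · show ∃ (j' : Fin n) (lam : F), pm (sw2 i j i j) u = lam • col j'
      rw [hu]; exact inv i j i j hiS hjS hiS hjS hij hij j₁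
    · show ∃ (j' : Fin n) (lam : F), pm (sw2 i j k l) u = lam • col j'
      rw [hu]; exact inv i j k l hiS hjS hkS hlS hij hkl j₁
    · show ∃ (j' : Fin n) (lam : F), pm (sw2 i j j k) u = lam • col j'
      rw [hu]; exact inv i j j k hiS hjS hjS hkS hij hjk j₁
    · show ∃ (j' : Fin n) (lam : F), pm (sw2 j k i j) u = lam • col j'
      rw [hu]; exact inv j k i j hjS hkS hiS hjS hjk hij j₁
    · show ∃ (j' : Fin n) (lam : F), pm (sw2 j l l k) u = lam • col j'
      rw [hu]; exact inv j l l k hjS hlS hlS hkS hjl hkl.symm j₁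
  choose jt lam hx using hinv
  have hoff : ∀ t m, m ≠ i → m ≠ j → m ≠ k → m ≠ l → x t m = u m := by
    intro t m hmi hmj hmk hml
    fin_cases t <;>
      simp [x, σs, pm, sw2_apply, Equiv.swap_apply_of_ne_of_ne, hmi, hmj, hmk, hml]
  have hv : ∀ t, x t i = ![u i, u j, u j, u k, u i] t ∧ x t j = ![u j, u i, u k, u i, u l] t ∧
      x t k = ![u k, u l, u i, u j, u j] t ∧ x t l = ![u l, u k, u l, u l, u k] t := by
    intro t
    fin_cases t <;>
      simp [x, σs, pm, sw2_apply, Equiv.swap_apply_def, hij, hik, hil, hjk, hjl, hkl,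
        hij.symm, hik.symm, hil.symm, hjk.symm, hjl.symm, hkl.symm]
  have hsum : ∀ t, x t i + x t j + x t k + x t l = u i + u j + u k + u l := by
    intro t
    obtain ⟨e1, e2, e3, e4⟩ := hv t
    rw [e1, e2, e3, e4]
    fin_cases t <;> simp <;> ring
  have hdist : ∀ s t, x s = x t → s = t := by
    intro s t h
    have ei := congrFun h i
    have ej := congrFun h j
    have ek := congrFun h k
    have el := congrFun h l
    rw [(hv s).1, (hv t).1] at ei
    rw [(hv s).2.1, (hv t).2.1] at ej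
    rw [(hv s).2.2.1, (hv t).2.2.1] at ek
    rw [(hv s).2.2.2, (hv t).2.2.2] at el
    fin_cases s <;> fin_cases t <;> simp_all
  have hlam : ∀ t, lam t ≠ 0 := by
    intro t h0
    have := congrFun (hx t) m₀
    rw [hoff t m₀ hm₀i hm₀j hm₀k hm₀l, h0, zero_smul] at this
    exact hm₀ this
  have hjt : Function.Injective jt := by
    intro s t hst
    apply hdist
    have e1 := hx s
    have e2 := hx t
    rw [hst] at e1
    -- x s = (lam s / lam t) • x t
    have e3 : x s = (lam s / lam t) • x t := by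
      rw [e1, e2, smul_smul, div_mul_cancel₀ _ (hlam t)]
    have e4 := congrFun e3 m₀
    rw [hoff s m₀ hm₀i hm₀j hm₀k hm₀l, Pi.smul_apply, hoff t m₀ hm₀i hm₀j hm₀k hm₀l, smul_eq_mul] at e4
    have e5 : lam s / lam t = 1 := by
      have : (lam s / lam t - 1) * u m₀ = 0 := by linear_combination -e4
      have := (mul_eq_zero.mp this).resolve_right hm₀
      linear_combination this
    rw [e3, e5, one_smul]
  have hli : LinearIndependent F x := by
    have h1 : LinearIndependent F (col ∘ jt) := li.comp jt hjt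
    have h2 := h1.units_smul (fun t => Units.mk0 (lam t) (hlam t))
    have h3 : x = (fun t => Units.mk0 (lam t) (hlam t)) • (col ∘ jt) := by
      funext t
      rw [hx t]
      rfl
    rw [h3]
    exact h2
  exact five_in_four u i j k l m₀ hij hik hil hjk hjl hkl hm₀ hm₀i hm₀j hm₀k hm₀l x hoff hsum hli

end Cfsg.Agent.Lib.Helper23.MonDense
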