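import Mathlib
import Cfsg.Agent.Lib.Helper23.MonDenseA

/-!
# Monomial groups, the "dense" case: abstract lemmas (B) and (C)
-/

set_option autoImplicit false

namespace Cfsg.Agent.Lib.Helper23.MonDense

open Matrix

variable {F : Type*} [Field F] {n : ℕ}

theorem li_not_smul {col : Fin n → Fin n → F} (li : LinearIndependent F col) {j j' : Fin n}
    (h : j ≠ j') (c : F) : col j ≠ c • col j' := by
  intro e
  have hinj : Function.Injective ![j, j'] := by
    intro s t hst
    fin_cases s <;> fin_cases t <;> simp_all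
  have h2 : LinearIndependent F ![col j, col j'] := by
    have := li.comp ![j, j'] hinj
    convert this using 1
    funext t
    fin_cases t <;> rfl
  have h3 := LinearIndependent.pair_iff.mp h2 1 (-c) (by rw [one_smul, e, neg_smul, add_neg_cancel])
  exact one_ne_zero h3.1

theorem sw2_move (l i m' : Fin n) (hli : l ≠ i) (hlm : l ≠ m') : sw2 l i i m' l = i := by
  rw [sw2_apply, Equiv.swap_apply_of_ne_of_ne hli hlm, Equiv.swap_apply_left]

theorem sw2_move_iff (l i m' : Fin n) (hli : l ≠ i) (hlm : l ≠ m') (m : Fin n) :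
    sw2 l i i m' m = i ↔ m = l := by
  constructor
  · intro h
    have := sw2_move l i m' hli hlm
    exact (sw2 l i i m').injective (h.trans this.symm)
  · rintro rfl
    exact sw2_move m i m' hli hlm

theorem sw2_fix_iff (a b c e j₀ : Fin n) (ha : j₀ ≠ a) (hb : j₀ ≠ b) (hc : j₀ ≠ c) (he : j₀ ≠ e)
    (m : Fin n) : sw2 a b c e m = j₀ ↔ m = j₀ := by
  have hfix := sw2_of_notMem a b c e j₀ ha hb hc he
  constructor
  · intro h
    exact (sw2 a b c e).injective (h.trans hfix.symm)
  · rintro rfl
    exact hfix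

/-- (B): a frame containing the all-ones vector, invariant under all `sw2`, has no further vector
with at most one zero -/
theorem no_full (hn : 6 ≤ n) (col : Fin n → Fin n → F) (li : LinearIndependent F col)
    (inv : Inv Finset.univ col) (i₀ : Fin n) (hbase : ∀ l, col i₀ l = 1)
    (j₁ : Fin n) (hj₁ : j₁ ≠ i₀) (h1 : AtMostOneZero (col j₁)) : False := by
  classical
  have hS : 4 ≤ (Finset.univ : Finset (Fin n)).card := by
    rw [Finset.card_univ, Fintype.card_fin]; omega
  obtain ⟨β, i, hβ⟩ := struct_A hn Finset.univ hS col li inv j₁ h1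
  obtain ⟨α, hα⟩ : ∃ α, α = col j₁ i - β := ⟨_, rfl⟩
  have hu : col j₁ = fun m => β + (if m = i then α else 0) := by
    funext m
    by_cases hm : m = i
    · rw [hm, if_pos rfl, hα]; ring
    · rw [if_neg hm, add_zero]; exact hβ m (Finset.mem_univ _) hm
  have hα0 : α ≠ 0 := by
    intro h0
    apply li_not_smul li hj₁ β
    rw [hu]
    funext m
    simp [h0, hbase]
  -- the vectors y l
  let y : Fin n → Fin n → F := fun l m => β + (if m = l then α else 0)
  have hy : ∀ l, ∃ (c : Fin n) (lam : F), y l = lam • col c := by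
    intro l
    by_cases hl : l = i
    · refine ⟨j₁, 1, ?_⟩
      rw [one_smul, hu, hl]
    · obtain ⟨m', hm'l, hm'i⟩ : ∃ m' : Fin n, m' ≠ l ∧ m' ≠ i := by
        have hc : ({l, i} : Finset (Fin n)).card < (Finset.univ : Finset (Fin n)).card := by
          calc ({l, i} : Finset (Fin n)).card ≤ 2 := Finset.card_le_two
            _ < (Finset.univ : Finset (Fin n)).card := by omega
        obtain ⟨m', _, hm'⟩ := Finset.exists_mem_notMem_of_card_lt_card hc
        simp only [Finset.mem_insert, Finset.mem_singleton, not_or] at hm'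
        exact ⟨m', hm'.1, hm'.2⟩
      obtain ⟨c, lam, hc⟩ := inv l i i m' (Finset.mem_univ _) (Finset.mem_univ _) (Finset.mem_univ _)
        (Finset.mem_univ _) hl hm'i.symm j₁
      refine ⟨c, lam, ?_⟩
      rw [← hc, hu]
      funext m
      simp only [pm, y, sw2_move_iff l i m' hl hm'l.symm m]
  choose c lam hc using hy
  have hyl : ∀ l, y l l = β + α := fun l => by simp [y]
  have hym : ∀ l m, m ≠ l → y l m = β := fun l m hm => by simp [y, hm]
  have hthree : ∀ l l' : Fin n, ∃ m, m ≠ l ∧ m ≠ l' := by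
    intro l l'
    have hc : ({l, l'} : Finset (Fin n)).card < (Finset.univ : Finset (Fin n)).card := by
      calc ({l, l'} : Finset (Fin n)).card ≤ 2 := Finset.card_le_two
        _ < (Finset.univ : Finset (Fin n)).card := by omega
    obtain ⟨m', _, hm'⟩ := Finset.exists_mem_notMem_of_card_lt_card hc
    simp only [Finset.mem_insert, Finset.mem_singleton, not_or] at hm'
    exact ⟨m', hm'.1, hm'.2⟩
  have hy0 : ∀ l, y l ≠ 0 := by
    intro l h0
    obtain ⟨m, hml, _⟩ := hthree l l
    have e1 := congrFun h0 l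
    have e2 := congrFun h0 m
    rw [hyl, Pi.zero_apply] at e1
    rw [hym l m hml, Pi.zero_apply] at e2
    rw [e2, zero_add] at e1
    exact hα0 e1
  have hlam : ∀ l, lam l ≠ 0 := by
    intro l h0
    apply hy0 l
    rw [hc l, h0, zero_smul]
  -- the injection
  let f : Option (Fin n) → Fin n := fun o => match o with
    | none => i₀
    | some l => c l
  have hc_ne : ∀ l, c l ≠ i₀ := by
    intro l h
    have e := hc l
    rw [h] at e
    obtain ⟨m, hml, _⟩ := hthree l l
    have e1 := congrFun e l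
    have e2 := congrFun e m
    rw [hyl, Pi.smul_apply, hbase, smul_eq_mul, mul_one] at e1
    rw [hym l m hml, Pi.smul_apply, hbase, smul_eq_mul, mul_one] at e2
    apply hα0
    linear_combination e1 - e2
  have hc_inj : ∀ l l', c l = c l' → l = l' := by
    intro l l' h
    by_contra hne
    have e1 := hc l
    have e2 := hc l'
    rw [h] at e1
    have e3 : y l = (lam l / lam l') • y l' := by
      rw [e1, e2, smul_smul, div_mul_cancel₀ _ (hlam l')]
    obtain ⟨m, hml, hml'⟩ := hthree l l'
    have a1 := congrFun e3 m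
    have a2 := congrFun e3 l
    have a3 := congrFun e3 l'
    rw [hym l m hml, Pi.smul_apply, hym l' m hml', smul_eq_mul] at a1
    rw [hyl, Pi.smul_apply, hym l' l hne, smul_eq_mul] at a2
    rw [hym l l' (Ne.symm hne), Pi.smul_apply, hyl, smul_eq_mul] at a3
    -- β = r β, β + α = r β, β = r (β + α)
    apply hα0
    have : α = 0 := by linear_combination a2 - a1
    exact this
  have hf : Function.Injective f := by
    intro o o' h
    cases o with
    | none =>
      cases o' with
      | none => rfl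
      | some l' => exact absurd h.symm (hc_ne l')
    | some l =>
      cases o' with
      | none => exact absurd h (hc_ne l)
      | some l' => rw [hc_inj l l' h]
  have := Fintype.card_le_of_injective f hf
  simp at this


/-- the vectors of the "complement frame" with a twist `γ'` at the coordinate `j₀` -/
def wv (j₀ : Fin n) (γ' : F) (l : Fin n) : Fin n → F :=
  fun m => if m = l then 0 else if m = j₀ then γ' else 1

/-- (C): shape of a frame containing `1_S`, `S = univ \ {j₀}`, invariant under the `sw2` in `S`,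
and having a vector with exactly one zero and a nonzero `j₀`-coordinate -/
theorem shape_C (hn : 6 ≤ n) (j₀ : Fin n) (col : Fin n → Fin n → F) (li : LinearIndependent F col)
    (inv : Inv (Finset.univ.erase j₀) col) (i₀ : Fin n)
    (hbase : ∀ l, col i₀ l = if l = j₀ then 0 else 1)
    (j₁ : Fin n) (hγ : col j₁ j₀ ≠ 0) (h1 : AtMostOneZero (col j₁)) (z : Fin n) (hz : col j₁ z = 0) :
    ∃ γ' : F, γ' ≠ 0 ∧ ∀ l, ∃ (c : Fin n) (μ : F), μ ≠ 0 ∧ col c = μ • wv j₀ γ' l := by
  classical
  have hS : 4 ≤ (Finset.univ.erase j₀ : Finset (Fin n)).card := by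
    rw [Finset.card_erase_of_mem (Finset.mem_univ _), Finset.card_univ, Fintype.card_fin]; omega
  obtain ⟨β, i, hβ⟩ := struct_A hn _ hS col li inv j₁ h1
  have hzj : z ≠ j₀ := fun h => hγ (h ▸ hz)
  -- two further coordinates in S off i
  have hex : ∀ a b : Fin n, ∃ m, m ≠ j₀ ∧ m ≠ i ∧ m ≠ a ∧ m ≠ b := by
    intro a b
    have hc : ({j₀, i, a, b} : Finset (Fin n)).card < (Finset.univ : Finset (Fin n)).card := by
      calc ({j₀, i, a, b} : Finset (Fin n)).card ≤ 4 := Finset.card_le_four
        _ < (Finset.univ : Finset (Fin n)).card := by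
          rw [Finset.card_univ, Fintype.card_fin]; omega
    obtain ⟨m', _, hm'⟩ := Finset.exists_mem_notMem_of_card_lt_card hc
    simp only [Finset.mem_insert, Finset.mem_singleton, not_or] at hm'
    exact ⟨m', hm'.1, hm'.2.1, hm'.2.2.1, hm'.2.2.2⟩
  have hβm : ∀ m, m ≠ j₀ → m ≠ i → col j₁ m = β := fun m h1 h2 =>
    hβ m (Finset.mem_erase.mpr ⟨h1, Finset.mem_univ _⟩) h2
  have hβ0 : β ≠ 0 := by
    intro h0
    obtain ⟨m₁, h1a, h1b, _, _⟩ := hex i i
    obtain ⟨m₂, h2a, h2b, h2c, _⟩ := hex m₁ m₁
    have e1 := hβm m₁ h1a h1b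
    have e2 := hβm m₂ h2a h2b
    rw [h0] at e1 e2
    exact h2c (h1 _ _ e2 e1)
  have hzi : z = i := by
    by_contra hne
    have := hβm z hzj hne
    rw [hz] at this
    exact hβ0 this.symm
  obtain ⟨γ, hγdef⟩ : ∃ γ, γ = col j₁ j₀ := ⟨_, rfl⟩
  have hij₀ : i ≠ j₀ := hzi ▸ hzj
  have hu : col j₁ = fun m => if m = i then 0 else if m = j₀ then γ else β := by
    funext m
    by_cases hm : m = i
    · rw [if_pos hm, hm, ← hzi, hz]
    · rw [if_neg hm]
      by_cases hm2 : m = j₀
      · rw [if_pos hm2, hm2, hγdef]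
      · rw [if_neg hm2]; exact hβm m hm2 hm
  refine ⟨γ / β, div_ne_zero (hγdef ▸ hγ) hβ0, ?_⟩
  have hw : ∀ l, (fun m => if m = l then 0 else if m = j₀ then γ else β) = β • wv j₀ (γ / β) l := by
    intro l
    funext m
    simp only [wv, Pi.smul_apply, smul_eq_mul]
    split_ifs
    · rw [mul_zero]
    · rw [mul_div_cancel₀ _ hβ0]
    · rw [mul_one]
  intro l
  by_cases hl : l = i
  · refine ⟨j₁, β, hβ0, ?_⟩
    rw [hu, hl, hw]
  by_cases hl0 : l = j₀
  · refine ⟨i₀, 1, one_ne_zero, ?_⟩
    rw [one_smul, hl0]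
    funext m
    rw [hbase, wv]
    by_cases hm : m = j₀
    · rw [if_pos hm, if_pos hm]
    · rw [if_neg hm, if_neg hm, if_neg hm]
  · obtain ⟨m', hm'0, hm'i, hm'l, _⟩ := hex l l
    have memS : ∀ a : Fin n, a ≠ j₀ → a ∈ (Finset.univ.erase j₀ : Finset (Fin n)) := fun a h =>
      Finset.mem_erase.mpr ⟨h, Finset.mem_univ _⟩
    obtain ⟨c, lam, hc⟩ := inv l i i m' (memS l hl0) (memS i hij₀) (memS i hij₀) (memS m' hm'0)
      hl hm'i.symm j₁
    have hpm : pm (sw2 l i i m') (col j₁) = β • wv j₀ (γ / β) l := by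
      rw [← hw, hu]
      funext m
      simp only [pm, sw2_move_iff l i m' hl hm'l.symm m,
        sw2_fix_iff l i i m' j₀ (Ne.symm hl0) (Ne.symm hij₀) (Ne.symm hij₀) (Ne.symm hm'0) m]
    have hlam : lam ≠ 0 := by
      intro h0
      rw [hpm, h0, zero_smul] at hc
      have := congrFun hc j₀
      simp only [wv, Pi.smul_apply, smul_eq_mul, Pi.zero_apply, if_neg (Ne.symm hl0), if_pos] at this
      rw [mul_div_cancel₀ _ hβ0] at this
      exact hγ (hγdef ▸ this)
    refine ⟨c, β / lam, div_ne_zero hβ0 hlam, ?_⟩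
    rw [hpm] at hc
    rw [div_eq_mul_inv, mul_comm, ← smul_smul, hc, smul_smul, inv_mul_cancel₀ hlam, one_smul]

end Cfsg.Agent.Lib.Helper23.MonDense
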