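import Mathlib
import Cfsg.Agent.Lib.Helper23.MonDenseB

/-!
# Monomial groups, Case II: group-level set-up

`K ≤ GL_n(F)` contains all monomial matrices of determinant `1` (`Hyp.hH`) and every element of `K`
having a column supported on a single coordinate is monomial (`Hyp.hU`, i.e. `K_1 = H_1`).
-/

set_option autoImplicit false

namespace Cfsg.Agent.Lib.Helper23.MonDense

open Matrix

variable {F : Type*} [Field F] {n : ℕ}

/-- monomial matrices -/
def IsMon (A : Matrix (Fin n) (Fin n) F) : Prop :=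
  ∃ π : Equiv.Perm (Fin n), ∀ i j, A i j ≠ 0 → i = π j

/-- the `j`-th column -/
def colv (A : Matrix (Fin n) (Fin n) F) (j : Fin n) : Fin n → F := fun l => A l j

theorem colv_eq_mulVec (A : Matrix (Fin n) (Fin n) F) (j : Fin n) :
    colv A j = A *ᵥ Pi.single j 1 := by
  funext l
  simp [colv]

/-- the hypotheses of Case II -/
structure Hyp (K : Subgroup (GL (Fin n) F)) : Prop where
  hH : ∀ g : GL (Fin n) F, IsMon (g : Matrix (Fin n) (Fin n) F) →
    (g : Matrix (Fin n) (Fin n) F).det = 1 → g ∈ K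
  hU : ∀ k ∈ K, ∀ i j : Fin n, (∀ l, l ≠ j → (k : Matrix (Fin n) (Fin n) F) l i = 0) →
    IsMon (k : Matrix (Fin n) (Fin n) F)

theorem GL_inv_mul_val (g : GL (Fin n) F) :
    ((g⁻¹ : GL (Fin n) F) : Matrix (Fin n) (Fin n) F) * (g : Matrix (Fin n) (Fin n) F) = 1 := by
  rw [← Units.val_mul, inv_mul_cancel, Units.val_one]

theorem GL_mul_inv_val (g : GL (Fin n) F) :
    (g : Matrix (Fin n) (Fin n) F) * ((g⁻¹ : GL (Fin n) F) : Matrix (Fin n) (Fin n) F) = 1 := by
  rw [← Units.val_mul, mul_inv_cancel, Units.val_one]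

/-- no column of an invertible matrix vanishes -/
theorem exists_col_ne (g : GL (Fin n) F) (j : Fin n) :
    ∃ l, (g : Matrix (Fin n) (Fin n) F) l j ≠ 0 := by
  by_contra h
  push Not at h
  have := congrFun (congrFun (GL_inv_mul_val g) j) j
  rw [Matrix.mul_apply, Matrix.one_apply_eq] at this
  rw [Finset.sum_eq_zero (fun l _ => by rw [h l, mul_zero])] at this
  exact zero_ne_one this

/-- no row of an invertible matrix vanishes -/
theorem exists_row_ne (g : GL (Fin n) F) (l : Fin n) :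
    ∃ j, (g : Matrix (Fin n) (Fin n) F) l j ≠ 0 := by
  by_contra h
  push Not at h
  have := congrFun (congrFun (GL_mul_inv_val g) l) l
  rw [Matrix.mul_apply, Matrix.one_apply_eq] at this
  rw [Finset.sum_eq_zero (fun j _ => by rw [h j, zero_mul])] at this
  exact zero_ne_one this

theorem mon_col (g : GL (Fin n) F) (hg : IsMon (g : Matrix (Fin n) (Fin n) F)) (j : Fin n) :
    ∃ (j' : Fin n) (c : F), c ≠ 0 ∧ colv (g : Matrix (Fin n) (Fin n) F) j = c • Pi.single j' 1 := by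
  classical
  obtain ⟨π, hπ⟩ := hg
  obtain ⟨l₀, hl₀⟩ := exists_col_ne g j
  have e0 : l₀ = π j := hπ l₀ j hl₀
  refine ⟨π j, (g : Matrix (Fin n) (Fin n) F) (π j) j, e0 ▸ hl₀, ?_⟩
  funext l
  by_cases hl : l = π j
  · rw [hl]; simp [colv]
  · have : (g : Matrix (Fin n) (Fin n) F) l j = 0 := by
      by_contra h
      exact hl (hπ l j h)
    simp [colv, this, hl]

/-- columns of `k₀` are linearly independent -/
theorem colv_li (k₀ : GL (Fin n) F) :
    LinearIndependent F (colv (k₀ : Matrix (Fin n) (Fin n) F)) := by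
  rw [Fintype.linearIndependent_iff]
  intro c hc
  have h1 : (k₀ : Matrix (Fin n) (Fin n) F) *ᵥ c = 0 := by
    funext l
    have := congrFun hc l
    simp only [Finset.sum_apply, Pi.smul_apply, smul_eq_mul, colv, Pi.zero_apply] at this
    rw [Matrix.mulVec, dotProduct, Pi.zero_apply, ← this]
    exact Finset.sum_congr rfl (fun j _ => mul_comm _ _)
  have h2 : c = 0 := by
    have := congrArg (fun v => ((k₀⁻¹ : GL (Fin n) F) : Matrix (Fin n) (Fin n) F) *ᵥ v) h1
    simpa [Matrix.mulVec_mulVec, GL_inv_mul_val] using this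
  intro i
  rw [h2]; rfl

/-- the transfer lemma: an element of `K` fixing a column of `k₀ ∈ K` permutes the columns of `k₀`
up to scalars -/
theorem transfer {K : Subgroup (GL (Fin n) F)} (hK : Hyp K) (k₀ h : GL (Fin n) F) (hk₀ : k₀ ∈ K)
    (hh : h ∈ K) (i₀ : Fin n)
    (hfix : (h : Matrix (Fin n) (Fin n) F) *ᵥ colv (k₀ : Matrix (Fin n) (Fin n) F) i₀ =
      colv (k₀ : Matrix (Fin n) (Fin n) F) i₀) (j : Fin n) :
    ∃ (j' : Fin n) (c : F), c ≠ 0 ∧
      (h : Matrix (Fin n) (Fin n) F) *ᵥ colv (k₀ : Matrix (Fin n) (Fin n) F) j =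
        c • colv (k₀ : Matrix (Fin n) (Fin n) F) j' := by
  classical
  have hg : k₀⁻¹ * h * k₀ ∈ K := K.mul_mem (K.mul_mem (K.inv_mem hk₀) hh) hk₀
  have hval : ((k₀⁻¹ * h * k₀ : GL (Fin n) F) : Matrix (Fin n) (Fin n) F) =
      ((k₀⁻¹ : GL (Fin n) F) : Matrix (Fin n) (Fin n) F) * (h : Matrix (Fin n) (Fin n) F) *
        (k₀ : Matrix (Fin n) (Fin n) F) := by
    rw [Units.val_mul, Units.val_mul]
  have hcol0 : colv ((k₀⁻¹ * h * k₀ : GL (Fin n) F) : Matrix (Fin n) (Fin n) F) i₀ =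
      Pi.single i₀ 1 := by
    rw [colv_eq_mulVec, hval, ← Matrix.mulVec_mulVec, ← Matrix.mulVec_mulVec, ← colv_eq_mulVec, hfix,
      colv_eq_mulVec, Matrix.mulVec_mulVec, GL_inv_mul_val, Matrix.one_mulVec]
  have hmon : IsMon ((k₀⁻¹ * h * k₀ : GL (Fin n) F) : Matrix (Fin n) (Fin n) F) := by
    apply hK.hU _ hg i₀ i₀
    intro l hl
    have := congrFun hcol0 l
    simp only [colv] at this
    rw [this, Pi.single_apply, if_neg hl]
  obtain ⟨j', c, hc, hcol⟩ := mon_col _ hmon j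
  refine ⟨j', c, hc, ?_⟩
  have e1 : (h : Matrix (Fin n) (Fin n) F) * (k₀ : Matrix (Fin n) (Fin n) F) =
      (k₀ : Matrix (Fin n) (Fin n) F) *
        ((k₀⁻¹ * h * k₀ : GL (Fin n) F) : Matrix (Fin n) (Fin n) F) := by
    rw [hval, ← mul_assoc, ← mul_assoc, GL_mul_inv_val, one_mul]
  rw [colv_eq_mulVec, Matrix.mulVec_mulVec, e1, ← Matrix.mulVec_mulVec, ← colv_eq_mulVec, hcol,
    Matrix.mulVec_smul, ← colv_eq_mulVec]

/-! ### the monomial matrices used -/

/-- `diag(d) P_σ diag(d)⁻¹` -/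
def monMat (d : Fin n → F) (σ : Equiv.Perm (Fin n)) : Matrix (Fin n) (Fin n) F :=
  Matrix.of fun l m => if σ l = m then d l / d m else 0

theorem monMat_mulVec (d : Fin n → F) (σ : Equiv.Perm (Fin n)) (x : Fin n → F) (l : Fin n) :
    (monMat d σ *ᵥ x) l = d l / d (σ l) * x (σ l) := by
  simp [monMat, Matrix.mulVec, dotProduct, ite_mul]

theorem monMat_eq (d : Fin n → F) (σ : Equiv.Perm (Fin n)) :
    monMat d σ = Matrix.diagonal d * σ.permMatrix F * Matrix.diagonal (fun i => (d i)⁻¹) := by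
  ext l m
  rw [Matrix.mul_diagonal, Matrix.diagonal_mul]
  simp [monMat, Equiv.Perm.permMatrix, PEquiv.toMatrix_apply, div_eq_mul_inv]

theorem monMat_det (d : Fin n → F) (hd : ∀ i, d i ≠ 0) (σ : Equiv.Perm (Fin n))
    (hσ : Equiv.Perm.sign σ = 1) : (monMat d σ).det = 1 := by
  rw [monMat_eq, Matrix.det_mul, Matrix.det_mul, Matrix.det_diagonal, Matrix.det_diagonal,
    Matrix.det_permutation, hσ]
  simp only [Units.val_one, Int.cast_one, mul_one]
  rw [← Finset.prod_mul_distrib]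
  exact Finset.prod_eq_one (fun i _ => mul_inv_cancel₀ (hd i))

theorem monMat_isMon (d : Fin n → F) (σ : Equiv.Perm (Fin n)) : IsMon (monMat d σ) := by
  refine ⟨σ⁻¹, fun i j h => ?_⟩
  simp only [monMat, Matrix.of_apply, ne_eq, ite_eq_right_iff, not_forall] at h
  obtain ⟨h1, _⟩ := h
  rw [← h1]
  exact (Equiv.symm_apply_apply σ i).symm

theorem sign_sw2 (a b c e : Fin n) (hab : a ≠ b) (hce : c ≠ e) :
    Equiv.Perm.sign (sw2 a b c e) = 1 := by
  rw [sw2, Equiv.Perm.sign_mul, Equiv.Perm.sign_swap hab, Equiv.Perm.sign_swap hce]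
  rfl

/-- the element of `K` with matrix `monMat d σ` -/
theorem monMat_mem {K : Subgroup (GL (Fin n) F)} (hK : Hyp K) (d : Fin n → F) (hd : ∀ i, d i ≠ 0)
    (σ : Equiv.Perm (Fin n)) (hσ : Equiv.Perm.sign σ = 1) :
    ∃ g : GL (Fin n) F, g ∈ K ∧ (g : Matrix (Fin n) (Fin n) F) = monMat d σ := by
  have hdet : (monMat d σ).det ≠ 0 := by rw [monMat_det d hd σ hσ]; exact one_ne_zero
  refine ⟨Matrix.GeneralLinearGroup.mkOfDetNeZero (monMat d σ) hdet, ?_, rfl⟩
  apply hK.hH
  · exact monMat_isMon d σ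
  · exact monMat_det d hd σ hσ

/-- diagonal elements of determinant one lie in `K` -/
theorem diag_mem {K : Subgroup (GL (Fin n) F)} (hK : Hyp K) (δ : Fin n → F)
    (hδ : ∏ i, δ i = 1) :
    ∃ g : GL (Fin n) F, g ∈ K ∧ (g : Matrix (Fin n) (Fin n) F) = Matrix.diagonal δ := by
  have hdet : (Matrix.diagonal δ).det ≠ 0 := by rw [Matrix.det_diagonal, hδ]; exact one_ne_zero
  refine ⟨Matrix.GeneralLinearGroup.mkOfDetNeZero (Matrix.diagonal δ) hdet, ?_, rfl⟩
  apply hK.hH
  · refine ⟨1, fun i j h => ?_⟩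
    change Matrix.diagonal δ i j ≠ 0 at h
    by_contra hne
    exact h (Matrix.diagonal_apply_ne _ hne)
  · change (Matrix.diagonal δ).det = 1
    rw [Matrix.det_diagonal, hδ]

end Cfsg.Agent.Lib.Helper23.MonDense
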