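import Mathlib
import Cfsg.Agent.Lib.Helper23.MonDenseC

/-!
# Monomial groups, Case II: columns of non-monomial elements have at most one zero
-/

set_option autoImplicit false

namespace Cfsg.Agent.Lib.Helper23.MonDense

open Matrix

variable {F : Type*} [Field F] {n : ℕ}

/-- the diagonal with `a` at `j`, `a⁻¹` at `j'`, `1` elsewhere -/
def dpair (j j' : Fin n) (a : F) : Fin n → F :=
  fun l => if l = j then a else if l = j' then a⁻¹ else 1

theorem dpair_prod (j j' : Fin n) (hjj' : j ≠ j') (a : F) (ha : a ≠ 0) :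
    ∏ l, dpair j j' a l = 1 := by
  rw [Finset.prod_eq_mul j j' hjj']
  · simp only [dpair, if_pos rfl, if_neg hjj'.symm]
    exact mul_inv_cancel₀ ha
  · intro c _ hc
    simp only [dpair, if_neg hc.1, if_neg hc.2]
  · intro h; exact absurd (Finset.mem_univ _) h
  · intro h; exact absurd (Finset.mem_univ _) h

/-- four linearly independent vectors cannot agree off two coordinates with a vector having a
nonzero coordinate there -/
theorem four_in_three (u : Fin n → F) (j j' m₀ : Fin n) (hm₀ : u m₀ ≠ 0) (hm₀j : m₀ ≠ j)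
    (hm₀j' : m₀ ≠ j') (x : Fin 4 → Fin n → F) (hoff : ∀ t m, m ≠ j → m ≠ j' → x t m = u m)
    (hli : LinearIndependent F x) : False := by
  classical
  let P : (Fin n → F) →ₗ[F] (Fin 3 → F) :=
    LinearMap.pi ![LinearMap.proj j, LinearMap.proj j', LinearMap.proj m₀]
  have h5 : ¬ LinearIndependent F (fun t => P (x t)) := by
    intro h
    have := h.fintype_card_le_finrank
    simp at this
  obtain ⟨c, hc, t₀, ht₀⟩ := Fintype.not_linearIndependent_iff.mp h5
  have hz : ∑ t, c t • x t = 0 := by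
    have hP : P (∑ t, c t • x t) = 0 := by
      rw [map_sum]
      simp only [map_smul]
      exact hc
    have hPj := congrFun hP 0
    have hPj' := congrFun hP 1
    have hPm := congrFun hP 2
    simp only [P, LinearMap.pi_apply, Matrix.cons_val_zero, Matrix.cons_val_one,
      LinearMap.proj_apply, Pi.zero_apply, Finset.sum_apply, Pi.smul_apply, smul_eq_mul]
      at hPj hPj' hPm
    simp only [Matrix.cons_val, LinearMap.proj_apply, Finset.sum_apply, Pi.smul_apply,
      smul_eq_mul] at hPm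
    have hcs : ∑ t, c t = 0 := by
      have : ∑ t, c t * x t m₀ = (∑ t, c t) * u m₀ := by
        rw [Finset.sum_mul]
        exact Finset.sum_congr rfl (fun t _ => by rw [hoff t m₀ hm₀j hm₀j'])
      rw [this] at hPm
      exact (mul_eq_zero.mp hPm).resolve_right hm₀
    funext m
    simp only [Finset.sum_apply, Pi.smul_apply, smul_eq_mul, Pi.zero_apply]
    by_cases hmj : m = j
    · rw [hmj]; exact hPj
    by_cases hmj' : m = j'
    · rw [hmj']; exact hPj'
    have : ∑ t, c t * x t m = (∑ t, c t) * u m := by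
      rw [Finset.sum_mul]
      exact Finset.sum_congr rfl (fun t _ => by rw [hoff t m hmj hmj'])
    rw [this, hcs, zero_mul]
  exact ht₀ (Fintype.linearIndependent_iff.mp hli c hz t₀)

/-- the pair lemma: if a column of `k₀ ∈ K` vanishes at `j ≠ j'` then every column of `k₀`
vanishes at `j, j'` or is supported on `{j, j'}` -/
theorem pair_lemma {K : Subgroup (GL (Fin n) F)} (hK : Hyp K)
    (a : Fin 4 → F) (ha0 : ∀ t, a t ≠ 0) (hainj : Function.Injective a)
    (k₀ : GL (Fin n) F) (hk₀ : k₀ ∈ K) (i₀ j j' : Fin n) (hjj' : j ≠ j')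
    (h0 : (k₀ : Matrix (Fin n) (Fin n) F) j i₀ = 0)
    (h0' : (k₀ : Matrix (Fin n) (Fin n) F) j' i₀ = 0) (u : Fin n) :
    ((k₀ : Matrix (Fin n) (Fin n) F) j u = 0 ∧ (k₀ : Matrix (Fin n) (Fin n) F) j' u = 0) ∨
      (∀ m, m ≠ j → m ≠ j' → (k₀ : Matrix (Fin n) (Fin n) F) m u = 0) := by
  classical
  by_contra hcon
  push Not at hcon
  obtain ⟨h1, m₀, hm₀j, hm₀j', hm₀⟩ := hcon
  obtain ⟨x, hx⟩ : ∃ x, x = colv (k₀ : Matrix (Fin n) (Fin n) F) u := ⟨_, rfl⟩
  have hxa : ∀ l, (k₀ : Matrix (Fin n) (Fin n) F) l u = x l := fun l => by rw [hx]; rfl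
  rw [hxa] at hm₀
  rw [hxa, hxa] at h1
  have hmem : ∀ t, ∃ g : GL (Fin n) F, g ∈ K ∧
      (g : Matrix (Fin n) (Fin n) F) = Matrix.diagonal (dpair j j' (a t)) :=
    fun t => diag_mem hK _ (dpair_prod j j' hjj' (a t) (ha0 t))
  choose g hgK hgv using hmem
  have hfix : ∀ t, (g t : Matrix (Fin n) (Fin n) F) *ᵥ colv (k₀ : Matrix (Fin n) (Fin n) F) i₀ =
      colv (k₀ : Matrix (Fin n) (Fin n) F) i₀ := by
    intro t
    rw [hgv]
    funext l
    rw [Matrix.mulVec_diagonal]
    simp only [dpair, colv]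
    by_cases hl : l = j
    · rw [hl, h0, mul_zero]
    by_cases hl' : l = j'
    · rw [hl', h0', mul_zero]
    rw [if_neg hl, if_neg hl', one_mul]
  have htr := fun t => transfer hK k₀ (g t) hk₀ (hgK t) i₀ (hfix t) u
  choose jt c hc hjc using htr
  rw [← hx] at hjc
  obtain ⟨y, hy⟩ : ∃ y : Fin 4 → Fin n → F,
      y = fun t => (g t : Matrix (Fin n) (Fin n) F) *ᵥ x := ⟨_, rfl⟩
  have hyc : ∀ t, y t = c t • colv (k₀ : Matrix (Fin n) (Fin n) F) (jt t) := fun t => by
    rw [hy]; exact hjc t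
  have hyl : ∀ t l, y t l = dpair j j' (a t) l * x l := by
    intro t l
    rw [hy]
    show ((g t : Matrix (Fin n) (Fin n) F) *ᵥ x) l = _
    rw [hgv, Matrix.mulVec_diagonal]
  have hoff : ∀ t m, m ≠ j → m ≠ j' → y t m = x m := by
    intro t m hmj hmj'
    rw [hyl, dpair, if_neg hmj, if_neg hmj', one_mul]
  have hjt : Function.Injective jt := by
    intro s t hst
    apply hainj
    have e1 := hyc s
    have e2 := hyc t
    rw [hst] at e1
    have e3 : y s = (c s / c t) • y t := by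
      rw [e1, e2, smul_smul, div_mul_cancel₀ _ (hc t)]
    have e4 := congrFun e3 m₀
    rw [hoff s m₀ hm₀j hm₀j', Pi.smul_apply, hoff t m₀ hm₀j hm₀j', smul_eq_mul] at e4
    have e5 : c s / c t = 1 := by
      have : (c s / c t - 1) * x m₀ = 0 := by linear_combination -e4
      have := (mul_eq_zero.mp this).resolve_right hm₀
      linear_combination this
    rw [e5, one_smul] at e3
    have ej := congrFun e3 j
    have ej' := congrFun e3 j'
    rw [hyl, hyl] at ej ej'
    simp only [dpair, if_pos rfl, if_neg hjj'.symm] at ej ej'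
    by_cases hxj : x j = 0
    · have hxj' := h1 hxj
      exact inv_injective (mul_right_cancel₀ hxj' ej')
    · exact mul_right_cancel₀ hxj ej
  have hli : LinearIndependent F y := by
    have h1 : LinearIndependent F (colv (k₀ : Matrix (Fin n) (Fin n) F) ∘ jt) :=
      (colv_li k₀).comp jt hjt
    have h2 := h1.units_smul (fun t => Units.mk0 (c t) (hc t))
    have h3 : y = (fun t => Units.mk0 (c t) (hc t)) •
        (colv (k₀ : Matrix (Fin n) (Fin n) F) ∘ jt) := by
      funext t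
      rw [hyc t]
      rfl
    rw [h3]
    exact h2
  exact four_in_three x j j' m₀ hm₀ hm₀j hm₀j' y hoff hli

/-- (W): every column of a non-monomial element of `K` has at most one zero -/
theorem cols_dense {K : Subgroup (GL (Fin n) F)} (hK : Hyp K) (hn : 5 ≤ n)
    (a : Fin 4 → F) (ha0 : ∀ t, a t ≠ 0) (hainj : Function.Injective a)
    (k₀ : GL (Fin n) F) (hk₀ : k₀ ∈ K) (hmon : ¬ IsMon (k₀ : Matrix (Fin n) (Fin n) F))
    (i₀ : Fin n) : AtMostOneZero (colv (k₀ : Matrix (Fin n) (Fin n) F) i₀) := by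
  classical
  intro j j' hj hj'
  by_contra hjj'
  have P1 := pair_lemma hK a ha0 hainj k₀ hk₀ i₀ j j' hjj' hj hj'
  obtain ⟨u₁, hu₁⟩ := exists_row_ne k₀ j
  have hs1 : ∀ m, m ≠ j → m ≠ j' → (k₀ : Matrix (Fin n) (Fin n) F) m u₁ = 0 :=
    (P1 u₁).resolve_left (fun h => hu₁ h.1)
  have hcard : 2 < (Finset.univ \ ({j, j'} : Finset (Fin n))).card := by
    have h2 : ({j, j'} : Finset (Fin n)).card ≤ 2 := Finset.card_le_two
    have := Finset.card_sdiff_add_card_eq_card (Finset.subset_univ ({j, j'} : Finset (Fin n)))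
    rw [Finset.card_univ, Fintype.card_fin] at this
    omega
  obtain ⟨k₁, hk₁, k₂, hk₂, k₃, hk₃, h12, h13, h23⟩ := Finset.two_lt_card.mp hcard
  simp only [Finset.mem_sdiff, Finset.mem_univ, true_and, Finset.mem_insert, Finset.mem_singleton,
    not_or] at hk₁ hk₂ hk₃
  have P2 := pair_lemma hK a ha0 hainj k₀ hk₀ u₁ k₁ k₂ h12 (hs1 k₁ hk₁.1 hk₁.2)
    (hs1 k₂ hk₂.1 hk₂.2)
  have P3 := pair_lemma hK a ha0 hainj k₀ hk₀ u₁ k₁ k₃ h13 (hs1 k₁ hk₁.1 hk₁.2)
    (hs1 k₃ hk₃.1 hk₃.2)
  obtain ⟨u₂, hu₂⟩ := exists_row_ne k₀ k₁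
  have hs2 := (P2 u₂).resolve_left (fun h => hu₂ h.1)
  have hs3 := (P3 u₂).resolve_left (fun h => hu₂ h.1)
  apply hmon
  apply hK.hU k₀ hk₀ u₂ k₁
  intro l hl
  by_cases hl2 : l = k₂
  · rw [hl2]; exact hs3 k₂ h12.symm h23
  · exact hs2 l hl hl2

end Cfsg.Agent.Lib.Helper23.MonDense
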