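import Mathlib
import Cfsg.Agent.Lib.Helper23.MonDenseD

/-!
# Monomial groups, Case II: no column of full weight, and every column has exactly one zero
-/

set_option autoImplicit false

namespace Cfsg.Agent.Lib.Helper23.MonDense

open Matrix

variable {F : Type*} [Field F] {n : ℕ}

theorem li_scale (col : Fin n → Fin n → F) (li : LinearIndependent F col) (d : Fin n → F)
    (hd : ∀ l, d l ≠ 0) : LinearIndependent F (fun j l => col j l / d l) := by
  rw [Fintype.linearIndependent_iff] at li ⊢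
  intro c hc
  apply li c
  funext l
  have := congrFun hc l
  simp only [Finset.sum_apply, Pi.smul_apply, smul_eq_mul, Pi.zero_apply] at this ⊢
  have e : ∑ j, c j * (col j l / d l) = (∑ j, c j * col j l) / d l := by
    rw [Finset.sum_div]; exact Finset.sum_congr rfl (fun j _ => by rw [mul_div_assoc])
  rw [e, div_eq_zero_iff] at this
  exact this.resolve_right (hd l)

/-- a monomial element `monMat d σ` fixing the column `i₀` of `k₀` permutes the rescaled columns -/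
theorem inv_of_fix {K : Subgroup (GL (Fin n) F)} (hK : Hyp K) (k₀ : GL (Fin n) F) (hk₀ : k₀ ∈ K)
    (i₀ : Fin n) (d : Fin n → F) (hd : ∀ l, d l ≠ 0) (σ : Equiv.Perm (Fin n))
    (hσ : Equiv.Perm.sign σ = 1)
    (hfix : ∀ l, d l / d (σ l) * (k₀ : Matrix (Fin n) (Fin n) F) (σ l) i₀ =
      (k₀ : Matrix (Fin n) (Fin n) F) l i₀) (j : Fin n) :
    ∃ (j' : Fin n) (lam : F),
      pm σ (fun l => colv (k₀ : Matrix (Fin n) (Fin n) F) j l / d l) =
        lam • (fun l => colv (k₀ : Matrix (Fin n) (Fin n) F) j' l / d l) := by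
  obtain ⟨g, hgK, hgv⟩ := monMat_mem hK d hd σ hσ
  have hf : (g : Matrix (Fin n) (Fin n) F) *ᵥ colv (k₀ : Matrix (Fin n) (Fin n) F) i₀ =
      colv (k₀ : Matrix (Fin n) (Fin n) F) i₀ := by
    funext l
    rw [hgv, monMat_mulVec]
    exact hfix l
  obtain ⟨j', c, hc, hjc⟩ := transfer hK k₀ g hk₀ hgK i₀ hf j
  refine ⟨j', c, ?_⟩
  funext l
  have := congrFun hjc l
  rw [hgv, monMat_mulVec, Pi.smul_apply, smul_eq_mul] at this
  simp only [pm, Pi.smul_apply, smul_eq_mul]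
  have h1 := hd l
  have h2 := hd (σ l)
  field_simp
  field_simp at this
  linear_combination this

theorem isMon_col_unique {A : Matrix (Fin n) (Fin n) F} (hA : IsMon A) {l l' j : Fin n}
    (h : A l j ≠ 0) (h' : A l' j ≠ 0) : l = l' := by
  obtain ⟨π, hπ⟩ := hA
  rw [hπ l j h, hπ l' j h']

/-- K-level (B): no element of `K` outside the monomial group has a column without zeros -/
theorem no_full_col {K : Subgroup (GL (Fin n) F)} (hK : Hyp K) (hn : 6 ≤ n)
    (a : Fin 4 → F) (ha0 : ∀ t, a t ≠ 0) (hainj : Function.Injective a)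
    (k₀ : GL (Fin n) F) (hk₀ : k₀ ∈ K) (i₀ : Fin n)
    (hfull : ∀ l, (k₀ : Matrix (Fin n) (Fin n) F) l i₀ ≠ 0) : False := by
  classical
  have hmon : ¬ IsMon (k₀ : Matrix (Fin n) (Fin n) F) := by
    intro h
    have := isMon_col_unique h (hfull ⟨0, by omega⟩) (hfull ⟨1, by omega⟩)
    simp [Fin.ext_iff] at this
  obtain ⟨d, hd⟩ : ∃ d : Fin n → F, d = fun l => (k₀ : Matrix (Fin n) (Fin n) F) l i₀ := ⟨_, rfl⟩
  have hd0 : ∀ l, d l ≠ 0 := fun l => by rw [hd]; exact hfull l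
  obtain ⟨col, hcol⟩ : ∃ col : Fin n → Fin n → F,
      col = fun j l => colv (k₀ : Matrix (Fin n) (Fin n) F) j l / d l := ⟨_, rfl⟩
  have li : LinearIndependent F col := by
    rw [hcol]; exact li_scale _ (colv_li k₀) d hd0
  have inv : Inv Finset.univ col := by
    intro a' b c e _ _ _ _ hab hce j
    rw [hcol]
    apply inv_of_fix hK k₀ hk₀ i₀ d hd0 (sw2 a' b c e) (sign_sw2 a' b c e hab hce)
    intro l
    have h2 := hd0 (sw2 a' b c e l)
    have e1 : (k₀ : Matrix (Fin n) (Fin n) F) (sw2 a' b c e l) i₀ = d (sw2 a' b c e l) := by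
      rw [hd]
    have e2 : (k₀ : Matrix (Fin n) (Fin n) F) l i₀ = d l := by rw [hd]
    rw [e1, e2, div_mul_cancel₀ _ h2]
  have hbase : ∀ l, col i₀ l = 1 := by
    intro l
    rw [hcol]
    show colv (k₀ : Matrix (Fin n) (Fin n) F) i₀ l / d l = 1
    have : colv (k₀ : Matrix (Fin n) (Fin n) F) i₀ l = d l := by rw [hd]; rfl
    rw [this, div_self (hd0 l)]
  obtain ⟨j₁, hj₁⟩ : ∃ j₁ : Fin n, j₁ ≠ i₀ := by
    by_cases h : i₀ = ⟨0, by omega⟩
    · exact ⟨⟨1, by omega⟩, by rw [h]; simp [Fin.ext_iff]⟩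
    · exact ⟨⟨0, by omega⟩, fun h' => h h'.symm⟩
  have h1 : AtMostOneZero (col j₁) := by
    have hW := cols_dense hK (by omega) a ha0 hainj k₀ hk₀ hmon j₁
    intro l l' hl hl'
    apply hW l l'
    · rw [hcol] at hl
      exact (div_eq_zero_iff.mp hl).resolve_right (hd0 l)
    · rw [hcol] at hl'
      exact (div_eq_zero_iff.mp hl').resolve_right (hd0 l')
  exact no_full hn col li inv i₀ hbase j₁ hj₁ h1

/-- every column of a non-monomial element of `K` has exactly one zero -/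
theorem exists_unique_zero {K : Subgroup (GL (Fin n) F)} (hK : Hyp K) (hn : 6 ≤ n)
    (a : Fin 4 → F) (ha0 : ∀ t, a t ≠ 0) (hainj : Function.Injective a)
    (k₀ : GL (Fin n) F) (hk₀ : k₀ ∈ K) (hmon : ¬ IsMon (k₀ : Matrix (Fin n) (Fin n) F))
    (i₀ : Fin n) :
    ∃ j₀, (k₀ : Matrix (Fin n) (Fin n) F) j₀ i₀ = 0 ∧
      ∀ l, l ≠ j₀ → (k₀ : Matrix (Fin n) (Fin n) F) l i₀ ≠ 0 := by
  have h1 : ∃ j₀, (k₀ : Matrix (Fin n) (Fin n) F) j₀ i₀ = 0 := by
    by_contra h
    push Not at h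
    exact no_full_col hK hn a ha0 hainj k₀ hk₀ i₀ h
  obtain ⟨j₀, hj₀⟩ := h1
  refine ⟨j₀, hj₀, fun l hl h0 => hl ?_⟩
  exact cols_dense hK (by omega) a ha0 hainj k₀ hk₀ hmon i₀ l j₀ h0 hj₀

end Cfsg.Agent.Lib.Helper23.MonDense
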