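import Mathlib
import Cfsg.Agent.Lib.Helper23.MonDenseE

/-!
# Monomial groups, Case II: the complement frame and the final contradiction

`caseII`: if `K ≤ GL_n(F)` (`|F| ≥ 5`, `n ≥ 6`) contains all monomial matrices of determinant one
and every element of `K` with a column supported on one coordinate is monomial, then `K` consists
of monomial matrices.
-/

set_option autoImplicit false

namespace Cfsg.Agent.Lib.Helper23.MonDense

open Matrix

variable {F : Type*} [Field F] {n : ℕ}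

/-- `𝟙 - e_l` -/
def wc (l : Fin n) : Fin n → F := fun m => if m = l then 0 else 1

theorem sum_wc (m : Fin n) : ∑ l, (wc l m : F) = (n : F) - 1 := by
  classical
  have : ∀ l : Fin n, (wc l m : F) = 1 - (if l = m then 1 else 0) := by
    intro l
    simp only [wc]
    by_cases h : m = l
    · rw [if_pos h, if_pos h.symm, sub_self]
    · rw [if_neg h, if_neg (Ne.symm h), sub_zero]
  rw [Finset.sum_congr rfl (fun l _ => this l), Finset.sum_sub_distrib, Finset.sum_const,
    Finset.card_univ, Fintype.card_fin, Finset.sum_ite_eq']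
  simp

theorem mulVec_sum' (A : Matrix (Fin n) (Fin n) F) (f : Fin n → Fin n → F) :
    A *ᵥ (∑ l, f l) = ∑ l, A *ᵥ f l := by
  have := map_sum (Matrix.mulVecLin A) f Finset.univ
  simpa only [Matrix.mulVecLin_apply] using this

/-- if the columns of `k₀ ∈ K` form a "complement frame" `μ_l • d₂ • (𝟙 - e_l)` then every
`a ≠ 0, 1` is a root of `X² + (n - 3) X + 1` -/
theorem complement_quadratic {K : Subgroup (GL (Fin n) F)} (hK : Hyp K) (hn : 6 ≤ n)
    (a4 : Fin 4 → F) (ha0 : ∀ t, a4 t ≠ 0) (hainj : Function.Injective a4)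
    (k₀ : GL (Fin n) F) (hk₀ : k₀ ∈ K)
    (d₂ : Fin n → F) (hd₂ : ∀ m, d₂ m ≠ 0) (c : Fin n → Fin n) (μ : Fin n → F)
    (hμ : ∀ l, μ l ≠ 0)
    (hcol : ∀ l m, (k₀ : Matrix (Fin n) (Fin n) F) m (c l) = μ l * d₂ m * wc l m)
    (a : F) (ha : a ≠ 0) (ha1 : a ≠ 1) : a ^ 2 + ((n : F) - 3) * a + 1 = 0 := by
  classical
  by_contra hP
  -- `c` is injective
  have hcinj : Function.Injective c := by
    intro l l' h
    by_contra hne
    have e1 := hcol l l
    have e2 := hcol l' l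
    rw [h] at e1
    rw [e1] at e2
    simp only [wc, if_pos, if_neg hne, mul_zero, mul_one] at e2
    exact mul_ne_zero (hμ l') (hd₂ l) e2.symm
  obtain ⟨N, hNdef⟩ : ∃ N : F, N = (n : F) - 1 := ⟨_, rfl⟩
  have hμk : ∀ l m, (μ l)⁻¹ * (k₀ : Matrix (Fin n) (Fin n) F) m (c l) = d₂ m * wc l m := by
    intro l m
    rw [hcol, ← mul_assoc, ← mul_assoc, inv_mul_cancel₀ (hμ l), one_mul]
  have hN : N ≠ 0 := by
    intro h0
    have li : LinearIndependent F (colv (k₀ : Matrix (Fin n) (Fin n) F) ∘ c) :=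
      (colv_li k₀).comp c hcinj
    rw [Fintype.linearIndependent_iff] at li
    have h1 : ∑ l, (fun l => (μ l)⁻¹) l • (colv (k₀ : Matrix (Fin n) (Fin n) F) ∘ c) l = 0 := by
      funext m
      simp only [Finset.sum_apply, Pi.smul_apply, Function.comp, colv, smul_eq_mul, Pi.zero_apply]
      rw [Finset.sum_congr rfl (fun l _ => hμk l m), ← Finset.mul_sum, sum_wc, ← hNdef, h0,
        mul_zero]
    exact inv_ne_zero (hμ _) (li (fun l => (μ l)⁻¹) h1 ⟨0, by omega⟩)
  -- the three indices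
  obtain ⟨j, hj⟩ : ∃ j : Fin n, j = ⟨0, by omega⟩ := ⟨_, rfl⟩
  obtain ⟨l₁, hl₁⟩ : ∃ j : Fin n, j = ⟨1, by omega⟩ := ⟨_, rfl⟩
  obtain ⟨l₂, hl₂⟩ : ∃ j : Fin n, j = ⟨2, by omega⟩ := ⟨_, rfl⟩
  have hj1 : j ≠ l₁ := by rw [hj, hl₁]; simp [Fin.ext_iff]
  have hj2 : j ≠ l₂ := by rw [hj, hl₂]; simp [Fin.ext_iff]
  have h12 : l₁ ≠ l₂ := by rw [hl₁, hl₂]; simp [Fin.ext_iff]
  -- the torus element
  obtain ⟨δ, hδdef⟩ : ∃ δ : Fin n → F, δ = dpair (c l₁) (c l₂) a := ⟨_, rfl⟩
  obtain ⟨g, hgK, hgv⟩ := diag_mem hK δ (by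
    rw [hδdef]; exact dpair_prod _ _ (fun h => h12 (hcinj h)) a ha)
  obtain ⟨t, htdef⟩ : ∃ t : GL (Fin n) F, t = k₀ * g * k₀⁻¹ := ⟨_, rfl⟩
  have htK : t ∈ K := by
    rw [htdef]; exact K.mul_mem (K.mul_mem hk₀ hgK) (K.inv_mem hk₀)
  have hE1 : ∀ i, (t : Matrix (Fin n) (Fin n) F) *ᵥ colv (k₀ : Matrix (Fin n) (Fin n) F) i =
      δ i • colv (k₀ : Matrix (Fin n) (Fin n) F) i := by
    intro i
    have hval : (t : Matrix (Fin n) (Fin n) F) = (k₀ : Matrix (Fin n) (Fin n) F) *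
        (g : Matrix (Fin n) (Fin n) F) * ((k₀⁻¹ : GL (Fin n) F) : Matrix (Fin n) (Fin n) F) := by
      rw [htdef, Units.val_mul, Units.val_mul]
    have hd : Matrix.diagonal δ *ᵥ Pi.single i (1 : F) = δ i • Pi.single i (1 : F) := by
      funext l
      rw [Matrix.mulVec_diagonal, Pi.smul_apply, smul_eq_mul]
      by_cases hl : l = i
      · rw [hl]
      · rw [Pi.single_apply, if_neg hl, mul_zero, mul_zero]
    rw [colv_eq_mulVec, Matrix.mulVec_mulVec, hval, mul_assoc, GL_inv_mul_val, mul_one,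
      ← Matrix.mulVec_mulVec, hgv, hd, Matrix.mulVec_smul]
  -- the decomposition of `e_j`
  obtain ⟨G, hG⟩ : ∃ G : (Fin n → F) → Fin n → F, G = fun ω =>
      ∑ l, (N⁻¹ * ω l * (μ l)⁻¹) • colv (k₀ : Matrix (Fin n) (Fin n) F) (c l) -
        (ω j * (μ j)⁻¹) • colv (k₀ : Matrix (Fin n) (Fin n) F) (c j) := ⟨_, rfl⟩
  have hGm : ∀ ω m, G ω m = d₂ m * (N⁻¹ * ∑ l, ω l * wc l m - ω j * wc j m) := by
    intro ω m
    rw [hG]
    simp only [Pi.sub_apply, Finset.sum_apply, Pi.smul_apply, smul_eq_mul, colv]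
    have h1 : ∀ l, N⁻¹ * ω l * (μ l)⁻¹ * (k₀ : Matrix (Fin n) (Fin n) F) m (c l) =
        d₂ m * N⁻¹ * (ω l * wc l m) := by
      intro l
      rw [mul_assoc, hμk]; ring
    rw [Finset.sum_congr rfl (fun l _ => h1 l), ← Finset.mul_sum, mul_assoc (ω j), hμk]
    ring
  have hE2 : Pi.single j (d₂ j) = G (fun _ => 1) := by
    funext m
    rw [hGm]
    simp only [one_mul, sum_wc]
    rw [← hNdef, inv_mul_cancel₀ hN]
    by_cases hm : m = j
    · rw [hm, Pi.single_eq_same, wc, if_pos rfl, sub_zero, mul_one]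
    · rw [Pi.single_eq_of_ne hm, wc, if_neg hm, sub_self, mul_zero]
  have hE3 : (t : Matrix (Fin n) (Fin n) F) *ᵥ G (fun _ => 1) = G (fun l => δ (c l)) := by
    rw [hG]
    simp only [Matrix.mulVec_sub, mulVec_sum', Matrix.mulVec_smul, hE1, smul_smul, mul_one]
    congr 1
    · exact Finset.sum_congr rfl (fun l _ => by ring_nf)
    · ring_nf
  have hδ : ∀ l, δ (c l) = 1 + (if l = l₁ then a - 1 else 0) + (if l = l₂ then a⁻¹ - 1 else 0) := by
    intro l
    rw [hδdef]
    simp only [dpair, hcinj.eq_iff]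
    by_cases h1 : l = l₁
    · rw [if_pos h1, if_pos h1, if_neg (h1 ▸ h12)]; ring
    · rw [if_neg h1, if_neg h1]
      by_cases h2 : l = l₂
      · rw [if_pos h2, if_pos h2]; ring
      · rw [if_neg h2, if_neg h2]; ring
  have hsum : ∀ m, ∑ l, δ (c l) * wc l m = N + (a - 1) * wc l₁ m + (a⁻¹ - 1) * wc l₂ m := by
    intro m
    simp only [hδ, add_mul, one_mul, ite_mul, zero_mul, Finset.sum_add_distrib,
      Finset.sum_ite_eq', Finset.mem_univ, if_true, sum_wc]
    rw [hNdef]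
  have hδj : δ (c j) = 1 := by
    rw [hδ, if_neg hj1, if_neg hj2]; ring
  have hcolt : ∀ m, (t : Matrix (Fin n) (Fin n) F) m j * d₂ j =
      d₂ m * (N⁻¹ * (N + (a - 1) * wc l₁ m + (a⁻¹ - 1) * wc l₂ m) - wc j m) := by
    intro m
    have h1 := congrFun hE3 m
    rw [← hE2, hGm, hsum, hδj, one_mul] at h1
    rw [← h1]
    simp [Matrix.mulVec, dotProduct, Pi.single_apply]
  -- all entries of column `j` of `t` are nonzero
  have ha1' : a - 1 ≠ 0 := sub_ne_zero.mpr ha1
  have hai1' : a⁻¹ - 1 ≠ 0 := by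
    intro h
    apply ha1
    have : a⁻¹ = 1 := by linear_combination h
    rw [← inv_inv a, this, inv_one]
  have hfull : ∀ m, (t : Matrix (Fin n) (Fin n) F) m j ≠ 0 := by
    intro m h0
    have h1 := hcolt m
    rw [h0, zero_mul] at h1
    have h2 := (mul_eq_zero.mp h1.symm).resolve_left (hd₂ m)
    by_cases hmj : m = j
    · rw [hmj] at h2
      simp only [wc, if_neg hj1, if_neg hj2, if_pos, mul_one, sub_zero] at h2
      have h3 := (mul_eq_zero.mp h2).resolve_left (inv_ne_zero hN)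
      apply hP
      have : a * (N + (a - 1) + (a⁻¹ - 1)) = 0 := by rw [h3, mul_zero]
      rw [hNdef] at this
      field_simp at this
      linear_combination this
    by_cases hm1 : m = l₁
    · rw [hm1] at h2
      simp only [wc, if_neg h12, if_neg (Ne.symm hj1), if_pos, mul_one, mul_zero, add_zero] at h2
      have : N⁻¹ * (a⁻¹ - 1) = 0 := by
        have e : N⁻¹ * (N + (a⁻¹ - 1)) - 1 = N⁻¹ * (a⁻¹ - 1) := by
          field_simp; ring
        rw [← e]; exact h2
      exact mul_ne_zero (inv_ne_zero hN) hai1' this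
    by_cases hm2 : m = l₂
    · rw [hm2] at h2
      simp only [wc, if_neg (Ne.symm h12), if_neg (Ne.symm hj2), if_pos, mul_one, mul_zero,
        add_zero] at h2
      have : N⁻¹ * (a - 1) = 0 := by
        have e : N⁻¹ * (N + (a - 1)) - 1 = N⁻¹ * (a - 1) := by
          field_simp; ring
        rw [← e]; exact h2
      exact mul_ne_zero (inv_ne_zero hN) ha1' this
    · simp only [wc, if_neg hmj, if_neg hm1, if_neg hm2, mul_one] at h2
      have : N⁻¹ * ((a - 1) * (a⁻¹ - 1)) = 0 := by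
        have e : N⁻¹ * (N + (a - 1) + (a⁻¹ - 1)) - 1 = - (N⁻¹ * ((a - 1) * (a⁻¹ - 1))) := by
          field_simp; ring
        rw [e] at h2
        exact neg_eq_zero.mp h2
      exact mul_ne_zero (inv_ne_zero hN) (mul_ne_zero ha1' hai1') this
  exact no_full_col hK hn a4 ha0 hainj t htK j hfull

end Cfsg.Agent.Lib.Helper23.MonDense
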