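import Mathlib
import Cfsg.Agent.Lib.Helper23.MonDenseF

/-!
# Monomial groups, Case II: main theorem

`caseII`: if `K ≤ GL_n(F)` (`|F| ≥ 5`, `n ≥ 6`) contains all monomial matrices of determinant one
(`Hyp.hH`) and every element of `K` with a column supported on one coordinate is monomial
(`Hyp.hU`), then `K` consists of monomial matrices.
-/

set_option autoImplicit false

namespace Cfsg.Agent.Lib.Helper23.MonDense

open Matrix

variable {F : Type*} [Field F] {n : ℕ}

theorem quad_two_roots {B x y : F} (hxy : x ≠ y) (hx : x ^ 2 + B * x + 1 = 0)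
    (hy : y ^ 2 + B * y + 1 = 0) : x + y = -B := by
  have h : (x - y) * (x + y + B) = 0 := by linear_combination hx - hy
  have := (mul_eq_zero.mp h).resolve_left (sub_ne_zero.mpr hxy)
  linear_combination this

theorem caseII_of_units {K : Subgroup (GL (Fin n) F)} (hK : Hyp K) (hn : 6 ≤ n)
    (a : Fin 4 → F) (ha0 : ∀ t, a t ≠ 0) (hainj : Function.Injective a)
    (k : GL (Fin n) F) (hk : k ∈ K) : IsMon (k : Matrix (Fin n) (Fin n) F) := by
  classical
  by_contra hmon
  obtain ⟨i₀, _⟩ : ∃ i₀ : Fin n, i₀ = ⟨0, by omega⟩ := ⟨_, rfl⟩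
  obtain ⟨j₀, hj₀, hne⟩ := exists_unique_zero hK hn a ha0 hainj k hk hmon i₀
  obtain ⟨d₀, hd₀⟩ : ∃ d₀ : Fin n → F,
      d₀ = fun l => if l = j₀ then 1 else (k : Matrix (Fin n) (Fin n) F) l i₀ := ⟨_, rfl⟩
  have hd₀j : d₀ j₀ = 1 := by rw [hd₀]; simp
  have hd₀l : ∀ l, l ≠ j₀ → d₀ l = (k : Matrix (Fin n) (Fin n) F) l i₀ := by
    intro l hl; rw [hd₀]; simp [hl]
  have hd₀0 : ∀ l, d₀ l ≠ 0 := by
    intro l
    by_cases hl : l = j₀
    · rw [hl, hd₀j]; exact one_ne_zero
    · rw [hd₀l l hl]; exact hne l hl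
  obtain ⟨col, hcol⟩ : ∃ col : Fin n → Fin n → F,
      col = fun j l => colv (k : Matrix (Fin n) (Fin n) F) j l / d₀ l := ⟨_, rfl⟩
  have hcolapp : ∀ j l, col j l = (k : Matrix (Fin n) (Fin n) F) l j / d₀ l := by
    intro j l; rw [hcol]; rfl
  have li : LinearIndependent F col := by
    rw [hcol]; exact li_scale _ (colv_li k) d₀ hd₀0
  have inv : Inv (Finset.univ.erase j₀) col := by
    intro a' b c e ha' hb hc he hab hce j
    have ha'0 : j₀ ≠ a' := (Finset.mem_erase.mp ha').1.symm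
    have hb0 : j₀ ≠ b := (Finset.mem_erase.mp hb).1.symm
    have hc0 : j₀ ≠ c := (Finset.mem_erase.mp hc).1.symm
    have he0 : j₀ ≠ e := (Finset.mem_erase.mp he).1.symm
    rw [hcol]
    apply inv_of_fix hK k hk i₀ d₀ hd₀0 (sw2 a' b c e) (sign_sw2 a' b c e hab hce)
    intro l
    by_cases hl : l = j₀
    · have : sw2 a' b c e l = j₀ := by
        rw [hl]; exact sw2_of_notMem a' b c e j₀ ha'0 hb0 hc0 he0
      rw [this, hl, hj₀, mul_zero]
    · have hσl : sw2 a' b c e l ≠ j₀ := fun h =>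
        hl ((sw2_fix_iff a' b c e j₀ ha'0 hb0 hc0 he0 l).mp h)
      rw [← hd₀l _ hσl, ← hd₀l l hl, div_mul_cancel₀ _ (hd₀0 _)]
  have hbase : ∀ l, col i₀ l = if l = j₀ then 0 else 1 := by
    intro l
    rw [hcolapp]
    by_cases hl : l = j₀
    · rw [if_pos hl, hl, hj₀, zero_div]
    · rw [if_neg hl, ← hd₀l l hl, div_self (hd₀0 l)]
  obtain ⟨j₁, hj₁⟩ := exists_row_ne k j₀
  have hγ : col j₁ j₀ ≠ 0 := by
    rw [hcolapp]; exact div_ne_zero hj₁ (hd₀0 j₀)
  have h1 : AtMostOneZero (col j₁) := by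
    have hW := cols_dense hK (by omega) a ha0 hainj k hk hmon j₁
    intro l l' hl hl'
    apply hW l l'
    · rw [hcolapp] at hl
      exact (div_eq_zero_iff.mp hl).resolve_right (hd₀0 l)
    · rw [hcolapp] at hl'
      exact (div_eq_zero_iff.mp hl').resolve_right (hd₀0 l')
  obtain ⟨z, hz, _⟩ := exists_unique_zero hK hn a ha0 hainj k hk hmon j₁
  have hz' : col j₁ z = 0 := by rw [hcolapp, hz, zero_div]
  obtain ⟨γ', hγ', hshape⟩ := shape_C hn j₀ col li inv i₀ hbase j₁ hγ h1 z hz'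
  choose c μ hμ hc using hshape
  obtain ⟨d₂, hd₂⟩ : ∃ d₂ : Fin n → F,
      d₂ = fun m => d₀ m * (if m = j₀ then γ' else 1) := ⟨_, rfl⟩
  have hd₂0 : ∀ m, d₂ m ≠ 0 := by
    intro m
    rw [hd₂]
    apply mul_ne_zero (hd₀0 m)
    by_cases hm : m = j₀
    · rw [if_pos hm]; exact hγ'
    · rw [if_neg hm]; exact one_ne_zero
  have hcol2 : ∀ l m, (k : Matrix (Fin n) (Fin n) F) m (c l) = μ l * d₂ m * wc l m := by
    intro l m
    have := congrFun (hc l) m
    rw [hcolapp] at this
    simp only [Pi.smul_apply, smul_eq_mul, wv] at this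
    rw [div_eq_iff (hd₀0 m)] at this
    have hd₂m : d₂ m = d₀ m * (if m = j₀ then γ' else 1) := by rw [hd₂]
    rw [this, hd₂m]
    simp only [wc]
    by_cases hml : m = l
    · rw [if_pos hml, if_pos hml]; ring
    · rw [if_neg hml, if_neg hml]
      by_cases hm0 : m = j₀
      · rw [if_pos hm0]; ring
      · rw [if_neg hm0]; ring
  have hquad : ∀ b : F, b ≠ 0 → b ≠ 1 → b ^ 2 + ((n : F) - 3) * b + 1 = 0 := fun b hb hb1 =>
    complement_quadratic hK hn a ha0 hainj k hk d₂ hd₂0 c μ hμ hcol2 b hb hb1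
  have key : ∀ s t u : Fin 4, s ≠ t → s ≠ u → t ≠ u → a s ≠ 1 → a t ≠ 1 → a u ≠ 1 → False := by
    intro s t u hst hsu htu hs ht hu
    have e1 := quad_two_roots (fun h => hst (hainj h)) (hquad _ (ha0 s) hs) (hquad _ (ha0 t) ht)
    have e2 := quad_two_roots (fun h => hsu (hainj h)) (hquad _ (ha0 s) hs) (hquad _ (ha0 u) hu)
    apply htu
    apply hainj
    linear_combination e1 - e2
  have hne1 : ∀ s t : Fin 4, s ≠ t → a s = 1 → a t ≠ 1 := fun s t hst hs ht =>
    hst (hainj (hs.trans ht.symm))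
  by_cases h0 : a 0 = 1
  · exact key 1 2 3 (by decide) (by decide) (by decide) (hne1 0 1 (by decide) h0)
      (hne1 0 2 (by decide) h0) (hne1 0 3 (by decide) h0)
  by_cases h1' : a 1 = 1
  · exact key 0 2 3 (by decide) (by decide) (by decide) h0 (hne1 1 2 (by decide) h1')
      (hne1 1 3 (by decide) h1')
  by_cases h2 : a 2 = 1
  · exact key 0 1 3 (by decide) (by decide) (by decide) h0 h1' (hne1 2 3 (by decide) h2)
  · exact key 0 1 2 (by decide) (by decide) (by decide) h0 h1' h2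

/-- **Case II of the monomial case**: if `K ≤ GL_n(F)`, `|F| ≥ 5`, `n ≥ 6`, contains all monomial
matrices of determinant one and every element of `K` with a column supported on one coordinate is
monomial, then all elements of `K` are monomial. -/
theorem caseII [Fintype F] {K : Subgroup (GL (Fin n) F)} (hK : Hyp K) (hn : 6 ≤ n)
    (hq : 4 < Fintype.card F) (k : GL (Fin n) F) (hk : k ∈ K) :
    IsMon (k : Matrix (Fin n) (Fin n) F) := by
  classical
  have hcard : Fintype.card (Fin 4) ≤ Fintype.card Fˣ := by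
    rw [Fintype.card_units, Fintype.card_fin]; omega
  obtain ⟨e⟩ := Function.Embedding.nonempty_of_card_le hcard
  exact caseII_of_units hK hn (fun t => (e t : F)) (fun t => (e t).ne_zero)
    (fun s t h => e.injective (Units.ext h)) k hk

end Cfsg.Agent.Lib.Helper23.MonDense
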