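import Mathlib
import Cfsg.Prelude.Def_GeometricClasses
import Cfsg.Agent.Lib.Helper18.MonDefs
import Cfsg.Agent.Lib.Helper23.MonDenseG

/-!
# MonMax FO-DENSE and FO-SPARSE (exact signatures of `notes/MonMaxSkel_helper18.lean.txt`)

Both follow from `mono_of_U`: under `Over K` and `(U)` every element of `K` is monomial
(`Cfsg.Agent.Lib.Helper23.MonDense.caseII`).
-/

set_option autoImplicit false

namespace Cfsg.Agent.Lib.Helper23.MonMax

open Matrix Cfsg.Agent.Lib.Helper18.Mon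

variable {F : Type*} [Field F] [Fintype F]

/-- the whole Case II: under `(U)` every element of `K` is monomial -/
theorem mono_of_U {n : ℕ} (hq : 5 ≤ Fintype.card F) (hn : 6 ≤ n)
    (K : Subgroup (GL (Fin n) F)) (hK : Over K)
    (hU : ∀ k ∈ K, (∃ c, ColSparse (k : Matrix (Fin n) (Fin n) F) c) →
      IsMono (k : Matrix (Fin n) (Fin n) F)) :
    ∀ k ∈ K, IsMono (k : Matrix (Fin n) (Fin n) F) := by
  have hyp : Cfsg.Agent.Lib.Helper23.MonDense.Hyp K := by
    constructor
    · intro g hg hdet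
      exact hK.mul_mono hg hdet
    · intro k hk i j h
      exact hU k hk ⟨i, j, h⟩
  intro k hk
  exact Cfsg.Agent.Lib.Helper23.MonDense.caseII hyp hn (by omega) k hk

omit [Fintype F] in
theorem colSparse_of_isMono {n : ℕ} {g : Matrix (Fin n) (Fin n) F} (hg : IsMono g) (c : Fin n) :
    ColSparse g c := by
  obtain ⟨π, hπ⟩ := hg
  refine ⟨π c, fun l hl => ?_⟩
  by_contra h
  exact hl (hπ l c h)

/-- FO-SPARSE, exact signature -/
theorem sparse {n : ℕ} (hq : 5 ≤ Fintype.card F) (hn : 13 ≤ n)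
    (K : Subgroup (GL (Fin n) F)) (hK : Over K)
    (hU : ∀ k ∈ K, (∃ c, ColSparse (k : Matrix (Fin n) (Fin n) F) c) →
      IsMono (k : Matrix (Fin n) (Fin n) F)) :
    ∀ k ∈ K, ∀ c, ColSparse (k : Matrix (Fin n) (Fin n) F) c ∨
      ColDense (k : Matrix (Fin n) (Fin n) F) c := by
  intro k hk c
  exact Or.inl (colSparse_of_isMono (mono_of_U hq (by omega) K hK hU k hk) c)

/-- FO-DENSE, exact signature -/
theorem dense {n : ℕ} (hq : 5 ≤ Fintype.card F) (hn : 13 ≤ n)
    (K : Subgroup (GL (Fin n) F)) (hK : Over K)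
    (hU : ∀ k ∈ K, (∃ c, ColSparse (k : Matrix (Fin n) (Fin n) F) c) →
      IsMono (k : Matrix (Fin n) (Fin n) F))
    (hS : ∀ k ∈ K, ∀ c, ColSparse (k : Matrix (Fin n) (Fin n) F) c ∨
      ColDense (k : Matrix (Fin n) (Fin n) F) c) :
    ∀ k ∈ K, ∀ c, ColSparse (k : Matrix (Fin n) (Fin n) F) c := by
  intro k hk c
  exact colSparse_of_isMono (mono_of_U hq (by omega) K hK hU k hk) c

end Cfsg.Agent.Lib.Helper23.MonMax
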