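import Mathlib

/-!
Lifts of `2`-elements through a central extension whose kernel consists of elements of odd order
(generic lemmas, helper23).

`σ : Γ →* G`.  `OddKer σ`: every element of the kernel has odd order.  `IsTwoEl y`: some `2`-power kills `y`.
A `2`-element of `G` has a lift which is a `2`-element (`exists_lift`), unique when the kernel is central
(`lift_unique`); so every relation of `G` both of whose sides are evaluated at `2`-elements of `Γ` lifts exactly.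
-/

set_option autoImplicit false

namespace Cfsg.Agent.Lib.Helper23.OddLift

variable {Γ G : Type*} [Group Γ] [Group G]

/-- every element of the kernel has odd order -/
def OddKer (σ : Γ →* G) : Prop := ∀ k ∈ σ.ker, ∃ m : ℕ, Odd m ∧ k ^ m = 1

/-- some power of two kills `y` -/
def IsTwoEl (y : Γ) : Prop := ∃ j : ℕ, y ^ (2 ^ j) = 1

theorem oddKer_of_isPGroup {σ : Γ →* G} {p : ℕ} (hp : Odd p) (hk : IsPGroup p σ.ker) : OddKer σ := by
  intro k hkk
  obtain ⟨j, hj⟩ := hk ⟨k, hkk⟩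
  refine ⟨p ^ j, hp.pow, ?_⟩
  have := congrArg Subtype.val hj
  simpa using this

theorem oddKer_of_odd_card {σ : Γ →* G} [Finite σ.ker] (h : Odd (Nat.card σ.ker)) : OddKer σ := by
  intro k hkk
  refine ⟨Nat.card σ.ker, h, ?_⟩
  have := pow_card_eq_one' (G := σ.ker) (x := ⟨k, hkk⟩)
  have := congrArg Subtype.val this
  simpa using this

/-- an element of odd order killed by a power of two is trivial -/
theorem eq_one_of_odd_of_two_pow {k : Γ} {m j : ℕ} (hm : Odd m) (h1 : k ^ m = 1) (h2 : k ^ (2 ^ j) = 1) :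
    k = 1 := by
  have hcop : Nat.Coprime m (2 ^ j) := by
    apply Nat.Coprime.pow_right
    exact Nat.coprime_two_right.mpr hm
  have hord : orderOf k ∣ Nat.gcd m (2 ^ j) :=
    Nat.dvd_gcd (orderOf_dvd_of_pow_eq_one h1) (orderOf_dvd_of_pow_eq_one h2)
  rw [hcop.gcd_eq_one, Nat.dvd_one, orderOf_eq_one_iff] at hord
  exact hord

theorem OddKer.eq_one_of_two_pow {σ : Γ →* G} (ho : OddKer σ) {k : Γ} (hk : k ∈ σ.ker) {j : ℕ}
    (h2 : k ^ (2 ^ j) = 1) : k = 1 := by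
  obtain ⟨m, hm, h1⟩ := ho k hk
  exact eq_one_of_odd_of_two_pow hm h1 h2

theorem OddKer.eq_one_of_sq {σ : Γ →* G} (ho : OddKer σ) {k : Γ} (hk : k ∈ σ.ker) (h2 : k * k = 1) :
    k = 1 := by
  apply ho.eq_one_of_two_pow hk (j := 1)
  rw [pow_one, pow_two, h2]

/-- a `2`-element of `G` lifts to a `2`-element (same exponent) -/
theorem OddKer.exists_lift {σ : Γ →* G} (ho : OddKer σ) (hs : Function.Surjective σ) (x : G) {j : ℕ}
    (hx : x ^ (2 ^ j) = 1) : ∃ y : Γ, σ y = x ∧ y ^ (2 ^ j) = 1 := by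
  obtain ⟨y0, rfl⟩ := hs x
  have hker : y0 ^ (2 ^ j) ∈ σ.ker := by rw [MonoidHom.mem_ker, map_pow, hx]
  obtain ⟨m, hm, hk'⟩ := ho _ hker
  have hcop : Nat.Coprime m (2 ^ j) := by
    apply Nat.Coprime.pow_right
    exact Nat.coprime_two_right.mpr hm
  have hb := Nat.gcd_eq_gcd_ab m (2 ^ j)
  rw [hcop.gcd_eq_one] at hb
  generalize Nat.gcdA m (2 ^ j) = A at hb
  generalize Nat.gcdB m (2 ^ j) = B at hb
  generalize hn : 2 ^ j = n at hb hk' hx ⊢
  refine ⟨y0 ^ ((m : ℤ) * A), ?_, ?_⟩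
  · rw [map_zpow]
    have h1 : (m : ℤ) * A = 1 - (n : ℤ) * B := by
      have : ((1 : ℕ) : ℤ) = 1 := Nat.cast_one
      rw [this] at hb
      linarith
    rw [h1, zpow_sub, zpow_one, zpow_mul, zpow_natCast, hx, one_zpow, inv_one, mul_one]
  · rw [← zpow_natCast, ← zpow_mul]
    have h1 : (m : ℤ) * A * (n : ℤ) = (n : ℤ) * (m : ℤ) * A := by ring
    rw [h1, zpow_mul, zpow_mul, zpow_natCast, zpow_natCast, hk', one_zpow]

theorem isTwoEl_one : IsTwoEl (1 : Γ) := ⟨0, by simp⟩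

theorem IsTwoEl.of_sq {y : Γ} (h : y * y = 1) : IsTwoEl y := ⟨1, by rw [pow_one, pow_two, h]⟩

theorem IsTwoEl.inv {y : Γ} (h : IsTwoEl y) : IsTwoEl y⁻¹ := by
  obtain ⟨j, hj⟩ := h
  exact ⟨j, by rw [inv_pow, hj, inv_one]⟩

theorem IsTwoEl.pow {y : Γ} (h : IsTwoEl y) (n : ℕ) : IsTwoEl (y ^ n) := by
  obtain ⟨j, hj⟩ := h
  exact ⟨j, by rw [← pow_mul, mul_comm, pow_mul, hj, one_pow]⟩

theorem IsTwoEl.conj {y : Γ} (h : IsTwoEl y) (u : Γ) : IsTwoEl (u * y * u⁻¹) := by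
  obtain ⟨j, hj⟩ := h
  exact ⟨j, by rw [conj_pow, hj, mul_one, mul_inv_cancel]⟩

theorem IsTwoEl.conj' {y : Γ} (h : IsTwoEl y) (u : Γ) : IsTwoEl (u⁻¹ * y * u) := by
  have := h.conj u⁻¹
  rwa [inv_inv] at this

theorem IsTwoEl.mul {y z : Γ} (hy : IsTwoEl y) (hz : IsTwoEl z) (hc : y * z = z * y) :
    IsTwoEl (y * z) := by
  obtain ⟨i, hi⟩ := hy
  obtain ⟨j, hj⟩ := hz
  refine ⟨i + j, ?_⟩
  have hcomm : Commute y z := hc
  rw [hcomm.mul_pow, pow_add, pow_mul, hi, one_pow, one_mul, mul_comm (2 ^ i), pow_mul, hj, one_pow]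

/-- two `2`-elements with the same image are equal -/
theorem OddKer.lift_unique {σ : Γ →* G} (ho : OddKer σ) (hc : σ.ker ≤ Subgroup.center Γ) {y y' : Γ}
    (hy : IsTwoEl y) (hy' : IsTwoEl y') (h : σ y = σ y') : y = y' := by
  have hzker : y⁻¹ * y' ∈ σ.ker := by
    rw [MonoidHom.mem_ker, map_mul, map_inv, h, inv_mul_cancel]
  have hzc : ∀ g : Γ, g * (y⁻¹ * y') = (y⁻¹ * y') * g := Subgroup.mem_center_iff.mp (hc hzker)
  obtain ⟨i, hi⟩ := hy
  obtain ⟨j, hj⟩ := hy'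
  have hz2 : (y⁻¹ * y') ^ (2 ^ (i + j)) = 1 := by
    have hcomm : Commute y (y⁻¹ * y') := hzc y
    have h1 : y' = y * (y⁻¹ * y') := by group
    have h2' : y' ^ (2 ^ (i + j)) = y ^ (2 ^ (i + j)) * (y⁻¹ * y') ^ (2 ^ (i + j)) := by
      conv_lhs => rw [h1]
      exact hcomm.mul_pow _
    have h3 : y' ^ (2 ^ (i + j)) = 1 := by
      rw [pow_add, mul_comm (2 ^ i), pow_mul, hj, one_pow]
    have h4 : y ^ (2 ^ (i + j)) = 1 := by
      rw [pow_add, pow_mul, hi, one_pow]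
    rw [h3, h4, one_mul] at h2'
    exact h2'.symm
  have := ho.eq_one_of_two_pow hzker hz2
  exact inv_mul_eq_one.mp this

end Cfsg.Agent.Lib.Helper23.OddLift
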