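import Mathlib
import Cfsg.Agent.Lib.Helper23.OddLift

/-!
S2052-[LIFT-ODD], abstract form (helper23 for helper18): in a central extension `σ : Γ →* P` whose kernel
consists of elements of odd order, of a group `P` with elements `g, a, …, f` satisfying the defining
relations of the O'Nan presentation and the two extra relations `(c g)^4 = a`,
`u c u⁻¹ = d c d c g`, the unique `2`-element lifts of `g, a, …, f` satisfy the same relations EXACTLY.
-/

set_option autoImplicit false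

namespace Cfsg.Agent.Lib.Helper23.OddLift

variable {Γ P : Type*} [Group Γ] [Group P]

/-- dihedral relations between involution lifts are exact -/
theorem OddKer.dihedral {σ : Γ →* P} (ho : OddKer σ) (hc : σ.ker ≤ Subgroup.center Γ) {A B : Γ}
    (hA : A * A = 1) (hB : B * B = 1) {n : ℕ} (h : (σ A * σ B) ^ n = 1) : (A * B) ^ n = 1 := by
  have hker : (A * B) ^ n ∈ σ.ker := by rw [MonoidHom.mem_ker, map_pow, map_mul, h]
  have hzc := Subgroup.mem_center_iff.mp (hc hker)
  have iA : A⁻¹ = A := inv_eq_of_mul_eq_one_left hA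
  have iB : B⁻¹ = B := inv_eq_of_mul_eq_one_left hB
  have h1 : A * (A * B) * A⁻¹ = (A * B)⁻¹ := by
    rw [mul_inv_rev, iA, iB]
    calc A * (A * B) * A = (A * A) * B * A := by simp only [mul_assoc]
      _ = B * A := by rw [hA, one_mul]
  have h2 : A * (A * B) ^ n * A⁻¹ = ((A * B) ^ n)⁻¹ := by
    rw [← conj_pow, h1, inv_pow]
  have h3 : A * (A * B) ^ n * A⁻¹ = (A * B) ^ n := by
    rw [hzc A, mul_assoc, mul_inv_cancel, mul_one]
  apply ho.eq_one_of_sq hker
  have : (A * B) ^ n = ((A * B) ^ n)⁻¹ := h3.symm.trans h2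
  calc (A * B) ^ n * (A * B) ^ n = ((A * B) ^ n)⁻¹ * (A * B) ^ n := by rw [← this]
    _ = 1 := inv_mul_cancel _

/-- commuting images of involution lifts: the lifts commute -/
theorem OddKer.comm_of {σ : Γ →* P} (ho : OddKer σ) (hc : σ.ker ≤ Subgroup.center Γ) {A B : Γ}
    (hA : A * A = 1) (hB : B * B = 1) (h : σ A * σ B = σ B * σ A) : A * B = B * A := by
  have hab2 : (σ A * σ B) ^ 2 = 1 := by
    have hA' : σ A * σ A = 1 := by rw [← map_mul, hA, map_one]
    have hB' : σ B * σ B = 1 := by rw [← map_mul, hB, map_one]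
    rw [pow_two]
    calc σ A * σ B * (σ A * σ B) = σ A * (σ B * σ A) * σ B := by simp only [mul_assoc]
      _ = σ A * (σ A * σ B) * σ B := by rw [h]
      _ = (σ A * σ A) * (σ B * σ B) := by simp only [mul_assoc]
      _ = 1 := by rw [hA', hB', one_mul]
  have := ho.dihedral hc hA hB hab2
  rw [pow_two] at this
  have iA : A⁻¹ = A := inv_eq_of_mul_eq_one_left hA
  have iB : B⁻¹ = B := inv_eq_of_mul_eq_one_left hB
  have h1 : A * B = (A * B)⁻¹ := (inv_eq_of_mul_eq_one_left this).symm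
  rw [mul_inv_rev, iA, iB] at h1
  exact h1

/-- the conclusion of [LIFT-ODD]: the lifts and their exact relations -/
structure ONLifts (σ : Γ →* P) (g a b c d e f u : P) (G A B C D E F : Γ) : Prop where
  mapG : σ G = g
  mapA : σ A = a
  mapB : σ B = b
  mapC : σ C = c
  mapD : σ D = d
  mapE : σ E = e
  mapF : σ F = f
  sqA : A * A = 1
  sqB : B * B = 1
  sqC : C * C = 1
  sqD : D * D = 1
  sqE : E * E = 1
  sqF : F * F = 1
  powG : G ^ 4 = 1
  ab : (A * B) ^ 3 = 1
  bc : (B * C) ^ 3 = 1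
  cd : (C * D) ^ 8 = 1
  de : (D * E) ^ 3 = 1
  ef : (E * F) ^ 3 = 1
  ac : (A * C) ^ 2 = 1
  ad : (A * D) ^ 2 = 1
  ae : (A * E) ^ 2 = 1
  af : (A * F) ^ 2 = 1
  bd : (B * D) ^ 2 = 1
  be : (B * E) ^ 2 = 1
  bf : (B * F) ^ 2 = 1
  ce : (C * E) ^ 2 = 1
  cf : (C * F) ^ 2 = 1
  df : (D * F) ^ 2 = 1
  g2 : A * F = G ^ 2
  cd4 : A * F = (C * D) ^ 4
  x3 : C * ((D * G * D * G)⁻¹ * C * (D * G * D * G)) = 1
  x4 : D * ((C * G * C * G)⁻¹ * D * (C * G * C * G)) = 1
  n1 : (C * G) ^ 4 = A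
  n2 : ∀ U : Γ, σ U = u → U * C * U⁻¹ = D * C * D * C * G

/-- [LIFT-ODD], abstract form -/
theorem exists_onLifts (σ : Γ →* P) (hs : Function.Surjective σ) (hc : σ.ker ≤ Subgroup.center Γ)
    (ho : OddKer σ) (g a b c d e f u : P)
    (ha : a * a = 1) (hb : b * b = 1) (hcc : c * c = 1) (hd : d * d = 1) (he : e * e = 1)
    (hf : f * f = 1)
    (hab : (a * b) ^ 3 = 1) (hbc : (b * c) ^ 3 = 1) (hcd : (c * d) ^ 8 = 1) (hde : (d * e) ^ 3 = 1)
    (hef : (e * f) ^ 3 = 1)
    (hac : (a * c) ^ 2 = 1) (had : (a * d) ^ 2 = 1) (hae : (a * e) ^ 2 = 1) (haf : (a * f) ^ 2 = 1)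
    (hbd : (b * d) ^ 2 = 1) (hbe : (b * e) ^ 2 = 1) (hbf : (b * f) ^ 2 = 1) (hce : (c * e) ^ 2 = 1)
    (hcf : (c * f) ^ 2 = 1) (hdf : (d * f) ^ 2 = 1)
    (hg2 : a * f = g ^ 2) (hcd4 : a * f = (c * d) ^ 4)
    (hx3 : c * ((d * g * d * g)⁻¹ * c * (d * g * d * g)) = 1)
    (hx4 : d * ((c * g * c * g)⁻¹ * d * (c * g * c * g)) = 1)
    (hn1 : (c * g) ^ 4 = a) (hn2 : u * c * u⁻¹ = d * c * d * c * g) :
    ∃ G A B C D E F : Γ, ONLifts σ g a b c d e f u G A B C D E F := by
  -- involution lifts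
  have inv_lift : ∀ x : P, x * x = 1 → ∃ X : Γ, σ X = x ∧ X * X = 1 := by
    intro x hx
    obtain ⟨X, h1, h2⟩ := ho.exists_lift hs x (j := 1) (by rw [pow_one, pow_two, hx])
    exact ⟨X, h1, by rwa [pow_one, pow_two] at h2⟩
  obtain ⟨A, mA, sA⟩ := inv_lift a ha
  obtain ⟨B, mB, sB⟩ := inv_lift b hb
  obtain ⟨C, mC, sC⟩ := inv_lift c hcc
  obtain ⟨D, mD, sD⟩ := inv_lift d hd
  obtain ⟨E, mE, sE⟩ := inv_lift e he
  obtain ⟨F, mF, sF⟩ := inv_lift f hf
  have hg4 : g ^ (2 ^ 2) = 1 := by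
    have : g ^ (2 ^ 2) = (g ^ 2) ^ 2 := by rw [← pow_mul]; norm_num
    rw [this, ← hg2, haf]
  obtain ⟨G, mG, pG⟩ := ho.exists_lift hs g (j := 2) hg4
  have pG4 : G ^ 4 = 1 := by simpa using pG
  -- dihedral relations
  have dih : ∀ {X Y : Γ} {x y : P} {n : ℕ}, σ X = x → σ Y = y → X * X = 1 → Y * Y = 1 →
      (x * y) ^ n = 1 → (X * Y) ^ n = 1 := by
    intro X Y x y n hX hY sX sY h
    exact ho.dihedral hc sX sY (by rw [hX, hY]; exact h)
  have rAF := dih mA mF sA sF haf
  have rCD := dih mC mD sC sD hcd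
  -- two-elements
  have tA : IsTwoEl A := IsTwoEl.of_sq sA
  have tC : IsTwoEl C := IsTwoEl.of_sq sC
  have tD : IsTwoEl D := IsTwoEl.of_sq sD
  have tAF : IsTwoEl (A * F) := ⟨1, by rw [pow_one]; exact rAF⟩
  have tG : IsTwoEl G := ⟨2, pG⟩
  have tCD : IsTwoEl (C * D) := ⟨3, by simpa using rCD⟩
  have eG2 : A * F = G ^ 2 := by
    apply ho.lift_unique hc tAF (tG.pow 2)
    rw [map_mul, map_pow, mA, mF, mG, hg2]
  have eCD4 : A * F = (C * D) ^ 4 := by
    apply ho.lift_unique hc tAF (tCD.pow 4)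
    rw [map_mul, map_pow, map_mul, mA, mF, mC, mD, hcd4]
  have iC : C⁻¹ = C := inv_eq_of_mul_eq_one_left sC
  have iD : D⁻¹ = D := inv_eq_of_mul_eq_one_left sD
  have ic : c⁻¹ = c := inv_eq_of_mul_eq_one_left hcc
  have id' : d⁻¹ = d := inv_eq_of_mul_eq_one_left hd
  have eX3 : C * ((D * G * D * G)⁻¹ * C * (D * G * D * G)) = 1 := by
    have h1 : (D * G * D * G)⁻¹ * C * (D * G * D * G) = C := by
      apply ho.lift_unique hc (tC.conj' _) tC
      simp only [map_mul, map_inv, mC, mD, mG]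
      have := hx3
      have h2 : (d * g * d * g)⁻¹ * c * (d * g * d * g) = c⁻¹ := (inv_eq_of_mul_eq_one_right this).symm
      rw [h2, ic]
    rw [h1, sC]
  have eX4 : D * ((C * G * C * G)⁻¹ * D * (C * G * C * G)) = 1 := by
    have h1 : (C * G * C * G)⁻¹ * D * (C * G * C * G) = D := by
      apply ho.lift_unique hc (tD.conj' _) tD
      simp only [map_mul, map_inv, mC, mD, mG]
      have := hx4
      have h2 : (c * g * c * g)⁻¹ * d * (c * g * c * g) = d⁻¹ := (inv_eq_of_mul_eq_one_right this).symm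
      rw [h2, id']
    rw [h1, sD]
  have rAC := dih mA mC sA sC hac
  have rCF := dih mC mF sC sF hcf
  -- `Z = A F = G ^ 2` commutes with `C` and `G`
  have iA : A⁻¹ = A := inv_eq_of_mul_eq_one_left sA
  have iF : F⁻¹ = F := inv_eq_of_mul_eq_one_left sF
  have cAC : A * C = C * A := by
    have h1 : A * C = (A * C)⁻¹ := by
      rw [pow_two] at rAC; exact (inv_eq_of_mul_eq_one_left rAC).symm
    rw [mul_inv_rev, iA, iC] at h1; exact h1
  have cCF : C * F = F * C := by
    have h1 : C * F = (C * F)⁻¹ := by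
      rw [pow_two] at rCF; exact (inv_eq_of_mul_eq_one_left rCF).symm
    rw [mul_inv_rev, iC, iF] at h1; exact h1
  have cZC : (A * F) * C = C * (A * F) := by
    calc A * F * C = A * (F * C) := by simp only [mul_assoc]
      _ = A * (C * F) := by rw [cCF]
      _ = (A * C) * F := by simp only [mul_assoc]
      _ = (C * A) * F := by rw [cAC]
      _ = C * (A * F) := by simp only [mul_assoc]
  have cZG : (A * F) * G = G * (A * F) := by
    rw [eG2, ← pow_succ, ← pow_succ']
  have sZ : (A * F) * (A * F) = 1 := by rw [← pow_two]; exact rAF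
  have hGinv : G⁻¹ = G * (A * F) := by
    have : G * (G * (A * F)) = 1 := by
      rw [eG2]
      calc G * (G * G ^ 2) = G ^ 4 := by group
        _ = 1 := pG4
    exact inv_eq_of_mul_eq_one_right this
  -- `n1`
  have eN1 : (C * G) ^ 4 = A := by
    have hk8 : (c * g) ^ 8 = 1 := by
      have : (c * g) ^ 8 = ((c * g) ^ 4) ^ 2 := by rw [← pow_mul]
      rw [this, hn1, pow_two, ha]
    have hker : (C * G) ^ 8 ∈ σ.ker := by
      rw [MonoidHom.mem_ker, map_pow, map_mul, mC, mG, hk8]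
    have hzc := Subgroup.mem_center_iff.mp (hc hker)
    -- `G (C G)^8 G⁻¹ = (G C)^8 = ((C G⁻¹)⁻¹)^8 = ((C G Z)^8)⁻¹ = ((C G)^8)⁻¹`
    have h1 : G * (C * G) * G⁻¹ = (C * G⁻¹)⁻¹ := by
      rw [mul_inv_rev, inv_inv, iC]; group
    have h2 : C * G⁻¹ = (C * G) * (A * F) := by rw [hGinv, mul_assoc]
    have hcomm : Commute (C * G) (A * F) := by
      show (C * G) * (A * F) = (A * F) * (C * G)
      calc C * G * (A * F) = C * (G * (A * F)) := by rw [mul_assoc]
        _ = C * ((A * F) * G) := by rw [cZG]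
        _ = (C * (A * F)) * G := by simp only [mul_assoc]
        _ = ((A * F) * C) * G := by rw [cZC]
        _ = (A * F) * (C * G) := by simp only [mul_assoc]
    have h3 : (C * G⁻¹) ^ 8 = (C * G) ^ 8 := by
      rw [h2, hcomm.mul_pow]
      have : (A * F) ^ 8 = 1 := by
        have : (A * F) ^ 8 = ((A * F) ^ 2) ^ 4 := by rw [← pow_mul]
        rw [this, rAF, one_pow]
      rw [this, mul_one]
    have h4 : G * (C * G) ^ 8 * G⁻¹ = ((C * G) ^ 8)⁻¹ := by
      rw [← conj_pow, h1, inv_pow, h3]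
    have h5 : G * (C * G) ^ 8 * G⁻¹ = (C * G) ^ 8 := by
      rw [hzc G, mul_assoc, mul_inv_cancel, mul_one]
    have hk1 : (C * G) ^ 8 = 1 := by
      apply ho.eq_one_of_sq hker
      have : (C * G) ^ 8 = ((C * G) ^ 8)⁻¹ := h5.symm.trans h4
      calc (C * G) ^ 8 * (C * G) ^ 8 = ((C * G) ^ 8)⁻¹ * (C * G) ^ 8 := by rw [← this]
        _ = 1 := inv_mul_cancel _
    have tCG4 : IsTwoEl ((C * G) ^ 4) := ⟨1, by rw [pow_one, ← pow_mul]; exact hk1⟩
    apply ho.lift_unique hc tCG4 tA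
    rw [map_pow, map_mul, mC, mG, mA, hn1]
  -- `n2`: the element `y = (d c)^2` commutes with `g`
  have eN2 : ∀ U : Γ, σ U = u → U * C * U⁻¹ = D * C * D * C * G := by
    intro U hU
    have hg4' : g ^ 4 = 1 := by simpa using hg4
    -- `x = d c d c g` is an involution of `P`
    have hw : (d * c * d * c * g) * (d * c * d * c * g) = 1 := by
      rw [← hn2]
      calc u * c * u⁻¹ * (u * c * u⁻¹) = u * (c * c) * u⁻¹ := by
            simp only [mul_assoc, inv_mul_cancel_left]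
        _ = 1 := by rw [hcc, mul_one, mul_inv_cancel]
    have hdc : d * c = (c * d)⁻¹ := by rw [mul_inv_rev, ic, id']
    -- `y y = g g` for `y = d c d c`
    have hy2 : (d * c * d * c) * (d * c * d * c) = g ^ 2 := by
      have h1 : (d * c * d * c) * (d * c * d * c) = (d * c) ^ 4 := by
        simp only [pow_succ, pow_zero, one_mul, mul_assoc]
      rw [h1, hdc, inv_pow, ← hcd4, ← hg2]
      exact inv_eq_of_mul_eq_one_left (by rw [← pow_two]; exact haf)
    have hcomm : g * (d * c * d * c) * g⁻¹ = d * c * d * c := by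
      obtain ⟨y, hy⟩ : ∃ y, y = d * c * d * c := ⟨_, rfl⟩
      rw [← hy] at hw hy2 ⊢
      have h1 : g * y * g = y⁻¹ := by
        have : y * (g * y * g) = 1 := by simpa only [mul_assoc] using hw
        exact (inv_eq_of_mul_eq_one_right this).symm
      have hy4 : y * y * y * y = 1 := by
        calc y * y * y * y = (y * y) * (y * y) := by simp only [mul_assoc]
          _ = g ^ 2 * g ^ 2 := by rw [hy2]
          _ = g ^ 4 := by rw [← pow_add]
          _ = 1 := hg4'
      have h2 : g * y * g⁻¹ = (g * y * g) * (g ^ 2)⁻¹ := by group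
      rw [h2, h1, ← hy2]
      have h3 : y⁻¹ * (y * y)⁻¹ = (y * y * y)⁻¹ := by group
      rw [h3]
      exact inv_eq_of_mul_eq_one_right hy4
    have hDC : D * C = (C * D)⁻¹ := by rw [mul_inv_rev, iC, iD]
    have tDC : IsTwoEl (D * C) := by rw [hDC]; exact tCD.inv
    obtain ⟨Y, hY⟩ : ∃ Y, Y = D * C * D * C := ⟨_, rfl⟩
    have hYdc : Y = (D * C) ^ 2 := by rw [hY, pow_two]; simp only [mul_assoc]
    have tY : IsTwoEl Y := by rw [hYdc]; exact tDC.pow 2
    have hYG : G * Y * G⁻¹ = Y := by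
      apply ho.lift_unique hc (tY.conj G) tY
      simp only [hY, map_mul, map_inv, mC, mD, mG]
      exact hcomm
    have hYG' : G * Y = Y * G := by
      have := congrArg (· * G) hYG
      simpa [mul_assoc] using this
    have hYY : Y * Y = A * F := by
      have h1 : Y * Y = (D * C) ^ 4 := by rw [hYdc, ← pow_add]
      rw [h1, hDC, inv_pow, ← eCD4]
      exact inv_eq_of_mul_eq_one_left sZ
    have hYG2 : (Y * G) * (Y * G) = 1 := by
      calc (Y * G) * (Y * G) = Y * (G * Y) * G := by simp only [mul_assoc]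
        _ = Y * (Y * G) * G := by rw [hYG']
        _ = (Y * Y) * (G * G) := by simp only [mul_assoc]
        _ = (A * F) * (A * F) := by rw [hYY, ← pow_two G, ← eG2]
        _ = 1 := sZ
    rw [← hY]
    apply ho.lift_unique hc (tC.conj U) (IsTwoEl.of_sq hYG2)
    simp only [hY, map_mul, map_inv, mC, mD, mG, hU]
    exact hn2
  exact ⟨G, A, B, C, D, E, F,
    { mapG := mG, mapA := mA, mapB := mB, mapC := mC, mapD := mD, mapE := mE, mapF := mF
      sqA := sA, sqB := sB, sqC := sC, sqD := sD, sqE := sE, sqF := sF, powG := pG4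
      ab := dih mA mB sA sB hab, bc := dih mB mC sB sC hbc, cd := rCD, de := dih mD mE sD sE hde
      ef := dih mE mF sE sF hef, ac := rAC, ad := dih mA mD sA sD had
      ae := dih mA mE sA sE hae, af := rAF, bd := dih mB mD sB sD hbd, be := dih mB mE sB sE hbe
      bf := dih mB mF sB sF hbf, ce := dih mC mE sC sE hce, cf := rCF
      df := dih mD mF sD sF hdf, g2 := eG2, cd4 := eCD4, x3 := eX3, x4 := eX4, n1 := eN1, n2 := eN2 }⟩

end Cfsg.Agent.Lib.Helper23.OddLift
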