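import Cfsg.Agent.Lib.Helper18.ONM.Conj
import Cfsg.Agent.Lib.Helper23.OddLiftON

/-!
S2052-[LIFT-O] (helper23 for helper18): for a central extension of the O'Nan group `P` with kernel of odd
order, the canonical lifts of the generators (involutions over `a, …, f`, the `2`-element over `g`) satisfy
every relator of `exactO`.
-/

set_option autoImplicit false
set_option maxRecDepth 100000
set_option linter.unusedVariables false
set_option linter.unusedSimpArgs false

namespace Cfsg.Agent.Lib.Helper18.ONM

open Cfsg Cfsg.Agent.Helper4.TC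

namespace Helper23

open Cfsg.Agent.Lib.Helper23.OddLift

theorem dec0 : dec 0 = (Cfsg.Spor.ON.Gen.g, true) := rfl
theorem dec1 : dec 1 = (Cfsg.Spor.ON.Gen.g, false) := rfl
theorem dec2 : dec 2 = (Cfsg.Spor.ON.Gen.a, true) := rfl
theorem dec3 : dec 3 = (Cfsg.Spor.ON.Gen.a, false) := rfl
theorem dec4 : dec 4 = (Cfsg.Spor.ON.Gen.b, true) := rfl
theorem dec5 : dec 5 = (Cfsg.Spor.ON.Gen.b, false) := rfl
theorem dec6 : dec 6 = (Cfsg.Spor.ON.Gen.c, true) := rfl
theorem dec7 : dec 7 = (Cfsg.Spor.ON.Gen.c, false) := rfl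
theorem dec8 : dec 8 = (Cfsg.Spor.ON.Gen.d, true) := rfl
theorem dec9 : dec 9 = (Cfsg.Spor.ON.Gen.d, false) := rfl
theorem dec10 : dec 10 = (Cfsg.Spor.ON.Gen.e, true) := rfl
theorem dec11 : dec 11 = (Cfsg.Spor.ON.Gen.e, false) := rfl
theorem dec12 : dec 12 = (Cfsg.Spor.ON.Gen.f, true) := rfl
theorem dec13 : dec 13 = (Cfsg.Spor.ON.Gen.f, false) := rfl

/-- the tuple with the given seven values -/
def tup {Γ : Type} (G A B C D E F : Γ) : Gen → Γ
  | .g => G
  | .a => A
  | .b => B
  | .c => C
  | .d => D
  | .e => E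
  | .f => F

theorem pow_swap {Γ : Type} [Group Γ] {X Y : Γ} {n : ℕ} (h : (X * Y) ^ n = 1) : (Y * X) ^ n = 1 := by
  have : Y * X = X⁻¹ * (X * Y) * (X⁻¹)⁻¹ := by group
  rw [this, conj_pow, h]
  group

/-- the relators of `exactO` for a tuple of lifts with the exact relations -/
theorem exactO_of_lifts {Γ Q : Type} [Group Γ] [Group Q] (σ : Γ →* Q) (x : Gen → Q) (G A B C D E F : Γ)
    (L : ONLifts σ (x .g) (x .a) (x .b) (x .c) (x .d) (x .e) (x .f)
      ((x .e)⁻¹ * (x .d)⁻¹ * x .c * x .g * x .e * x .d * (x .g)⁻¹ * x .e * x .d * x .c * x .d)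
      G A B C D E F) :
    ∀ b ∈ exactO, evc (tup G A B C D E F) dec b = 1 := by
  have hw0 : evc (tup G A B C D E F) dec [2, 2] = 1 := by
    simp only [evc, List.map, ev, gl, dec0, dec1, dec2, dec3, dec4, dec5, dec6, dec7, dec8, dec9, dec10, dec11,
      dec12, dec13, if_true, one_mul, Bool.false_eq_true, if_false, tup]
    exact L.sqA
  have hw1 : evc (tup G A B C D E F) dec [4, 2, 4, 2, 4, 2] = 1 := by
    simp only [evc, List.map, ev, gl, dec0, dec1, dec2, dec3, dec4, dec5, dec6, dec7, dec8, dec9, dec10, dec11,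
      dec12, dec13, if_true, one_mul, Bool.false_eq_true, if_false, tup]
    simpa only [pow_succ, pow_zero, one_mul, mul_assoc] using L.ab
  have hw2 : evc (tup G A B C D E F) dec [6, 2, 6, 2] = 1 := by
    simp only [evc, List.map, ev, gl, dec0, dec1, dec2, dec3, dec4, dec5, dec6, dec7, dec8, dec9, dec10, dec11,
      dec12, dec13, if_true, one_mul, Bool.false_eq_true, if_false, tup]
    simpa only [pow_succ, pow_zero, one_mul, mul_assoc] using L.ac
  have hw3 : evc (tup G A B C D E F) dec [8, 2, 8, 2] = 1 := by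
    simp only [evc, List.map, ev, gl, dec0, dec1, dec2, dec3, dec4, dec5, dec6, dec7, dec8, dec9, dec10, dec11,
      dec12, dec13, if_true, one_mul, Bool.false_eq_true, if_false, tup]
    simpa only [pow_succ, pow_zero, one_mul, mul_assoc] using L.ad
  have hw4 : evc (tup G A B C D E F) dec [10, 2, 10, 2] = 1 := by
    simp only [evc, List.map, ev, gl, dec0, dec1, dec2, dec3, dec4, dec5, dec6, dec7, dec8, dec9, dec10, dec11,
      dec12, dec13, if_true, one_mul, Bool.false_eq_true, if_false, tup]
    simpa only [pow_succ, pow_zero, one_mul, mul_assoc] using L.ae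
  have hw5 : evc (tup G A B C D E F) dec [12, 2, 12, 2] = 1 := by
    simp only [evc, List.map, ev, gl, dec0, dec1, dec2, dec3, dec4, dec5, dec6, dec7, dec8, dec9, dec10, dec11,
      dec12, dec13, if_true, one_mul, Bool.false_eq_true, if_false, tup]
    simpa only [pow_succ, pow_zero, one_mul, mul_assoc] using L.af
  have hw6 : evc (tup G A B C D E F) dec [2, 4, 2, 4, 2, 4] = 1 := by
    simp only [evc, List.map, ev, gl, dec0, dec1, dec2, dec3, dec4, dec5, dec6, dec7, dec8, dec9, dec10, dec11,
      dec12, dec13, if_true, one_mul, Bool.false_eq_true, if_false, tup]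
    simpa only [pow_succ, pow_zero, one_mul, mul_assoc] using (pow_swap L.ab)
  have hw7 : evc (tup G A B C D E F) dec [4, 4] = 1 := by
    simp only [evc, List.map, ev, gl, dec0, dec1, dec2, dec3, dec4, dec5, dec6, dec7, dec8, dec9, dec10, dec11,
      dec12, dec13, if_true, one_mul, Bool.false_eq_true, if_false, tup]
    exact L.sqB
  have hw8 : evc (tup G A B C D E F) dec [6, 4, 6, 4, 6, 4] = 1 := by
    simp only [evc, List.map, ev, gl, dec0, dec1, dec2, dec3, dec4, dec5, dec6, dec7, dec8, dec9, dec10, dec11,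
      dec12, dec13, if_true, one_mul, Bool.false_eq_true, if_false, tup]
    simpa only [pow_succ, pow_zero, one_mul, mul_assoc] using L.bc
  have hw9 : evc (tup G A B C D E F) dec [8, 4, 8, 4] = 1 := by
    simp only [evc, List.map, ev, gl, dec0, dec1, dec2, dec3, dec4, dec5, dec6, dec7, dec8, dec9, dec10, dec11,
      dec12, dec13, if_true, one_mul, Bool.false_eq_true, if_false, tup]
    simpa only [pow_succ, pow_zero, one_mul, mul_assoc] using L.bd
  have hw10 : evc (tup G A B C D E F) dec [10, 4, 10, 4] = 1 := by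
    simp only [evc, List.map, ev, gl, dec0, dec1, dec2, dec3, dec4, dec5, dec6, dec7, dec8, dec9, dec10, dec11,
      dec12, dec13, if_true, one_mul, Bool.false_eq_true, if_false, tup]
    simpa only [pow_succ, pow_zero, one_mul, mul_assoc] using L.be
  have hw11 : evc (tup G A B C D E F) dec [12, 4, 12, 4] = 1 := by
    simp only [evc, List.map, ev, gl, dec0, dec1, dec2, dec3, dec4, dec5, dec6, dec7, dec8, dec9, dec10, dec11,
      dec12, dec13, if_true, one_mul, Bool.false_eq_true, if_false, tup]
    simpa only [pow_succ, pow_zero, one_mul, mul_assoc] using L.bf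
  have hw12 : evc (tup G A B C D E F) dec [2, 6, 2, 6] = 1 := by
    simp only [evc, List.map, ev, gl, dec0, dec1, dec2, dec3, dec4, dec5, dec6, dec7, dec8, dec9, dec10, dec11,
      dec12, dec13, if_true, one_mul, Bool.false_eq_true, if_false, tup]
    simpa only [pow_succ, pow_zero, one_mul, mul_assoc] using (pow_swap L.ac)
  have hw13 : evc (tup G A B C D E F) dec [4, 6, 4, 6, 4, 6] = 1 := by
    simp only [evc, List.map, ev, gl, dec0, dec1, dec2, dec3, dec4, dec5, dec6, dec7, dec8, dec9, dec10, dec11,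
      dec12, dec13, if_true, one_mul, Bool.false_eq_true, if_false, tup]
    simpa only [pow_succ, pow_zero, one_mul, mul_assoc] using (pow_swap L.bc)
  have hw14 : evc (tup G A B C D E F) dec [6, 6] = 1 := by
    simp only [evc, List.map, ev, gl, dec0, dec1, dec2, dec3, dec4, dec5, dec6, dec7, dec8, dec9, dec10, dec11,
      dec12, dec13, if_true, one_mul, Bool.false_eq_true, if_false, tup]
    exact L.sqC
  have hw15 : evc (tup G A B C D E F) dec [8, 6, 8, 6, 8, 6, 8, 6, 8, 6, 8, 6, 8, 6, 8, 6] = 1 := by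
    simp only [evc, List.map, ev, gl, dec0, dec1, dec2, dec3, dec4, dec5, dec6, dec7, dec8, dec9, dec10, dec11,
      dec12, dec13, if_true, one_mul, Bool.false_eq_true, if_false, tup]
    simpa only [pow_succ, pow_zero, one_mul, mul_assoc] using L.cd
  have hw16 : evc (tup G A B C D E F) dec [10, 6, 10, 6] = 1 := by
    simp only [evc, List.map, ev, gl, dec0, dec1, dec2, dec3, dec4, dec5, dec6, dec7, dec8, dec9, dec10, dec11,
      dec12, dec13, if_true, one_mul, Bool.false_eq_true, if_false, tup]
    simpa only [pow_succ, pow_zero, one_mul, mul_assoc] using L.ce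
  have hw17 : evc (tup G A B C D E F) dec [12, 6, 12, 6] = 1 := by
    simp only [evc, List.map, ev, gl, dec0, dec1, dec2, dec3, dec4, dec5, dec6, dec7, dec8, dec9, dec10, dec11,
      dec12, dec13, if_true, one_mul, Bool.false_eq_true, if_false, tup]
    simpa only [pow_succ, pow_zero, one_mul, mul_assoc] using L.cf
  have hw18 : evc (tup G A B C D E F) dec [2, 8, 2, 8] = 1 := by
    simp only [evc, List.map, ev, gl, dec0, dec1, dec2, dec3, dec4, dec5, dec6, dec7, dec8, dec9, dec10, dec11,
      dec12, dec13, if_true, one_mul, Bool.false_eq_true, if_false, tup]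
    simpa only [pow_succ, pow_zero, one_mul, mul_assoc] using (pow_swap L.ad)
  have hw19 : evc (tup G A B C D E F) dec [4, 8, 4, 8] = 1 := by
    simp only [evc, List.map, ev, gl, dec0, dec1, dec2, dec3, dec4, dec5, dec6, dec7, dec8, dec9, dec10, dec11,
      dec12, dec13, if_true, one_mul, Bool.false_eq_true, if_false, tup]
    simpa only [pow_succ, pow_zero, one_mul, mul_assoc] using (pow_swap L.bd)
  have hw20 : evc (tup G A B C D E F) dec [6, 8, 6, 8, 6, 8, 6, 8, 6, 8, 6, 8, 6, 8, 6, 8] = 1 := by
    simp only [evc, List.map, ev, gl, dec0, dec1, dec2, dec3, dec4, dec5, dec6, dec7, dec8, dec9, dec10, dec11,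
      dec12, dec13, if_true, one_mul, Bool.false_eq_true, if_false, tup]
    simpa only [pow_succ, pow_zero, one_mul, mul_assoc] using (pow_swap L.cd)
  have hw21 : evc (tup G A B C D E F) dec [8, 8] = 1 := by
    simp only [evc, List.map, ev, gl, dec0, dec1, dec2, dec3, dec4, dec5, dec6, dec7, dec8, dec9, dec10, dec11,
      dec12, dec13, if_true, one_mul, Bool.false_eq_true, if_false, tup]
    exact L.sqD
  have hw22 : evc (tup G A B C D E F) dec [10, 8, 10, 8, 10, 8] = 1 := by
    simp only [evc, List.map, ev, gl, dec0, dec1, dec2, dec3, dec4, dec5, dec6, dec7, dec8, dec9, dec10, dec11,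
      dec12, dec13, if_true, one_mul, Bool.false_eq_true, if_false, tup]
    simpa only [pow_succ, pow_zero, one_mul, mul_assoc] using L.de
  have hw23 : evc (tup G A B C D E F) dec [12, 8, 12, 8] = 1 := by
    simp only [evc, List.map, ev, gl, dec0, dec1, dec2, dec3, dec4, dec5, dec6, dec7, dec8, dec9, dec10, dec11,
      dec12, dec13, if_true, one_mul, Bool.false_eq_true, if_false, tup]
    simpa only [pow_succ, pow_zero, one_mul, mul_assoc] using L.df
  have hw24 : evc (tup G A B C D E F) dec [2, 10, 2, 10] = 1 := by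
    simp only [evc, List.map, ev, gl, dec0, dec1, dec2, dec3, dec4, dec5, dec6, dec7, dec8, dec9, dec10, dec11,
      dec12, dec13, if_true, one_mul, Bool.false_eq_true, if_false, tup]
    simpa only [pow_succ, pow_zero, one_mul, mul_assoc] using (pow_swap L.ae)
  have hw25 : evc (tup G A B C D E F) dec [4, 10, 4, 10] = 1 := by
    simp only [evc, List.map, ev, gl, dec0, dec1, dec2, dec3, dec4, dec5, dec6, dec7, dec8, dec9, dec10, dec11,
      dec12, dec13, if_true, one_mul, Bool.false_eq_true, if_false, tup]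
    simpa only [pow_succ, pow_zero, one_mul, mul_assoc] using (pow_swap L.be)
  have hw26 : evc (tup G A B C D E F) dec [6, 10, 6, 10] = 1 := by
    simp only [evc, List.map, ev, gl, dec0, dec1, dec2, dec3, dec4, dec5, dec6, dec7, dec8, dec9, dec10, dec11,
      dec12, dec13, if_true, one_mul, Bool.false_eq_true, if_false, tup]
    simpa only [pow_succ, pow_zero, one_mul, mul_assoc] using (pow_swap L.ce)
  have hw27 : evc (tup G A B C D E F) dec [8, 10, 8, 10, 8, 10] = 1 := by
    simp only [evc, List.map, ev, gl, dec0, dec1, dec2, dec3, dec4, dec5, dec6, dec7, dec8, dec9, dec10, dec11,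
      dec12, dec13, if_true, one_mul, Bool.false_eq_true, if_false, tup]
    simpa only [pow_succ, pow_zero, one_mul, mul_assoc] using (pow_swap L.de)
  have hw28 : evc (tup G A B C D E F) dec [10, 10] = 1 := by
    simp only [evc, List.map, ev, gl, dec0, dec1, dec2, dec3, dec4, dec5, dec6, dec7, dec8, dec9, dec10, dec11,
      dec12, dec13, if_true, one_mul, Bool.false_eq_true, if_false, tup]
    exact L.sqE
  have hw29 : evc (tup G A B C D E F) dec [12, 10, 12, 10, 12, 10] = 1 := by
    simp only [evc, List.map, ev, gl, dec0, dec1, dec2, dec3, dec4, dec5, dec6, dec7, dec8, dec9, dec10, dec11,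
      dec12, dec13, if_true, one_mul, Bool.false_eq_true, if_false, tup]
    simpa only [pow_succ, pow_zero, one_mul, mul_assoc] using L.ef
  have hw30 : evc (tup G A B C D E F) dec [2, 12, 2, 12] = 1 := by
    simp only [evc, List.map, ev, gl, dec0, dec1, dec2, dec3, dec4, dec5, dec6, dec7, dec8, dec9, dec10, dec11,
      dec12, dec13, if_true, one_mul, Bool.false_eq_true, if_false, tup]
    simpa only [pow_succ, pow_zero, one_mul, mul_assoc] using (pow_swap L.af)
  have hw31 : evc (tup G A B C D E F) dec [4, 12, 4, 12] = 1 := by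
    simp only [evc, List.map, ev, gl, dec0, dec1, dec2, dec3, dec4, dec5, dec6, dec7, dec8, dec9, dec10, dec11,
      dec12, dec13, if_true, one_mul, Bool.false_eq_true, if_false, tup]
    simpa only [pow_succ, pow_zero, one_mul, mul_assoc] using (pow_swap L.bf)
  have hw32 : evc (tup G A B C D E F) dec [6, 12, 6, 12] = 1 := by
    simp only [evc, List.map, ev, gl, dec0, dec1, dec2, dec3, dec4, dec5, dec6, dec7, dec8, dec9, dec10, dec11,
      dec12, dec13, if_true, one_mul, Bool.false_eq_true, if_false, tup]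
    simpa only [pow_succ, pow_zero, one_mul, mul_assoc] using (pow_swap L.cf)
  have hw33 : evc (tup G A B C D E F) dec [8, 12, 8, 12] = 1 := by
    simp only [evc, List.map, ev, gl, dec0, dec1, dec2, dec3, dec4, dec5, dec6, dec7, dec8, dec9, dec10, dec11,
      dec12, dec13, if_true, one_mul, Bool.false_eq_true, if_false, tup]
    simpa only [pow_succ, pow_zero, one_mul, mul_assoc] using (pow_swap L.df)
  have hw34 : evc (tup G A B C D E F) dec [10, 12, 10, 12, 10, 12] = 1 := by
    simp only [evc, List.map, ev, gl, dec0, dec1, dec2, dec3, dec4, dec5, dec6, dec7, dec8, dec9, dec10, dec11,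
      dec12, dec13, if_true, one_mul, Bool.false_eq_true, if_false, tup]
    simpa only [pow_succ, pow_zero, one_mul, mul_assoc] using (pow_swap L.ef)
  have hw35 : evc (tup G A B C D E F) dec [12, 12] = 1 := by
    simp only [evc, List.map, ev, gl, dec0, dec1, dec2, dec3, dec4, dec5, dec6, dec7, dec8, dec9, dec10, dec11,
      dec12, dec13, if_true, one_mul, Bool.false_eq_true, if_false, tup]
    exact L.sqF
  have hr1 : evc (tup G A B C D E F) dec r1 = 1 := by
    simp only [r1, evc, List.map, ev, gl, dec0, dec1, dec2, dec3, dec4, dec5, dec6, dec7, dec8, dec9, dec10, dec11,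
      dec12, dec13, if_true, one_mul, Bool.false_eq_true, if_false, tup]
    rw [L.g2]; group
  have hr2 : evc (tup G A B C D E F) dec r2 = 1 := by
    simp only [r2, evc, List.map, ev, gl, dec0, dec1, dec2, dec3, dec4, dec5, dec6, dec7, dec8, dec9, dec10, dec11,
      dec12, dec13, if_true, one_mul, Bool.false_eq_true, if_false, tup]
    rw [L.cd4]; simp only [pow_succ, pow_zero, one_mul]; group
  have hr3 : evc (tup G A B C D E F) dec r3 = 1 := by
    simp only [r3, evc, List.map, ev, gl, dec0, dec1, dec2, dec3, dec4, dec5, dec6, dec7, dec8, dec9, dec10, dec11,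
      dec12, dec13, if_true, one_mul, Bool.false_eq_true, if_false, tup]
    have h := L.x3
    have e : C * G⁻¹ * D⁻¹ * G⁻¹ * D⁻¹ * C * D * G * D * G
        = C * ((D * G * D * G)⁻¹ * C * (D * G * D * G)) := by group
    rw [e]; exact h
  have hr4 : evc (tup G A B C D E F) dec r4 = 1 := by
    simp only [r4, evc, List.map, ev, gl, dec0, dec1, dec2, dec3, dec4, dec5, dec6, dec7, dec8, dec9, dec10, dec11,
      dec12, dec13, if_true, one_mul, Bool.false_eq_true, if_false, tup]
    have h := L.x4
    have e : D * G⁻¹ * C⁻¹ * G⁻¹ * C⁻¹ * D * C * G * C * G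
        = D * ((C * G * C * G)⁻¹ * D * (C * G * C * G)) := by group
    rw [e]; exact h
  have hn1 : evc (tup G A B C D E F) dec n1 = 1 := by
    simp only [n1, evc, List.map, ev, gl, dec0, dec1, dec2, dec3, dec4, dec5, dec6, dec7, dec8, dec9, dec10, dec11,
      dec12, dec13, if_true, one_mul, Bool.false_eq_true, if_false, tup]
    have h := L.n1
    have e : C * G * C * G * C * G * C * G * A⁻¹ = (C * G) ^ 4 * A⁻¹ := by
      simp only [pow_succ, pow_zero, one_mul, mul_assoc]
    rw [e, h, mul_inv_cancel]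
  have hn2 : evc (tup G A B C D E F) dec n2 = 1 := by
    simp only [n2, evc, List.map, ev, gl, dec0, dec1, dec2, dec3, dec4, dec5, dec6, dec7, dec8, dec9, dec10, dec11,
      dec12, dec13, if_true, one_mul, Bool.false_eq_true, if_false, tup]
    have h := L.n2 (E⁻¹ * D⁻¹ * C * G * E * D * G⁻¹ * E * D * C * D)
      (by simp only [map_mul, map_inv, L.mapG, L.mapC, L.mapD, L.mapE])
    have e : E⁻¹ * D⁻¹ * C * G * E * D * G⁻¹ * E * D * C * D * C * D⁻¹ * C⁻¹ * D⁻¹ * E⁻¹ * G * D⁻¹ * E⁻¹ *
        G⁻¹ * C⁻¹ * D * E * G⁻¹ * C⁻¹ * D⁻¹ * C⁻¹ * D⁻¹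
        = (E⁻¹ * D⁻¹ * C * G * E * D * G⁻¹ * E * D * C * D) * C *
          (E⁻¹ * D⁻¹ * C * G * E * D * G⁻¹ * E * D * C * D)⁻¹ * (D * C * D * C * G)⁻¹ := by group
    rw [e, h, mul_inv_cancel]
  intro b hb
  simp only [exactO, coxL, List.mem_append, List.mem_cons, List.not_mem_nil, or_false] at hb
  rcases hb with (rfl | rfl | rfl | rfl | rfl | rfl | rfl | rfl | rfl | rfl | rfl | rfl | rfl | rfl | rfl | rfl | rfl | rfl | rfl | rfl | rfl | rfl | rfl | rfl | rfl | rfl | rfl | rfl | rfl | rfl | rfl | rfl | rfl | rfl | rfl | rfl) | rfl | rfl | rfl | rfl | rfl | rfl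
  exacts [hw0, hw1, hw2, hw3, hw4, hw5, hw6, hw7, hw8, hw9, hw10, hw11, hw12, hw13, hw14, hw15, hw16, hw17, hw18, hw19, hw20, hw21, hw22, hw23, hw24, hw25, hw26, hw27, hw28, hw29, hw30, hw31, hw32, hw33, hw34, hw35, hr1, hr2, hr3, hr4, hn1, hn2]

/-- [LIFT-O] for an arbitrary group `Q` with a tuple `x` satisfying the relator words -/
theorem exists_lifts_odd_gen {Γ Q : Type} [Group Γ] [Finite Γ] [Group Q] (x : Gen → Q)
    (hP : ∀ b ∈ relP, evc x dec b = 1) (hE1 : evc x dec n1 = 1) (hE2 : evc x dec n2 = 1)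
    (σ : Γ →* Q) (hs : Function.Surjective σ)
    (hc : σ.ker ≤ Subgroup.center Γ) (hodd : Odd (Nat.card σ.ker)) :
    ∃ g : Gen → Γ, (∀ y, σ (g y) = x y) ∧ ∀ b ∈ exactO, evc g dec b = 1 := by
  have ho : OddKer σ := oddKer_of_odd_card hodd
  have ha : x .a * x .a = 1 := by
    have := hP [2, 2] (by decide)
    simpa only [evc, List.map, ev, gl, dec0, dec1, dec2, dec3, dec4, dec5, dec6, dec7, dec8, dec9, dec10, dec11,
      dec12, dec13, if_true, one_mul, Bool.false_eq_true, if_false] using this
  have hb : x .b * x .b = 1 := by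
    have := hP [4, 4] (by decide)
    simpa only [evc, List.map, ev, gl, dec0, dec1, dec2, dec3, dec4, dec5, dec6, dec7, dec8, dec9, dec10, dec11,
      dec12, dec13, if_true, one_mul, Bool.false_eq_true, if_false] using this
  have hcc : x .c * x .c = 1 := by
    have := hP [6, 6] (by decide)
    simpa only [evc, List.map, ev, gl, dec0, dec1, dec2, dec3, dec4, dec5, dec6, dec7, dec8, dec9, dec10, dec11,
      dec12, dec13, if_true, one_mul, Bool.false_eq_true, if_false] using this
  have hd : x .d * x .d = 1 := by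
    have := hP [8, 8] (by decide)
    simpa only [evc, List.map, ev, gl, dec0, dec1, dec2, dec3, dec4, dec5, dec6, dec7, dec8, dec9, dec10, dec11,
      dec12, dec13, if_true, one_mul, Bool.false_eq_true, if_false] using this
  have he : x .e * x .e = 1 := by
    have := hP [10, 10] (by decide)
    simpa only [evc, List.map, ev, gl, dec0, dec1, dec2, dec3, dec4, dec5, dec6, dec7, dec8, dec9, dec10, dec11,
      dec12, dec13, if_true, one_mul, Bool.false_eq_true, if_false] using this
  have hf : x .f * x .f = 1 := by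
    have := hP [12, 12] (by decide)
    simpa only [evc, List.map, ev, gl, dec0, dec1, dec2, dec3, dec4, dec5, dec6, dec7, dec8, dec9, dec10, dec11,
      dec12, dec13, if_true, one_mul, Bool.false_eq_true, if_false] using this
  have hab : (x .a * x .b) ^ 3 = 1 := by
    have := hP [4, 2, 4, 2, 4, 2] (by decide)
    simp only [evc, List.map, ev, gl, dec0, dec1, dec2, dec3, dec4, dec5, dec6, dec7, dec8, dec9, dec10, dec11,
      dec12, dec13, if_true, one_mul, Bool.false_eq_true, if_false] at this
    simpa only [pow_succ, pow_zero, one_mul, mul_assoc] using this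
  have hbc : (x .b * x .c) ^ 3 = 1 := by
    have := hP [6, 4, 6, 4, 6, 4] (by decide)
    simp only [evc, List.map, ev, gl, dec0, dec1, dec2, dec3, dec4, dec5, dec6, dec7, dec8, dec9, dec10, dec11,
      dec12, dec13, if_true, one_mul, Bool.false_eq_true, if_false] at this
    simpa only [pow_succ, pow_zero, one_mul, mul_assoc] using this
  have hcd : (x .c * x .d) ^ 8 = 1 := by
    have := hP [8, 6, 8, 6, 8, 6, 8, 6, 8, 6, 8, 6, 8, 6, 8, 6] (by decide)
    simp only [evc, List.map, ev, gl, dec0, dec1, dec2, dec3, dec4, dec5, dec6, dec7, dec8, dec9, dec10, dec11,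
      dec12, dec13, if_true, one_mul, Bool.false_eq_true, if_false] at this
    simpa only [pow_succ, pow_zero, one_mul, mul_assoc] using this
  have hde : (x .d * x .e) ^ 3 = 1 := by
    have := hP [10, 8, 10, 8, 10, 8] (by decide)
    simp only [evc, List.map, ev, gl, dec0, dec1, dec2, dec3, dec4, dec5, dec6, dec7, dec8, dec9, dec10, dec11,
      dec12, dec13, if_true, one_mul, Bool.false_eq_true, if_false] at this
    simpa only [pow_succ, pow_zero, one_mul, mul_assoc] using this
  have hef : (x .e * x .f) ^ 3 = 1 := by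
    have := hP [12, 10, 12, 10, 12, 10] (by decide)
    simp only [evc, List.map, ev, gl, dec0, dec1, dec2, dec3, dec4, dec5, dec6, dec7, dec8, dec9, dec10, dec11,
      dec12, dec13, if_true, one_mul, Bool.false_eq_true, if_false] at this
    simpa only [pow_succ, pow_zero, one_mul, mul_assoc] using this
  have hac : (x .a * x .c) ^ 2 = 1 := by
    have := hP [6, 2, 6, 2] (by decide)
    simp only [evc, List.map, ev, gl, dec0, dec1, dec2, dec3, dec4, dec5, dec6, dec7, dec8, dec9, dec10, dec11,
      dec12, dec13, if_true, one_mul, Bool.false_eq_true, if_false] at this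
    simpa only [pow_succ, pow_zero, one_mul, mul_assoc] using this
  have had : (x .a * x .d) ^ 2 = 1 := by
    have := hP [8, 2, 8, 2] (by decide)
    simp only [evc, List.map, ev, gl, dec0, dec1, dec2, dec3, dec4, dec5, dec6, dec7, dec8, dec9, dec10, dec11,
      dec12, dec13, if_true, one_mul, Bool.false_eq_true, if_false] at this
    simpa only [pow_succ, pow_zero, one_mul, mul_assoc] using this
  have hae : (x .a * x .e) ^ 2 = 1 := by
    have := hP [10, 2, 10, 2] (by decide)
    simp only [evc, List.map, ev, gl, dec0, dec1, dec2, dec3, dec4, dec5, dec6, dec7, dec8, dec9, dec10, dec11,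
      dec12, dec13, if_true, one_mul, Bool.false_eq_true, if_false] at this
    simpa only [pow_succ, pow_zero, one_mul, mul_assoc] using this
  have haf : (x .a * x .f) ^ 2 = 1 := by
    have := hP [12, 2, 12, 2] (by decide)
    simp only [evc, List.map, ev, gl, dec0, dec1, dec2, dec3, dec4, dec5, dec6, dec7, dec8, dec9, dec10, dec11,
      dec12, dec13, if_true, one_mul, Bool.false_eq_true, if_false] at this
    simpa only [pow_succ, pow_zero, one_mul, mul_assoc] using this
  have hbd : (x .b * x .d) ^ 2 = 1 := by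
    have := hP [8, 4, 8, 4] (by decide)
    simp only [evc, List.map, ev, gl, dec0, dec1, dec2, dec3, dec4, dec5, dec6, dec7, dec8, dec9, dec10, dec11,
      dec12, dec13, if_true, one_mul, Bool.false_eq_true, if_false] at this
    simpa only [pow_succ, pow_zero, one_mul, mul_assoc] using this
  have hbe : (x .b * x .e) ^ 2 = 1 := by
    have := hP [10, 4, 10, 4] (by decide)
    simp only [evc, List.map, ev, gl, dec0, dec1, dec2, dec3, dec4, dec5, dec6, dec7, dec8, dec9, dec10, dec11,
      dec12, dec13, if_true, one_mul, Bool.false_eq_true, if_false] at this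
    simpa only [pow_succ, pow_zero, one_mul, mul_assoc] using this
  have hbf : (x .b * x .f) ^ 2 = 1 := by
    have := hP [12, 4, 12, 4] (by decide)
    simp only [evc, List.map, ev, gl, dec0, dec1, dec2, dec3, dec4, dec5, dec6, dec7, dec8, dec9, dec10, dec11,
      dec12, dec13, if_true, one_mul, Bool.false_eq_true, if_false] at this
    simpa only [pow_succ, pow_zero, one_mul, mul_assoc] using this
  have hce : (x .c * x .e) ^ 2 = 1 := by
    have := hP [10, 6, 10, 6] (by decide)
    simp only [evc, List.map, ev, gl, dec0, dec1, dec2, dec3, dec4, dec5, dec6, dec7, dec8, dec9, dec10, dec11,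
      dec12, dec13, if_true, one_mul, Bool.false_eq_true, if_false] at this
    simpa only [pow_succ, pow_zero, one_mul, mul_assoc] using this
  have hcf : (x .c * x .f) ^ 2 = 1 := by
    have := hP [12, 6, 12, 6] (by decide)
    simp only [evc, List.map, ev, gl, dec0, dec1, dec2, dec3, dec4, dec5, dec6, dec7, dec8, dec9, dec10, dec11,
      dec12, dec13, if_true, one_mul, Bool.false_eq_true, if_false] at this
    simpa only [pow_succ, pow_zero, one_mul, mul_assoc] using this
  have hdf : (x .d * x .f) ^ 2 = 1 := by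
    have := hP [12, 8, 12, 8] (by decide)
    simp only [evc, List.map, ev, gl, dec0, dec1, dec2, dec3, dec4, dec5, dec6, dec7, dec8, dec9, dec10, dec11,
      dec12, dec13, if_true, one_mul, Bool.false_eq_true, if_false] at this
    simpa only [pow_succ, pow_zero, one_mul, mul_assoc] using this
  have hg2 : x .a * x .f = x .g ^ 2 := by
    have := hP r1 (by decide)
    simp only [r1, evc, List.map, ev, gl, dec0, dec1, dec2, dec3, dec4, dec5, dec6, dec7, dec8, dec9, dec10, dec11,
      dec12, dec13, if_true, one_mul, Bool.false_eq_true, if_false] at this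
    calc x .a * x .f = (x .a * x .f * (x .g)⁻¹ * (x .g)⁻¹) * x .g ^ 2 := by group
      _ = x .g ^ 2 := by rw [this, one_mul]
  have hcd4 : x .a * x .f = (x .c * x .d) ^ 4 := by
    have := hP r2 (by decide)
    simp only [r2, evc, List.map, ev, gl, dec0, dec1, dec2, dec3, dec4, dec5, dec6, dec7, dec8, dec9, dec10, dec11,
      dec12, dec13, if_true, one_mul, Bool.false_eq_true, if_false] at this
    have e : x .a * x .f = (x .a * x .f * (x .d)⁻¹ * (x .c)⁻¹ * (x .d)⁻¹ * (x .c)⁻¹ * (x .d)⁻¹ * (x .c)⁻¹ *
        (x .d)⁻¹ * (x .c)⁻¹) * (x .c * x .d * x .c * x .d * x .c * x .d * x .c * x .d) := by group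
    rw [e, this, one_mul]
    simp only [pow_succ, pow_zero, one_mul, mul_assoc]
  have hx3 : x .c * ((x .d * x .g * x .d * x .g)⁻¹ * x .c * (x .d * x .g * x .d * x .g)) = 1 := by
    have := hP r3 (by decide)
    simp only [r3, evc, List.map, ev, gl, dec0, dec1, dec2, dec3, dec4, dec5, dec6, dec7, dec8, dec9, dec10, dec11,
      dec12, dec13, if_true, one_mul, Bool.false_eq_true, if_false] at this
    rw [← this]; group
  have hx4 : x .d * ((x .c * x .g * x .c * x .g)⁻¹ * x .d * (x .c * x .g * x .c * x .g)) = 1 := by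
    have := hP r4 (by decide)
    simp only [r4, evc, List.map, ev, gl, dec0, dec1, dec2, dec3, dec4, dec5, dec6, dec7, dec8, dec9, dec10, dec11,
      dec12, dec13, if_true, one_mul, Bool.false_eq_true, if_false] at this
    rw [← this]; group
  have hn1 : (x .c * x .g) ^ 4 = x .a := by
    have := hE1
    simp only [n1, evc, List.map, ev, gl, dec0, dec1, dec2, dec3, dec4, dec5, dec6, dec7, dec8, dec9, dec10, dec11,
      dec12, dec13, if_true, one_mul, Bool.false_eq_true, if_false] at this
    calc (x .c * x .g) ^ 4 = x .c * x .g * x .c * x .g * x .c * x .g * x .c * x .g := by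
          simp only [pow_succ, pow_zero, one_mul, mul_assoc]
      _ = (x .c * x .g * x .c * x .g * x .c * x .g * x .c * x .g * (x .a)⁻¹) * x .a := by group
      _ = x .a := by rw [this, one_mul]
  have hn2 : ((x .e)⁻¹ * (x .d)⁻¹ * x .c * x .g * x .e * x .d * (x .g)⁻¹ * x .e * x .d * x .c * x .d) * x .c *
      ((x .e)⁻¹ * (x .d)⁻¹ * x .c * x .g * x .e * x .d * (x .g)⁻¹ * x .e * x .d * x .c * x .d)⁻¹
      = x .d * x .c * x .d * x .c * x .g := by
    have := hE2
    simp only [n2, evc, List.map, ev, gl, dec0, dec1, dec2, dec3, dec4, dec5, dec6, dec7, dec8, dec9, dec10, dec11,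
      dec12, dec13, if_true, one_mul, Bool.false_eq_true, if_false] at this
    calc ((x .e)⁻¹ * (x .d)⁻¹ * x .c * x .g * x .e * x .d * (x .g)⁻¹ * x .e * x .d * x .c * x .d) * x .c *
        ((x .e)⁻¹ * (x .d)⁻¹ * x .c * x .g * x .e * x .d * (x .g)⁻¹ * x .e * x .d * x .c * x .d)⁻¹
        = ((x .e)⁻¹ * (x .d)⁻¹ * x .c * x .g * x .e * x .d * (x .g)⁻¹ * x .e * x .d * x .c * x .d * x .c *
          (x .d)⁻¹ * (x .c)⁻¹ * (x .d)⁻¹ * (x .e)⁻¹ * x .g * (x .d)⁻¹ * (x .e)⁻¹ * (x .g)⁻¹ * (x .c)⁻¹ * x .d *
          x .e * (x .g)⁻¹ * (x .c)⁻¹ * (x .d)⁻¹ * (x .c)⁻¹ * (x .d)⁻¹) * (x .d * x .c * x .d * x .c * x .g) := by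
          group
      _ = x .d * x .c * x .d * x .c * x .g := by rw [this, one_mul]
  obtain ⟨G, A, B, C, D, E, F, L⟩ := exists_onLifts σ hs hc ho (x .g) (x .a) (x .b) (x .c) (x .d) (x .e) (x .f)
    ((x .e)⁻¹ * (x .d)⁻¹ * x .c * x .g * x .e * x .d * (x .g)⁻¹ * x .e * x .d * x .c * x .d)
    ha hb hcc hd he hf hab hbc hcd hde hef hac had hae haf hbd hbe hbf hce hcf hdf hg2 hcd4 hx3 hx4 hn1 hn2
  refine ⟨tup G A B C D E F, ?_, exactO_of_lifts σ x G A B C D E F L⟩
  intro y
  cases y
  · exact L.mapG
  · exact L.mapA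
  · exact L.mapB
  · exact L.mapC
  · exact L.mapD
  · exact L.mapE
  · exact L.mapF

end Helper23

/-- [LIFT-O] kernel of odd order: the canonical lifts (involutions over `a … f`, the square root of `a f` over `g`)
satisfy all the relators of `exactO`. -/
theorem exists_lifts_odd (hP : RelPOK) (hE : ExtraOK)
    {Γ : Type} [Group Γ] [Finite Γ] (σ : Γ →* P) (hs : Function.Surjective σ)
    (hc : σ.ker ≤ Subgroup.center Γ) (hodd : Odd (Nat.card σ.ker)) :
    ∃ g : Gen → Γ, (∀ x, σ (g x) = PresentedGroup.of x) ∧ ∀ b ∈ exactO, evc g dec b = 1 :=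
  Helper23.exists_lifts_odd_gen (PresentedGroup.of (rels := RP)) hP hE.1 hE.2 σ hs hc hodd

end Cfsg.Agent.Lib.Helper18.ONM
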