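import Mathlib
import Cfsg.Prelude
import Cfsg.Agent.S1854

/-!
# Unconditional `L_{2'}`-balance, part A: odd-order elements, odd-generated subgroups,
central Sylow decompositions
-/

set_option autoImplicit false
set_option linter.unusedSectionVars false
set_option linter.unusedVariables false

namespace Cfsg.Agent.Lib.Helper23.L2Bal

open Cfsg Cfsg.Agent.S1854 Cfsg.Agent.Lib.Helper1

universe u

section Basic

variable {G : Type u} [Group G]

/-- generated by its elements of odd order -/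
def OddGen (K : Subgroup G) : Prop :=
  K ≤ Subgroup.closure {x : G | x ∈ K ∧ Odd (orderOf x)}

theorem OddGen.map {G' : Type*} [Group G'] (f : G →* G') {K : Subgroup G} (h : OddGen K) :
    OddGen (K.map f) := by
  unfold OddGen at *
  have h1 : K.map f ≤ (Subgroup.closure {x : G | x ∈ K ∧ Odd (orderOf x)}).map f :=
    Subgroup.map_mono h
  refine h1.trans ?_
  rw [MonoidHom.map_closure, Subgroup.closure_le]
  rintro _ ⟨x, ⟨hxK, hxo⟩, rfl⟩
  apply Subgroup.subset_closure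
  exact ⟨Subgroup.mem_map_of_mem f hxK, Odd.of_dvd_nat hxo (orderOf_map_dvd f x)⟩

theorem eq_one_of_two_pow_of_pow_odd {x : G} (h2 : ∃ k : ℕ, x ^ 2 ^ k = 1) {r : ℕ} (hr : Odd r)
    (hx : x ^ r = 1) : x = 1 := by
  obtain ⟨k, hk⟩ := h2
  have h1 : orderOf x ∣ 2 ^ k := orderOf_dvd_of_pow_eq_one hk
  have h3 : orderOf x ∣ r := orderOf_dvd_of_pow_eq_one hx
  have hcop : Nat.Coprime r (2 ^ k) := Nat.Coprime.pow_right k hr.coprime_two_right
  have h4 : orderOf x ∣ Nat.gcd r (2 ^ k) := Nat.dvd_gcd h3 h1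
  rw [Nat.Coprime.gcd_eq_one hcop] at h4
  exact orderOf_eq_one_iff.mp (Nat.dvd_one.mp h4)

theorem eq_one_of_two_pow_of_odd {x : G} (h2 : ∃ k : ℕ, x ^ 2 ^ k = 1) (hodd : Odd (orderOf x)) :
    x = 1 :=
  eq_one_of_two_pow_of_pow_odd h2 hodd (pow_orderOf_eq_one x)

theorem odd_orderOf_of_pow_eq_one {x : G} {r : ℕ} (hr : Odd r) (hx : x ^ r = 1) :
    Odd (orderOf x) :=
  Odd.of_dvd_nat hr (orderOf_dvd_of_pow_eq_one hx)

theorem odd_orderOf_of_mem [Finite G] {O : Subgroup G} (hO : Odd (Nat.card O)) {x : G} (hx : x ∈ O) :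
    Odd (orderOf x) :=
  Odd.of_dvd_nat hO (Subgroup.orderOf_dvd_natCard O hx)

theorem odd_orderOf_inv {x : G} (h : Odd (orderOf x)) : Odd (orderOf x⁻¹) := by
  rwa [orderOf_inv]

theorem odd_orderOf_conj {x : G} (g : G) (h : Odd (orderOf x)) : Odd (orderOf (g * x * g⁻¹)) := by
  have : orderOf (g * x * g⁻¹) = orderOf x := by
    have := MulEquiv.orderOf_eq (MulAut.conj g) x
    simpa [MulAut.conj_apply] using this
  rwa [this]

theorem isPGroup_zpowers {x : G} {k : ℕ} (hx : x ^ 2 ^ k = 1) : IsPGroup 2 (Subgroup.zpowers x) := by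
  rintro ⟨g, hg⟩
  obtain ⟨i, rfl⟩ := Subgroup.mem_zpowers_iff.mp hg
  refine ⟨k, ?_⟩
  apply Subtype.ext
  simp only [Subgroup.coe_pow, Subgroup.coe_one]
  rw [← zpow_natCast, ← zpow_mul, mul_comm, zpow_mul, zpow_natCast, hx, one_zpow]

/-- square roots in odd-order cyclic groups -/
theorem exists_sqrt_of_odd {δ : G} (hodd : Odd (orderOf δ)) : ∃ k : ℕ, (δ ^ k) * (δ ^ k) = δ := by
  obtain ⟨m, hm⟩ := hodd
  refine ⟨m + 1, ?_⟩
  rw [← pow_add]
  have : m + 1 + (m + 1) = orderOf δ + 1 := by omega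
  rw [this, pow_succ, pow_orderOf_eq_one, one_mul]

/-- an element moved by an involutory automorphism by an odd-order element can be adjusted, by a
power of that element, to a fixed point -/
theorem exists_fix_adjust (σ : MulAut G) (hσ : σ * σ = 1) (n : G)
    (hodd : Odd (orderOf (n⁻¹ * σ n))) :
    ∃ k : ℕ, σ (n * (n⁻¹ * σ n) ^ k) = n * (n⁻¹ * σ n) ^ k := by
  obtain ⟨k, hk⟩ := exists_sqrt_of_odd hodd
  refine ⟨k, ?_⟩
  have hσσ : ∀ x, σ (σ x) = x := fun x => by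
    have := congrArg (fun f : MulAut G => f x) hσ
    simpa using this
  have h1 : σ (n⁻¹ * σ n) = (n⁻¹ * σ n)⁻¹ := by
    rw [map_mul, map_inv, hσσ]; group
  have h2 : σ ((n⁻¹ * σ n) ^ k) = ((n⁻¹ * σ n) ^ k)⁻¹ := by rw [map_pow, h1, inv_pow]
  have h3 : σ n = n * (n⁻¹ * σ n) := by group
  rw [map_mul, h2]
  calc σ n * ((n⁻¹ * σ n) ^ k)⁻¹ = n * (n⁻¹ * σ n) * ((n⁻¹ * σ n) ^ k)⁻¹ := by rw [← h3]
    _ = n * ((n⁻¹ * σ n) ^ k * (n⁻¹ * σ n) ^ k) * ((n⁻¹ * σ n) ^ k)⁻¹ := by rw [hk]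
    _ = n * (n⁻¹ * σ n) ^ k := by group

/-- products in a join where the second subgroup normalizes the first -/
theorem exists_mul_of_mem_sup {A B : Subgroup G} (hBA : B ≤ Subgroup.normalizer (A : Set G))
    {x : G} (hx : x ∈ A ⊔ B) : ∃ a ∈ A, ∃ b ∈ B, x = a * b := by
  let T : Subgroup G :=
    { carrier := {x | ∃ a ∈ A, ∃ b ∈ B, x = a * b}
      one_mem' := ⟨1, A.one_mem, 1, B.one_mem, by simp⟩
      mul_mem' := by
        rintro _ _ ⟨a, ha, b, hb, rfl⟩ ⟨a', ha', b', hb', rfl⟩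
        refine ⟨a * (b * a' * b⁻¹), A.mul_mem ha ?_, b * b', B.mul_mem hb hb', by group⟩
        exact (Subgroup.mem_normalizer_iff.mp (hBA hb) a').mp ha'
      inv_mem' := by
        rintro _ ⟨a, ha, b, hb, rfl⟩
        refine ⟨b⁻¹ * a⁻¹ * b, ?_, b⁻¹, B.inv_mem hb, by group⟩
        have := (Subgroup.mem_normalizer_iff.mp (hBA (B.inv_mem hb)) a⁻¹).mp (A.inv_mem ha)
        simpa using this }
  have hle : A ⊔ B ≤ T := sup_le (fun a ha => ⟨a, ha, 1, B.one_mem, by simp⟩)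
    (fun b hb => ⟨1, A.one_mem, b, hb, by simp⟩)
  exact hle hx

theorem exists_mul_of_mem_sup_of_commute {A B : Subgroup G}
    (hcomm : ∀ a ∈ A, ∀ b ∈ B, a * b = b * a) {x : G} (hx : x ∈ A ⊔ B) :
    ∃ a ∈ A, ∃ b ∈ B, x = a * b := by
  apply exists_mul_of_mem_sup _ hx
  intro b hb
  rw [Subgroup.mem_normalizer_iff]
  intro a
  have e : ∀ a' ∈ A, b * a' * b⁻¹ = a' := by
    intro a' ha'
    rw [← hcomm a' ha' b hb]; group
  constructor
  · intro ha
    rw [e a ha]; exact ha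
  · intro ha
    have h1 := e _ ha
    have h2 : b * a * b⁻¹ = a := by
      have h3 : b * (b * a * b⁻¹) * b⁻¹ = b * a * b⁻¹ := h1
      have h4 := congrArg (fun t => b⁻¹ * t * b) h3
      have e1 : b⁻¹ * (b * (b * a * b⁻¹) * b⁻¹) * b = b * a * b⁻¹ := by group
      have e2 : b⁻¹ * (b * a * b⁻¹) * b = a := by group
      rw [e1, e2] at h4
      exact h4
    rw [← h2]; exact ha

/-- powers of a product with an element of a normalized subgroup -/
theorem exists_pow_mul_eq {O : Subgroup G} {k w : G} (hk : k ∈ Subgroup.normalizer (O : Set G))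
    (hw : w ∈ O) : ∀ j : ℕ, ∃ v ∈ O, (k * w) ^ j = k ^ j * v := by
  intro j
  induction j with
  | zero => exact ⟨1, O.one_mem, by simp⟩
  | succ j ih =>
    obtain ⟨v, hv, hj⟩ := ih
    have hkinv : k⁻¹ ∈ Subgroup.normalizer (O : Set G) := Subgroup.inv_mem _ hk
    have h1 : k⁻¹ * v * k ∈ O := by
      have := (Subgroup.mem_normalizer_iff.mp hkinv v).mp hv
      simpa using this
    refine ⟨k⁻¹ * v * k * w, O.mul_mem h1 hw, ?_⟩
    rw [pow_succ, hj, pow_succ]; group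

theorem odd_orderOf_mul_of_normalizer [Finite G] {O : Subgroup G} (hO : Odd (Nat.card O)) {k w : G}
    (hk : k ∈ Subgroup.normalizer (O : Set G)) (hw : w ∈ O) (hodd : Odd (orderOf k)) :
    Odd (orderOf (k * w)) := by
  obtain ⟨v, hv, hj⟩ := exists_pow_mul_eq hk hw (orderOf k)
  rw [pow_orderOf_eq_one, one_mul] at hj
  have h1 : ((k * w) ^ orderOf k) ^ Nat.card O = 1 := by
    rw [hj]
    exact orderOf_dvd_iff_pow_eq_one.mp (Subgroup.orderOf_dvd_natCard O hv)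
  rw [← pow_mul] at h1
  exact odd_orderOf_of_pow_eq_one (hodd.mul hO) h1

theorem mem_normalizer_of_forall_conj_mem [Finite G] {D : Subgroup G} {g : G}
    (h : ∀ d ∈ D, g * d * g⁻¹ ∈ D) : g ∈ Subgroup.normalizer (D : Set G) := by
  apply mem_normalizer_of_cj_eq_self
  have hle : D ≤ cj g D := fun d hd => mem_cj.mpr (h d hd)
  exact (Subgroup.eq_of_le_of_card_ge hle (card_cj g D).le).symm

theorem conj_mem_of_mem_normalizer {D : Subgroup G} {g d : G}
    (hg : g ∈ Subgroup.normalizer (D : Set G)) (hd : d ∈ D) : g * d * g⁻¹ ∈ D :=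
  (Subgroup.mem_normalizer_iff.mp hg d).mp hd

theorem conj_mem_of_mem_normalizer' {D : Subgroup G} {g d : G}
    (hg : g ∈ Subgroup.normalizer (D : Set G)) (hd : d ∈ D) : g⁻¹ * d * g ∈ D := by
  have := (Subgroup.mem_normalizer_iff.mp (Subgroup.inv_mem _ hg) d).mp hd
  simpa using this

end Basic

section Central

variable {G : Type u} [Group G] [Finite G]

/-- Burnside: a subgroup `C` whose `2`-elements all lie in a central subgroup `Z` splits as
`Z` times its odd part -/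
theorem exists_odd_part (C Z : Subgroup G) (hZC : Z ≤ C)
    (hZcen : ∀ z ∈ Z, ∀ c ∈ C, z * c = c * z)
    (hZall : ∀ c ∈ C, (∃ k : ℕ, c ^ 2 ^ k = 1) → c ∈ Z) :
    ∃ O : Subgroup G, O ≤ C ∧ Odd (Nat.card O) ∧ (∀ c ∈ C, Odd (orderOf c) → c ∈ O) ∧
      ∀ c ∈ C, ∃ z ∈ Z, ∃ o ∈ O, c = z * o := by
  classical
  haveI : Fact (Nat.Prime 2) := ⟨Nat.prime_two⟩
  obtain ⟨S⟩ : Nonempty (Sylow 2 ↥C) := inferInstance
  have hS2 : ∀ z : ↥C, z ∈ (S : Subgroup ↥C) → ∃ k : ℕ, (z : G) ^ 2 ^ k = 1 := by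
    intro z hz
    obtain ⟨k, hk⟩ := S.2 ⟨z, hz⟩
    refine ⟨k, ?_⟩
    have h1 : (z : ↥C) ^ 2 ^ k = 1 := by
      have := congrArg Subtype.val hk
      simpa using this
    have h2 := congrArg Subtype.val h1
    simpa using h2
  have hcen : ∀ z ∈ (S : Subgroup ↥C) ⊓ ⊤, ∀ c ∈ (⊤ : Subgroup ↥C), z * c = c * z := by
    intro z hz c _
    have hzZ : (z : G) ∈ Z := hZall _ z.2 (hS2 z hz.1)
    apply Subtype.ext
    simp only [Subgroup.coe_mul]
    exact hZcen _ hzZ _ c.2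
  have hdec := le_of_central_sylow S (⊤ : Subgroup ↥C) hcen
  have hcop : (Nat.card (pPrimeCore 2 ↥C)).Coprime 2 := pPrimeCore_coprime 2
  set O : Subgroup G := (pPrimeCore 2 ↥C).map C.subtype with hO
  have hOcard : Nat.card O = Nat.card (pPrimeCore 2 ↥C) :=
    Subgroup.card_map_of_injective C.subtype_injective
  have hOodd : Odd (Nat.card O) := by
    rw [hOcard]; exact Nat.coprime_two_right.mp hcop
  have hOC : O ≤ C := Subgroup.map_subtype_le _
  have hdec' : ∀ c ∈ C, ∃ z ∈ Z, (∃ k : ℕ, z ^ 2 ^ k = 1) ∧ ∃ o ∈ O, c = z * o := by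
    intro c hc
    obtain ⟨z, hz, d, hd, hcd⟩ := hdec ⟨c, hc⟩ (Subgroup.mem_top _)
    refine ⟨z, hZall _ z.2 (hS2 z hz.1), hS2 z hz.1, d, ⟨d, hd, rfl⟩, ?_⟩
    have := congrArg Subtype.val hcd
    simpa using this
  refine ⟨O, hOC, hOodd, ?_, fun c hc => ?_⟩
  · intro c hc hodd
    obtain ⟨z, hz, hz2, o, ho, rfl⟩ := hdec' c hc
    have hzo : z * o = o * z := hZcen z hz o (hOC ho)
    have h1 : (z * o) ^ Nat.card O = z ^ Nat.card O := by
      rw [(show Commute z o from hzo).mul_pow]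
      have : o ^ Nat.card O = 1 :=
        orderOf_dvd_iff_pow_eq_one.mp (Subgroup.orderOf_dvd_natCard O ho)
      rw [this, mul_one]
    have h2 : Odd (orderOf (z ^ Nat.card O)) := by
      rw [← h1]
      exact Odd.of_dvd_nat hodd (orderOf_pow_dvd _)
    have hz2' : ∃ k : ℕ, (z ^ Nat.card O) ^ 2 ^ k = 1 := by
      obtain ⟨k, hk⟩ := hz2
      exact ⟨k, by rw [← pow_mul, mul_comm, pow_mul, hk, one_pow]⟩
    have h3 : z ^ Nat.card O = 1 := eq_one_of_two_pow_of_odd hz2' h2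
    have h4 : z = 1 := eq_one_of_two_pow_of_pow_odd hz2 hOodd h3
    rw [h4, one_mul]; exact ho
  · obtain ⟨z, hz, _, o, ho, h⟩ := hdec' c hc
    exact ⟨z, hz, o, ho, h⟩

end Central

end Cfsg.Agent.Lib.Helper23.L2Bal
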