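import Mathlib
import Cfsg.Prelude
import Cfsg.Agent.S1854
import Cfsg.Agent.Lib.Helper23.L2BalA

/-!
# Unconditional `L_{2'}`-balance, part B: trivial action modulo the odd part, control of fusion
-/

set_option autoImplicit false
set_option linter.unusedSectionVars false
set_option linter.unusedVariables false

namespace Cfsg.Agent.Lib.Helper23.L2Bal

open Cfsg Cfsg.Agent.S1854 Cfsg.Agent.Lib.Helper1

universe u

section Act

variable {G : Type u} [Group G]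

theorem exists_pow_eq_one_of_isPGroup {D : Subgroup G} (h : IsPGroup 2 D) {d : G} (hd : d ∈ D) :
    ∃ k : ℕ, d ^ 2 ^ k = 1 := by
  obtain ⟨k, hk⟩ := h ⟨d, hd⟩
  exact ⟨k, by have := congrArg Subtype.val hk; simpa using this⟩

/-- an odd-order automorphism acting trivially on `N / C`, on `Z` and preserving the odd part `O`
of `C = Z × O` acts trivially on `N / O` -/
theorem act_trivial_of_odd {N C Z O : Subgroup G} (α : MulAut G) {r : ℕ} (hr : Odd r)
    (hαr : α ^ r = 1)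
    (hC : ∀ n ∈ N, n⁻¹ * α n ∈ C)
    (hZfix : ∀ z ∈ Z, α z = z)
    (hOα : ∀ o ∈ O, α o ∈ O)
    (hOC : O ≤ C)
    (hdec : ∀ c ∈ C, ∃ z ∈ Z, ∃ o ∈ O, c = z * o)
    (hZcen : ∀ z ∈ Z, ∀ c ∈ C, z * c = c * z)
    (hZ2 : ∀ z ∈ Z, ∃ k : ℕ, z ^ 2 ^ k = 1)
    (hOodd : ∀ o ∈ O, Odd (orderOf o)) :
    ∀ n ∈ N, n⁻¹ * α n ∈ O := by
  intro n hn
  obtain ⟨z, hz, o, ho, hzo⟩ := hdec _ (hC n hn)
  have hαn : α n = n * (z * o) := by rw [← hzo]; group
  have key : ∀ j : ℕ, ∃ oj ∈ O, (α ^ j) n = n * (z ^ j * oj) := by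
    intro j
    induction j with
    | zero => exact ⟨1, O.one_mem, by simp⟩
    | succ j ih =>
      obtain ⟨oj, hoj, hj⟩ := ih
      refine ⟨o * α oj, O.mul_mem ho (hOα oj hoj), ?_⟩
      have h1 : (α ^ (j + 1)) n = α ((α ^ j) n) := by
        rw [pow_succ']; rfl
      have hzj : z ^ j ∈ Z := Z.pow_mem hz j
      have hcomm : z ^ j * o = o * z ^ j := hZcen _ hzj o (hOC ho)
      rw [h1, hj, map_mul, map_mul, map_pow, hZfix z hz, hαn]
      calc n * (z * o) * (z ^ j * α oj) = n * (z * (o * z ^ j) * α oj) := by group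
        _ = n * (z * (z ^ j * o) * α oj) := by rw [hcomm]
        _ = n * (z ^ (j + 1) * (o * α oj)) := by rw [pow_succ']; group
  obtain ⟨or, hor, hr'⟩ := key r
  rw [hαr] at hr'
  have h1 : z ^ r * or = 1 := by
    have h2 : n = n * (z ^ r * or) := by simpa using hr'
    have h3 := congrArg (fun t => n⁻¹ * t) h2
    simp only [inv_mul_cancel, inv_mul_cancel_left] at h3
    exact h3.symm
  have h4 : z ^ r = or⁻¹ := eq_inv_of_mul_eq_one_left h1
  have h5 : Odd (orderOf (z ^ r)) := by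
    rw [h4]; exact odd_orderOf_inv (hOodd _ hor)
  have h6 : ∃ k : ℕ, (z ^ r) ^ 2 ^ k = 1 := by
    obtain ⟨k, hk⟩ := hZ2 z hz
    exact ⟨k, by rw [← pow_mul, mul_comm, pow_mul, hk, one_pow]⟩
  have h7 : z ^ r = 1 := eq_one_of_two_pow_of_odd h6 h5
  have h8 : z = 1 := eq_one_of_two_pow_of_pow_odd (hZ2 z hz) hr h7
  rw [hzo, h8, one_mul]
  exact ho

/-- an odd-generated group of automorphisms acting trivially on `N / C`, on `Z` and preserving
`O` acts trivially on `N / O` -/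
theorem act_trivial {N C Z O : Subgroup G} (A : Subgroup (MulAut G)) (hgen : OddGen A)
    (hN : ∀ α ∈ A, ∀ n ∈ N, α n ∈ N)
    (hC : ∀ α ∈ A, ∀ n ∈ N, n⁻¹ * α n ∈ C)
    (hZfix : ∀ α ∈ A, ∀ z ∈ Z, α z = z)
    (hOα : ∀ α ∈ A, ∀ o ∈ O, α o ∈ O)
    (hOC : O ≤ C)
    (hdec : ∀ c ∈ C, ∃ z ∈ Z, ∃ o ∈ O, c = z * o)
    (hZcen : ∀ z ∈ Z, ∀ c ∈ C, z * c = c * z)
    (hZ2 : ∀ z ∈ Z, ∃ k : ℕ, z ^ 2 ^ k = 1)
    (hOodd : ∀ o ∈ O, Odd (orderOf o)) :
    ∀ α ∈ A, ∀ n ∈ N, n⁻¹ * α n ∈ O := by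
  have key : ∀ β ∈ Subgroup.closure {x : MulAut G | x ∈ A ∧ Odd (orderOf x)},
      β ∈ A ∧ ∀ n ∈ N, n⁻¹ * β n ∈ O := by
    intro β hβ
    induction hβ using Subgroup.closure_induction with
    | mem β hβ =>
      exact ⟨hβ.1, act_trivial_of_odd β hβ.2 (pow_orderOf_eq_one β) (hC β hβ.1) (hZfix β hβ.1)
        (hOα β hβ.1) hOC hdec hZcen hZ2 hOodd⟩
    | one => exact ⟨A.one_mem, fun n _ => by simp⟩
    | mul β γ _ _ hβ hγ =>
      refine ⟨A.mul_mem hβ.1 hγ.1, ?_⟩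
      intro n hn
      have e : n⁻¹ * (β * γ) n = (n⁻¹ * β n) * β (n⁻¹ * γ n) := by
        rw [MulAut.mul_apply, map_mul, map_inv]; group
      rw [e]
      exact O.mul_mem (hβ.2 n hn) (hOα β hβ.1 _ (hγ.2 n hn))
    | inv β _ hβ =>
      refine ⟨A.inv_mem hβ.1, ?_⟩
      intro n hn
      have hm : β⁻¹ n ∈ N := hN β⁻¹ (A.inv_mem hβ.1) n hn
      have h1 := hβ.2 _ hm
      rw [MulAut.apply_inv_self] at h1
      have e : n⁻¹ * β⁻¹ n = ((β⁻¹ n)⁻¹ * n)⁻¹ := by group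
      rw [e]; exact O.inv_mem h1
  intro α hα
  exact (key α (hgen hα)).2

theorem map_mem_centralizer {D : Subgroup G} (α : MulAut G) (hα : ∀ d ∈ D, α d = d) {c : G}
    (hc : c ∈ Subgroup.centralizer (D : Set G)) : α c ∈ Subgroup.centralizer (D : Set G) := by
  rw [Subgroup.mem_centralizer_iff] at hc ⊢
  intro d hd
  have := congrArg α (hc d hd)
  rw [map_mul, map_mul, hα d hd] at this
  exact this

theorem map_conj_eq {D : Subgroup G} (α : MulAut G) (hα : ∀ d ∈ D, α d = d) {n d : G}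
    (hn : n ∈ Subgroup.normalizer (D : Set G)) (hd : d ∈ D) :
    α n * d * (α n)⁻¹ = n * d * n⁻¹ := by
  have h1 : n * d * n⁻¹ ∈ D := conj_mem_of_mem_normalizer hn hd
  have h2 : α (n * d * n⁻¹) = α n * d * (α n)⁻¹ := by
    rw [map_mul, map_mul, map_inv, hα d hd]
  rw [← h2, hα _ h1]

theorem map_mem_normalizer [Finite G] {D : Subgroup G} (α : MulAut G) (hα : ∀ d ∈ D, α d = d)
    {n : G} (hn : n ∈ Subgroup.normalizer (D : Set G)) :
    α n ∈ Subgroup.normalizer (D : Set G) := by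
  apply mem_normalizer_of_forall_conj_mem
  intro d hd
  rw [map_conj_eq α hα hn hd]
  exact conj_mem_of_mem_normalizer hn hd

theorem inv_mul_map_mem_centralizer {D : Subgroup G} (α : MulAut G) (hα : ∀ d ∈ D, α d = d)
    {n : G} (hn : n ∈ Subgroup.normalizer (D : Set G)) :
    n⁻¹ * α n ∈ Subgroup.centralizer (D : Set G) := by
  rw [Subgroup.mem_centralizer_iff]
  intro d hd
  have key := map_conj_eq α hα hn hd
  calc d * (n⁻¹ * α n) = n⁻¹ * (n * d * n⁻¹) * α n := by group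
    _ = n⁻¹ * (α n * d * (α n)⁻¹) * α n := by rw [key]
    _ = n⁻¹ * α n * d := by group

/-- for a `2`-subgroup `D` containing all `2`-elements of its centralizer, an odd-generated group
of automorphisms fixing `D` pointwise moves the elements of `N(D)` by odd-order elements of
`C(D)` -/
theorem aut_act_trivial [Finite G] (A : Subgroup (MulAut G)) (hgen : OddGen A) {D : Subgroup G}
    (hD2 : IsPGroup 2 D)
    (hfix : ∀ α ∈ A, ∀ d ∈ D, α d = d)
    (hZall : ∀ c ∈ Subgroup.centralizer (D : Set G), (∃ k : ℕ, c ^ 2 ^ k = 1) → c ∈ D) :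
    ∀ α ∈ A, ∀ n ∈ Subgroup.normalizer (D : Set G),
      n⁻¹ * α n ∈ Subgroup.centralizer (D : Set G) ∧ Odd (orderOf (n⁻¹ * α n)) := by
  set C := Subgroup.centralizer (D : Set G) with hCdef
  set Z := D ⊓ C with hZdef
  have hZcen : ∀ z ∈ Z, ∀ c ∈ C, z * c = c * z := fun z hz c hc =>
    Subgroup.mem_centralizer_iff.mp hc z hz.1
  obtain ⟨O, hOC, hOodd, hOall, hdec⟩ := exists_odd_part C Z inf_le_right hZcen
    (fun c hc h2 => ⟨hZall c hc h2, hc⟩)
  have h := act_trivial (N := Subgroup.normalizer (D : Set G)) (C := C) (Z := Z) (O := O) A hgen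
    (fun α hα n hn => map_mem_normalizer α (hfix α hα) hn)
    (fun α hα n hn => inv_mul_map_mem_centralizer α (hfix α hα) hn)
    (fun α hα z hz => hfix α hα z hz.1)
    (fun α hα o ho => hOall _ (map_mem_centralizer α (hfix α hα) (hOC ho))
      (by rw [MulEquiv.orderOf_eq]; exact odd_orderOf_of_mem hOodd ho))
    hOC hdec hZcen
    (fun z hz => exists_pow_eq_one_of_isPGroup hD2 hz.1)
    (fun o ho => odd_orderOf_of_mem hOodd ho)
  intro α hα n hn
  exact ⟨hOC (h α hα n hn), odd_orderOf_of_mem hOodd (h α hα n hn)⟩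

end Act

section Fusion

variable {G : Type u} [Group G] [Finite G]

/-- an Alperin–Goldschmidt subgroup contains all `2`-elements of its centralizer -/
theorem AG.two_elements_mem {P : Sylow 2 G} {D : Subgroup G} (h : AG P D) :
    ∀ c ∈ Subgroup.centralizer (D : Set G), (∃ k : ℕ, c ^ 2 ^ k = 1) → c ∈ D := by
  obtain ⟨hDP, hcen, hprod, hFN⟩ := h
  obtain ⟨hWV, hDV, hcomm, hdisj, hsup⟩ := hprod
  intro c hc ⟨k, hk⟩
  have hcV := hcen hc
  rw [← hsup] at hcV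
  obtain ⟨w, hw, d, hd, rfl⟩ := exists_mul_of_mem_sup_of_commute hcomm hcV
  have hWodd : Odd (Nat.card ((pPrimeCore 2 ↥(Subgroup.normalizer (D : Set G))).map
      (Subgroup.normalizer (D : Set G)).subtype)) := by
    rw [Subgroup.card_map_of_injective (Subgroup.subtype_injective _)]
    exact Nat.coprime_two_right.mp (pPrimeCore_coprime 2)
  have hwd : Commute w d := hcomm w hw d hd
  rw [hwd.mul_pow] at hk
  have h1 : w ^ 2 ^ k = (d ^ 2 ^ k)⁻¹ := eq_inv_of_mul_eq_one_left hk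
  have h2 : w ^ 2 ^ k ∈ (pPrimeCore 2 ↥(Subgroup.normalizer (D : Set G))).map
      (Subgroup.normalizer (D : Set G)).subtype ⊓ D :=
    ⟨Subgroup.pow_mem _ hw _, by rw [h1]; exact D.inv_mem (D.pow_mem hd _)⟩
  rw [hdisj, Subgroup.mem_bot] at h2
  have h3 : w = 1 := eq_one_of_two_pow_of_odd ⟨k, h2⟩ (odd_orderOf_of_mem hWodd hw)
  rw [h3, one_mul]
  exact hd

/-- control of fusion along an Alperin–Goldschmidt chain -/
theorem chain_control (P : Sylow 2 G) (F : Subgroup G)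
    (hF : ∀ D : Subgroup G, AG P D → ∀ x ∈ Subgroup.normalizer (D : Set G),
      ∃ x' ∈ F, ∀ d ∈ D, x'⁻¹ * d * x' = x⁻¹ * d * x) :
    ∀ (l : List (Subgroup G × G)) (Q : Subgroup G), Chain (AG P) Q l →
      ∃ g' ∈ F, ∀ q ∈ Q, g'⁻¹ * q * g' = (lprod l)⁻¹ * q * lprod l := by
  intro l
  induction l with
  | nil =>
    intro Q _
    exact ⟨1, F.one_mem, fun q _ => by simp⟩
  | cons e l ih =>
    intro Q hc
    obtain ⟨hgood, hnorm, hQe, hrest⟩ := hc
    obtain ⟨x', hx'F, hx'⟩ := hF e.1 hgood e.2 hnorm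
    obtain ⟨g'', hg''F, hg''⟩ := ih (cj e.2 Q) hrest
    refine ⟨x' * g'', F.mul_mem hx'F hg''F, ?_⟩
    intro q hq
    have h1 : x'⁻¹ * q * x' = e.2⁻¹ * q * e.2 := hx' q (hQe hq)
    have h2 : e.2⁻¹ * q * e.2 ∈ cj e.2 Q := conj_mem_cj hq
    have h3 := hg'' _ h2
    rw [lprod_cons]
    calc (x' * g'')⁻¹ * q * (x' * g'') = g''⁻¹ * (x'⁻¹ * q * x') * g'' := by group
      _ = g''⁻¹ * (e.2⁻¹ * q * e.2) * g'' := by rw [h1]
      _ = (lprod l)⁻¹ * (e.2⁻¹ * q * e.2) * lprod l := h3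
      _ = (e.2 * lprod l)⁻¹ * q * (e.2 * lprod l) := by group

/-- a subgroup `F` matching the automizers of the Alperin–Goldschmidt subgroups controls fusion -/
theorem control_of_fusion (P : Sylow 2 G) (F : Subgroup G)
    (hF : ∀ D : Subgroup G, AG P D → ∀ x ∈ Subgroup.normalizer (D : Set G),
      ∃ x' ∈ F, ∀ d ∈ D, x'⁻¹ * d * x' = x⁻¹ * d * x)
    {Q : Subgroup G} (hQ : Q ≤ P) {g : G} (hg : cj g Q ≤ P) :
    ∃ g' ∈ F, ∀ q ∈ Q, g'⁻¹ * q * g' = g⁻¹ * q * g := by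
  obtain ⟨l, c, hl, hc, hgc⟩ := main P Q hQ g hg
  obtain ⟨g', hg'F, hg'⟩ := chain_control P F hF l Q hl
  refine ⟨g', hg'F, ?_⟩
  intro q hq
  rw [hg' q hq, hgc]
  have h1 : q * c = c * q := Subgroup.mem_centralizer_iff.mp hc q hq
  calc (lprod l)⁻¹ * q * lprod l = (lprod l)⁻¹ * (c⁻¹ * (c * q)) * lprod l := by group
    _ = (lprod l)⁻¹ * (c⁻¹ * (q * c)) * lprod l := by rw [h1]
    _ = (c * lprod l)⁻¹ * q * (c * lprod l) := by group

theorem exists_cj_le_sylow (S : Sylow 2 G) {T : Subgroup G} (hT : IsPGroup 2 T) :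
    ∃ y : G, cj y T ≤ S := by
  haveI : Fact (Nat.Prime 2) := ⟨Nat.prime_two⟩
  obtain ⟨y, _, hy⟩ := Cfsg.Agent.Lib.Helper13.exists_conj_le_of_relIndex (⊤ : Subgroup G)
    (S : Subgroup G) T S.2 (by rw [Subgroup.relIndex_top_right]; exact S.not_dvd_index) le_top hT
  refine ⟨y⁻¹, ?_⟩
  intro x hx
  rw [mem_cj] at hx
  have := hy _ hx
  have e : y * (y⁻¹ * x * y⁻¹⁻¹) * y⁻¹ = x := by group
  rwa [e] at this

end Fusion

end Cfsg.Agent.Lib.Helper23.L2Bal
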