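import Mathlib
import Cfsg.Prelude
import Cfsg.Agent.S1854
import Cfsg.Agent.Lib.Helper23.L2BalB
import Cfsg.Agent.Lib.Helper9.ZStar

/-!
# Unconditional `L_{2'}`-balance, part C: Glauberman's theorem on automorphisms centralizing a
Sylow `2`-subgroup
-/

set_option autoImplicit false
set_option linter.unusedSectionVars false
set_option linter.unusedVariables false

namespace Cfsg.Agent.Lib.Helper23.L2Bal

open Cfsg Cfsg.Agent.S1854 Cfsg.Agent.Lib.Helper1

universe u

section Glauberman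

variable {G : Type u} [Group G] [Finite G]

/-- the twisted commutator map -/
def kap (σ : MulAut G) (h : G) : G := h⁻¹ * σ h

theorem kap_mul_right (σ : MulAut G) (h : G) {g : G} (hg : σ g = g) :
    kap σ (h * g) = g⁻¹ * kap σ h * g := by
  unfold kap; rw [map_mul, hg]; group

theorem kap_mul_left (σ : MulAut G) (h : G) {g : G} (hg : σ g = g) :
    kap σ (g * h) = kap σ h := by
  unfold kap; rw [map_mul, hg]; group

theorem sylow_relIndex_not_dvd (S : Sylow 2 G) {F : Subgroup G} (hSF : (S : Subgroup G) ≤ F) :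
    ¬ 2 ∣ (S : Subgroup G).relIndex F := by
  intro hdvd
  exact S.not_dvd_index (hdvd.trans (Dvd.intro _ (Subgroup.relIndex_mul_index hSF)))

theorem fix_control (S : Sylow 2 G) (A : Subgroup (MulAut G)) (hgen : OddGen A)
    (hfix : ∀ α ∈ A, ∀ s ∈ (S : Subgroup G), α s = s) {σ : MulAut G} (hσA : σ ∈ A)
    (hσ : σ * σ = 1) :
    ∀ D : Subgroup G, AG S D → ∀ x ∈ Subgroup.normalizer (D : Set G),
      ∃ x' ∈ fixedSubgroup σ, ∀ d ∈ D, x'⁻¹ * d * x' = x⁻¹ * d * x := by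
  intro D hD x hx
  have hDS : D ≤ S := hD.1
  have hD2 : IsPGroup 2 D := S.2.to_le hDS
  have hfixD : ∀ α ∈ A, ∀ d ∈ D, α d = d := fun α hα d hd => hfix α hα d (hDS hd)
  obtain ⟨hcen, hodd⟩ := aut_act_trivial A hgen hD2 hfixD (AG.two_elements_mem hD) σ hσA x hx
  obtain ⟨k, hk⟩ := exists_fix_adjust σ hσ x hodd
  refine ⟨x * (x⁻¹ * σ x) ^ k, hk, ?_⟩
  intro d hd
  have h1 : x⁻¹ * d * x ∈ D := conj_mem_of_mem_normalizer' hx hd
  have h2 : (x⁻¹ * σ x) ^ k ∈ Subgroup.centralizer (D : Set G) := Subgroup.pow_mem _ hcen k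
  have h3 := Subgroup.mem_centralizer_iff.mp h2 _ h1
  obtain ⟨δ, hδ⟩ : ∃ δ, δ = (x⁻¹ * σ x) ^ k := ⟨_, rfl⟩
  rw [← hδ] at h3 ⊢
  calc (x * δ)⁻¹ * d * (x * δ) = δ⁻¹ * ((x⁻¹ * d * x) * δ) := by group
    _ = δ⁻¹ * (δ * (x⁻¹ * d * x)) := by rw [h3]
    _ = x⁻¹ * d * x := by group

theorem kap_eq_one_of_mem_sylow (S : Sylow 2 G) (A : Subgroup (MulAut G)) (hgen : OddGen A)
    (hfix : ∀ α ∈ A, ∀ s ∈ (S : Subgroup G), α s = s) {σ : MulAut G} (hσA : σ ∈ A)
    (hσ : σ * σ = 1) :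
    ∀ h : G, kap σ h ∈ (S : Subgroup G) → kap σ h = 1 := by
  classical
  by_contra hcon
  push Not at hcon
  obtain ⟨h₀, hh₀S, hh₀ne⟩ := hcon
  have hSF : (S : Subgroup G) ≤ fixedSubgroup σ := fun s hs => hfix σ hσA s hs
  have hctl := fix_control S A hgen hfix hσA hσ
  let Bad : Set G := {s | s ∈ (S : Subgroup G) ∧ s ≠ 1 ∧ ∃ h, kap σ h = s}
  have hBadne : Bad.Nonempty := ⟨kap σ h₀, hh₀S, hh₀ne, h₀, rfl⟩
  obtain ⟨s, hsBad, hsmax⟩ := Set.exists_max_image Bad
    (fun s => Nat.card ↥((S : Subgroup G) ⊓ Subgroup.centralizer {s})) (Set.toFinite Bad) hBadne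
  obtain ⟨hsS, hsne, h, hh⟩ := hsBad
  obtain ⟨A₀, hA₀⟩ : ∃ A₀, A₀ = (S : Subgroup G) ⊓ Subgroup.centralizer {s} := ⟨_, rfl⟩
  have hA₀S : A₀ ≤ S := by rw [hA₀]; exact inf_le_left
  have hA₀c : ∀ a ∈ A₀, a * s = s * a := by
    intro a ha
    rw [hA₀] at ha
    exact Subgroup.mem_centralizer_singleton_iff.mp ha.2
  have hsA₀ : s ∈ A₀ := by
    rw [hA₀]
    exact ⟨hsS, Subgroup.mem_centralizer_singleton_iff.mpr rfl⟩
  have hσh : σ h = h * s := by rw [← hh]; unfold kap; group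
  have h1 : cj h⁻¹ A₀ ≤ fixedSubgroup σ := by
    intro x hx
    rw [mem_cj, inv_inv] at hx
    have hσa : σ (h⁻¹ * x * h) = h⁻¹ * x * h := hfix σ hσA _ (hA₀S hx)
    have hsa := hA₀c _ hx
    obtain ⟨a, ha⟩ : ∃ a, a = h⁻¹ * x * h := ⟨_, rfl⟩
    rw [← ha] at hσa hsa
    have hx_eq : x = h * a * h⁻¹ := by rw [ha]; group
    have hσx : σ x = (h * s) * a * (h * s)⁻¹ := by
      rw [hx_eq, map_mul, map_mul, map_inv, hσa, hσh]
    show σ x = x
    calc σ x = (h * s) * a * (h * s)⁻¹ := hσx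
      _ = h * (s * a) * s⁻¹ * h⁻¹ := by group
      _ = h * (a * s) * s⁻¹ * h⁻¹ := by rw [hsa]
      _ = h * a * h⁻¹ := by group
      _ = x := hx_eq.symm
  have hA₀2 : IsPGroup 2 A₀ := S.2.to_le hA₀S
  have h2 : IsPGroup 2 (cj h⁻¹ A₀) := isPGroup_cj hA₀2 _
  obtain ⟨f, hfF, hf⟩ := Cfsg.Agent.Lib.Helper13.exists_conj_le_of_relIndex (fixedSubgroup σ)
    (S : Subgroup G) (cj h⁻¹ A₀) S.2 (sylow_relIndex_not_dvd S hSF) h1 h2
  obtain ⟨h₁, hh₁⟩ : ∃ h₁, h₁ = f * h := ⟨_, rfl⟩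
  have hκ₁ : kap σ h₁ = s := by rw [hh₁, kap_mul_left σ h hfF, hh]
  obtain ⟨D, hD⟩ : ∃ D, D = cj h₁⁻¹ A₀ := ⟨_, rfl⟩
  have hDmem : ∀ d, d ∈ D ↔ h₁⁻¹ * d * h₁ ∈ A₀ := by
    intro d
    rw [hD, mem_cj, inv_inv]
  have hDS : D ≤ S := by
    intro d hd
    rw [hDmem] at hd
    have h3 : f⁻¹ * d * f ∈ cj h⁻¹ A₀ := by
      rw [mem_cj, inv_inv]
      have e : h⁻¹ * (f⁻¹ * d * f) * h = h₁⁻¹ * d * h₁ := by rw [hh₁]; group
      rw [e]; exact hd
    have h4 := hf _ h3
    have e : f * (f⁻¹ * d * f) * f⁻¹ = d := by group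
    rwa [e] at h4
  have hD2 : IsPGroup 2 D := S.2.to_le hDS
  have hcjD : cj h₁ D = A₀ := by rw [hD]; exact cj_cj_inv h₁ A₀
  have hcardD : Nat.card D = Nat.card A₀ := by rw [hD]; exact card_cj _ _
  obtain ⟨g', hg'F, hg'⟩ := control_of_fusion S (fixedSubgroup σ) hctl hDS (g := h₁)
    (by rw [hcjD]; exact hA₀S)
  have hcD : h₁ * g'⁻¹ ∈ Subgroup.centralizer (D : Set G) := by
    rw [Subgroup.mem_centralizer_iff]
    intro d hd
    have := hg' d hd
    calc d * (h₁ * g'⁻¹) = h₁ * (h₁⁻¹ * d * h₁) * g'⁻¹ := by group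
      _ = h₁ * (g'⁻¹ * d * g') * g'⁻¹ := by rw [this]
      _ = h₁ * g'⁻¹ * d := by group
  obtain ⟨s', hs'⟩ : ∃ s', s' = h₁ * s * h₁⁻¹ := ⟨_, rfl⟩
  have hs'D : s' ∈ D := by
    rw [hDmem, hs']
    have e : h₁⁻¹ * (h₁ * s * h₁⁻¹) * h₁ = s := by group
    rw [e]; exact hsA₀
  have hs'g : s' = g' * s * g'⁻¹ := by
    have h3 := hg' s' hs'D
    have e : h₁⁻¹ * s' * h₁ = s := by rw [hs']; group
    rw [e] at h3
    rw [← h3]; group
  have hg'inv : σ g'⁻¹ = g'⁻¹ := (fixedSubgroup σ).inv_mem hg'F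
  have hκc : kap σ (h₁ * g'⁻¹) = s' := by
    rw [kap_mul_right σ h₁ hg'inv, hκ₁, inv_inv, hs'g]
  have hs'ne : s' ≠ 1 := by
    intro h3
    apply hsne
    have e : s = h₁⁻¹ * s' * h₁ := by rw [hs']; group
    rw [e, h3]; group
  have hDcen : ∀ d ∈ D, d * s' = s' * d := by
    intro d hd
    have h3 := hA₀c _ ((hDmem d).mp hd)
    rw [hs']
    calc d * (h₁ * s * h₁⁻¹) = h₁ * ((h₁⁻¹ * d * h₁) * s) * h₁⁻¹ := by group
      _ = h₁ * (s * (h₁⁻¹ * d * h₁)) * h₁⁻¹ := by rw [h3]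
      _ = h₁ * s * h₁⁻¹ * d := by group
  have hfixD : ∀ α ∈ A, ∀ d ∈ D, α d = d := fun α hα d hd => hfix α hα d (hDS hd)
  -- the `2`-elements of `C(D)` lie in `D`
  have hZall : ∀ x ∈ Subgroup.centralizer (D : Set G), (∃ k : ℕ, x ^ 2 ^ k = 1) → x ∈ D := by
    intro x hx ⟨k, hk⟩
    have hxs' : x * s' = s' * x := (Subgroup.mem_centralizer_iff.mp hx s' hs'D).symm
    have hDnorm : D ≤ Subgroup.normalizer ((Subgroup.zpowers x : Subgroup G) : Set G) := by
      intro d hd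
      apply mem_normalizer_of_forall_conj_mem
      intro t ht
      have h3 : d * t * d⁻¹ = t := by
        have hxd : d * x = x * d := Subgroup.mem_centralizer_iff.mp hx d hd
        obtain ⟨i, rfl⟩ := Subgroup.mem_zpowers_iff.mp ht
        have : Commute d (x ^ i) := (show Commute d x from hxd).zpow_right i
        rw [this.eq]; group
      rw [h3]; exact ht
    have hT2 : IsPGroup 2 (D ⊔ Subgroup.zpowers x : Subgroup G) :=
      IsPGroup.to_sup_of_normal_right' hD2 (isPGroup_zpowers hk) hDnorm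
    obtain ⟨y, hy⟩ := exists_cj_le_sylow S hT2
    have hyD : cj y D ≤ S := (cj_mono le_sup_left y).trans hy
    obtain ⟨y', hy'F, hy'⟩ := control_of_fusion S (fixedSubgroup σ) hctl hDS (g := y) hyD
    obtain ⟨s'', hs''⟩ : ∃ s'', s'' = y⁻¹ * s' * y := ⟨_, rfl⟩
    have hκ2 : kap σ (h₁ * g'⁻¹ * y') = s'' := by
      rw [kap_mul_right σ _ hy'F, hκc, hy' s' hs'D, hs'']
    have hs''S : s'' ∈ (S : Subgroup G) := by
      apply hyD
      rw [hs'']
      exact conj_mem_cj hs'D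
    have hs''ne : s'' ≠ 1 := by
      intro h3
      apply hs'ne
      have e : s' = y * s'' * y⁻¹ := by rw [hs'']; group
      rw [e, h3]; group
    have hmax := hsmax s'' ⟨hs''S, hs''ne, _, hκ2⟩
    have hTcen : (D ⊔ Subgroup.zpowers x : Subgroup G) ≤ Subgroup.centralizer {s'} := by
      apply sup_le
      · intro d hd
        exact Subgroup.mem_centralizer_singleton_iff.mpr (hDcen d hd)
      · rw [Subgroup.zpowers_le]
        exact Subgroup.mem_centralizer_singleton_iff.mpr hxs'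
    have hle : cj y (D ⊔ Subgroup.zpowers x : Subgroup G) ≤
        (S : Subgroup G) ⊓ Subgroup.centralizer {s''} := by
      intro t ht
      refine ⟨hy ht, ?_⟩
      rw [mem_cj] at ht
      have h3 := Subgroup.mem_centralizer_singleton_iff.mp (hTcen ht)
      apply Subgroup.mem_centralizer_singleton_iff.mpr
      rw [hs'']
      calc t * (y⁻¹ * s' * y) = y⁻¹ * ((y * t * y⁻¹) * s') * y := by group
        _ = y⁻¹ * (s' * (y * t * y⁻¹)) * y := by rw [h3]
        _ = y⁻¹ * s' * y * t := by group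
    have hcard : Nat.card (D ⊔ Subgroup.zpowers x : Subgroup G) ≤ Nat.card D := by
      rw [← card_cj y, hcardD]
      refine (Subgroup.card_le_of_le hle).trans ?_
      rw [hA₀]
      exact hmax
    have hDT : D = (D ⊔ Subgroup.zpowers x : Subgroup G) :=
      Subgroup.eq_of_le_of_card_ge le_sup_left hcard
    rw [hDT]
    exact (le_sup_right : Subgroup.zpowers x ≤ D ⊔ Subgroup.zpowers x)
      (Subgroup.mem_zpowers x)
  have hcN : h₁ * g'⁻¹ ∈ Subgroup.normalizer (D : Set G) :=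
    Subgroup.centralizer_le_normalizer _ hcD
  obtain ⟨_, hodd⟩ := aut_act_trivial A hgen hD2 hfixD hZall σ hσA _ hcN
  have hodd' : Odd (orderOf s') := by
    rw [← hκc]; exact hodd
  exact hs'ne (eq_one_of_two_pow_of_odd (exists_pow_eq_one_of_isPGroup S.2 (hDS hs'D)) hodd')

theorem kap_eq_one_of_fixed (S : Sylow 2 G) (A : Subgroup (MulAut G)) (hgen : OddGen A)
    (hfix : ∀ α ∈ A, ∀ s ∈ (S : Subgroup G), α s = s) {σ : MulAut G} (hσA : σ ∈ A)
    (hσ : σ * σ = 1) :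
    ∀ h : G, σ (kap σ h) = kap σ h → kap σ h = 1 := by
  intro h hfixr
  have hSF : (S : Subgroup G) ≤ fixedSubgroup σ := fun s hs => hfix σ hσA s hs
  have hσσ : ∀ x, σ (σ x) = x := fun x => by
    have := congrArg (fun f : MulAut G => f x) hσ
    simpa using this
  have hrinv : σ (kap σ h) = (kap σ h)⁻¹ := by
    unfold kap; rw [map_mul, map_inv, hσσ]; group
  have hr2 : kap σ h * kap σ h = 1 := mul_eq_one_iff_eq_inv.mpr (hfixr.symm.trans hrinv)
  have hr2' : kap σ h ^ 2 ^ 1 = 1 := by rw [pow_one, pow_two]; exact hr2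
  have hle : Subgroup.zpowers (kap σ h) ≤ fixedSubgroup σ := by
    rw [Subgroup.zpowers_le]; exact hfixr
  obtain ⟨f, hfF, hf⟩ := Cfsg.Agent.Lib.Helper13.exists_conj_le_of_relIndex (fixedSubgroup σ)
    (S : Subgroup G) (Subgroup.zpowers (kap σ h)) S.2 (sylow_relIndex_not_dvd S hSF) hle
    (isPGroup_zpowers hr2')
  have h1 := hf _ (Subgroup.mem_zpowers _)
  have hfinv : σ f⁻¹ = f⁻¹ := (fixedSubgroup σ).inv_mem hfF
  have h2 : kap σ (h * f⁻¹) = f * kap σ h * f⁻¹ := by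
    rw [kap_mul_right σ h hfinv, inv_inv]
  have h3 := kap_eq_one_of_mem_sylow S A hgen hfix hσA hσ (h * f⁻¹) (by rw [h2]; exact h1)
  rw [h2] at h3
  have e : kap σ h = f⁻¹ * (f * kap σ h * f⁻¹) * f := by group
  rw [e, h3]; group

/-- **Glauberman**: an involutory automorphism in an odd-generated group of automorphisms fixing a
Sylow `2`-subgroup pointwise acts trivially modulo `O(G)` -/
theorem glauberman_aut (S : Sylow 2 G) (A : Subgroup (MulAut G)) (hgen : OddGen A)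
    (hfix : ∀ α ∈ A, ∀ s ∈ (S : Subgroup G), α s = s) {σ : MulAut G} (hσA : σ ∈ A)
    (hσ : σ * σ = 1) (g : G) : g⁻¹ * σ g ∈ pPrimeCore 2 G := by
  by_cases hσ1 : σ = 1
  · subst hσ1
    simp
  have hG7 := kap_eq_one_of_fixed S A hgen hfix hσA hσ
  let φ : ↥(Subgroup.zpowers σ) →* MulAut G := (Subgroup.zpowers σ).subtype
  haveI : Finite (G ⋊[φ] ↥(Subgroup.zpowers σ)) :=
    Finite.of_equiv _ SemidirectProduct.equivProd.symm
  let σz : ↥(Subgroup.zpowers σ) := ⟨σ, Subgroup.mem_zpowers σ⟩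
  let u : G ⋊[φ] ↥(Subgroup.zpowers σ) := SemidirectProduct.inr σz
  have hφ : ∀ n : G, φ σz n = σ n := fun n => rfl
  have huu : u * u = 1 := by
    show SemidirectProduct.inr σz * SemidirectProduct.inr σz = 1
    rw [← map_mul]
    have : σz * σz = 1 := Subtype.ext hσ
    rw [this, map_one]
  have hu1 : u ≠ 1 := by
    intro h
    have h1 : (SemidirectProduct.inr σz : G ⋊[φ] ↥(Subgroup.zpowers σ)) =
        SemidirectProduct.inr 1 := by rw [map_one]; exact h
    have h2 := SemidirectProduct.inr_injective h1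
    exact hσ1 (congrArg Subtype.val h2)
  have huinv : u⁻¹ = u := (mul_eq_one_iff_eq_inv.mp huu).symm
  have hu_inl : ∀ n : G, u * SemidirectProduct.inl n = SemidirectProduct.inl (σ n) * u := by
    intro n
    have h1 := SemidirectProduct.inl_aut (φ := φ) σz n
    rw [hφ] at h1
    rw [h1]
    show u * SemidirectProduct.inl n = u * SemidirectProduct.inl n * SemidirectProduct.inr σz⁻¹ * u
    have : (SemidirectProduct.inr σz⁻¹ : G ⋊[φ] ↥(Subgroup.zpowers σ)) = u⁻¹ := map_inv _ _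
    rw [this]; group
  have hcomm : ∀ z : ↥(Subgroup.zpowers σ), SemidirectProduct.inr z * u =
      u * (SemidirectProduct.inr z : G ⋊[φ] ↥(Subgroup.zpowers σ)) := by
    intro z
    show SemidirectProduct.inr z * SemidirectProduct.inr σz =
      SemidirectProduct.inr σz * SemidirectProduct.inr z
    rw [← map_mul, ← map_mul]
    congr 1
    obtain ⟨i, hi⟩ := Subgroup.mem_zpowers_iff.mp z.2
    apply Subtype.ext
    show (z : MulAut G) * σ = σ * (z : MulAut G)
    rw [← hi]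
    exact (Commute.zpow_self σ i).eq
  have hconj : ∀ x : G ⋊[φ] ↥(Subgroup.zpowers σ),
      x * u * x⁻¹ = SemidirectProduct.inl (x.left * σ (x.left⁻¹)) * u := by
    intro x
    have hx := SemidirectProduct.inl_left_mul_inr_right x
    have h1 := hcomm x.right
    have h2 := hu_inl x.left⁻¹
    rw [map_mul]
    calc x * u * x⁻¹ = (SemidirectProduct.inl x.left * SemidirectProduct.inr x.right) * u *
          (SemidirectProduct.inl x.left * SemidirectProduct.inr x.right)⁻¹ := by rw [hx]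
      _ = SemidirectProduct.inl x.left * (SemidirectProduct.inr x.right * u) *
          (SemidirectProduct.inr x.right)⁻¹ * (SemidirectProduct.inl x.left)⁻¹ := by group
      _ = SemidirectProduct.inl x.left * (u * SemidirectProduct.inr x.right) *
          (SemidirectProduct.inr x.right)⁻¹ * (SemidirectProduct.inl x.left)⁻¹ := by rw [h1]
      _ = SemidirectProduct.inl x.left * (u * SemidirectProduct.inl x.left⁻¹) := by
          rw [map_inv]; group
      _ = SemidirectProduct.inl x.left * (SemidirectProduct.inl (σ x.left⁻¹) * u) := by rw [h2]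
      _ = SemidirectProduct.inl x.left * SemidirectProduct.inl (σ x.left⁻¹) * u := by group
  have hiso : IsIsolatedInvolution u := by
    refine ⟨orderOf_eq_prime (by rw [pow_two]; exact huu) hu1, ?_⟩
    intro x hx
    rw [hconj x] at hx ⊢
    have hr : x.left * σ (x.left⁻¹) = kap σ (x.left⁻¹) := by
      unfold kap; rw [inv_inv]
    rw [hr] at hx ⊢
    have h1 : u * (SemidirectProduct.inl (kap σ x.left⁻¹) * u) =
        SemidirectProduct.inl (kap σ x.left⁻¹) * u * u := hx.eq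
    have h2 : u * (SemidirectProduct.inl (kap σ x.left⁻¹) * u) =
        SemidirectProduct.inl (σ (kap σ x.left⁻¹)) * u * u := by
      rw [← mul_assoc, hu_inl]
    rw [h2] at h1
    have h3 : (SemidirectProduct.inl (σ (kap σ x.left⁻¹)) : G ⋊[φ] ↥(Subgroup.zpowers σ)) =
        SemidirectProduct.inl (kap σ x.left⁻¹) :=
      mul_right_cancel (mul_right_cancel h1)
    have h4 := SemidirectProduct.inl_injective h3
    rw [hG7 _ h4, map_one, one_mul]
  have hz := Cfsg.Agent.Lib.Helper9.zstar hiso (SemidirectProduct.inl g)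
  have h1 : u * SemidirectProduct.inl g * u⁻¹ * (SemidirectProduct.inl g)⁻¹ =
      SemidirectProduct.inl (σ g * g⁻¹) := by
    rw [hu_inl, map_mul, map_inv]; group
  rw [h1] at hz
  have hKn : ((pPrimeCore 2 (G ⋊[φ] ↥(Subgroup.zpowers σ))).comap
      (SemidirectProduct.inl : G →* G ⋊[φ] ↥(Subgroup.zpowers σ))).Normal :=
    Subgroup.Normal.comap (pPrimeCore_normal 2 _) _
  have hKc : (Nat.card ((pPrimeCore 2 (G ⋊[φ] ↥(Subgroup.zpowers σ))).comap
      (SemidirectProduct.inl : G →* G ⋊[φ] ↥(Subgroup.zpowers σ)))).Coprime 2 :=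
    Nat.Coprime.coprime_dvd_left
      (Subgroup.card_comap_dvd_of_injective _ _ SemidirectProduct.inl_injective)
      (pPrimeCore_coprime 2)
  have hKle := le_pPrimeCore hKn hKc
  have h2 : σ g * g⁻¹ ∈ (pPrimeCore 2 (G ⋊[φ] ↥(Subgroup.zpowers σ))).comap
      (SemidirectProduct.inl : G →* G ⋊[φ] ↥(Subgroup.zpowers σ)) := hz
  have h3 := hKn.conj_mem _ h2 g⁻¹
  have e : g⁻¹ * (σ g * g⁻¹) * g⁻¹⁻¹ = g⁻¹ * σ g := by group
  rw [e] at h3
  exact hKle h3

/-- in a group with trivial odd core, an odd-generated group of automorphisms fixing a Sylow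
`2`-subgroup pointwise has no nontrivial `2`-elements -/
theorem aut_two_element_eq_one (S : Sylow 2 G) (A : Subgroup (MulAut G)) (hgen : OddGen A)
    (hfix : ∀ α ∈ A, ∀ s ∈ (S : Subgroup G), α s = s) (hO : pPrimeCore 2 G = ⊥) :
    ∀ (k : ℕ) (σ : MulAut G), σ ∈ A → σ ^ 2 ^ k = 1 → σ = 1 := by
  intro k
  induction k with
  | zero =>
    intro σ _ h
    simpa using h
  | succ k ih =>
    intro σ hσA h
    have hτ : σ ^ 2 ^ k * σ ^ 2 ^ k = 1 := by
      rw [← pow_add, ← two_mul, ← pow_succ']; exact h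
    apply ih σ hσA
    ext g
    have h1 := glauberman_aut S A hgen hfix (A.pow_mem hσA _) hτ g
    rw [hO, Subgroup.mem_bot] at h1
    have h2 : (σ ^ 2 ^ k) g = g := by
      have := congrArg (fun t => g * t) h1
      simpa using this
    simpa using h2

end Glauberman

end Cfsg.Agent.Lib.Helper23.L2Bal
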