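import Mathlib
import Cfsg.Prelude
import Cfsg.Agent.S1854
import Cfsg.Agent.Lib.Helper23.L2BalB
import Cfsg.Agent.Lib.Helper23.LBal1

/-!
# Unconditional `L_{2'}`-balance, part D: climbing to a Sylow `2`-subgroup
-/

set_option autoImplicit false
set_option linter.unusedSectionVars false
set_option linter.unusedVariables false

namespace Cfsg.Agent.Lib.Helper23.L2Bal

open Cfsg Cfsg.Agent.S1854 Cfsg.Agent.Lib.Helper1

universe u

section Climb

variable {Y : Type u} [Group Y] [Finite Y]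

/-- a maximal `2`-subgroup of `U` containing a given `2`-subgroup -/
theorem exists_sylow_ge (U B : Subgroup Y) (hB : IsPGroup 2 B) (hBU : B ≤ U) :
    ∃ P : Subgroup Y, B ≤ P ∧ P ≤ U ∧ IsPGroup 2 P ∧ ¬ 2 ∣ P.relIndex U ∧
      ∀ Q : Subgroup Y, IsPGroup 2 Q → P ≤ Q → Q ≤ U → Q = P := by
  haveI : Fact (Nat.Prime 2) := ⟨Nat.prime_two⟩
  have hB' : IsPGroup 2 (B.subgroupOf U) := hB.comap_subtype
  obtain ⟨Q₀, hQ₀⟩ := hB'.exists_le_sylow
  refine ⟨(Q₀ : Subgroup U).map U.subtype, ?_, Subgroup.map_subtype_le _, Q₀.2.map _, ?_, ?_⟩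
  · intro b hb
    exact ⟨⟨b, hBU hb⟩, hQ₀ (Subgroup.mem_subgroupOf.mpr hb), rfl⟩
  · have : ((Q₀ : Subgroup U).map U.subtype).relIndex U = (Q₀ : Subgroup U).index := by
      unfold Subgroup.relIndex Subgroup.subgroupOf
      rw [Subgroup.comap_map_eq_self_of_injective U.subtype_injective]
    rw [this]; exact Q₀.not_dvd_index
  · intro Q hQ hPQ hQU
    have h1 : (Q₀ : Subgroup U) ≤ Q.subgroupOf U := by
      intro x hx
      exact Subgroup.mem_subgroupOf.mpr (hPQ ⟨x, hx, rfl⟩)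
    have h2 := Q₀.is_maximal' hQ.comap_subtype h1
    have h3 : (Q.subgroupOf U).map U.subtype = Q ⊓ U := Subgroup.subgroupOf_map_subtype Q U
    rw [← h2]
    show Q = (Q.subgroupOf U).map U.subtype
    rw [h3, inf_eq_left.mpr hQU]

/-- an element acting trivially on the `2`-group `T` modulo the odd-order group `O` can be adjusted
by an element of `O` to centralize `T` -/
theorem exists_adjust {O T : Subgroup Y} (hO : Odd (Nat.card O)) (hT : IsPGroup 2 T)
    (hTO : T ≤ Subgroup.normalizer (O : Set Y)) {k : Y}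
    (hk : k ∈ Subgroup.normalizer (O : Set Y))
    (h : ∀ t ∈ T, t⁻¹ * (k⁻¹ * t * k) ∈ O) :
    ∃ w ∈ O, ∀ t ∈ T, t * (k * w) = (k * w) * t := by
  haveI : Fact (Nat.Prime 2) := ⟨Nat.prime_two⟩
  haveI hOn : (O.subgroupOf (Subgroup.normalizer (O : Set Y))).Normal :=
    Subgroup.normal_in_normalizer
  have hOc : (Nat.card (O.subgroupOf (Subgroup.normalizer (O : Set Y)))).Coprime 2 := by
    rw [Nat.card_congr (Subgroup.subgroupOfEquivOfLe Subgroup.le_normalizer).toEquiv]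
    exact hO.coprime_two_right
  have hT' : IsPGroup 2 (T.subgroupOf (Subgroup.normalizer (O : Set Y))) := hT.comap_subtype
  have hcond : ∀ r ∈ T.subgroupOf (Subgroup.normalizer (O : Set Y)),
      QuotientGroup.mk' (O.subgroupOf (Subgroup.normalizer (O : Set Y))) r *
        QuotientGroup.mk' (O.subgroupOf (Subgroup.normalizer (O : Set Y))) ⟨k, hk⟩ =
      QuotientGroup.mk' (O.subgroupOf (Subgroup.normalizer (O : Set Y))) ⟨k, hk⟩ *
        QuotientGroup.mk' (O.subgroupOf (Subgroup.normalizer (O : Set Y))) r := by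
    intro r hr
    rw [← map_mul, ← map_mul]
    apply QuotientGroup.eq.mpr
    rw [Subgroup.mem_subgroupOf]
    have h1 := O.inv_mem (h (r : Y) (Subgroup.mem_subgroupOf.mp hr))
    have e : (((r * ⟨k, hk⟩)⁻¹ * (⟨k, hk⟩ * r) : ↥(Subgroup.normalizer (O : Set Y))) : Y) =
        ((r : Y)⁻¹ * (k⁻¹ * (r : Y) * k))⁻¹ := by
      simp only [Subgroup.coe_mul, Subgroup.coe_inv]
      group
    rw [e]; exact h1
  obtain ⟨x, hx1, hx2⟩ := Cfsg.Agent.Lib.Helper23.LBal.exists_lift_centralizing hOc hT' hcond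
  have hx1' : x⁻¹ * ⟨k, hk⟩ ∈ O.subgroupOf (Subgroup.normalizer (O : Set Y)) :=
    QuotientGroup.eq.mp hx1
  rw [Subgroup.mem_subgroupOf] at hx1'
  have hw : k⁻¹ * (x : Y) ∈ O := by
    have := O.inv_mem hx1'
    have e : (((x⁻¹ * ⟨k, hk⟩ : ↥(Subgroup.normalizer (O : Set Y))) : Y))⁻¹ = k⁻¹ * (x : Y) := by
      simp only [Subgroup.coe_mul, Subgroup.coe_inv]
      group
    rwa [e] at this
  refine ⟨k⁻¹ * (x : Y), hw, ?_⟩
  intro t ht
  have h1 := hx2 ⟨t, hTO ht⟩ (Subgroup.mem_subgroupOf.mpr ht)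
  have h2 : t * (x : Y) = (x : Y) * t := congrArg Subtype.val h1
  have e : k * (k⁻¹ * (x : Y)) = (x : Y) := by group
  rw [e]; exact h2

theorem mem_centralizer_sup {A B : Subgroup Y} {x : Y}
    (hA : x ∈ Subgroup.centralizer (A : Set Y)) (hB : x ∈ Subgroup.centralizer (B : Set Y)) :
    x ∈ Subgroup.centralizer ((A ⊔ B : Subgroup Y) : Set Y) := by
  have h1 : A ⊔ B ≤ Subgroup.centralizer ({x} : Set Y) := by
    apply sup_le
    · intro a ha
      rw [Subgroup.mem_centralizer_singleton_iff]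
      exact Subgroup.mem_centralizer_iff.mp hA a ha
    · intro b hb
      rw [Subgroup.mem_centralizer_singleton_iff]
      exact Subgroup.mem_centralizer_iff.mp hB b hb
  rw [Subgroup.mem_centralizer_iff]
  intro l hl
  have := h1 hl
  rw [Subgroup.mem_centralizer_singleton_iff] at this
  exact this

theorem conj_mem_centralizer_of_mem_normalizer {B : Subgroup Y} {g c : Y}
    (hg : g ∈ Subgroup.normalizer (B : Set Y)) (hc : c ∈ Subgroup.centralizer (B : Set Y)) :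
    g * c * g⁻¹ ∈ Subgroup.centralizer (B : Set Y) := by
  rw [Subgroup.mem_centralizer_iff]
  intro b hb
  have h1 : g⁻¹ * b * g ∈ B := conj_mem_of_mem_normalizer' hg hb
  have h2 := Subgroup.mem_centralizer_iff.mp hc _ h1
  calc b * (g * c * g⁻¹) = g * ((g⁻¹ * b * g) * c) * g⁻¹ := by group
    _ = g * (c * (g⁻¹ * b * g)) * g⁻¹ := by rw [h2]
    _ = g * c * g⁻¹ * b := by group

/-- the subgroup generated by the adjusted odd-order elements -/
theorem exists_adjusted_subgroup {Mi O B' H : Subgroup Y} [hHn : H.Normal] (hOH : O ≤ H)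
    (hO : Odd (Nat.card O)) (hgen : OddGen Mi)
    (hMO : Mi ≤ Subgroup.normalizer (O : Set Y))
    (hadj : ∀ k ∈ Mi, ∃ w ∈ O, k * w ∈ Subgroup.centralizer (B' : Set Y)) :
    ∃ M' : Subgroup Y, M' ≤ Subgroup.centralizer (B' : Set Y) ∧ OddGen M' ∧ Mi ≤ M' ⊔ H := by
  refine ⟨Subgroup.closure {x : Y | x ∈ (Mi ⊔ O) ⊓ Subgroup.centralizer (B' : Set Y) ∧
    Odd (orderOf x)}, ?_, ?_, ?_⟩
  · rw [Subgroup.closure_le]
    intro x hx
    exact hx.1.2
  · unfold OddGen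
    apply Subgroup.closure_mono
    intro x hx
    exact ⟨Subgroup.subset_closure hx, hx.2⟩
  · refine hgen.trans ?_
    rw [Subgroup.closure_le]
    intro k hk
    obtain ⟨hkM, hkodd⟩ := hk
    obtain ⟨w, hw, hkw⟩ := hadj k hkM
    have h1 : k * w ∈ Subgroup.closure {x : Y | x ∈ (Mi ⊔ O) ⊓
        Subgroup.centralizer (B' : Set Y) ∧ Odd (orderOf x)} := by
      apply Subgroup.subset_closure
      refine ⟨⟨?_, hkw⟩, odd_orderOf_mul_of_normalizer hO (hMO hkM) hw hkodd⟩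
      exact Subgroup.mul_mem _ ((le_sup_left : Mi ≤ Mi ⊔ O) hkM) ((le_sup_right : O ≤ Mi ⊔ O) hw)
    have e : k = (k * w) * w⁻¹ := by group
    show k ∈ _
    rw [e]
    exact Subgroup.mul_mem _ ((le_sup_left : _ ≤ _ ⊔ H) h1)
      ((le_sup_right : H ≤ _ ⊔ H) (H.inv_mem (hOH hw)))

/-- one climbing step -/
theorem climb_step {H R P B Mi : Subgroup Y} [hHn : H.Normal] (hP2 : IsPGroup 2 P)
    (hPU : P ≤ H ⊔ R) (hRB : R ≤ B) (hBP : B ≤ P)
    (hMiB : Mi ≤ Subgroup.centralizer (B : Set Y)) (hgen : OddGen Mi)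
    (h2el : ∀ x ∈ H, x ∈ Subgroup.centralizer (B : Set Y) → (∃ k : ℕ, x ^ 2 ^ k = 1) → x ∈ B) :
    ∃ M' : Subgroup Y, M' ≤ Subgroup.centralizer ((P ⊓ Subgroup.normalizer (B : Set Y) :
        Subgroup Y) : Set Y) ∧ OddGen M' ∧ Mi ≤ M' ⊔ H := by
  have hZcen : ∀ z ∈ B ⊓ (H ⊓ Subgroup.centralizer (B : Set Y)),
      ∀ c ∈ H ⊓ Subgroup.centralizer (B : Set Y), z * c = c * z :=
    fun z hz c hc => Subgroup.mem_centralizer_iff.mp hc.2 z hz.1
  have hZall : ∀ c ∈ H ⊓ Subgroup.centralizer (B : Set Y), (∃ k : ℕ, c ^ 2 ^ k = 1) →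
      c ∈ B ⊓ (H ⊓ Subgroup.centralizer (B : Set Y)) :=
    fun c hc h2 => ⟨h2el c hc.1 hc.2 h2, hc⟩
  obtain ⟨O, hOC, hOodd, hOall, hdec⟩ := exists_odd_part (H ⊓ Subgroup.centralizer (B : Set Y))
    (B ⊓ (H ⊓ Subgroup.centralizer (B : Set Y))) inf_le_right hZcen hZall
  have hCconj : ∀ g ∈ Subgroup.normalizer (B : Set Y),
      ∀ c ∈ H ⊓ Subgroup.centralizer (B : Set Y),
      g * c * g⁻¹ ∈ H ⊓ Subgroup.centralizer (B : Set Y) := fun g hg c hc =>
    ⟨hHn.conj_mem c hc.1 g, conj_mem_centralizer_of_mem_normalizer hg hc.2⟩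
  have hOconj : ∀ g ∈ Subgroup.normalizer (B : Set Y), ∀ o ∈ O, g * o * g⁻¹ ∈ O :=
    fun g hg o ho => hOall _ (hCconj g hg o (hOC ho))
      (odd_orderOf_conj g (odd_orderOf_of_mem hOodd ho))
  have hOnorm : Subgroup.normalizer (B : Set Y) ≤ Subgroup.normalizer (O : Set Y) :=
    fun g hg => mem_normalizer_of_forall_conj_mem (hOconj g hg)
  have hcn : Subgroup.centralizer (B : Set Y) ≤ Subgroup.normalizer (B : Set Y) :=
    Subgroup.centralizer_le_normalizer _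
  have hkR : ∀ k ∈ Mi, ∀ r ∈ R, k * r = r * k := fun k hk r hr =>
    (Subgroup.mem_centralizer_iff.mp (hMiB hk) r (hRB hr)).symm
  -- the commutator with `H ⊔ R` lies in `H`
  have hH : ∀ k ∈ Mi, ∀ n ∈ H ⊔ R, n⁻¹ * (k * n * k⁻¹) ∈ H := by
    intro k hk n hn
    obtain ⟨h, hh, r, hr, rfl⟩ := Subgroup.mem_sup_of_normal_left.mp hn
    have h1 := hkR k hk r hr
    have h2 : h⁻¹ * (k * h * k⁻¹) ∈ H := H.mul_mem (H.inv_mem hh) (hHn.conj_mem h hh k)
    have h3 := hHn.conj_mem _ h2 r⁻¹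
    have e : (h * r)⁻¹ * (k * (h * r) * k⁻¹) = r⁻¹ * (h⁻¹ * (k * h * k⁻¹)) * r⁻¹⁻¹ := by
      have e2 : k * (h * r) * k⁻¹ = k * h * k⁻¹ * r := by
        calc k * (h * r) * k⁻¹ = k * h * (r * k⁻¹) := by group
          _ = k * h * (k⁻¹ * (k * r) * k⁻¹) := by group
          _ = k * h * (k⁻¹ * (r * k) * k⁻¹) := by rw [h1]
          _ = k * h * k⁻¹ * r := by group
      rw [e2]; group
    rw [e]; exact h3
  have hfixB : ∀ k ∈ Mi, ∀ b ∈ B, (MulAut.conj k) b = b := by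
    intro k hk b hb
    rw [MulAut.conj_apply]
    have := Subgroup.mem_centralizer_iff.mp (hMiB hk) b hb
    rw [← this]; group
  have hact := act_trivial (N := (H ⊔ R) ⊓ Subgroup.normalizer (B : Set Y))
    (C := H ⊓ Subgroup.centralizer (B : Set Y))
    (Z := B ⊓ (H ⊓ Subgroup.centralizer (B : Set Y))) (O := O)
    (Mi.map (MulAut.conj : Y →* MulAut Y)) (hgen.map _)
    (by
      rintro _ ⟨k, hk, rfl⟩ n hn
      rw [MulAut.conj_apply]
      refine ⟨?_, ?_⟩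
      · have e : k * n * k⁻¹ = n * (n⁻¹ * (k * n * k⁻¹)) := by group
        rw [e]
        exact Subgroup.mul_mem _ hn.1 ((le_sup_left : H ≤ H ⊔ R) (hH k hk n hn.1))
      · have hkn := hcn (hMiB hk)
        exact Subgroup.mul_mem _ (Subgroup.mul_mem _ hkn hn.2) (Subgroup.inv_mem _ hkn))
    (by
      rintro _ ⟨k, hk, rfl⟩ n hn
      refine ⟨?_, inv_mul_map_mem_centralizer _ (hfixB k hk) hn.2⟩
      rw [MulAut.conj_apply]
      exact hH k hk n hn.1)
    (by
      rintro _ ⟨k, hk, rfl⟩ z hz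
      exact hfixB k hk z hz.1)
    (by
      rintro _ ⟨k, hk, rfl⟩ o ho
      rw [MulAut.conj_apply]
      exact hOconj k (hcn (hMiB hk)) o ho)
    hOC hdec hZcen
    (fun z hz => exists_pow_eq_one_of_isPGroup hP2 (hBP hz.1))
    (fun o ho => odd_orderOf_of_mem hOodd ho)
  have hB'2 : IsPGroup 2 (P ⊓ Subgroup.normalizer (B : Set Y) : Subgroup Y) :=
    hP2.to_le inf_le_left
  have hadj : ∀ k ∈ Mi, ∃ w ∈ O, k * w ∈ Subgroup.centralizer
      ((P ⊓ Subgroup.normalizer (B : Set Y) : Subgroup Y) : Set Y) := by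
    intro k hk
    have hkn : k ∈ Subgroup.normalizer (O : Set Y) := hOnorm (hcn (hMiB hk))
    obtain ⟨w, hw, hkw⟩ := exists_adjust hOodd hB'2 (inf_le_right.trans hOnorm) hkn (by
      intro t ht
      have h1 := hact (MulAut.conj k⁻¹) ⟨k⁻¹, Mi.inv_mem hk, rfl⟩ t ⟨hPU ht.1, ht.2⟩
      rw [MulAut.conj_apply, inv_inv] at h1
      exact h1)
    refine ⟨w, hw, ?_⟩
    rw [Subgroup.mem_centralizer_iff]
    exact hkw
  exact exists_adjusted_subgroup (hOC.trans inf_le_left) hOodd hgen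
    (fun k hk => hOnorm (hcn (hMiB hk))) hadj

/-- climbing, by induction on the index of `B` in `P` -/
theorem climb_aux {H R P : Subgroup Y} [hHn : H.Normal] (hP2 : IsPGroup 2 P)
    (hPU : P ≤ H ⊔ R) (M : Subgroup Y) :
    ∀ n : ℕ, ∀ B Mi : Subgroup Y, Nat.card P - Nat.card B = n →
      R ≤ B → B ≤ P → Mi ≤ Subgroup.centralizer (B : Set Y) → OddGen Mi → M ≤ Mi ⊔ H →
      (∀ x ∈ H, x ∈ Subgroup.centralizer (B : Set Y) → (∃ k : ℕ, x ^ 2 ^ k = 1) → x ∈ B) →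
      ∃ M' : Subgroup Y, M' ≤ Subgroup.centralizer (P : Set Y) ∧ OddGen M' ∧ M ≤ M' ⊔ H := by
  haveI : Fact (Nat.Prime 2) := ⟨Nat.prime_two⟩
  intro n
  induction n using Nat.strong_induction_on with
  | _ n ih =>
    intro B Mi hn hRB hBP hMiB hgen hM h2el
    by_cases hBeq : B = P
    · subst hBeq
      exact ⟨Mi, hMiB, hgen, hM⟩
    · have hlt : B < P := lt_of_le_of_ne hBP hBeq
      obtain ⟨n₀, hn₀P, hn₀N, hn₀B⟩ := Cfsg.Agent.Lib.Helper17.pgroup_normalizer_gt hP2 hlt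
      obtain ⟨M', hM'c, hM'gen, hMiM'⟩ := climb_step hP2 hPU hRB hBP hMiB hgen h2el
      have hBB' : B ≤ P ⊓ Subgroup.normalizer (B : Set Y) := le_inf hBP Subgroup.le_normalizer
      have hB'P : P ⊓ Subgroup.normalizer (B : Set Y) ≤ P := inf_le_left
      have hcard1 : Nat.card B < Nat.card (P ⊓ Subgroup.normalizer (B : Set Y) : Subgroup Y) := by
        by_contra hcon
        push Not at hcon
        have := Subgroup.eq_of_le_of_card_ge hBB' hcon
        apply hn₀B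
        rw [this]
        exact ⟨hn₀P, hn₀N⟩
      have hcard2 : Nat.card (P ⊓ Subgroup.normalizer (B : Set Y) : Subgroup Y) ≤ Nat.card P :=
        Subgroup.card_le_of_le hB'P
      have hM2 : M ≤ M' ⊔ H := by
        refine hM.trans (sup_le (hMiM') le_sup_right)
      refine ih (Nat.card P - Nat.card (P ⊓ Subgroup.normalizer (B : Set Y) : Subgroup Y))
        (by omega) (P ⊓ Subgroup.normalizer (B : Set Y)) M' rfl (hRB.trans hBB') hB'P hM'c
        hM'gen hM2 ?_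
      intro x hxH hxc h2
      exact hBB' (h2el x hxH (Subgroup.centralizer_le (SetLike.coe_subset_coe.mpr hBB') hxc) h2)

/-- **climbing**: an odd-generated subgroup `M` centralizing the `2`-group `R` and acting trivially
on `C_H(R)` modulo an odd-order subgroup can be moved, modulo `H`, to centralize a Sylow
`2`-subgroup of `H` -/
theorem climb {H R M D : Subgroup Y} [hHn : H.Normal] (hR : IsPGroup 2 R)
    (hcomm : ∀ y ∈ M, ∀ r ∈ R, y * r = r * y) (hgen : OddGen M)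
    (hDodd : Odd (Nat.card D))
    (hDN : D ≤ H ⊓ Subgroup.centralizer (R : Set Y))
    (hND : H ⊓ Subgroup.centralizer (R : Set Y) ≤ Subgroup.normalizer (D : Set Y))
    (hMD : M ≤ Subgroup.normalizer (D : Set Y))
    (hact : ∀ w ∈ H ⊓ Subgroup.centralizer (R : Set Y), ∀ k ∈ M, w⁻¹ * (k⁻¹ * w * k) ∈ D) :
    ∃ S M' : Subgroup Y, S ≤ H ∧ IsPGroup 2 S ∧ ¬ 2 ∣ S.relIndex H ∧
      (∀ m ∈ M', ∀ s ∈ S, m * s = s * m) ∧ OddGen M' ∧ M ≤ M' ⊔ H := by
  haveI : Fact (Nat.Prime 2) := ⟨Nat.prime_two⟩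
  obtain ⟨T₀, -, hT₀N, hT₀2, -, hT₀max⟩ := exists_sylow_ge (H ⊓ Subgroup.centralizer (R : Set Y)) ⊥
    (IsPGroup.of_bot) bot_le
  have hT₀R : T₀ ≤ Subgroup.normalizer (R : Set Y) := fun t ht =>
    Subgroup.centralizer_le_normalizer _ (hT₀N ht).2
  have hB₀2 : IsPGroup 2 (T₀ ⊔ R : Subgroup Y) := IsPGroup.to_sup_of_normal_right' hT₀2 hR hT₀R
  have hB₀U : T₀ ⊔ R ≤ H ⊔ R := sup_le_sup_right (hT₀N.trans inf_le_left) R
  obtain ⟨P, hB₀P, hPU, hP2, hPrel, -⟩ := exists_sylow_ge (H ⊔ R) (T₀ ⊔ R) hB₀2 hB₀U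
  -- the initial adjustment
  have hMcR : M ≤ Subgroup.centralizer (R : Set Y) := by
    intro k hk
    rw [Subgroup.mem_centralizer_iff]
    intro r hr
    exact (hcomm k hk r hr).symm
  have hadj₀ : ∀ k ∈ M, ∃ w ∈ D, k * w ∈ Subgroup.centralizer ((T₀ ⊔ R : Subgroup Y) : Set Y) := by
    intro k hk
    obtain ⟨w, hw, hkw⟩ := exists_adjust hDodd hT₀2 (hT₀N.trans hND) (hMD hk)
      (fun t ht => hact t (hT₀N ht) k hk)
    refine ⟨w, hw, mem_centralizer_sup ?_ ?_⟩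
    · rw [Subgroup.mem_centralizer_iff]
      exact hkw
    · exact Subgroup.mul_mem _ (hMcR hk) (hDN hw).2
  obtain ⟨M₀, hM₀c, hM₀gen, hMM₀⟩ := exists_adjusted_subgroup (H := H) (hDN.trans inf_le_left)
    hDodd hgen hMD hadj₀
  have h2el₀ : ∀ x ∈ H, x ∈ Subgroup.centralizer ((T₀ ⊔ R : Subgroup Y) : Set Y) →
      (∃ k : ℕ, x ^ 2 ^ k = 1) → x ∈ T₀ ⊔ R := by
    intro x hxH hxc ⟨k, hk⟩
    have hxR : x ∈ Subgroup.centralizer (R : Set Y) := Subgroup.centralizer_le (SetLike.coe_subset_coe.mpr le_sup_right) hxc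
    have hxT : x ∈ Subgroup.centralizer (T₀ : Set Y) := Subgroup.centralizer_le (SetLike.coe_subset_coe.mpr le_sup_left) hxc
    have hnorm : T₀ ≤ Subgroup.normalizer ((Subgroup.zpowers x : Subgroup Y) : Set Y) := by
      intro d hd
      apply mem_normalizer_of_forall_conj_mem
      intro t ht
      have h3 : d * t * d⁻¹ = t := by
        have hxd : d * x = x * d := Subgroup.mem_centralizer_iff.mp hxT d hd
        obtain ⟨i, rfl⟩ := Subgroup.mem_zpowers_iff.mp ht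
        have : Commute d (x ^ i) := (show Commute d x from hxd).zpow_right i
        rw [this.eq]; group
      rw [h3]; exact ht
    have hQ2 : IsPGroup 2 (T₀ ⊔ Subgroup.zpowers x : Subgroup Y) :=
      IsPGroup.to_sup_of_normal_right' hT₀2 (isPGroup_zpowers hk) hnorm
    have hQN : T₀ ⊔ Subgroup.zpowers x ≤ H ⊓ Subgroup.centralizer (R : Set Y) := by
      apply sup_le hT₀N
      rw [Subgroup.zpowers_le]
      exact ⟨hxH, hxR⟩
    have := hT₀max _ hQ2 le_sup_left hQN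
    apply (le_sup_left : T₀ ≤ T₀ ⊔ R)
    rw [← this]
    exact (le_sup_right : Subgroup.zpowers x ≤ T₀ ⊔ Subgroup.zpowers x) (Subgroup.mem_zpowers x)
  obtain ⟨M', hM'c, hM'gen, hMM'⟩ := climb_aux hP2 hPU M _ (T₀ ⊔ R) M₀ rfl le_sup_right hB₀P
    hM₀c hM₀gen hMM₀ h2el₀
  refine ⟨P ⊓ H, M', inf_le_right, hP2.to_le inf_le_left, ?_, ?_, hM'gen, hMM'⟩
  · rw [Subgroup.inf_relIndex_right,
      Cfsg.Agent.Lib.Helper16.relIndex_eq_relIndex_sup_of_normal' P H]
    have : P ⊔ H = H ⊔ R := by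
      apply le_antisymm (sup_le hPU le_sup_left)
      exact sup_le le_sup_right ((le_sup_right.trans hB₀P).trans le_sup_left)
    rw [this]; exact hPrel
  · intro m hm s hs
    exact (Subgroup.mem_centralizer_iff.mp (hM'c hm) s hs.1).symm

end Climb

end Cfsg.Agent.Lib.Helper23.L2Bal
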