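import Mathlib
import Cfsg.Prelude
import Cfsg.Agent.Lib.Helper23.L2BalC
import Cfsg.Agent.Lib.Helper23.L2BalD
import Cfsg.Agent.Lib.Helper23.LBal4

/-!
# Unconditional `L_{2'}`-balance, part E: the configuration downstairs
-/

set_option autoImplicit false
set_option linter.unusedSectionVars false
set_option linter.unusedVariables false

namespace Cfsg.Agent.Lib.Helper23.L2Bal

open Cfsg Cfsg.Agent.S1854 Cfsg.Agent.S1877 Cfsg.Agent.Lib.Helper1 Cfsg.Agent.Lib.Helper9
  Cfsg.Agent.Lib.Helper10 Cfsg.Agent.Lib.Helper23.LBal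
open scoped commutatorElement

universe u

section Down

variable {G : Type u} [Group G] [Finite G]

theorem oddGen_of_pResidual {M : Subgroup G} (h : pResidual 2 ↥M = ⊤) : OddGen M :=
  le_of_forall_pPrime_mem h (fun y hy hc =>
    Subgroup.subset_closure ⟨hy, Nat.coprime_two_right.mp hc⟩)

/-- the `2`-elements of `M` lie in `E(G) C_G(E(G))` -/
theorem two_elements_mem_EC {R M D : Subgroup G}
    (h0 : pPrimeCore 2 G = ⊥) (hR : IsPGroup 2 R) (hcomm : ∀ y ∈ M, ∀ r ∈ R, y * r = r * y)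
    (hgen : OddGen M) (hDodd : Odd (Nat.card D))
    (hDN : D ≤ layer G ⊓ Subgroup.centralizer (R : Set G))
    (hND : layer G ⊓ Subgroup.centralizer (R : Set G) ≤ Subgroup.normalizer (D : Set G))
    (hMD : M ≤ Subgroup.normalizer (D : Set G))
    (hact : ∀ w ∈ layer G ⊓ Subgroup.centralizer (R : Set G), ∀ k ∈ M,
      w⁻¹ * (k⁻¹ * w * k) ∈ D) :
    ∀ x ∈ M, (∃ k : ℕ, x ^ 2 ^ k = 1) →
      x ∈ layer G ⊔ Subgroup.centralizer (layer G : Set G) := by
  haveI : Fact (Nat.Prime 2) := ⟨Nat.prime_two⟩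
  haveI hLn : (layer G).Normal := by
    haveI : (layer G).Characteristic := Cfsg.Agent.Lib.Helper9.layer_characteristic
    infer_instance
  obtain ⟨S, M', hSE, hS2, hSrel, hM'S, hM'gen, hMM'⟩ :=
    climb (H := layer G) hR hcomm hgen hDodd hDN hND hMD hact
  have hS2' : IsPGroup 2 (S.subgroupOf (layer G)) := hS2.comap_subtype
  let SE : Sylow 2 ↥(layer G) := hS2'.toSylow hSrel
  have hAgen : OddGen (M'.map (MulAut.conjNormal : G →* MulAut ↥(layer G))) := hM'gen.map _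
  have hAfix : ∀ α ∈ M'.map (MulAut.conjNormal : G →* MulAut ↥(layer G)),
      ∀ s ∈ (SE : Subgroup ↥(layer G)), α s = s := by
    rintro _ ⟨m, hm, rfl⟩ s hs
    have hs' : (s : G) ∈ S := hs
    apply Subtype.ext
    rw [MulAut.conjNormal_apply, hM'S m hm _ hs']
    group
  have hOE : pPrimeCore 2 ↥(layer G) = ⊥ := by
    rw [pPrimeCore_subnormal_eq hLn.isSubnormal, h0, Subgroup.bot_subgroupOf]
  intro x hxM ⟨k, hk⟩
  obtain ⟨m', hm', e, he, rfl⟩ := Subgroup.mem_sup_of_normal_right.mp (hMM' hxM)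
  obtain ⟨a, r', hr', hord⟩ := Nat.exists_eq_two_pow_mul_odd (orderOf_pos m').ne'
  -- the `2`-part of `m'` centralizes the layer
  have hτ : (MulAut.conjNormal (m' ^ r') : MulAut ↥(layer G)) = 1 := by
    apply aut_two_element_eq_one SE _ hAgen hAfix hOE a _
      (Subgroup.mem_map_of_mem _ (M'.pow_mem hm' r'))
    rw [← map_pow, ← pow_mul, mul_comm, ← hord, pow_orderOf_eq_one, map_one]
  have hcen : m' ^ r' ∈ Subgroup.centralizer (layer G : Set G) := by
    rw [Subgroup.mem_centralizer_iff]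
    intro l hl
    have h1 := congrArg (fun f : MulAut ↥(layer G) => ((f ⟨l, hl⟩ : ↥(layer G)) : G)) hτ
    simp only [MulAut.conjNormal_apply, MulAut.one_apply] at h1
    calc l * m' ^ r' = (m' ^ r' * l * (m' ^ r')⁻¹) * m' ^ r' := by rw [h1]
      _ = m' ^ r' * l := by group
  have hm'n : m' ∈ Subgroup.normalizer ((layer G : Subgroup G) : Set G) := by
    rw [Subgroup.normalizer_eq_top_iff.mpr hLn]; exact Subgroup.mem_top _
  obtain ⟨v, hv, hpow⟩ := exists_pow_mul_eq hm'n he r'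
  have h1 : (m' * e) ^ r' ∈ layer G ⊔ Subgroup.centralizer (layer G : Set G) := by
    rw [hpow]
    exact Subgroup.mul_mem _ ((le_sup_right : _ ≤ layer G ⊔ _) hcen)
      ((le_sup_left : layer G ≤ layer G ⊔ _) hv)
  have hcop : r'.Coprime (orderOf (m' * e)) := by
    have hdvd : orderOf (m' * e) ∣ 2 ^ k := orderOf_dvd_of_pow_eq_one hk
    exact Nat.Coprime.coprime_dvd_right hdvd (Nat.Coprime.pow_right k hr'.coprime_two_right)
  obtain ⟨j, hj⟩ := exists_pow_eq_self_of_coprime hcop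
  rw [← hj]
  exact Subgroup.pow_mem _ h1 j

/-- **the layer step downstairs** from the decomposition `M ≤ E(G) C_G(E(G))` -/
theorem le_layer_of_EC {p : ℕ} [Fact p.Prime] {R M : Subgroup G} (h : LB p R M)
    (h0 : pPrimeCore p G = ⊥)
    (hEC : M ≤ layer G ⊔ Subgroup.centralizer (layer G : Set G)) : M ≤ layer G := by
  haveI hLn : (layer G).Normal := by
    haveI : (layer G).Characteristic := Cfsg.Agent.Lib.Helper9.layer_characteristic
    infer_instance
  have hfit : fittingSubgroup G = pCore p G := fittingSubgroup_eq_pCore_of_pPrimeCore_eq_bot p h0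
  have hlf : layer G ≤ Subgroup.centralizer (fittingSubgroup G : Set G) :=
    Subgroup.commutator_eq_bot_iff_le_centralizer.mp commutator_layer_fitting
  have hdec : ∀ k ∈ M, ∃ e ∈ layer G,
      ∃ c ∈ Subgroup.centralizer (generalizedFittingSubgroup G : Set G), k = e * c := by
    intro k hk
    obtain ⟨e, hel, c, hc1, rfl⟩ := Subgroup.mem_sup_of_normal_left.mp (hEC hk)
    refine ⟨e, hel, c, ?_, rfl⟩
    have hc2 : c ∈ Subgroup.centralizer (fittingSubgroup G : Set G) := by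
      have h1 : e⁻¹ * (e * c) ∈ Subgroup.centralizer (fittingSubgroup G : Set G) := by
        apply Subgroup.mul_mem _ (Subgroup.inv_mem _ (hlf hel))
        rw [hfit]; exact h.cQ hk
      rwa [inv_mul_cancel_left] at h1
    have h1 : generalizedFittingSubgroup G ≤ Subgroup.centralizer ({c} : Set G) := by
      unfold generalizedFittingSubgroup
      apply sup_le
      · intro x hx
        rw [Subgroup.mem_centralizer_singleton_iff]
        exact ((Subgroup.mem_centralizer_iff.mp hc1) x hx)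
      · intro x hx
        rw [Subgroup.mem_centralizer_singleton_iff]
        exact ((Subgroup.mem_centralizer_iff.mp hc2) x hx)
    rw [Subgroup.mem_centralizer_iff]
    intro l hl
    have := h1 hl
    rw [Subgroup.mem_centralizer_singleton_iff] at this
    exact this
  rw [← h.perf, Subgroup.commutator_le]
  intro a ha b hb
  obtain ⟨e₁, he₁, c₁, hc₁, rfl⟩ := hdec a ha
  obtain ⟨e₂, he₂, c₂, hc₂, rfl⟩ := hdec b hb
  have hZ := centralizer_gfs_le (G := G)
  have hc1e : Commute c₁ e₂ :=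
    ((Subgroup.mem_centralizer_iff.mp hc₁) e₂ (layer_le_gfs he₂)).symm
  have hc1c : Commute c₁ c₂ :=
    ((Subgroup.mem_centralizer_iff.mp hc₁) c₂ (hZ hc₂)).symm
  have hc1 : Commute c₁ (e₂ * c₂) := hc1e.mul_right hc1c
  have hc2 : Commute c₂ e₁⁻¹ :=
    ((Subgroup.mem_centralizer_iff.mp hc₂) e₁⁻¹ (layer_le_gfs ((layer G).inv_mem he₁))).symm
  have hcalc : ⁅e₁ * c₁, e₂ * c₂⁆ = e₁ * e₂ * e₁⁻¹ * e₂⁻¹ := by
    rw [commutatorElement_def]
    calc (e₁ * c₁) * (e₂ * c₂) * (e₁ * c₁)⁻¹ * (e₂ * c₂)⁻¹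
        = e₁ * (c₁ * (e₂ * c₂)) * c₁⁻¹ * e₁⁻¹ * c₂⁻¹ * e₂⁻¹ := by group
      _ = e₁ * ((e₂ * c₂) * c₁) * c₁⁻¹ * e₁⁻¹ * c₂⁻¹ * e₂⁻¹ := by rw [hc1.eq]
      _ = e₁ * e₂ * (c₂ * e₁⁻¹) * c₂⁻¹ * e₂⁻¹ := by group
      _ = e₁ * e₂ * (e₁⁻¹ * c₂) * c₂⁻¹ * e₂⁻¹ := by rw [hc2.eq]
      _ = e₁ * e₂ * e₁⁻¹ * e₂⁻¹ := by group
  rw [hcalc]
  exact (layer G).mul_mem ((layer G).mul_mem ((layer G).mul_mem he₁ he₂) ((layer G).inv_mem he₁))
    ((layer G).inv_mem he₂)

end Down

end Cfsg.Agent.Lib.Helper23.L2Bal
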