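import Mathlib
import Cfsg.Prelude
import Cfsg.Agent.Lib.Helper23.L2BalE

/-!
# Unconditional `L_{2'}`-balance, part F: `2`-components of `N_X(R)`
-/

set_option autoImplicit false
set_option linter.unusedSectionVars false
set_option linter.unusedVariables false

namespace Cfsg.Agent.Lib.Helper23.L2Bal

open Cfsg Cfsg.Agent.S1854 Cfsg.Agent.S1877 Cfsg.Agent.Lib.Helper1 Cfsg.Agent.Lib.Helper9
  Cfsg.Agent.Lib.Helper10 Cfsg.Agent.Lib.Helper23.LBal
open scoped commutatorElement

universe u

section Up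

variable {X : Type u} [Group X] [Finite X]

section General

variable {p : ℕ} [Fact p.Prime]
variable {R : Subgroup X} {K' : Subgroup ↥(Subgroup.normalizer (R : Set X))}

/-- the configuration downstairs in the case where the `p`-component acts trivially on
`C_{Lh}(R)` modulo `O_{p'}(N_X(R))` -/
theorem pcomp_LB_of_caseB (hR : IsPGroup p R) (hK' : IsPComponent p K')
    (hBD : ∀ k' ∈ K', ∀ v ∈ (((layer (X ⧸ pPrimeCore p X)).comap
        (QuotientGroup.mk' (pPrimeCore p X))).subgroupOf (Subgroup.normalizer (R : Set X)) ⊓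
        (Subgroup.centralizer (R : Set X)).subgroupOf (Subgroup.normalizer (R : Set X))),
      v⁻¹ * (k'⁻¹ * v * k') ∈ pPrimeCore p ↥(Subgroup.normalizer (R : Set X))) :
    LB p (R.map (QuotientGroup.mk' (pPrimeCore p X)))
      ((K'.map (Subgroup.normalizer (R : Set X)).subtype).map
        (QuotientGroup.mk' (pPrimeCore p X))) := by
  have hO : (Nat.card (pPrimeCore p X)).Coprime p := pPrimeCore_coprime p
  have hDc : (Nat.card (pPrimeCore p ↥(Subgroup.normalizer (R : Set X)))).Coprime p :=
    pPrimeCore_coprime p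
  have hKperf := map_subtype_perfect (pcomp_perfect hK')
  have hKR := pcomp_normalizer_commute hR hK'
  have hcenN : ∀ x : X, (∀ r ∈ R, r * x = x * r) → x ∈ Subgroup.normalizer (R : Set X) :=
    fun x hx => mem_normalizer_of_centralizes hx
  haveI hLn : (layer (X ⧸ pPrimeCore p X)).Normal := by
    haveI : (layer (X ⧸ pPrimeCore p X)).Characteristic :=
      Cfsg.Agent.Lib.Helper9.layer_characteristic
    infer_instance
  set Lh : Subgroup X := (layer (X ⧸ pPrimeCore p X)).comap (QuotientGroup.mk' (pPrimeCore p X))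
    with hLh
  haveI hLhn : Lh.Normal := hLn.comap _
  set Y' : Subgroup ↥(Subgroup.normalizer (R : Set X)) :=
    Lh.subgroupOf (Subgroup.normalizer (R : Set X)) ⊓
      (Subgroup.centralizer (R : Set X)).subgroupOf (Subgroup.normalizer (R : Set X)) with hY'
  haveI hY'n : Y'.Normal := by
    haveI : (Lh.subgroupOf (Subgroup.normalizer (R : Set X))).Normal := hLhn.subgroupOf _
    exact Subgroup.normal_inf_normal _ _
  have hperf : ⁅(K'.map (Subgroup.normalizer (R : Set X)).subtype).map
        (QuotientGroup.mk' (pPrimeCore p X)),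
      (K'.map (Subgroup.normalizer (R : Set X)).subtype).map
        (QuotientGroup.mk' (pPrimeCore p X))⁆ =
      (K'.map (Subgroup.normalizer (R : Set X)).subtype).map
        (QuotientGroup.mk' (pPrimeCore p X)) := by
    rw [← Subgroup.map_commutator, hKperf]
  have hcomm : ∀ y ∈ (K'.map (Subgroup.normalizer (R : Set X)).subtype).map
        (QuotientGroup.mk' (pPrimeCore p X)),
      ∀ r ∈ R.map (QuotientGroup.mk' (pPrimeCore p X)), y * r = r * y := by
    rintro _ ⟨k, hk, rfl⟩ _ ⟨r, hr, rfl⟩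
    rw [← map_mul, ← map_mul, hKR k hk r hr]
  -- the commutator element upstairs has order prime to `p`
  have hord : ∀ k' ∈ K', ∀ v ∈ Y', (orderOf ((v : X)⁻¹ * ((k' : X)⁻¹ * (v : X) * (k' : X)))).Coprime p := by
    intro k' hk' v hv
    have h1 := hBD k' hk' v hv
    have h2 : orderOf (v⁻¹ * (k'⁻¹ * v * k')) ∣
        Nat.card (pPrimeCore p ↥(Subgroup.normalizer (R : Set X))) :=
      Subgroup.orderOf_dvd_natCard _ h1
    have h3 : orderOf ((v : X)⁻¹ * ((k' : X)⁻¹ * (v : X) * (k' : X))) =
        orderOf (v⁻¹ * (k'⁻¹ * v * k')) := by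
      rw [← Subgroup.orderOf_coe]
      simp
    rw [h3]
    exact Nat.Coprime.coprime_dvd_left h2 hDc
  have hlb : LB p (R.map (QuotientGroup.mk' (pPrimeCore p X)))
      ((K'.map (Subgroup.normalizer (R : Set X)).subtype).map
        (QuotientGroup.mk' (pPrimeCore p X))) := by
    refine ⟨hR.map _, hcomm, hperf, ?_, ?_⟩
    · -- centralizes `O_p(X / O)` by the `A × B` lemma
      have hQn : (pCore p (X ⧸ pPrimeCore p X)).Normal := Cfsg.Agent.Lib.Helper1.pCore_normal p
      have htop : Subgroup.normalizer ((pCore p (X ⧸ pPrimeCore p X) :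
          Subgroup (X ⧸ pPrimeCore p X)) : Set (X ⧸ pPrimeCore p X)) = ⊤ :=
        Subgroup.normalizer_eq_top_iff.mpr hQn
      apply le_centralizer_of_AxB (hR.map _) (Cfsg.Agent.Lib.Helper1.pCore_isPGroup p)
        (pResidual_eq_top_of_perfect p (commutator_eq_top_of_perfect_subgroup hperf)) hcomm
      · rw [htop]; exact le_top
      · rw [htop]; exact le_top
      · intro xb hxb hxR a ha
        obtain ⟨k, hk, rfl⟩ := ha
        obtain ⟨k', hk', rfl⟩ := hk
        obtain ⟨x, rfl, hxc⟩ := exists_lift_centralizing hO hR (xb := xb)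
          (fun r hr => hxR _ (Subgroup.mem_map_of_mem _ hr))
        have hxN := hcenN x hxc
        -- the normal `p`-subgroup `T'` modulo `D`
        set Qh : Subgroup X :=
          (pCore p (X ⧸ pPrimeCore p X)).comap (QuotientGroup.mk' (pPrimeCore p X)) with hQh
        haveI hQhn : Qh.Normal := hQn.comap _
        set T' : Subgroup ↥(Subgroup.normalizer (R : Set X)) :=
          Qh.subgroupOf (Subgroup.normalizer (R : Set X)) ⊓
            (Subgroup.centralizer (R : Set X)).subgroupOf (Subgroup.normalizer (R : Set X)) with hT'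
        haveI hT'n : T'.Normal := by
          haveI : (Qh.subgroupOf (Subgroup.normalizer (R : Set X))).Normal := hQhn.subgroupOf _
          exact Subgroup.normal_inf_normal _ _
        have hT'p : IsPGroup p ↥(T'.map
            (QuotientGroup.mk' (pPrimeCore p ↥(Subgroup.normalizer (R : Set X))))) := by
          rintro ⟨_, t, ht, rfl⟩
          have ht1 : QuotientGroup.mk' (pPrimeCore p X) (t : X) ∈ pCore p (X ⧸ pPrimeCore p X) :=
            Subgroup.mem_subgroupOf.mp ht.1
          obtain ⟨j, hj⟩ := (Cfsg.Agent.Lib.Helper1.pCore_isPGroup (G := X ⧸ pPrimeCore p X) p)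
            ⟨_, ht1⟩
          refine ⟨j, ?_⟩
          apply Subtype.ext
          have hj' : (QuotientGroup.mk' (pPrimeCore p X) (t : X)) ^ p ^ j = 1 := by
            have := congrArg Subtype.val hj
            simpa using this
          rw [← map_pow] at hj'
          have h1 : ((t : X)) ^ p ^ j ∈ pPrimeCore p X := (QuotientGroup.eq_one_iff _).mp hj'
          have h2 : t ^ p ^ j ∈ pPrimeCore p ↥(Subgroup.normalizer (R : Set X)) := by
            apply pPrimeCore_subgroupOf_le
            rw [Subgroup.mem_subgroupOf]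
            simpa using h1
          have h3 : QuotientGroup.mk' (pPrimeCore p ↥(Subgroup.normalizer (R : Set X))) (t ^ p ^ j) = 1 :=
            (QuotientGroup.eq_one_iff _).mpr h2
          simpa using h3
        have hT'le : T'.map (QuotientGroup.mk' (pPrimeCore p ↥(Subgroup.normalizer (R : Set X)))) ≤
            fittingSubgroup (↥(Subgroup.normalizer (R : Set X)) ⧸
              pPrimeCore p ↥(Subgroup.normalizer (R : Set X))) :=
          (le_pCore (hT'n.map _ (QuotientGroup.mk'_surjective _)) hT'p).trans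
            (pCore_le_fittingSubgroup p)
        have hx'T : (⟨x, hxN⟩ : ↥(Subgroup.normalizer (R : Set X))) ∈ T' := by
          refine Subgroup.mem_inf.mpr ⟨?_, ?_⟩
          · rw [Subgroup.mem_subgroupOf]; exact hxb
          · rw [Subgroup.mem_subgroupOf, Subgroup.mem_centralizer_iff]
            exact fun r hr => hxc r hr
        have hKl := comp_le_layer hK'.2.1
        have hc := commute_of_commutator_eq_bot
          (commutator_layer_fitting (G := ↥(Subgroup.normalizer (R : Set X)) ⧸
              pPrimeCore p ↥(Subgroup.normalizer (R : Set X))))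
          (hKl (Subgroup.mem_map_of_mem _ hk')) (hT'le (Subgroup.mem_map_of_mem _ hx'T))
        have h1 : (⟨x, hxN⟩ : ↥(Subgroup.normalizer (R : Set X)))⁻¹ * (k'⁻¹ * ⟨x, hxN⟩ * k') ∈
            pPrimeCore p ↥(Subgroup.normalizer (R : Set X)) := by
          rw [← QuotientGroup.eq_one_iff]
          have := inv_mul_conj_eq_one_of_commute hc
          simpa using this
        have h2 : (orderOf (x⁻¹ * ((k' : X)⁻¹ * x * (k' : X)))).Coprime p := by
          have h2a : orderOf ((⟨x, hxN⟩ : ↥(Subgroup.normalizer (R : Set X)))⁻¹ *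
              (k'⁻¹ * ⟨x, hxN⟩ * k')) ∣
              Nat.card (pPrimeCore p ↥(Subgroup.normalizer (R : Set X))) :=
            Subgroup.orderOf_dvd_natCard _ h1
          have h2b : orderOf (x⁻¹ * ((k' : X)⁻¹ * x * (k' : X))) =
              orderOf ((⟨x, hxN⟩ : ↥(Subgroup.normalizer (R : Set X)))⁻¹ *
                (k'⁻¹ * ⟨x, hxN⟩ * k')) := by
            rw [← Subgroup.orderOf_coe]
            simp
          rw [h2b]
          exact Nat.Coprime.coprime_dvd_left h2a hDc
        -- the image of the commutator is a `p`-element of `O_p(X / O)`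
        have h3 : QuotientGroup.mk' (pPrimeCore p X) (x⁻¹ * ((k' : X)⁻¹ * x * (k' : X))) ∈
            pCore p (X ⧸ pPrimeCore p X) := by
          rw [map_mul, map_inv]
          apply Subgroup.mul_mem _ (Subgroup.inv_mem _ hxb)
          have := hQn.conj_mem _ hxb (QuotientGroup.mk' (pPrimeCore p X) (k' : X))⁻¹
          simpa [map_mul, map_inv] using this
        obtain ⟨j, hj⟩ := (Cfsg.Agent.Lib.Helper1.pCore_isPGroup (G := X ⧸ pPrimeCore p X) p)
          ⟨_, h3⟩
        have hj' : (QuotientGroup.mk' (pPrimeCore p X) (x⁻¹ * ((k' : X)⁻¹ * x * (k' : X)))) ^ p ^ j = 1 := by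
          have := congrArg Subtype.val hj
          simpa using this
        have h4 := map_eq_one_of_coprime_of_pElement (QuotientGroup.mk' (pPrimeCore p X)) h2 ⟨j, hj'⟩
        apply commute_of_inv_mul_conj_eq_one
        have e : (QuotientGroup.mk' (pPrimeCore p X) x)⁻¹ *
            ((QuotientGroup.mk' (pPrimeCore p X) ((Subgroup.normalizer (R : Set X)).subtype k'))⁻¹ *
              QuotientGroup.mk' (pPrimeCore p X) x *
              QuotientGroup.mk' (pPrimeCore p X) ((Subgroup.normalizer (R : Set X)).subtype k')) =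
            QuotientGroup.mk' (pPrimeCore p X) (x⁻¹ * ((k' : X)⁻¹ * x * (k' : X))) := by
          simp [map_mul, map_inv]
        rw [e, h4]
    · -- the `p'`-commutator condition
      intro wb hwb hwR kb hkb
      obtain ⟨k, hk, rfl⟩ := hkb
      obtain ⟨k', hk', rfl⟩ := hk
      obtain ⟨w, rfl, hwc⟩ := exists_lift_centralizing hO hR (xb := wb)
        (fun r hr => hwR _ (Subgroup.mem_map_of_mem _ hr))
      have hwN := hcenN w hwc
      have hw'Y : (⟨w, hwN⟩ : ↥(Subgroup.normalizer (R : Set X))) ∈ Y' := by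
        refine Subgroup.mem_inf.mpr ⟨?_, ?_⟩
        · rw [Subgroup.mem_subgroupOf]; exact hwb
        · rw [Subgroup.mem_subgroupOf, Subgroup.mem_centralizer_iff]
          exact fun r hr => hwc r hr
      have h1 := hord k' hk' _ hw'Y
      have e : (QuotientGroup.mk' (pPrimeCore p X) w)⁻¹ *
          ((QuotientGroup.mk' (pPrimeCore p X) ((Subgroup.normalizer (R : Set X)).subtype k'))⁻¹ *
            QuotientGroup.mk' (pPrimeCore p X) w *
            QuotientGroup.mk' (pPrimeCore p X) ((Subgroup.normalizer (R : Set X)).subtype k')) =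
          QuotientGroup.mk' (pPrimeCore p X) (w⁻¹ * ((k' : X)⁻¹ * w * (k' : X))) := by
        simp [map_mul, map_inv]
      rw [e]
      exact Nat.Coprime.coprime_dvd_left (orderOf_map_dvd _ _) h1
  exact hlb

end General

section Two

variable {R : Subgroup X} {K' : Subgroup ↥(Subgroup.normalizer (R : Set X))}

/-- **the image of a `2`-component of `N_X(R)` in `X / O(X)` lies in the layer** -/
theorem pcomp_normalizer_map_le_layer_two (hR : IsPGroup 2 R) (hK' : IsPComponent 2 K') :
    (K'.map (Subgroup.normalizer (R : Set X)).subtype).map (QuotientGroup.mk' (pPrimeCore 2 X)) ≤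
      layer (X ⧸ pPrimeCore 2 X) := by
  have hO : (Nat.card (pPrimeCore 2 X)).Coprime 2 := pPrimeCore_coprime 2
  have hDc : (Nat.card (pPrimeCore 2 ↥(Subgroup.normalizer (R : Set X)))).Coprime 2 :=
    pPrimeCore_coprime 2
  have hcenN : ∀ x : X, (∀ r ∈ R, r * x = x * r) → x ∈ Subgroup.normalizer (R : Set X) :=
    fun x hx => mem_normalizer_of_centralizes hx
  haveI hLn : (layer (X ⧸ pPrimeCore 2 X)).Normal := by
    haveI : (layer (X ⧸ pPrimeCore 2 X)).Characteristic :=
      Cfsg.Agent.Lib.Helper9.layer_characteristic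
    infer_instance
  haveI hDn : (pPrimeCore 2 ↥(Subgroup.normalizer (R : Set X))).Normal :=
    Cfsg.Agent.Lib.Helper1.pPrimeCore_normal 2
  have hBDstmt := pcomp_LB_of_caseB (p := 2) hR hK'
  set Lh : Subgroup X := (layer (X ⧸ pPrimeCore 2 X)).comap (QuotientGroup.mk' (pPrimeCore 2 X))
    with hLh
  haveI hLhn : Lh.Normal := hLn.comap _
  set Y' : Subgroup ↥(Subgroup.normalizer (R : Set X)) :=
    Lh.subgroupOf (Subgroup.normalizer (R : Set X)) ⊓
      (Subgroup.centralizer (R : Set X)).subgroupOf (Subgroup.normalizer (R : Set X)) with hY'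
  haveI hY'n : Y'.Normal := by
    haveI : (Lh.subgroupOf (Subgroup.normalizer (R : Set X))).Normal := hLhn.subgroupOf _
    exact Subgroup.normal_inf_normal _ _
  have hsn : (Y'.map (QuotientGroup.mk' (pPrimeCore 2 ↥(Subgroup.normalizer (R : Set X))))).IsSubnormal :=
    (hY'n.map _ (QuotientGroup.mk'_surjective _)).isSubnormal
  rcases comp_le_or_commutator_eq_bot hK'.2.1 hsn with hA | hB
  · -- case A: `K ≤ Lh`
    have h1 : K' ≤ pPrimeCore 2 ↥(Subgroup.normalizer (R : Set X)) ⊔ Y' := by
      rw [← QuotientGroup.comap_map_mk', ← Subgroup.map_le_iff_le_comap]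
      exact hA
    rw [Subgroup.map_le_iff_le_comap]
    apply pcomp_le_of_forall hK'
    rintro _ ⟨x, hx, rfl⟩ ⟨k, hk⟩
    have hxY : x ∈ Y' := by
      have hx' : x ∈ Y' ⊔ pPrimeCore 2 ↥(Subgroup.normalizer (R : Set X)) := by
        rw [sup_comm]; exact h1 hx
      apply mem_of_mem_sup_of_pElement hDc hx'
      refine ⟨k, ?_⟩
      apply Subtype.ext
      simpa using hk
    exact Subgroup.mem_subgroupOf.mp hxY.1
  · -- case B
    have hBD : ∀ k' ∈ K', ∀ v ∈ Y',
        v⁻¹ * (k'⁻¹ * v * k') ∈ pPrimeCore 2 ↥(Subgroup.normalizer (R : Set X)) := by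
      intro k' hk' v hv
      have hc := commute_of_commutator_eq_bot hB (Subgroup.mem_map_of_mem _ hk')
        (Subgroup.mem_map_of_mem _ hv)
      rw [← QuotientGroup.eq_one_iff]
      have := inv_mul_conj_eq_one_of_commute hc
      simpa using this
    have hlb := hBDstmt hBD
    have hgenK : OddGen ((K'.map (Subgroup.normalizer (R : Set X)).subtype).map
        (QuotientGroup.mk' (pPrimeCore 2 X))) := oddGen_of_pResidual hlb.pResidual_eq_top
    -- the odd-order subgroup `Dq`
    obtain ⟨Dq, hDq⟩ : ∃ Dq, Dq = ((pPrimeCore 2 ↥(Subgroup.normalizer (R : Set X)) ⊓ Y').map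
        (Subgroup.normalizer (R : Set X)).subtype).map (QuotientGroup.mk' (pPrimeCore 2 X)) :=
      ⟨_, rfl⟩
    have hDqmem : ∀ u ∈ pPrimeCore 2 ↥(Subgroup.normalizer (R : Set X)) ⊓ Y',
        QuotientGroup.mk' (pPrimeCore 2 X) (u : X) ∈ Dq := by
      intro u hu
      rw [hDq]
      exact ⟨(u : X), ⟨u, hu, rfl⟩, rfl⟩
    have hDqodd : Odd (Nat.card Dq) := by
      rw [hDq]
      have h1 := Subgroup.card_map_dvd ((pPrimeCore 2 ↥(Subgroup.normalizer (R : Set X)) ⊓ Y').map
        (Subgroup.normalizer (R : Set X)).subtype) (QuotientGroup.mk' (pPrimeCore 2 X))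
      have h2 := Subgroup.card_map_dvd (pPrimeCore 2 ↥(Subgroup.normalizer (R : Set X)) ⊓ Y')
        (Subgroup.normalizer (R : Set X)).subtype
      have h3 : Nat.card (pPrimeCore 2 ↥(Subgroup.normalizer (R : Set X)) ⊓ Y' :
          Subgroup ↥(Subgroup.normalizer (R : Set X))) ∣
          Nat.card (pPrimeCore 2 ↥(Subgroup.normalizer (R : Set X))) :=
        Subgroup.card_dvd_of_le inf_le_left
      exact Odd.of_dvd_nat (Nat.coprime_two_right.mp hDc) ((h1.trans h2).trans h3)
    have hDqN : Dq ≤ layer (X ⧸ pPrimeCore 2 X) ⊓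
        Subgroup.centralizer ((R.map (QuotientGroup.mk' (pPrimeCore 2 X)) :
          Subgroup (X ⧸ pPrimeCore 2 X)) : Set (X ⧸ pPrimeCore 2 X)) := by
      rw [hDq]
      rintro _ ⟨_, ⟨d, hd, rfl⟩, rfl⟩
      refine ⟨Subgroup.mem_subgroupOf.mp hd.2.1, ?_⟩
      have hdc : (d : X) ∈ Subgroup.centralizer (R : Set X) := Subgroup.mem_subgroupOf.mp hd.2.2
      apply Subgroup.mem_centralizer_iff.mpr
      rintro _ ⟨r, hr, rfl⟩
      show QuotientGroup.mk' (pPrimeCore 2 X) r * QuotientGroup.mk' (pPrimeCore 2 X) (d : X) =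
        QuotientGroup.mk' (pPrimeCore 2 X) (d : X) * QuotientGroup.mk' (pPrimeCore 2 X) r
      rw [← map_mul, ← map_mul, Subgroup.mem_centralizer_iff.mp hdc r hr]
    have hDqconj : ∀ n : ↥(Subgroup.normalizer (R : Set X)),
        QuotientGroup.mk' (pPrimeCore 2 X) (n : X) ∈ Subgroup.normalizer (Dq : Set _) := by
      intro n
      apply mem_normalizer_of_forall_conj_mem
      intro d hd
      rw [hDq] at hd
      obtain ⟨_, ⟨u, hu, rfl⟩, rfl⟩ := hd
      have h1 : n * u * n⁻¹ ∈ pPrimeCore 2 ↥(Subgroup.normalizer (R : Set X)) ⊓ Y' :=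
        ⟨hDn.conj_mem u hu.1 n, hY'n.conj_mem u hu.2 n⟩
      have h2 := hDqmem _ h1
      have e : QuotientGroup.mk' (pPrimeCore 2 X) ((n * u * n⁻¹ : ↥(Subgroup.normalizer (R : Set X))) : X) =
          QuotientGroup.mk' (pPrimeCore 2 X) (n : X) *
            QuotientGroup.mk' (pPrimeCore 2 X) ((Subgroup.normalizer (R : Set X)).subtype u) *
            (QuotientGroup.mk' (pPrimeCore 2 X) (n : X))⁻¹ := by
        simp [map_mul, map_inv]
      rw [← e]; exact h2
    -- lifting the elements of `C_E(R)`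
    have hlift : ∀ wb ∈ layer (X ⧸ pPrimeCore 2 X) ⊓
        Subgroup.centralizer ((R.map (QuotientGroup.mk' (pPrimeCore 2 X)) :
          Subgroup (X ⧸ pPrimeCore 2 X)) : Set (X ⧸ pPrimeCore 2 X)),
        ∃ v ∈ Y', QuotientGroup.mk' (pPrimeCore 2 X) (v : X) = wb := by
      intro wb hwb
      obtain ⟨w, rfl, hwc⟩ := exists_lift_centralizing hO hR (xb := wb)
        (fun r hr => Subgroup.mem_centralizer_iff.mp hwb.2 _ (Subgroup.mem_map_of_mem _ hr))
      have hwN := hcenN w hwc
      refine ⟨⟨w, hwN⟩, Subgroup.mem_inf.mpr ⟨?_, ?_⟩, rfl⟩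
      · rw [Subgroup.mem_subgroupOf]; exact hwb.1
      · rw [Subgroup.mem_subgroupOf, Subgroup.mem_centralizer_iff]
        exact fun r hr => hwc r hr
    have hNDq : layer (X ⧸ pPrimeCore 2 X) ⊓
        Subgroup.centralizer ((R.map (QuotientGroup.mk' (pPrimeCore 2 X)) :
          Subgroup (X ⧸ pPrimeCore 2 X)) : Set (X ⧸ pPrimeCore 2 X)) ≤
        Subgroup.normalizer (Dq : Set _) := by
      intro wb hwb
      obtain ⟨v, hv, rfl⟩ := hlift wb hwb
      exact hDqconj v
    have hKDq : (K'.map (Subgroup.normalizer (R : Set X)).subtype).map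
        (QuotientGroup.mk' (pPrimeCore 2 X)) ≤ Subgroup.normalizer (Dq : Set _) := by
      rintro _ ⟨_, ⟨k', hk', rfl⟩, rfl⟩
      exact hDqconj k'
    have hactq : ∀ wb ∈ layer (X ⧸ pPrimeCore 2 X) ⊓
        Subgroup.centralizer ((R.map (QuotientGroup.mk' (pPrimeCore 2 X)) :
          Subgroup (X ⧸ pPrimeCore 2 X)) : Set (X ⧸ pPrimeCore 2 X)),
        ∀ kb ∈ (K'.map (Subgroup.normalizer (R : Set X)).subtype).map
          (QuotientGroup.mk' (pPrimeCore 2 X)), wb⁻¹ * (kb⁻¹ * wb * kb) ∈ Dq := by
      intro wb hwb kb hkb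
      obtain ⟨v, hv, rfl⟩ := hlift wb hwb
      obtain ⟨_, ⟨k', hk', rfl⟩, rfl⟩ := hkb
      have h1 : v⁻¹ * (k'⁻¹ * v * k') ∈ pPrimeCore 2 ↥(Subgroup.normalizer (R : Set X)) ⊓ Y' := by
        refine ⟨hBD k' hk' v hv, Y'.mul_mem (Y'.inv_mem hv) ?_⟩
        have := hY'n.conj_mem v hv k'⁻¹
        rwa [inv_inv] at this
      have h2 := hDqmem _ h1
      have e : QuotientGroup.mk' (pPrimeCore 2 X)
          ((v⁻¹ * (k'⁻¹ * v * k') : ↥(Subgroup.normalizer (R : Set X))) : X) =
          (QuotientGroup.mk' (pPrimeCore 2 X) (v : X))⁻¹ *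
            ((QuotientGroup.mk' (pPrimeCore 2 X) ((Subgroup.normalizer (R : Set X)).subtype k'))⁻¹ *
              QuotientGroup.mk' (pPrimeCore 2 X) (v : X) *
              QuotientGroup.mk' (pPrimeCore 2 X) ((Subgroup.normalizer (R : Set X)).subtype k')) := by
        simp [map_mul, map_inv]
      rw [← e]; exact h2
    have h2EC := two_elements_mem_EC (pPrimeCore_quotient_eq_bot 2) (hR.map _) hlb.comm hgenK
      hDqodd hDqN hNDq hKDq hactq
    have hKEC : (K'.map (Subgroup.normalizer (R : Set X)).subtype).map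
        (QuotientGroup.mk' (pPrimeCore 2 X)) ≤ layer (X ⧸ pPrimeCore 2 X) ⊔
          Subgroup.centralizer (layer (X ⧸ pPrimeCore 2 X) : Set (X ⧸ pPrimeCore 2 X)) := by
      rw [Subgroup.map_le_iff_le_comap]
      apply pcomp_le_of_forall hK'
      rintro x hx ⟨k, hk⟩
      rw [Subgroup.mem_comap]
      apply h2EC _ (Subgroup.mem_map_of_mem _ hx)
      exact ⟨k, by rw [← map_pow, hk, map_one]⟩
    exact le_layer_of_EC hlb (pPrimeCore_quotient_eq_bot 2) hKEC

/-- **`L_{2'}`-balance for one `2`-component of `N_X(R)`** -/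
theorem pcomp_normalizer_le_pLayer_two (hR : IsPGroup 2 R) (hK' : IsPComponent 2 K') :
    K'.map (Subgroup.normalizer (R : Set X)).subtype ≤ pLayer 2 X := by
  have h1 := pcomp_normalizer_map_le_layer_two hR hK'
  have h2 : K'.map (Subgroup.normalizer (R : Set X)).subtype ≤ pPrimeCore 2 X ⊔ pLayer 2 X := by
    rw [← QuotientGroup.comap_map_mk', ← Subgroup.map_le_iff_le_comap, map_mk_pLayer]
    exact h1
  apply pcomp_le_of_forall hK'
  intro x hx hxp
  haveI : (pLayer 2 X).Characteristic := pLayer_characteristic 2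
  haveI hn : (pLayer 2 X).Normal := inferInstance
  have hO : (Nat.card (pPrimeCore 2 X)).Coprime 2 := pPrimeCore_coprime 2
  apply mem_of_mem_sup_of_pElement hO _ hxp
  rw [sup_comm]
  exact h2 hx

end Two

end Up

end Cfsg.Agent.Lib.Helper23.L2Bal
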