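import Cfsg.Agent.Lib.Helper2.StA4
set_option autoImplicit false

/-!
# Type-A Steinberg groups: `φ` is injective on `U` (FO-A of the S2401 farm-out)

Column filtration, flattened: the pairs `(i,j)`, `i < j`, are ranked by `j * n + i`;
`V N` is generated by the root elements of rank `< N`.
-/

namespace Cfsg.Agent.Lib.Helper23.StUKer

open Cfsg.Agent.Lib.Helper2.StA Cfsg.Agent.Lib.Helper2.StA.StRep Matrix

variable {n : ℕ} {K : Type*} [Field K] {G : Type*} [Group G] (S : StRep n K G)

/-- upper root elements of rank below `N` -/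
def gens (N : ℕ) : Set G :=
  {g | ∃ i j : Fin n, ∃ t : K, i < j ∧ j.val * n + i.val < N ∧ g = S.x i j t}

/-- the subgroup generated by the upper root elements of rank below `N` -/
def V (N : ℕ) : Subgroup G := Subgroup.closure (gens S N)

theorem x_mem_V {N : ℕ} {i j : Fin n} (hij : i < j) (hr : j.val * n + i.val < N) (t : K) :
    S.x i j t ∈ V S N :=
  Subgroup.subset_closure ⟨i, j, t, hij, hr, rfl⟩

/-- left-multiplication induction on `V N` -/
theorem V_induction {N : ℕ} {P : G → Prop} (h1 : P 1)
    (hmul : ∀ i j : Fin n, ∀ t : K, i < j → j.val * n + i.val < N → ∀ a ∈ V S N, P a →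
      P (S.x i j t * a)) :
    ∀ g ∈ V S N, P g := by
  intro g hg
  unfold V at hg
  induction hg using Subgroup.closure_induction_left with
  | one => exact h1
  | mul_left y hy z hz ih =>
    obtain ⟨i, j, t, hij, hr, rfl⟩ := hy
    exact hmul i j t hij hr z hz ih
  | inv_mul_cancel y hy z hz ih =>
    obtain ⟨i, j, t, hij, hr, rfl⟩ := hy
    rw [S.x_inv (ne_of_lt hij)]
    exact hmul i j (-t) hij hr z hz ih

theorem V_mono {N M : ℕ} (h : N ≤ M) : V S N ≤ V S M := by
  apply Subgroup.closure_mono
  rintro g ⟨i, j, t, hij, hr, rfl⟩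
  exact ⟨i, j, t, hij, lt_of_lt_of_le hr h, rfl⟩

/-- the column invariant -/
theorem col_invariant {k m : Fin n} (hkm : k < m) :
    ∀ v ∈ V S (m.val * n + k.val),
      ((S.φ v : Matrix.SpecialLinearGroup (Fin n) K) : Matrix (Fin n) (Fin n) K) m m = 1 ∧
      ∀ r : Fin n, k ≤ r → r ≠ m →
        ((S.φ v : Matrix.SpecialLinearGroup (Fin n) K) : Matrix (Fin n) (Fin n) K) r m = 0 := by
  apply V_induction
  · refine ⟨by simp, ?_⟩
    intro r _ hrm
    simp [hrm]
  · intro i j t hij hr a _ ⟨h1, h2⟩
    have hin : i.val < n := i.2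
    have hkn : k.val < n := k.2
    -- `j < m` or (`j = m` and `i < k`)
    have hjm : j.val ≤ m.val := by
      by_contra hlt
      push Not at hlt
      have : (m.val + 1) * n ≤ j.val * n := Nat.mul_le_mul_right n hlt
      have e : (m.val + 1) * n = m.val * n + n := by ring
      omega
    have him : i ≠ m := by
      intro h
      rw [h] at hij
      exact absurd (Fin.lt_def.mp hij) (by omega)
    rw [map_mul, Matrix.SpecialLinearGroup.coe_mul, S.φ_x_coe (ne_of_lt hij)]
    refine ⟨?_, ?_⟩
    · rw [Matrix.transvection_mul_apply_of_ne _ _ _ _ (Ne.symm him)]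
      exact h1
    · intro r hkr hrm
      by_cases hri : r = i
      · subst hri
        rw [Matrix.transvection_mul_apply_same, h2 r hkr hrm]
        have hjm' : j ≠ m := by
          intro h
          subst h
          have : r.val < k.val := by omega
          exact absurd (Fin.le_def.mp hkr) (by omega)
        have hkj : k ≤ j := le_of_lt (lt_of_le_of_lt hkr hij)
        rw [h2 j hkj hjm']
        simp
      · rw [Matrix.transvection_mul_apply_of_ne _ _ _ _ hri]
        exact h2 r hkr hrm

/-- the decomposition `V (N+1) = X_{k,m} * V N` for `N` the rank of `(k,m)` -/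
theorem decomp {k m : Fin n} (hkm : k < m) :
    ∀ g ∈ V S (m.val * n + k.val + 1), ∃ s : K, ∃ v ∈ V S (m.val * n + k.val),
      g = S.x k m s * v := by
  apply V_induction
  · exact ⟨0, 1, Subgroup.one_mem _, by rw [S.x_zero (ne_of_lt hkm), one_mul]⟩
  · rintro i j t hij hr a _ ⟨s, v, hv, rfl⟩
    have hin : i.val < n := i.2
    have hkn : k.val < n := k.2
    have hkm' : k ≠ m := ne_of_lt hkm
    have hij' : i ≠ j := ne_of_lt hij
    have hjm : j.val ≤ m.val := by
      by_contra hlt
      push Not at hlt
      have : (m.val + 1) * n ≤ j.val * n := Nat.mul_le_mul_right n hlt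
      have e : (m.val + 1) * n = m.val * n + n := by ring
      omega
    have him : i ≠ m := by
      intro h
      rw [h] at hij
      exact absurd (Fin.lt_def.mp hij) (by omega)
    by_cases hsame : i = k ∧ j = m
    · obtain ⟨rfl, rfl⟩ := hsame
      refine ⟨t + s, v, hv, ?_⟩
      rw [← mul_assoc, S.x_add i j hij']
    · -- the generator has rank `< N`
      have hr' : j.val * n + i.val < m.val * n + k.val := by
        rcases Nat.lt_or_ge (j.val * n + i.val) (m.val * n + k.val) with h | h
        · exact h
        · exfalso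
          have heq : j.val * n + i.val = m.val * n + k.val := by omega
          apply hsame
          rcases Nat.lt_or_ge j.val m.val with hlt | hge
          · have : (j.val + 1) * n ≤ m.val * n := Nat.mul_le_mul_right n hlt
            have e : (j.val + 1) * n = j.val * n + n := by ring
            omega
          · have hjm2 : j.val = m.val := by omega
            rw [hjm2] at heq
            exact ⟨Fin.ext (by omega), Fin.ext hjm2⟩
      have hy : S.x i j t ∈ V S (m.val * n + k.val) := x_mem_V S hij hr' t
      by_cases hjk : j = k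
      · subst hjk
        -- `x i j t * x j m s = x j m s * (x i m (t s) * x i j t)`
        have h1 := S.cj_x_right hij' hkm' him t s
        have hcomm : S.x i m (t * s) * S.x j m s = S.x j m s * S.x i m (t * s) :=
          S.x_comm i m j m him hkm' him hkm'.symm _ _
        have him_lt : i < m := lt_trans hij hkm
        have hr2 : m.val * n + i.val < m.val * n + j.val := by
          have := Fin.lt_def.mp hij
          omega
        refine ⟨s, S.x i m (t * s) * (S.x i j t * v),
          Subgroup.mul_mem _ (x_mem_V S him_lt hr2 _) (Subgroup.mul_mem _ hy hv), ?_⟩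
        have h2 : S.x i j t * S.x j m s = S.x i m (t * s) * S.x j m s * S.x i j t := by
          rw [← h1]
          unfold cj
          group
        calc S.x i j t * (S.x j m s * v) = (S.x i j t * S.x j m s) * v := by rw [mul_assoc]
          _ = (S.x i m (t * s) * S.x j m s * S.x i j t) * v := by rw [h2]
          _ = (S.x j m s * S.x i m (t * s) * S.x i j t) * v := by rw [hcomm]
          _ = S.x j m s * (S.x i m (t * s) * (S.x i j t * v)) := by simp only [mul_assoc]
      · have hcomm : S.x i j t * S.x k m s = S.x k m s * S.x i j t :=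
          S.x_comm i j k m hij' hkm' him hjk _ _
        refine ⟨s, S.x i j t * v, Subgroup.mul_mem _ hy hv, ?_⟩
        rw [← mul_assoc, hcomm, mul_assoc]

/-- if `N` is not the rank of a pair, `V (N+1) = V N` -/
theorem V_succ_eq_of_not_rank {N : ℕ}
    (h : ¬ ∃ k m : Fin n, k < m ∧ m.val * n + k.val = N) : V S (N + 1) = V S N := by
  apply le_antisymm _ (V_mono S (Nat.le_succ N))
  apply Subgroup.closure_mono
  rintro g ⟨i, j, t, hij, hr, rfl⟩
  refine ⟨i, j, t, hij, ?_, rfl⟩
  rcases Nat.lt_or_ge (j.val * n + i.val) N with h' | h'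
  · exact h'
  · exfalso
    exact h ⟨i, j, hij, by omega⟩

theorem V_inter_ker : ∀ N : ℕ, ∀ g ∈ V S N, S.φ g = 1 → g = 1 := by
  intro N
  induction N with
  | zero =>
    intro g hg _
    have : V S 0 = ⊥ := by
      unfold V
      rw [Subgroup.closure_eq_bot_iff]
      rintro g ⟨i, j, t, _, hr, _⟩
      exact absurd hr (by omega)
    rw [this] at hg
    exact Subgroup.mem_bot.mp hg
  | succ N ih =>
    intro g hg hφ
    by_cases h : ∃ k m : Fin n, k < m ∧ m.val * n + k.val = N
    · obtain ⟨k, m, hkm, rfl⟩ := h
      obtain ⟨s, v, hv, rfl⟩ := decomp S hkm g hg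
      obtain ⟨h1, h2⟩ := col_invariant S hkm v hv
      have hkm' : k ≠ m := ne_of_lt hkm
      have hs : s = 0 := by
        have h3 : ((S.φ (S.x k m s * v) : Matrix.SpecialLinearGroup (Fin n) K) :
            Matrix (Fin n) (Fin n) K) k m = 0 := by
          rw [hφ]
          simp [hkm']
        rw [map_mul, Matrix.SpecialLinearGroup.coe_mul, S.φ_x_coe hkm',
          Matrix.transvection_mul_apply_same, h1, h2 k le_rfl hkm'] at h3
        simpa using h3
      subst hs
      rw [S.x_zero hkm', one_mul] at hφ ⊢
      exact ih v hv hφ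
    · rw [V_succ_eq_of_not_rank S h] at hg
      exact ih g hg hφ

theorem U_le_V : S.U ≤ V S (n * n) := by
  unfold StRep.U
  apply Subgroup.closure_mono
  rintro g ⟨i, j, t, hij, rfl⟩
  refine ⟨i, j, t, hij, ?_, rfl⟩
  have hj : j.val + 1 ≤ n := j.2
  have hi : i.val < n := i.2
  have : (j.val + 1) * n ≤ n * n := Nat.mul_le_mul_right n hj
  have e : (j.val + 1) * n = j.val * n + n := by ring
  omega

theorem U_inter_ker {n : ℕ} {K : Type*} [Field K] {G : Type*} [Group G] (S : StRep n K G)
    {g : G} (hg : g ∈ S.U) (hφ : S.φ g = 1) : g = 1 :=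
  V_inter_ker S (n * n) g (U_le_V S hg) hφ

end Cfsg.Agent.Lib.Helper23.StUKer
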