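import Cfsg.Agent.Lib.Helper23.HBInd3

/-!
# Hall–Higman Theorem B over an algebraically closed field

`hallHigmanC`: let `ρ` be a representation of a group `Γ` on a finite-dimensional space over an
algebraically closed field of characteristic `p`, `Q ≤ Γ` a finite `q`-subgroup (`q ≠ p`)
normalized by `x` with `ρ x ^ (p ^ n) = 1`, such that `x ^ (p ^ (n - 1))` does not centralize
`Q` in the representation.  Then `(ρ x - 1) ^ (p ^ n - 1) ≠ 0`, or `Q` is nonabelian in the
representation and for some `n₀ ≤ n` with `p ^ n₀ - 1` a power of `q`,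
`(ρ x - 1) ^ (p ^ (n - n₀) * (p ^ n₀ - 1) - 1) ≠ 0`.
-/

set_option autoImplicit false

namespace Cfsg.Agent.Lib.Helper23.HB

open Module

universe v w

variable {E : Type v} [Field E] [IsAlgClosed E] {p : ℕ} [Fact p.Prime] [CharP E p]

theorem units_all : ∀ (d : ℕ) (U : Type w) [AddCommGroup U] [Module E U] [FiniteDimensional E U],
    finrank E U = d → UnitsForm E p U := by
  intro d
  induction d using Nat.strong_induction_on with
  | _ d ih =>
    intro U _ _ _ hd
    apply units_step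
    intro U' hlt
    exact ih (finrank E U') (hd ▸ hlt) U' rfl

theorem hallHigmanC {U : Type w} [AddCommGroup U] [Module E U] [FiniteDimensional E U]
    {Γ : Type*} [Group Γ] (ρ : Γ →* Module.End E U) {q : ℕ} (hq : q.Prime) (hqp : q ≠ p)
    (Q : Subgroup Γ) [Finite Q] (hQ : IsPGroup q Q) (x : Γ)
    (hx : x ∈ Subgroup.normalizer (Q : Set Γ)) {n : ℕ} (hn : 1 ≤ n) (hxN : ρ x ^ (p ^ n) = 1)
    (hy : ∃ g ∈ Q, ρ (x ^ (p ^ (n - 1)) * g * (x ^ (p ^ (n - 1)))⁻¹) ≠ ρ g) :
    Concl p q n (ρ x - 1) (∃ a ∈ Q, ∃ b ∈ Q, ρ (a * b) ≠ ρ (b * a)) :=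
  gamma_of_units (units_all (finrank E U) U rfl) ρ hq hqp Q hQ x hx hn hxN hy

end Cfsg.Agent.Lib.Helper23.HB
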