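import Mathlib
import Cfsg.Prelude.Def_KGroupFacts
import Cfsg.Prelude.Def_SporadicB
import Cfsg.Agent.Lib.Helper17.WeakL5

/-!
S2054-[C1] (architect helper5): a `p`-group kernel (`p ∈ {2, 5}`) of a finite stem extension of `G`
is trivial when `G` has a perfect subgroup `H` of index prime to `p` which is a double cover of a
group `Q` with Schur multiplier `C6`.
-/

set_option autoImplicit false

namespace Cfsg.Agent.Lib.Helper5.Fi23M

open Cfsg

/-- [C1] -/
theorem card_ker_eq_one_of_double_cover {G Q : Type} [Group G] [Group Q] (H : Subgroup G)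
    (hcov : Cfsg.IsNonsplitDoubleCover H Q) (hHperf : commutator H = ⊤)
    (hQ6 : Cfsg.HasCyclicSchurMultiplier Q 6)
    (p : ℕ) [Fact p.Prime] (hp : p = 2 ∨ p = 5) (hidx : H.index ≠ 0) (hpidx : ¬ p ∣ H.index)
    {Γ : Type} [Group Γ] [Finite Γ] (σ : Γ →* G) (hσ : Cfsg.IsStemExtension σ)
    (hk : IsPGroup p σ.ker) : Nat.card σ.ker = 1 := by
  obtain ⟨hZ2, ⟨e⟩, _⟩ := hcov
  have hstem := Cfsg.Agent.Lib.Helper10.Weak.stem_restrict_p σ hσ hk H hpidx
  obtain ⟨hsurjH, hcenH, hcommH⟩ := hstem
  have hLperf : commutator (H.comap σ) = ⊤ :=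
    Cfsg.Agent.Lib.Helper12.Schur.commutator_eq_top_of_surj (σ.subgroupComap H) hsurjH hcommH hHperf
  -- the map `H → Q`
  let π : H →* Q := e.toMonoidHom.comp (QuotientGroup.mk' (Subgroup.center H))
  have hπsurj : Function.Surjective π :=
    e.surjective.comp (QuotientGroup.mk'_surjective _)
  have hπker : π.ker ≤ Subgroup.center H := by
    intro x hx
    rw [MonoidHom.mem_ker] at hx
    have h1 : (QuotientGroup.mk' (Subgroup.center H)) x = 1 := by
      have : e ((QuotientGroup.mk' (Subgroup.center H)) x) = e 1 := by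
        rw [map_one]; exact hx
      exact e.injective this
    exact (QuotientGroup.eq_one_iff x).mp h1
  let ψ : H.comap σ →* Q := π.comp (σ.subgroupComap H)
  have hψsurj : Function.Surjective ψ := hπsurj.comp hsurjH
  have hψcen : ψ.ker ≤ Subgroup.center (H.comap σ) :=
    Cfsg.Agent.Lib.Helper12.Schur.ker_comp_le_center (σ.subgroupComap H) π hLperf hcenH hπker
  have hψ : IsStemExtension ψ := ⟨hψsurj, hψcen, by rw [hLperf]; exact le_top⟩
  obtain ⟨ρ, hρ⟩ := hQ6.2 (H.comap σ) ψ hψ
  -- `|ker ψ|` divides `6`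
  have h6 : Nat.card ψ.ker ∣ 6 := by
    have h := Subgroup.card_dvd_of_surjective ρ hρ
    have h' : Nat.card (Multiplicative (ZMod 6)) = 6 := by
      rw [Nat.card_eq_fintype_card]; rfl
    rwa [h'] at h
  -- counting
  haveI : Finite Q := Finite.of_surjective ψ hψsurj
  have hQpos : 0 < Nat.card Q := Nat.card_pos
  have ha : Nat.card (H.comap σ) = Nat.card ψ.ker * Nat.card Q := by
    rw [← Subgroup.card_mul_index ψ.ker, Subgroup.index_ker,
      MonoidHom.range_eq_top.mpr hψsurj, Subgroup.card_top]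
  have hb : Nat.card H = 2 * Nat.card Q := by
    rw [Subgroup.card_eq_card_quotient_mul_card_subgroup (Subgroup.center H), hZ2,
      Nat.card_congr e.toEquiv, mul_comm]
  have hc : Nat.card (H.comap σ) = Nat.card σ.ker * Nat.card H := by
    have h1 : Nat.card (H.comap σ) * (H.comap σ).index = Nat.card Γ :=
      Subgroup.card_mul_index _
    have h2 : (H.comap σ).index = H.index := Subgroup.index_comap_of_surjective H hσ.1
    have h3 : Nat.card Γ = Nat.card σ.ker * Nat.card G := by
      rw [← Subgroup.card_mul_index σ.ker, Subgroup.index_ker,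
        MonoidHom.range_eq_top.mpr hσ.1, Subgroup.card_top]
    have h4 : Nat.card H * H.index = Nat.card G := Subgroup.card_mul_index H
    rw [h2, h3, ← h4, ← mul_assoc] at h1
    exact Nat.eq_of_mul_eq_mul_right (Nat.pos_of_ne_zero hidx) h1
  have hd : Nat.card ψ.ker = 2 * Nat.card σ.ker := by
    have : Nat.card ψ.ker * Nat.card Q = (2 * Nat.card σ.ker) * Nat.card Q := by
      rw [← ha, hc, hb]; ring
    exact Nat.eq_of_mul_eq_mul_right hQpos this
  -- `|ker σ|` is a power of `p` dividing `3`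
  obtain ⟨n, hn⟩ := hk.exists_card_eq
  rw [hd, hn] at h6
  rw [hn]
  cases n with
  | zero => rfl
  | succ n =>
    exfalso
    have hp3 : p ∣ 3 := by
      have h1 : p ∣ 2 * p ^ (n + 1) := Dvd.dvd.mul_left (dvd_pow_self p (Nat.succ_ne_zero n)) 2
      have h2 : 2 * p ^ (n + 1) ∣ 2 * 3 := h6
      have h3 : p ^ (n + 1) ∣ 3 := Nat.dvd_of_mul_dvd_mul_left (by norm_num) h2
      exact (dvd_pow_self p (Nat.succ_ne_zero n)).trans h3
    rcases hp with rfl | rfl
    · omega
    · omega

end Cfsg.Agent.Lib.Helper5.Fi23M
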