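import Mathlib

/-! Package G of helper21's S0197 farm-out: the final arithmetic. -/

set_option autoImplicit false

namespace Cfsg.Agent.Lib.Helper23.S0197G

set_option maxHeartbeats 1000000 in
theorem order_arith (N : ℕ) (f s : ℤ) (hf : f ≠ 0) (hs : s ≠ 0) (hs1 : s ≠ 1) (h1f : 1 + f ≠ 0)
    (hfs : f + s ≠ 0) (h1fs : 1 + f + s ≠ 0)
    (hEg : (N : ℂ) * ((1 : ℂ) - 1 / (s : ℂ) - 9 / (1 + (f : ℂ)) + 9 / ((f : ℂ) + (s : ℂ))) = 0)
    (hEt : (N : ℂ) * (1 + 1 / (s : ℂ) - 8 / (f : ℂ) + 27 / (1 + (f : ℂ)) + 27 / ((f : ℂ) + (s : ℂ))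
      - 64 / (1 + (f : ℂ) + (s : ℂ))) = 27648)
    (h16 : 16 ∣ N) (h32 : ¬ 32 ∣ N) : N = 5616 ∨ N = 7920 := by
  have hN : (N : ℂ) ≠ 0 := by
    intro h
    rw [h, zero_mul] at hEt
    norm_num at hEt
  have hb := (mul_eq_zero.mp hEg).resolve_left hN
  have hsC : (s : ℂ) ≠ 0 := Int.cast_ne_zero.mpr hs
  have h1fC : (1 + (f : ℂ)) ≠ 0 := by exact_mod_cast h1f
  have hfsC : ((f : ℂ) + (s : ℂ)) ≠ 0 := by exact_mod_cast hfs
  have hb' : ((s : ℂ) - 1) * ((1 + (f : ℂ)) * ((f : ℂ) + (s : ℂ)) - 9 * (s : ℂ)) = 0 := by
    have h1 : (s : ℂ) * (1 + (f : ℂ)) * ((f : ℂ) + (s : ℂ)) *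
        ((1 : ℂ) - 1 / (s : ℂ) - 9 / (1 + (f : ℂ)) + 9 / ((f : ℂ) + (s : ℂ))) =
        ((s : ℂ) - 1) * ((1 + (f : ℂ)) * ((f : ℂ) + (s : ℂ)) - 9 * (s : ℂ)) := by
      field_simp
      ring
    rw [← h1, hb, mul_zero]
  have hb'' : (s - 1) * ((1 + f) * (f + s) - 9 * s) = 0 := by exact_mod_cast hb'
  have hrel : (1 + f) * (f + s) - 9 * s = 0 := by
    rcases mul_eq_zero.mp hb'' with h | h
    · exact absurd (by omega) hs1
    · exact h
  have hdvd : (f - 8) ∣ 72 := ⟨-(f + 9 + s), by linear_combination hrel⟩
  have hle1 : f - 8 ≤ 72 := Int.le_of_dvd (by norm_num) hdvd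
  have hle2 : -(f - 8) ≤ 72 := Int.le_of_dvd (by norm_num) (neg_dvd.mpr hdvd)
  have hlo : -64 ≤ f := by omega
  have hhi : f ≤ 80 := by omega
  have hcases : f = -64 ∨ f = -28 ∨ f = -16 ∨ f = -10 ∨ f = 4 ∨ f = 5 ∨ f = 6 ∨ f = 7 ∨ f = 9 ∨ f = 10 ∨ f = 11 ∨ f = 12 ∨ f = 14 ∨ f = 16 ∨ f = 17 ∨ f = 20 ∨ f = 26 ∨ f = 32 ∨ f = 44 ∨ f = 80 := by
    clear hEg hEt hb hb' hb'' hdvd hle1 hle2 hN hsC h1fC hfsC
    interval_cases f <;> omega
  clear hdvd hle1 hle2 hb hb' hb'' hEg
  rcases hcases with hf' | hf' | hf' | hf' | hf' | hf' | hf' | hf' | hf' | hf' | hf' | hf' | hf' | hf' | hf' | hf' | hf' | hf' | hf' | hf'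
  · -- f = -64, s = 56, E = 363/56
    subst hf'
    have hs' : s = 56 := by omega
    subst hs'
    have key : (N : ℂ) * 363 = 27648 * 56 := by
      push_cast at hEt
      linear_combination (56 : ℂ) * hEt
    have key' : N * 363 = 27648 * 56 := by exact_mod_cast key
    omega
  · -- f = -28, s = 21, E = 50/7
    subst hf'
    have hs' : s = 21 := by omega
    subst hs'
    have key : (N : ℂ) * 50 = 27648 * 7 := by
      push_cast at hEt
      linear_combination (7 : ℂ) * hEt
    have key' : N * 50 = 27648 * 7 := by exact_mod_cast key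
    omega
  · -- f = -16, s = 10, E = 81/10
    subst hf'
    have hs' : s = 10 := by omega
    subst hs'
    have key : (N : ℂ) * 81 = 27648 * 10 := by
      push_cast at hEt
      linear_combination (10 : ℂ) * hEt
    have key' : N * 81 = 27648 * 10 := by exact_mod_cast key
    omega
  · -- f = -10, s = 5, E = 48/5
    subst hf'
    have hs' : s = 5 := by omega
    subst hs'
    have key : (N : ℂ) * 48 = 27648 * 5 := by
      push_cast at hEt
      linear_combination (5 : ℂ) * hEt
    have key' : N * 48 = 27648 * 5 := by exact_mod_cast key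
    omega
  · -- f = 4, s = 5, E = 6/5
    subst hf'
    have hs' : s = 5 := by omega
    subst hs'
    have key : (N : ℂ) * 6 = 27648 * 5 := by
      push_cast at hEt
      linear_combination (5 : ℂ) * hEt
    have key' : N * 6 = 27648 * 5 := by exact_mod_cast key
    omega
  · -- f = 5, s = 10, E = 9/5
    subst hf'
    have hs' : s = 10 := by omega
    subst hs'
    have key : (N : ℂ) * 9 = 27648 * 5 := by
      push_cast at hEt
      linear_combination (5 : ℂ) * hEt
    have key' : N * 9 = 27648 * 5 := by exact_mod_cast key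
    omega
  · -- f = 6, s = 21, E = 16/7
    subst hf'
    have hs' : s = 21 := by omega
    subst hs'
    have key : (N : ℂ) * 16 = 27648 * 7 := by
      push_cast at hEt
      linear_combination (7 : ℂ) * hEt
    have key' : N * 16 = 27648 * 7 := by exact_mod_cast key
    omega
  · -- f = 7, s = 56, E = 75/28
    subst hf'
    have hs' : s = 56 := by omega
    subst hs'
    have key : (N : ℂ) * 75 = 27648 * 28 := by
      push_cast at hEt
      linear_combination (28 : ℂ) * hEt
    have key' : N * 75 = 27648 * 28 := by exact_mod_cast key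
    omega
  · -- f = 9, s = -90, E = 49/15
    subst hf'
    have hs' : s = -90 := by omega
    subst hs'
    have key : (N : ℂ) * 49 = 27648 * 15 := by
      push_cast at hEt
      linear_combination (15 : ℂ) * hEt
    have key' : N * 49 = 27648 * 15 := by exact_mod_cast key
    omega
  · -- f = 10, s = -55, E = 192/55
    subst hf'
    have hs' : s = -55 := by omega
    subst hs'
    have key : (N : ℂ) * 192 = 27648 * 55 := by
      push_cast at hEt
      linear_combination (55 : ℂ) * hEt
    have key' : N * 192 = 27648 * 55 := by exact_mod_cast key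
    omega
  · -- f = 11, s = -44, E = 81/22
    subst hf'
    have hs' : s = -44 := by omega
    subst hs'
    have key : (N : ℂ) * 81 = 27648 * 22 := by
      push_cast at hEt
      linear_combination (22 : ℂ) * hEt
    have key' : N * 81 = 27648 * 22 := by exact_mod_cast key
    omega
  · -- f = 12, s = -39, E = 50/13
    subst hf'
    have hs' : s = -39 := by omega
    subst hs'
    have key : (N : ℂ) * 50 = 27648 * 13 := by
      push_cast at hEt
      linear_combination (13 : ℂ) * hEt
    have key' : N * 50 = 27648 * 13 := by exact_mod_cast key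
    omega
  · -- f = 14, s = -35, E = 144/35
    subst hf'
    have hs' : s = -35 := by omega
    subst hs'
    have key : (N : ℂ) * 144 = 27648 * 35 := by
      push_cast at hEt
      linear_combination (35 : ℂ) * hEt
    have key' : N * 144 = 27648 * 35 := by exact_mod_cast key
    omega
  · -- f = 16, s = -34, E = 147/34
    subst hf'
    have hs' : s = -34 := by omega
    subst hs'
    have key : (N : ℂ) * 147 = 27648 * 34 := by
      push_cast at hEt
      linear_combination (34 : ℂ) * hEt
    have key' : N * 147 = 27648 * 34 := by exact_mod_cast key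
    omega
  · -- f = 17, s = -34, E = 75/17
    subst hf'
    have hs' : s = -34 := by omega
    subst hs'
    have key : (N : ℂ) * 75 = 27648 * 17 := by
      push_cast at hEt
      linear_combination (17 : ℂ) * hEt
    have key' : N * 75 = 27648 * 17 := by exact_mod_cast key
    omega
  · -- f = 20, s = -35, E = 162/35
    subst hf'
    have hs' : s = -35 := by omega
    subst hs'
    have key : (N : ℂ) * 162 = 27648 * 35 := by
      push_cast at hEt
      linear_combination (35 : ℂ) * hEt
    have key' : N * 162 = 27648 * 35 := by exact_mod_cast key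
    omega
  · -- f = 26, s = -39, E = 64/13
    subst hf'
    have hs' : s = -39 := by omega
    subst hs'
    have key : (N : ℂ) * 64 = 27648 * 13 := by
      push_cast at hEt
      linear_combination (13 : ℂ) * hEt
    have key' : N * 64 = 27648 * 13 := by exact_mod_cast key
    omega
  · -- f = 32, s = -44, E = 225/44
    subst hf'
    have hs' : s = -44 := by omega
    subst hs'
    have key : (N : ℂ) * 225 = 27648 * 44 := by
      push_cast at hEt
      linear_combination (44 : ℂ) * hEt
    have key' : N * 225 = 27648 * 44 := by exact_mod_cast key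
    omega
  · -- f = 44, s = -55, E = 294/55
    subst hf'
    have hs' : s = -55 := by omega
    subst hs'
    have key : (N : ℂ) * 294 = 27648 * 55 := by
      push_cast at hEt
      linear_combination (55 : ℂ) * hEt
    have key' : N * 294 = 27648 * 55 := by exact_mod_cast key
    omega
  · -- f = 80, s = -90, E = 169/30
    subst hf'
    have hs' : s = -90 := by omega
    subst hs'
    have key : (N : ℂ) * 169 = 27648 * 30 := by
      push_cast at hEt
      linear_combination (30 : ℂ) * hEt
    have key' : N * 169 = 27648 * 30 := by exact_mod_cast key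
    omega

end Cfsg.Agent.Lib.Helper23.S0197G
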