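import Mathlib
import Cfsg.Prelude.Def_Characters
import Cfsg.Agent.Lib.Helper21.GL23Defs

/-! Package N of helper21's S0197 farm-out: numeric identities for the GL(2,3) tables. -/

set_option autoImplicit false
open scoped ComplexConjugate
open Cfsg.Agent.Lib.Helper21.GL23

namespace Cfsg.Agent.Lib.Helper23.S0197N

theorem gram_eq (α : ℂ) (h2 : α ^ 2 = -2) (hc : conj α = -α) (k l : Fin 5) :
    ∑ c : Fin 8, (csize c : ℂ) * bt α k c * conj (bt α l c) = 48 * (gram k l : ℂ) := by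
  fin_cases k <;> fin_cases l <;>
    simp [Fin.sum_univ_eight, csize, bt, gram, hc, Complex.conj_ofNat] <;>
    ring_nf <;> (try rw [h2]) <;> norm_num

theorem wt_eq (α : ℂ) (h2 : α ^ 2 = -2) (hc : conj α = -α) (j : Fin 8) (k : Fin 5) :
    ∑ c : Fin 8, (csize c : ℂ) * bt α k c * conj (mt α j c) = 48 * (wt j k : ℂ) := by
  fin_cases j <;> fin_cases k <;>
    simp [Fin.sum_univ_eight, csize, bt, Cfsg.Agent.Lib.Helper21.GL23.mt, wt, hc, Complex.conj_ofNat] <;>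
    ring_nf <;> (try rw [h2]) <;> norm_num

theorem la_nondeg (α : ℂ) (h2 : α ^ 2 = -2) (Y : Fin 8 → ℂ)
    (h : ∀ k : Fin 5, ∑ c : Fin 8, (csize c : ℂ) * bt α k c * Y c = 0) (c : Fin 8) (hcD : inD c) :
    Y c = 0 := by
  have e0 := h 0
  have e1 := h 1
  have e2 := h 2
  have e3 := h 3
  have e4 := h 4
  simp [Fin.sum_univ_eight, csize, bt] at e0 e1 e2 e3 e4
  have y3 : Y 3 = 0 := by linear_combination (1/48 : ℂ) * e2 + (1/48 : ℂ) * e3
  have y67 : Y 6 + Y 7 = 0 := by linear_combination (1/24 : ℂ) * e2 - (1/24 : ℂ) * e3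
  have y6m7 : Y 6 - Y 7 = 0 := by
    linear_combination (-1/24 : ℂ) * α * (e0 - e1) + (1/2 : ℂ) * (Y 6 - Y 7) * h2
  have y6 : Y 6 = 0 := by linear_combination (1/2 : ℂ) * y67 + (1/2 : ℂ) * y6m7
  have y7 : Y 7 = 0 := by linear_combination (1/2 : ℂ) * y67 - (1/2 : ℂ) * y6m7
  have y1 : Y 1 = 0 := by
    linear_combination (-1/12 : ℂ) * e0 + (1/12 : ℂ) * e4 - y3 + (1/2 : ℂ) * α * y6m7 - y67
  have y5 : Y 5 = 0 := by
    linear_combination (1/16 : ℂ) * e4 - (1/2 : ℂ) * y1 - (3/4 : ℂ) * y67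
  rcases hcD with rfl | rfl | rfl | rfl | rfl
  · exact y1
  · exact y3
  · exact y5
  · exact y6
  · exact y7

end Cfsg.Agent.Lib.Helper23.S0197N
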