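import Mathlib
import Cfsg.Prelude.Def_LocalStructure
import Cfsg.Agent.Lib.Helper3.SL2Sylow2

/-! FO-1 of helper27's S2861 farm-out: the `SL₂(F)` model lemma. -/

set_option autoImplicit false

namespace Cfsg.Agent.Lib.Helper23.SL2Model

open Matrix Cfsg.Agent.Lib.Helper3.SL2
open scoped Pointwise

variable {F : Type} [Field F]

/-- the torus element `diag(l, l⁻¹)` -/
def tor (l : Fˣ) : Matrix.SpecialLinearGroup (Fin 2) F :=
  ⟨!![(l : F), 0; 0, ((l⁻¹ : Fˣ) : F)], by rw [Matrix.det_fin_two_of]; simp⟩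

lemma tor_mul_upper (l : Fˣ) (t : F) :
    tor l * upper t = upper ((l : F) ^ 2 * t) * tor l := by
  have e1 := mul_entries (tor l) (upper t)
  have e2 := mul_entries (upper ((l : F) ^ 2 * t)) (tor l)
  apply ext2
  · rw [e1.1, e2.1]; simp [tor]
  · rw [e1.2.1, e2.2.1]; simp [tor]
    field_simp
  · rw [e1.2.2.1, e2.2.2.1]; simp [tor]
  · rw [e1.2.2.2, e2.2.2.2]; simp [tor]

lemma upper_inj {s t : F} (h : upper s = upper t) : s = t := by
  have := congrArg (fun g : Matrix.SpecialLinearGroup (Fin 2) F => g.1 0 1) h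
  simpa using this

lemma upper_neg (t : F) : upper (-t) = (upper t)⁻¹ := by
  rw [eq_inv_iff_mul_eq_one, ← upper_add, neg_add_cancel, upper_zero]

lemma mem_U_iff (x : Matrix.SpecialLinearGroup (Fin 2) F) :
    x ∈ (U : Subgroup (Matrix.SpecialLinearGroup (Fin 2) F)) ↔ ∃ t : F, x = upper t := by
  constructor
  · rintro ⟨a, rfl⟩
    exact ⟨Multiplicative.toAdd a, rfl⟩
  · rintro ⟨t, rfl⟩
    exact upper_mem_U t

/-- every element of a finite field is a combination `a² - b²` or a square -/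
lemma exists_sq_comb [Fintype F] (x : F) :
    (∃ a b : F, x = a ^ 2 - b ^ 2) := by
  by_cases h2 : (2 : F) = 0
  · haveI : CharP F 2 := CharTwo.of_one_ne_zero_of_two_eq_zero one_ne_zero h2
    have hr : ringChar F = 2 := ringChar.eq F 2
    obtain ⟨a, ha⟩ := FiniteField.isSquare_of_char_two hr x
    exact ⟨a, 0, by rw [ha]; ring⟩
  · refine ⟨(x + 1) / 2, (x - 1) / 2, ?_⟩
    field_simp
    ring


lemma tor_inv (l : Fˣ) : tor l⁻¹ = (tor l)⁻¹ := by
  rw [eq_inv_iff_mul_eq_one]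
  have e1 := mul_entries (tor l⁻¹) (tor l)
  apply ext2
  · rw [e1.1]; simp [tor]
  · rw [e1.2.1]; simp [tor]
  · rw [e1.2.2.1]; simp [tor]
  · rw [e1.2.2.2]; simp [tor]

lemma conj_tor_upper (g : Matrix.SpecialLinearGroup (Fin 2) F) (l : Fˣ) (t : F) :
    (g * tor l * g⁻¹) * (g * upper t * g⁻¹) * (g * tor l * g⁻¹)⁻¹ =
      g * upper ((l : F) ^ 2 * t) * g⁻¹ := by
  have h := tor_mul_upper l t
  calc (g * tor l * g⁻¹) * (g * upper t * g⁻¹) * (g * tor l * g⁻¹)⁻¹
      = g * (tor l * upper t) * (tor l)⁻¹ * g⁻¹ := by group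
    _ = g * upper ((l : F) ^ 2 * t) * g⁻¹ := by rw [h]; group

/-- FO-1 (SL2 model) -/
theorem sl2_model [Fintype F] {p : ℕ} [Fact p.Prime]
    (Y B V : Subgroup (Matrix.SpecialLinearGroup (Fin 2) F))
    (hYp : IsPGroup p Y) (hYcard : Nat.card Y = Fintype.card F)
    (hgen : Subgroup.normalClosure (Y : Set (Matrix.SpecialLinearGroup (Fin 2) F)) = ⊤)
    (hYB : Y ≤ B) (hBN : B ≤ Subgroup.normalizer (Y : Set (Matrix.SpecialLinearGroup (Fin 2) F)))
    (hmax : ∀ P : Subgroup (Matrix.SpecialLinearGroup (Fin 2) F), Y ≤ P → P ≠ ⊤ → P ≤ B)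
    (hVB : V ≤ B) (hVn : ∀ b ∈ B, ∀ v ∈ V, b * v * b⁻¹ ∈ V)
    (hVp : IsPGroup p V) (hV1 : V ≠ ⊥) : V = Y := by
  classical
  have hp : p.Prime := Fact.out
  have hq : 1 < Fintype.card F := Fintype.one_lt_card
  -- char F = p
  obtain ⟨n, hn⟩ := hYp.exists_card_eq
  have hpF : p ∣ Fintype.card F := by
    rw [← hYcard, hn]
    have : n ≠ 0 := by
      rintro rfl
      rw [hn, pow_zero] at hYcard
      omega
    exact dvd_pow_self p this
  obtain ⟨r, hr⟩ := CharP.exists F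
  haveI := hr
  obtain ⟨k, hrp, hk⟩ := FiniteField.card F r
  have hpr : r = p := by
    rw [hk] at hpF
    exact ((Nat.prime_dvd_prime_iff_eq hp hrp).1 (hp.dvd_of_dvd_pow hpF)).symm
  subst hpr
  -- Y is Sylow
  have hYS : Nat.card Y = r ^ (Nat.card (SpecialLinearGroup (Fin 2) F)).factorization r := by
    rw [pow_factorization_eq r, hYcard]
  obtain ⟨YS, hYScoe⟩ : ∃ YS : Sylow r (SpecialLinearGroup (Fin 2) F), (YS : Subgroup _) = Y :=
    ⟨Sylow.ofCard Y hYS, Sylow.coe_ofCard Y hYS⟩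
  obtain ⟨g, hg⟩ := exists_smul_eq r YS
  have hYconj : Y = MulAut.conj g • (U : Subgroup (SpecialLinearGroup (Fin 2) F)) := by
    rw [← hYScoe, ← hg, Sylow.coe_subgroup_smul, coe_USylow]
  -- F1
  have hF1 : ∀ x, x ∈ Y ↔ ∃ t : F, x = g * upper t * g⁻¹ := by
    intro x
    rw [hYconj, Subgroup.mem_pointwise_smul_iff_inv_smul_mem, MulAut.smul_def, ← map_inv,
      MulAut.conj_apply, mem_U_iff]
    constructor
    · rintro ⟨t, ht⟩
      exact ⟨t, by rw [← ht]; group⟩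
    · rintro ⟨t, rfl⟩
      exact ⟨t, by group⟩
  -- F2 : torus normalises Y
  have hF2 : ∀ l : Fˣ, g * tor l * g⁻¹ ∈ Subgroup.normalizer (Y : Set (SpecialLinearGroup (Fin 2) F)) := by
    intro l
    rw [Subgroup.mem_normalizer_iff]
    intro h
    constructor
    · intro hh
      obtain ⟨t, rfl⟩ := (hF1 h).1 hh
      rw [conj_tor_upper]
      exact (hF1 _).2 ⟨_, rfl⟩
    · intro hh
      obtain ⟨s, hs⟩ := (hF1 _).1 hh
      have h1 : h = (g * tor l⁻¹ * g⁻¹) * (g * upper s * g⁻¹) * (g * tor l⁻¹ * g⁻¹)⁻¹ := by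
        rw [← hs, tor_inv]
        group
      rw [h1, conj_tor_upper]
      exact (hF1 _).2 ⟨_, rfl⟩
  -- N(Y) ≠ ⊤
  have hNtop : Subgroup.normalizer (Y : Set (SpecialLinearGroup (Fin 2) F)) ≠ ⊤ := by
    intro htop
    haveI : Y.Normal := Subgroup.normalizer_eq_top_iff.mp htop
    rw [Subgroup.normalClosure_eq_self] at hgen
    have hc : Nat.card Y = Nat.card (SpecialLinearGroup (Fin 2) F) := by
      rw [hgen]; exact Subgroup.card_top
    rw [hYcard, Cfsg.Agent.Lib.Helper3.CardSL.card_SL2] at hc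
    have h4 : 4 ≤ Fintype.card F ^ 2 := by nlinarith
    have h3 : 3 ≤ Fintype.card F ^ 2 - 1 := by omega
    nlinarith
  have hNB : Subgroup.normalizer (Y : Set (SpecialLinearGroup (Fin 2) F)) ≤ B :=
    hmax _ Subgroup.le_normalizer hNtop
  -- V ≤ Y
  have hVY : V ≤ Y := by
    have hVN : V ≤ Subgroup.normalizer (Y : Set (SpecialLinearGroup (Fin 2) F)) := hVB.trans hBN
    have hpg : IsPGroup r (V ⊔ Y : Subgroup _) := hVp.to_sup_of_normal_right' hYp hVN
    have h1 := YS.is_maximal' hpg (by rw [hYScoe]; exact le_sup_right)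
    rw [hYScoe] at h1
    exact le_sup_left.trans h1.le
  -- the additive set S
  have hS0 : g * upper (0 : F) * g⁻¹ ∈ V := by
    rw [upper_zero]; simp [V.one_mem]
  have hSadd : ∀ s t : F, g * upper s * g⁻¹ ∈ V → g * upper t * g⁻¹ ∈ V →
      g * upper (s + t) * g⁻¹ ∈ V := by
    intro s t hs ht
    have : g * upper (s + t) * g⁻¹ = (g * upper s * g⁻¹) * (g * upper t * g⁻¹) := by
      rw [upper_add]; group
    rw [this]
    exact V.mul_mem hs ht
  have hSneg : ∀ t : F, g * upper t * g⁻¹ ∈ V → g * upper (-t) * g⁻¹ ∈ V := by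
    intro t ht
    have : g * upper (-t) * g⁻¹ = (g * upper t * g⁻¹)⁻¹ := by
      rw [upper_neg]; group
    rw [this]
    exact V.inv_mem ht
  have hSsq : ∀ a t : F, g * upper t * g⁻¹ ∈ V → g * upper (a ^ 2 * t) * g⁻¹ ∈ V := by
    intro a t ht
    by_cases ha : a = 0
    · subst ha
      simpa using hS0
    · have hb : g * tor (Units.mk0 a ha) * g⁻¹ ∈ B := hNB (hF2 _)
      have := hVn _ hb _ ht
      rw [conj_tor_upper] at this
      simpa using this
  -- a nonzero element of S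
  obtain ⟨v0, hv0, hv01⟩ : ∃ v ∈ V, v ≠ 1 := by
    by_contra hcon
    push Not at hcon
    exact hV1 ((Subgroup.eq_bot_iff_forall V).2 hcon)
  obtain ⟨t0, ht0⟩ := (hF1 v0).1 (hVY hv0)
  have ht00 : t0 ≠ 0 := by
    rintro rfl
    apply hv01
    rw [ht0, upper_zero]; group
  have hSt0 : g * upper t0 * g⁻¹ ∈ V := ht0 ▸ hv0
  have hSall : ∀ x : F, g * upper x * g⁻¹ ∈ V := by
    intro x
    obtain ⟨a, b, hab⟩ := exists_sq_comb (x / t0)
    have hx : x = a ^ 2 * t0 + -(b ^ 2 * t0) := by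
      have : x = (x / t0) * t0 := by field_simp
      rw [this, hab]; ring
    rw [hx]
    exact hSadd _ _ (hSsq a t0 hSt0) (hSneg _ (hSsq b t0 hSt0))
  apply le_antisymm hVY
  intro y hy
  obtain ⟨t, rfl⟩ := (hF1 y).1 hy
  exact hSall t

end Cfsg.Agent.Lib.Helper23.SL2Model
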