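import Mathlib
import Cfsg.Prelude
import Cfsg.Agent.Lib.Helper23.BBal6
import Cfsg.Agent.Lib.Helper23.L2BalA

/-!
# The `B`-property: images of `2`-components of involution centralizers modulo the core
-/

set_option autoImplicit false
set_option linter.unusedSectionVars false
set_option linter.unusedVariables false

namespace Cfsg.Agent.Lib.Helper23.BProp

open Cfsg Cfsg.Agent.Lib.Helper9 Cfsg.Agent.Lib.Helper10 Cfsg.Agent.Lib.Helper1
open Cfsg.Agent.Lib.Helper23.LBal Cfsg.Agent.Lib.Helper23.BBal Cfsg.Agent.S1877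
open scoped commutatorElement

universe u

section Main

variable {Y : Type u} [Group Y] [Finite Y]

/-- a `PCI` group for the prime `2` has even order -/
theorem PCI.not_coprime {A : Type*} [Group A] [Finite A] (h : PCI 2 A) :
    ¬ (Nat.card A).Coprime 2 := by
  intro hc
  have h1 := eq_one_of_pElementClosure_top_of_coprime h.1 hc
  haveI := qs_nontrivial h.2
  obtain ⟨a, ha⟩ := exists_ne (1 : A ⧸ pPrimeCore 2 A)
  induction a using QuotientGroup.induction_on with | H a =>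
  apply ha
  rw [h1 a]
  rfl

/-- the centralizer of the image of an involution modulo the core is the image of the
centralizer -/
theorem map_centralizer_involution {x' : Y} (hx' : orderOf x' = 2) :
    (Subgroup.centralizer ({x'} : Set Y)).map (QuotientGroup.mk' (oddCore Y)) =
      Subgroup.centralizer ({QuotientGroup.mk' (oddCore Y) x'} : Set (Y ⧸ oddCore Y)) := by
  haveI : Fact (Nat.Prime 2) := ⟨Nat.prime_two⟩
  haveI hOn : (oddCore Y).Normal := Cfsg.Agent.Lib.Helper1.pPrimeCore_normal 2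
  apply le_antisymm
  · rintro _ ⟨c, hc, rfl⟩
    have hc' := Subgroup.mem_centralizer_singleton_iff.mp hc
    apply Subgroup.mem_centralizer_singleton_iff.mpr
    rw [← map_mul, ← map_mul, hc']
  · intro cb hcb
    rw [Subgroup.mem_centralizer_singleton_iff] at hcb
    have hx2 : x' ^ 2 ^ 1 = 1 := by rw [pow_one, ← hx']; exact pow_orderOf_eq_one x'
    have hR : IsPGroup 2 (Subgroup.zpowers x') := Cfsg.Agent.Lib.Helper23.L2Bal.isPGroup_zpowers hx2
    have hO : (Nat.card (oddCore Y)).Coprime 2 := pPrimeCore_coprime 2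
    obtain ⟨c, rfl, hc⟩ := exists_lift_centralizing (O := oddCore Y) hO hR (xb := cb) (by
      intro r hr
      obtain ⟨i, rfl⟩ := Subgroup.mem_zpowers_iff.mp hr
      rw [map_zpow]
      exact ((show Commute cb (QuotientGroup.mk' (oddCore Y) x') from hcb).zpow_right i).symm.eq)
    refine ⟨c, ?_, rfl⟩
    apply Subgroup.mem_centralizer_singleton_iff.mpr
    exact (hc x' (Subgroup.mem_zpowers x')).symm

theorem orderOf_mk_involution {x' : Y} (hx' : orderOf x' = 2) :
    orderOf (QuotientGroup.mk' (oddCore Y) x') = 2 := by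
  haveI : Fact (Nat.Prime 2) := ⟨Nat.prime_two⟩
  have hx2 : x' ^ 2 = 1 := by rw [← hx']; exact pow_orderOf_eq_one x'
  apply orderOf_eq_prime
  · rw [← map_pow, hx2, map_one]
  · intro h
    have h1 : x' ∈ oddCore Y := (QuotientGroup.eq_one_iff x').mp h
    have h2 : orderOf x' ∣ Nat.card (oddCore Y) := Subgroup.orderOf_dvd_natCard _ h1
    rw [hx'] at h2
    have hO : (Nat.card (oddCore Y)).Coprime 2 := pPrimeCore_coprime 2
    have := Nat.Coprime.eq_one_of_dvd hO.symm h2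
    omega

/-- the image modulo the core of a `2`-component of an involution centralizer -/
theorem rpc_map_mk {x' : Y} (hx' : orderOf x' = 2) {J₁ : Subgroup Y}
    (hJ : RPC 2 J₁ (Subgroup.centralizer ({x'} : Set Y))) :
    RPC 2 (J₁.map (QuotientGroup.mk' (oddCore Y)))
      (Subgroup.centralizer ({QuotientGroup.mk' (oddCore Y) x'} : Set (Y ⧸ oddCore Y))) := by
  haveI : Fact (Nat.Prime 2) := ⟨Nat.prime_two⟩
  have h1 := hJ.1.map (QuotientGroup.mk' (oddCore Y))
  rw [map_centralizer_involution hx'] at h1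
  refine ⟨h1, ?_⟩
  rcases PCI.map_surjective ((QuotientGroup.mk' (oddCore Y)).subgroupMap J₁)
    (MonoidHom.subgroupMap_surjective _ _) hJ.2 with h2 | h2
  · exfalso
    apply PCI.not_coprime hJ.2
    have hle : J₁ ≤ oddCore Y := by
      intro j hj
      have := h2 ⟨QuotientGroup.mk' (oddCore Y) j, Subgroup.mem_map_of_mem _ hj⟩
      have h3 : QuotientGroup.mk' (oddCore Y) j = 1 := congrArg Subtype.val this
      exact (QuotientGroup.eq_one_iff j).mp h3
    exact Nat.Coprime.coprime_dvd_left (Subgroup.card_dvd_of_le hle) (pPrimeCore_coprime 2)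
  · exact h2

/-- **(i)**: under the `B`-property of `Y / O(Y)`, the image of a `2`-component of `C_Y(x')` is a
component of the centralizer of the image of `x'` -/
theorem isComponent_map_mk (hB : HasBProperty (Y ⧸ oddCore Y)) {x' : Y} (hx' : orderOf x' = 2)
    {J₁ : Subgroup Y} (hJ : RPC 2 J₁ (Subgroup.centralizer ({x'} : Set Y))) :
    IsComponent ((J₁.map (QuotientGroup.mk' (oddCore Y))).subgroupOf
      (Subgroup.centralizer ({QuotientGroup.mk' (oddCore Y) x'} : Set (Y ⧸ oddCore Y)))) := by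
  haveI : Fact (Nat.Prime 2) := ⟨Nat.prime_two⟩
  have hrpc := rpc_map_mk hx' hJ
  have hpc := (RPC_iff.mp hrpc).2
  refine ⟨hpc.1, ?_⟩
  have hb := hB _ (orderOf_mk_involution hx')
  have hbot : oddCore (Y ⧸ oddCore Y) = ⊥ := pPrimeCore_quotient_eq_bot 2
  rw [hbot, le_bot_iff,
    Subgroup.map_eq_bot_iff_of_injective _ (Subgroup.subtype_injective _)] at hb
  have htop : RPC 2 ((J₁.map (QuotientGroup.mk' (oddCore Y))).subgroupOf
      (Subgroup.centralizer ({QuotientGroup.mk' (oddCore Y) x'} : Set (Y ⧸ oddCore Y)))) ⊤ :=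
    RPC_top_iff.mpr hpc
  apply htop.qs_of_commutator_eq_bot
  rw [← le_bot_iff, ← hb]
  apply Subgroup.commutator_mono (isPComponent_le_pLayer hpc)
  unfold coreIn
  rw [pPrimeCore_subnormal_eq hpc.1, Subgroup.subgroupOf_map_subtype]
  exact inf_le_left

/-- **(ii)**: an odd-order subgroup of `C_Y(x')` invariant under a `2`-component `J₁` of `C_Y(x')`
is centralized by `J₁` modulo the core -/
theorem commutator_le_oddCore (hB : HasBProperty (Y ⧸ oddCore Y)) {x' : Y} (hx' : orderOf x' = 2)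
    {J₁ E₁ : Subgroup Y} (hJ : RPC 2 J₁ (Subgroup.centralizer ({x'} : Set Y)))
    (hE : E₁ ≤ Subgroup.centralizer ({x'} : Set Y)) (hEodd : Odd (Nat.card E₁))
    (hinv : ∀ j ∈ J₁, ∀ e ∈ E₁, j * e * j⁻¹ ∈ E₁) :
    ⁅J₁, E₁⁆ ≤ oddCore Y := by
  haveI : Fact (Nat.Prime 2) := ⟨Nat.prime_two⟩
  haveI hOn : (oddCore Y).Normal := Cfsg.Agent.Lib.Helper1.pPrimeCore_normal 2
  have hrpc := rpc_map_mk hx' hJ
  have hcomp := isComponent_map_mk hB hx' hJ
  obtain ⟨Jb, hJb⟩ : ∃ Jb, Jb = J₁.map (QuotientGroup.mk' (oddCore Y)) := ⟨_, rfl⟩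
  obtain ⟨Eb, hEb⟩ : ∃ Eb, Eb = E₁.map (QuotientGroup.mk' (oddCore Y)) := ⟨_, rfl⟩
  obtain ⟨Cb, hCb⟩ : ∃ Cb, Cb = Subgroup.centralizer
    ({QuotientGroup.mk' (oddCore Y) x'} : Set (Y ⧸ oddCore Y)) := ⟨_, rfl⟩
  rw [← hJb, ← hCb] at hrpc hcomp
  have hEbC : Eb ≤ Cb := by
    rw [hEb, hCb, ← map_centralizer_involution hx']
    exact Subgroup.map_mono hE
  have hJbC : Jb ≤ Cb := hrpc.le
  have hEbodd : Odd (Nat.card Eb) := by
    rw [hEb]
    exact Odd.of_dvd_nat hEodd (Subgroup.card_map_dvd _ _)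
  have hJbE : Jb ≤ Subgroup.normalizer (Eb : Set (Y ⧸ oddCore Y)) := by
    rw [hJb, hEb]
    rintro _ ⟨j, hj, rfl⟩
    apply Cfsg.Agent.Lib.Helper23.L2Bal.mem_normalizer_of_forall_conj_mem
    rintro _ ⟨e, he, rfl⟩
    refine ⟨j * e * j⁻¹, hinv j hj e he, ?_⟩
    simp [map_mul, map_inv]
  have hH : Jb ⊔ Eb ≤ Cb := sup_le hJbC hEbC
  have hsnJ : SN Jb (Jb ⊔ Eb) := hrpc.1.restrict le_sup_left hH
  have hsnE : SN Eb (Jb ⊔ Eb) := SN.of_normal le_sup_right (sup_le hJbE Subgroup.le_normalizer)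
  have hqs : IsQuasisimple ↥(Jb.subgroupOf (Jb ⊔ Eb)) :=
    qs_of_mulEquiv ((Subgroup.subgroupOfEquivOfLe hJbC).trans
      (Subgroup.subgroupOfEquivOfLe (le_sup_left : Jb ≤ Jb ⊔ Eb)).symm) hcomp.2
  have hK : IsComponent (Jb.subgroupOf (Jb ⊔ Eb)) := ⟨hsnJ.2, hqs⟩
  rcases comp_le_or_commutator_eq_bot hK hsnE.2 with h1 | h1
  · exfalso
    apply PCI.not_coprime hrpc.2
    have hle : Jb ≤ Eb := by
      intro j hj
      have := h1 (show (⟨j, (le_sup_left : Jb ≤ Jb ⊔ Eb) hj⟩ : ↥(Jb ⊔ Eb)) ∈ Jb.subgroupOf (Jb ⊔ Eb)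
        from Subgroup.mem_subgroupOf.mpr hj)
      exact Subgroup.mem_subgroupOf.mp this
    exact Nat.Coprime.coprime_dvd_left (Subgroup.card_dvd_of_le hle) hEbodd.coprime_two_right
  · rw [Subgroup.commutator_le]
    intro j hj e he
    have hjb : QuotientGroup.mk' (oddCore Y) j ∈ Jb := by rw [hJb]; exact Subgroup.mem_map_of_mem _ hj
    have heb : QuotientGroup.mk' (oddCore Y) e ∈ Eb := by rw [hEb]; exact Subgroup.mem_map_of_mem _ he
    have hc := commute_of_commutator_eq_bot h1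
      (a := ⟨QuotientGroup.mk' (oddCore Y) j, (le_sup_left : Jb ≤ Jb ⊔ Eb) hjb⟩)
      (b := ⟨QuotientGroup.mk' (oddCore Y) e, (le_sup_right : Eb ≤ Jb ⊔ Eb) heb⟩)
      (Subgroup.mem_subgroupOf.mpr hjb) (Subgroup.mem_subgroupOf.mpr heb)
    have hc' : QuotientGroup.mk' (oddCore Y) j * QuotientGroup.mk' (oddCore Y) e =
        QuotientGroup.mk' (oddCore Y) e * QuotientGroup.mk' (oddCore Y) j := congrArg Subtype.val hc
    rw [← QuotientGroup.eq_one_iff, commutatorElement_def]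
    have e1 : ((j * e * j⁻¹ * e⁻¹ : Y) : Y ⧸ oddCore Y) =
        QuotientGroup.mk' (oddCore Y) j * QuotientGroup.mk' (oddCore Y) e *
          (QuotientGroup.mk' (oddCore Y) j)⁻¹ * (QuotientGroup.mk' (oddCore Y) e)⁻¹ := by
      simp
    rw [e1, hc']
    group

end Main

end Cfsg.Agent.Lib.Helper23.BProp
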