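import Cfsg.Agent.Lib.Helper23.BabaiOrb

/-!
# Counting lemmas for invariant graphs of a transitive action (helper23)
-/

set_option autoImplicit false

namespace Cfsg.Agent.Lib.Helper23.Babai

open MulAction
open Classical

variable {G Ω : Type*} [Group G] [MulAction G Ω] [Fintype Ω]

/-- neighbourhood of `u` in the graph `E` -/
noncomputable def nb (E : Ω → Ω → Prop) (u : Ω) : Finset Ω :=
  Finset.univ.filter (fun v => E u v)

variable (G) in
/-- the points distinguishing `u` from `v` -/
noncomputable def dset (u v : Ω) : Finset Ω :=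
  Finset.univ.filter (fun z => Dm G u v z)

variable (Ω) in
/-- the support of `g` -/
noncomputable def supp (g : G) : Finset Ω :=
  Finset.univ.filter (fun z => g • z ≠ z)

theorem mem_nb {E : Ω → Ω → Prop} {u v : Ω} : v ∈ nb E u ↔ E u v := by simp [nb]

theorem mem_dset {u v z : Ω} : z ∈ dset G u v ↔ Dm G u v z := by simp [dset]

theorem mem_supp {g : G} {z : Ω} : z ∈ supp Ω g ↔ g • z ≠ z := by simp [supp]

theorem dset_comm (u v : Ω) : dset G u v = dset G v u := by
  ext z
  rw [mem_dset, mem_dset]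
  exact ⟨Dm.symm, Dm.symm⟩

theorem dset_card_tri (u v w : Ω) :
    (dset G u w).card ≤ (dset G u v).card + (dset G v w).card := by
  refine le_trans (Finset.card_le_card ?_) (Finset.card_union_le _ _)
  intro z hz
  rw [mem_dset] at hz
  rw [Finset.mem_union, mem_dset, mem_dset]
  exact hz.tri v

theorem dset_card_le_of_orb {g : G} {x u v : Ω} (h : Orb G x (g • x) u v) :
    (dset G u v).card ≤ (supp Ω g).card := by
  obtain ⟨k, h1, h2⟩ := h
  refine le_trans (Finset.card_le_card ?_)
    (Finset.card_image_le (s := supp Ω g) (f := fun z : Ω => k • z))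
  intro z hz
  rw [mem_dset] at hz
  rw [Finset.mem_image]
  exact ⟨k⁻¹ • z, mem_supp.2 (moved_of_Dm k h1 h2 hz), smul_inv_smul k z⟩

theorem dset_card_le_of_sorb {g : G} {x u v : Ω} (h : SOrb G x (g • x) u v) :
    (dset G u v).card ≤ (supp Ω g).card := by
  rcases h with h | h
  · exact dset_card_le_of_orb h
  · rw [dset_comm]
    exact dset_card_le_of_orb h

theorem nb_sdiff_card_le {E : Ω → Ω → Prop}
    (hinv : ∀ (k : G) u v, E u v → E (k • u) (k • v)) (u v : Ω) :
    (nb E u \ nb E v).card ≤ (dset G u v).card := by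
  apply Finset.card_le_card
  intro z hz
  rw [Finset.mem_sdiff, mem_nb, mem_nb] at hz
  exact mem_dset.2 (Dm_of_edge hinv hz.1 hz.2)

theorem nb_card_le [IsPretransitive G Ω] {E : Ω → Ω → Prop}
    (hinv : ∀ (k : G) u v, E u v → E (k • u) (k • v)) (u v : Ω) :
    (nb E u).card ≤ (nb E v).card := by
  obtain ⟨k, hk⟩ := exists_smul_eq G u v
  apply Finset.card_le_card_of_injOn (fun z => k • z)
  · intro z hz
    have hz' : E u z := mem_nb.1 hz
    have := hinv k u z hz'
    rw [hk] at this
    exact mem_nb.2 this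
  · intro a _ b _ hab
    exact smul_left_cancel k hab

theorem nb_card_eq [IsPretransitive G Ω] {E : Ω → Ω → Prop}
    (hinv : ∀ (k : G) u v, E u v → E (k • u) (k • v)) (u v : Ω) :
    (nb E u).card = (nb E v).card :=
  le_antisymm (nb_card_le hinv u v) (nb_card_le hinv v u)

/-- covering bound from the key lemma -/
theorem card_le_of_cover {x : Ω} {E : Ω → Ω → Prop} {M : ℕ}
    (hkey : ∀ z, z ≠ x → ∃ v, E x v ∧ Dm G x v z)
    (hM : ∀ v, E x v → (dset G x v).card ≤ M)
    (hne : ∀ v, E x v → x ≠ v) :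
    Fintype.card Ω ≤ 1 + (nb E x).card * (M - 1) := by
  have h1 : Finset.univ.erase x ⊆ (nb E x).biUnion (fun v => (dset G x v).erase x) := by
    intro z hz
    rw [Finset.mem_erase] at hz
    obtain ⟨v, hv, hD⟩ := hkey z hz.1
    rw [Finset.mem_biUnion]
    exact ⟨v, mem_nb.2 hv, Finset.mem_erase.2 ⟨hz.1, mem_dset.2 hD⟩⟩
  have h2 : ((nb E x).biUnion (fun v => (dset G x v).erase x)).card
      ≤ (nb E x).card * (M - 1) := by
    apply Finset.card_biUnion_le_card_mul
    intro v hv
    have hv' := mem_nb.1 hv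
    rw [Finset.card_erase_of_mem (mem_dset.2 (Dm_left (hne v hv')))]
    exact Nat.sub_le_sub_right (hM v hv') 1
  have h3 := Finset.card_le_card h1
  rw [Finset.card_erase_of_mem (Finset.mem_univ x), Finset.card_univ] at h3
  omega

/-- if the degree exceeds `3m`, the graph has diameter at most two -/
theorem diam_two [IsPretransitive G Ω] {E : Ω → Ω → Prop}
    (hinv : ∀ (k : G) u v, E u v → E (k • u) (k • v)) (hsymm : ∀ u v, E u v → E v u)
    {x : Ω} (hconn : ∀ w, Relation.ReflTransGen E x w) {m : ℕ}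
    (hm : ∀ u v, E u v → (dset G u v).card ≤ m) (hd : 3 * m < (nb E x).card) (z : Ω) :
    z = x ∨ E x z ∨ ∃ w, E x w ∧ E w z := by
  induction hconn z with
  | refl => exact Or.inl rfl
  | @tail b c _ hbc ih =>
    rcases ih with rfl | h1 | ⟨w, hw1, hw2⟩
    · exact Or.inr (Or.inl hbc)
    · exact Or.inr (Or.inr ⟨b, h1, hbc⟩)
    · by_contra hcon
      have hAC : ∀ t, E c t → ¬ E x t := fun t ht hxt =>
        hcon (Or.inr (Or.inr ⟨t, hxt, hsymm _ _ ht⟩))
      have hsub : nb E c ⊆ (nb E c \ nb E b) ∪ (nb E b \ nb E x) := by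
        intro t ht
        by_cases htb : t ∈ nb E b
        · exact Finset.mem_union_right _ (Finset.mem_sdiff.2
            ⟨htb, fun hx => hAC t (mem_nb.1 ht) (mem_nb.1 hx)⟩)
        · exact Finset.mem_union_left _ (Finset.mem_sdiff.2 ⟨ht, htb⟩)
      have h1 := Finset.card_le_card hsub
      have h2 := Finset.card_union_le (nb E c \ nb E b) (nb E b \ nb E x)
      have h3 := nb_sdiff_card_le hinv c b
      have h4 := nb_sdiff_card_le hinv b x
      have h5 := hm c b (hsymm _ _ hbc)
      have h6 := dset_card_tri (G := G) b w x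
      have h7 := hm b w (hsymm _ _ hw2)
      have h8 := hm w x (hsymm _ _ hw1)
      have h9 := nb_card_eq hinv c x
      omega

/-- the non-neighbours of `x` are few when the degree is at least `4m` -/
theorem nonnb_card_le [IsPretransitive G Ω] {E : Ω → Ω → Prop}
    (hinv : ∀ (k : G) u v, E u v → E (k • u) (k • v)) (hsymm : ∀ u v, E u v → E v u)
    {x : Ω} (hirr : ¬ E x x) {m : ℕ}
    (hm : ∀ u v, E u v → (dset G u v).card ≤ m)
    (hdiam : ∀ z, z = x ∨ E x z ∨ ∃ w, E x w ∧ E w z)
    (hd : 4 * m ≤ (nb E x).card) (hdpos : 0 < (nb E x).card) :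
    (Finset.univ.filter (fun z => z ≠ x ∧ ¬ E x z)).card ≤ 2 * (m - 1) := by
  set Z := Finset.univ.filter (fun z => z ≠ x ∧ ¬ E x z) with hZ
  have hZmem : ∀ z, z ∈ Z ↔ z ≠ x ∧ ¬ E x z := by
    intro z
    simp [hZ]
  have hA : ∀ z ∈ Z, (nb E x).card - 2 * m ≤ ((nb E x).bipartiteAbove (fun z w => E z w) z).card := by
    intro z hz
    rw [hZmem] at hz
    obtain ⟨w, hw1, hw2⟩ : ∃ w, E x w ∧ E w z := by
      rcases hdiam z with h | h | h
      · exact absurd h hz.1
      · exact absurd h hz.2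
      · exact h
    have h1 := Finset.card_inter_add_card_sdiff (nb E z) (nb E x)
    have h2 : nb E z ∩ nb E x ⊆ (nb E x).bipartiteAbove (fun z w => E z w) z := by
      intro t ht
      rw [Finset.mem_inter] at ht
      rw [Finset.mem_bipartiteAbove]
      exact ⟨ht.2, mem_nb.1 ht.1⟩
    have h3 := Finset.card_le_card h2
    have h4 := nb_sdiff_card_le hinv z x
    have h5 := dset_card_tri (G := G) z w x
    have h6 := hm z w (hsymm _ _ hw2)
    have h7 := hm w x (hsymm _ _ hw1)
    have h8 := nb_card_eq hinv z x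
    omega
  have hB : ∀ w ∈ nb E x, (Z.bipartiteBelow (fun z w => E z w) w).card ≤ m - 1 := by
    intro w hw
    have hw' : E x w := mem_nb.1 hw
    have h1 : insert x (Z.bipartiteBelow (fun z w => E z w) w) ⊆ nb E w \ nb E x := by
      intro t ht
      rw [Finset.mem_insert] at ht
      rcases ht with rfl | ht
      · exact Finset.mem_sdiff.2 ⟨mem_nb.2 (hsymm _ _ hw'), fun h => hirr (mem_nb.1 h)⟩
      · rw [Finset.mem_bipartiteBelow, hZmem] at ht
        exact Finset.mem_sdiff.2 ⟨mem_nb.2 (hsymm _ _ ht.2), fun h => ht.1.2 (mem_nb.1 h)⟩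
    have h2 : x ∉ Z.bipartiteBelow (fun z w => E z w) w := by
      intro h
      rw [Finset.mem_bipartiteBelow, hZmem] at h
      exact h.1.1 rfl
    have h3 := Finset.card_le_card h1
    rw [Finset.card_insert_of_notMem h2] at h3
    have h4 := nb_sdiff_card_le hinv w x
    have h5 := hm w x (hsymm _ _ hw')
    omega
  have hcount := Finset.card_mul_le_card_mul (fun z w => E z w) hA hB
  obtain ⟨w0, hw0⟩ := Finset.card_pos.1 hdpos
  have hm1 : 1 ≤ m := by
    have hw' : E x w0 := mem_nb.1 hw0
    have h5 := hm w0 x (hsymm _ _ hw')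
    have hne : w0 ≠ x := fun e => hirr (e ▸ hw')
    have : 0 < (dset G w0 x).card := Finset.card_pos.2 ⟨w0, mem_dset.2 (Dm_left hne)⟩
    omega
  have he : 0 < (nb E x).card - 2 * m := by omega
  have h2e : (nb E x).card ≤ 2 * ((nb E x).card - 2 * m) := by omega
  have : Z.card * ((nb E x).card - 2 * m) ≤ (2 * (m - 1)) * ((nb E x).card - 2 * m) := by
    calc Z.card * ((nb E x).card - 2 * m) ≤ (nb E x).card * (m - 1) := hcount
      _ ≤ (2 * ((nb E x).card - 2 * m)) * (m - 1) := Nat.mul_le_mul_right _ h2e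
      _ = (2 * (m - 1)) * ((nb E x).card - 2 * m) := by ring
  exact Nat.le_of_mul_le_mul_right this he

end Cfsg.Agent.Lib.Helper23.Babai
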