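import Cfsg.Agent.Lib.Helper23.BabaiCount

/-!
# Minimal degree of a primitive group that is not 2-homogeneous (helper23)
-/

set_option autoImplicit false

namespace Cfsg.Agent.Lib.Helper23.Babai

open MulAction
open Classical

variable {G Ω : Type*} [Group G] [MulAction G Ω] [Fintype Ω]

/-- primitive, and some pair `{x, y'}` is not in the unordered orbit of `{x, g x}`:
then `n ≤ (2m+1)^2` where `m` is the size of the support of `g` -/
theorem card_le_of_not_homog [IsPreprimitive G Ω] (g : G) (x : Ω) (hx : g • x ≠ x)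
    (y' : Ω) (hy' : y' ≠ x) (hns : ¬ SOrb G x (g • x) x y') :
    Fintype.card Ω ≤ (2 * (supp Ω g).card + 1) ^ 2 := by
  have hm1' : 1 ≤ (supp Ω g).card := Finset.card_pos.2 ⟨x, mem_supp.2 hx⟩
  have hm0 : ∀ u v, SOrb G x (g • x) u v → (dset G u v).card ≤ (supp Ω g).card :=
    fun u v h => dset_card_le_of_sorb h
  generalize (supp Ω g).card = m at hm1' hm0 ⊢
  have hm1 : 1 ≤ m := hm1'
  -- the first graph
  have hinv : ∀ (k : G) u v, SOrb G x (g • x) u v → SOrb G x (g • x) (k • u) (k • v) :=
    fun k u v h => h.smul k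
  have hsymm : ∀ u v, SOrb G x (g • x) u v → SOrb G x (g • x) v u := fun u v h => h.flip
  have hirr : ∀ u, ¬ SOrb G x (g • x) u u := fun u h => (h.ne (Ne.symm hx)) rfl
  have hconn : ∀ w, Relation.ReflTransGen (SOrb G x (g • x)) x w :=
    connected_of_preprimitive hinv hsymm (Ne.symm hx) (SOrb.refl G x (g • x))
  have hm : ∀ u v, SOrb G x (g • x) u v → (dset G u v).card ≤ m := hm0
  have hkey : ∀ z, z ≠ x → ∃ v, SOrb G x (g • x) x v ∧ Dm G x v z :=
    fun z hz => exists_edge_Dm hinv hconn hz
  have hne : ∀ v, SOrb G x (g • x) x v → x ≠ v := fun v h => h.ne (Ne.symm hx)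
  by_cases hd : (nb (SOrb G x (g • x)) x).card < 4 * m
  · have h1 := card_le_of_cover hkey (fun v hv => hm x v hv) hne
    obtain ⟨m', rfl⟩ : ∃ m', m = m' + 1 := ⟨m - 1, by omega⟩
    have h2 : (nb (SOrb G x (g • x)) x).card * (m' + 1 - 1) ≤ (4 * m' + 3) * m' := by
      rw [Nat.add_sub_cancel]
      exact Nat.mul_le_mul_right _ (by omega)
    nlinarith
  · rw [not_lt] at hd
    have hdiam := diam_two hinv hsymm hconn hm (by omega)
    have hdpos : 0 < (nb (SOrb G x (g • x)) x).card := by omega
    have hZ := nonnb_card_le hinv hsymm (hirr x) hm hdiam hd hdpos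
    -- the second graph
    have hinv' : ∀ (k : G) u v, SOrb G x y' u v → SOrb G x y' (k • u) (k • v) :=
      fun k u v h => h.smul k
    have hsymm' : ∀ u v, SOrb G x y' u v → SOrb G x y' v u := fun u v h => h.flip
    have hconn' : ∀ w, Relation.ReflTransGen (SOrb G x y') x w :=
      connected_of_preprimitive hinv' hsymm' (Ne.symm hy') (SOrb.refl G x y')
    have hkey' : ∀ z, z ≠ x → ∃ v, SOrb G x y' x v ∧ Dm G x v z :=
      fun z hz => exists_edge_Dm hinv' hconn' hz
    have hne' : ∀ v, SOrb G x y' x v → x ≠ v := fun v h => h.ne (Ne.symm hy')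
    have hnot : ∀ v, SOrb G x y' x v → ¬ SOrb G x (g • x) x v :=
      fun v h h' => hns (h'.trans h.symm)
    have hM' : ∀ v, SOrb G x y' x v → (dset G x v).card ≤ 2 * m := by
      intro v hv
      rcases hdiam v with h | h | ⟨w, hw1, hw2⟩
      · exact absurd h.symm (hne' v hv)
      · exact absurd h (hnot v hv)
      · have h1 := dset_card_tri (G := G) x w v
        have h2 := hm x w hw1
        have h3 := hm w v hw2
        omega
    have hsub : nb (SOrb G x y') x ⊆
        Finset.univ.filter (fun z => z ≠ x ∧ ¬ SOrb G x (g • x) x z) := by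
      intro v hv
      have hv' := mem_nb.1 hv
      rw [Finset.mem_filter]
      exact ⟨Finset.mem_univ _, (hne' v hv').symm, hnot v hv'⟩
    have h1 := card_le_of_cover hkey' hM' hne'
    have h2 := Finset.card_le_card hsub
    obtain ⟨m', rfl⟩ : ∃ m', m = m' + 1 := ⟨m - 1, by omega⟩
    have h3 : (nb (SOrb G x y') x).card ≤ 2 * m' := by
      have : 2 * (m' + 1 - 1) = 2 * m' := by rw [Nat.add_sub_cancel]
      omega
    have h4 : (nb (SOrb G x y') x).card * (2 * (m' + 1) - 1) ≤ (2 * m') * (2 * m' + 1) := by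
      have : 2 * (m' + 1) - 1 = 2 * m' + 1 := by omega
      rw [this]
      exact Nat.mul_le_mul_right _ h3
    nlinarith

end Cfsg.Agent.Lib.Helper23.Babai
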