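import Mathlib

/-!
# Orbital relations for a group action (helper23)

Elementary API used for the minimal degree bound of primitive groups:
ordered/unordered pair orbits, the "distinguishing" relation `Dm`,
connectivity of invariant symmetric graphs under a primitive action.
-/

set_option autoImplicit false

namespace Cfsg.Agent.Lib.Helper23.Babai

open MulAction

/-- the ordered pairs `(a,b)` and `(c,d)` lie in one orbit -/
def Orb (G : Type*) {Ω : Type*} [Group G] [MulAction G Ω] (a b c d : Ω) : Prop :=
  ∃ h : G, h • a = c ∧ h • b = d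

/-- the unordered pairs `{a,b}` and `{c,d}` lie in one orbit -/
def SOrb (G : Type*) {Ω : Type*} [Group G] [MulAction G Ω] (a b c d : Ω) : Prop :=
  Orb G a b c d ∨ Orb G a b d c

/-- no element of the stabiliser of `z` maps `u` to `v` -/
def Dm (G : Type*) {Ω : Type*} [Group G] [MulAction G Ω] (u v z : Ω) : Prop :=
  ¬ Orb G u z v z

variable {G Ω : Type*} [Group G] [MulAction G Ω]

variable (G) in
theorem Orb.refl (a b : Ω) : Orb G a b a b := ⟨1, one_smul _ _, one_smul _ _⟩

theorem Orb.symm {a b c d : Ω} (h : Orb G a b c d) : Orb G c d a b := by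
  obtain ⟨k, h1, h2⟩ := h
  exact ⟨k⁻¹, by rw [← h1, inv_smul_smul], by rw [← h2, inv_smul_smul]⟩

theorem Orb.trans {a b c d e f : Ω} (h : Orb G a b c d) (h' : Orb G c d e f) :
    Orb G a b e f := by
  obtain ⟨k, h1, h2⟩ := h
  obtain ⟨k', h3, h4⟩ := h'
  exact ⟨k' * k, by rw [mul_smul, h1, h3], by rw [mul_smul, h2, h4]⟩

theorem Orb.smul {a b c d : Ω} (h : Orb G a b c d) (k : G) : Orb G a b (k • c) (k • d) := by
  obtain ⟨k', h1, h2⟩ := h
  exact ⟨k * k', by rw [mul_smul, h1], by rw [mul_smul, h2]⟩

theorem Orb.swap {a b c d : Ω} (h : Orb G a b c d) : Orb G b a d c := by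
  obtain ⟨k, h1, h2⟩ := h
  exact ⟨k, h2, h1⟩

theorem Orb.ne {a b c d : Ω} (h : Orb G a b c d) (hab : a ≠ b) : c ≠ d := by
  obtain ⟨k, h1, h2⟩ := h
  rw [← h1, ← h2]
  exact fun e => hab (smul_left_cancel k e)

variable (G) in
theorem SOrb.refl (a b : Ω) : SOrb G a b a b := Or.inl (Orb.refl G a b)

theorem SOrb.flip {a b c d : Ω} (h : SOrb G a b c d) : SOrb G a b d c := Or.symm h

theorem SOrb.symm {a b c d : Ω} (h : SOrb G a b c d) : SOrb G c d a b := by
  rcases h with h | h
  · exact Or.inl h.symm
  · exact Or.inr h.symm.swap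

theorem SOrb.trans {a b c d e f : Ω} (h : SOrb G a b c d) (h' : SOrb G c d e f) :
    SOrb G a b e f := by
  rcases h with h | h <;> rcases h' with h' | h'
  · exact Or.inl (h.trans h')
  · exact Or.inr (h.trans h')
  · exact Or.inr (h.trans h'.swap)
  · exact Or.inl (h.trans h'.swap)

theorem SOrb.smul {a b c d : Ω} (h : SOrb G a b c d) (k : G) :
    SOrb G a b (k • c) (k • d) := by
  rcases h with h | h
  · exact Or.inl (h.smul k)
  · exact Or.inr (h.smul k)

theorem SOrb.ne {a b c d : Ω} (h : SOrb G a b c d) (hab : a ≠ b) : c ≠ d := by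
  rcases h with h | h
  · exact h.ne hab
  · exact (h.ne hab).symm

theorem Dm.symm {u v z : Ω} (h : Dm G u v z) : Dm G v u z := fun h' => h h'.symm

theorem Dm.tri {u w z : Ω} (h : Dm G u w z) (v : Ω) : Dm G u v z ∨ Dm G v w z := by
  by_contra hc
  rw [not_or] at hc
  have h1 : Orb G u z v z := by
    by_contra h1
    exact hc.1 h1
  have h2 : Orb G v z w z := by
    by_contra h2
    exact hc.2 h2
  exact h (h1.trans h2)

theorem Dm_left {u v : Ω} (huv : u ≠ v) : Dm G u v u := by
  rintro ⟨k, h1, h2⟩
  exact huv (h2.symm.trans h1)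

theorem Dm_right {u v : Ω} (huv : u ≠ v) : Dm G u v v := by
  rintro ⟨k, h1, h2⟩
  exact huv (smul_left_cancel k (h1.trans h2.symm))

theorem Dm_of_edge {E : Ω → Ω → Prop} (hinv : ∀ (k : G) u v, E u v → E (k • u) (k • v))
    {u v z : Ω} (h1 : E u z) (h2 : ¬ E v z) : Dm G u v z := by
  rintro ⟨k, e1, e2⟩
  have := hinv k u z h1
  rw [e1, e2] at this
  exact h2 this

/-- if `h` carries `(x, g x)` to `(u, v)` and `z` distinguishes `u` from `v`, then the
conjugate of `g` by `h` moves `z` -/
theorem moved_of_Dm {g : G} {x u v z : Ω} (h : G) (hu : h • x = u) (hv : h • g • x = v)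
    (hD : Dm G u v z) : g • h⁻¹ • z ≠ h⁻¹ • z := by
  intro e
  apply hD
  refine ⟨h * g * h⁻¹, ?_, ?_⟩
  · rw [mul_smul, mul_smul, ← hu, inv_smul_smul, hv]
  · rw [mul_smul, mul_smul, e, smul_inv_smul]

theorem reach_smul {E : Ω → Ω → Prop} (hinv : ∀ (k : G) u v, E u v → E (k • u) (k • v))
    (k : G) {u v : Ω} (h : Relation.ReflTransGen E u v) :
    Relation.ReflTransGen E (k • u) (k • v) := by
  induction h with
  | refl => exact Relation.ReflTransGen.refl
  | tail _ hbc ih => exact ih.tail (hinv k _ _ hbc)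

theorem reach_symm {E : Ω → Ω → Prop} (hsymm : ∀ u v, E u v → E v u)
    {u v : Ω} (h : Relation.ReflTransGen E u v) : Relation.ReflTransGen E v u := by
  induction h with
  | refl => exact Relation.ReflTransGen.refl
  | tail _ hbc ih => exact Relation.ReflTransGen.head (hsymm _ _ hbc) ih

/-- an invariant symmetric graph with at least one edge between distinct points is
connected when the action is primitive -/
theorem connected_of_preprimitive [IsPreprimitive G Ω] {E : Ω → Ω → Prop}
    (hinv : ∀ (k : G) u v, E u v → E (k • u) (k • v)) (hsymm : ∀ u v, E u v → E v u)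
    {x y : Ω} (hxy : x ≠ y) (hE : E x y) (w : Ω) : Relation.ReflTransGen E x w := by
  have hsymm' : ∀ {u v : Ω}, Relation.ReflTransGen E u v → Relation.ReflTransGen E v u :=
    fun h => reach_symm hsymm h
  have hblock : IsBlock G {w | Relation.ReflTransGen E x w} := by
    rw [isBlock_iff_smul_eq_of_mem]
    intro k a ha hka
    have h1 : Relation.ReflTransGen E (k • x) x := (reach_smul hinv k ha).trans (hsymm' hka)
    have h2 : Relation.ReflTransGen E x (k • x) := hsymm' h1
    ext w
    rw [Set.mem_smul_set_iff_inv_smul_mem]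
    constructor
    · intro hw
      have h3 := reach_smul hinv k hw
      rw [smul_inv_smul] at h3
      exact h2.trans h3
    · intro hw
      have h3 := reach_smul hinv k⁻¹ (h1.trans hw)
      rw [inv_smul_smul] at h3
      exact h3
  rcases IsPreprimitive.isTrivialBlock_of_isBlock hblock with hs | hu
  · exact absurd (hs (show x ∈ {w | Relation.ReflTransGen E x w} from Relation.ReflTransGen.refl)
      (show y ∈ {w | Relation.ReflTransGen E x w} from Relation.ReflTransGen.single hE)) hxy
  · have : w ∈ {w | Relation.ReflTransGen E x w} := hu ▸ Set.mem_univ w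
    exact this

/-- key lemma: in a connected invariant graph, every point `z ≠ x` distinguishes `x` from
one of its neighbours -/
theorem exists_edge_Dm {E : Ω → Ω → Prop}
    (hinv : ∀ (k : G) u v, E u v → E (k • u) (k • v)) {x : Ω}
    (hconn : ∀ w, Relation.ReflTransGen E x w) {z : Ω} (hz : z ≠ x) :
    ∃ v, E x v ∧ Dm G x v z := by
  by_contra hcon
  have hall : ∀ w, Relation.ReflTransGen E x w → Orb G x z w z := by
    intro w hw
    induction hw with
    | refl => exact Orb.refl G x z
    | @tail b c _ hbc ih =>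
      obtain ⟨h, h1, h2⟩ := ih
      have hE : E x (h⁻¹ • c) := by
        have := hinv h⁻¹ _ _ hbc
        rwa [← h1, inv_smul_smul] at this
      have hO : Orb G x z (h⁻¹ • c) z := by
        by_contra hO
        exact hcon ⟨_, hE, hO⟩
      have := hO.smul h
      rwa [smul_inv_smul, h2] at this
  obtain ⟨h, h1, h2⟩ := hall z (hconn z)
  exact hz (smul_left_cancel h (h2.trans h1.symm))

end Cfsg.Agent.Lib.Helper23.Babai
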