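import Cfsg.Agent.Lib.Helper23.BabaiMain

/-!
# The 2-homogeneous case and the final minimal degree bound (helper23)
-/

set_option autoImplicit false

namespace Cfsg.Agent.Lib.Helper23.Babai

open MulAction
open Classical

section algebra

variable {G Ω : Type*} [Group G] [MulAction G Ω]

theorem inv_fix {k : G} {z : Ω} (h : k • z = z) : k⁻¹ • z = z := inv_smul_eq_iff.2 h.symm

theorem inv_moved {k : G} {z : Ω} (h : k • z ≠ z) : k • (k⁻¹ • z) ≠ k⁻¹ • z := by
  rw [smul_inv_smul]
  exact fun e => h (inv_smul_eq_iff.1 e.symm).symm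

theorem smul_moved {k : G} {z : Ω} (h : k • z ≠ z) : k • (k • z) ≠ k • z :=
  fun e => h (smul_left_cancel k e)

/-- if the supports of `σ` and `τ` meet exactly in `a`, their commutator is the 3-cycle
`a ↦ σ a ↦ τ a ↦ a` -/
theorem comm_three_cycle (σ τ : G) (a : Ω) (ha1 : σ • a ≠ a) (ha2 : τ • a ≠ a)
    (hmeet : ∀ z, σ • z ≠ z → τ • z ≠ z → z = a) :
    (σ * τ * σ⁻¹ * τ⁻¹) • a = σ • a ∧ (σ * τ * σ⁻¹ * τ⁻¹) • (σ • a) = τ • a ∧
    (σ * τ * σ⁻¹ * τ⁻¹) • (τ • a) = a ∧
    ∀ z, z ≠ a → z ≠ σ • a → z ≠ τ • a → (σ * τ * σ⁻¹ * τ⁻¹) • z = z := by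
  have hσ : ∀ z, τ • z ≠ z → z ≠ a → σ • z = z := fun z h1 h2 => by
    by_contra h
    exact h2 (hmeet z h h1)
  have hτ : ∀ z, σ • z ≠ z → z ≠ a → τ • z = z := fun z h1 h2 => by
    by_contra h
    exact h2 (hmeet z h1 h)
  have hexp : ∀ z : Ω, (σ * τ * σ⁻¹ * τ⁻¹) • z = σ • τ • σ⁻¹ • τ⁻¹ • z := fun z => by
    rw [mul_smul, mul_smul, mul_smul]
  refine ⟨?_, ?_, ?_, ?_⟩
  · rw [hexp]
    have t_ne : τ⁻¹ • a ≠ a := fun e => ha2 (inv_smul_eq_iff.1 e).symm
    have h1 : σ • (τ⁻¹ • a) = τ⁻¹ • a := hσ _ (inv_moved ha2) t_ne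
    rw [inv_fix h1, smul_inv_smul]
  · rw [hexp]
    have h1 : τ • (σ • a) = σ • a := hτ _ (smul_moved ha1) ha1
    have h2 : σ • (τ • a) = τ • a := hσ _ (smul_moved ha2) ha2
    rw [inv_fix h1, inv_smul_smul, h2]
  · rw [hexp, inv_smul_smul]
    have s_ne : σ⁻¹ • a ≠ a := fun e => ha1 (inv_smul_eq_iff.1 e).symm
    have h1 : τ • (σ⁻¹ • a) = σ⁻¹ • a := hτ _ (inv_moved ha1) s_ne
    rw [h1, smul_inv_smul]
  · intro z hza hzσ hzτ
    rw [hexp]
    by_cases hτz : τ • z = z
    · rw [inv_fix hτz]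
      by_cases hσz : σ • z = z
      · rw [inv_fix hσz, hτz, hσz]
      · have s_ne : σ⁻¹ • z ≠ a := fun e => hzσ (inv_smul_eq_iff.1 e)
        have h1 : τ • (σ⁻¹ • z) = σ⁻¹ • z := hτ _ (inv_moved hσz) s_ne
        rw [h1, smul_inv_smul]
    · have h0 : σ • z = z := hσ z hτz hza
      have t_ne : τ⁻¹ • z ≠ a := fun e => hzτ (inv_smul_eq_iff.1 e)
      have h1 : σ • (τ⁻¹ • z) = τ⁻¹ • z := hσ _ (inv_moved hτz) t_ne
      rw [inv_fix h1, smul_inv_smul, h0]

end algebra

variable {G Ω : Type*} [Group G] [MulAction G Ω] [Fintype Ω]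

/-- in a 2-homogeneous action the stabiliser of an ordered pair of distinct points has index
at least `n (n - 1) / 2` -/
theorem pair_stab_bound [Finite G] [IsPretransitive G Ω]
    (hom : ∀ a b c d : Ω, a ≠ b → c ≠ d → SOrb G a b c d) (a b : Ω) (hab : a ≠ b) :
    Nat.card (stabilizer G ((a, b) : Ω × Ω)) * (Fintype.card Ω - 1)
      ≤ 2 * Nat.card (stabilizer G a) := by
  have h1 : Nat.card (stabilizer G ((a, b) : Ω × Ω)) * (orbit G ((a, b) : Ω × Ω)).ncard
      = Nat.card G := by
    rw [← index_stabilizer, Subgroup.card_mul_index]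
  have h2 : Nat.card (stabilizer G a) * Fintype.card Ω = Nat.card G := by
    rw [← Nat.card_eq_fintype_card, ← index_stabilizer_of_transitive G a,
      Subgroup.card_mul_index]
  have h3 : Fintype.card Ω * (Fintype.card Ω - 1) ≤ 2 * (orbit G ((a, b) : Ω × Ω)).ncard := by
    have hsub : ((Finset.univ : Finset Ω).offDiag : Set (Ω × Ω)) ⊆
        orbit G ((a, b) : Ω × Ω) ∪ Prod.swap '' orbit G ((a, b) : Ω × Ω) := by
      rintro ⟨c, d⟩ hcd
      rw [Finset.mem_coe, Finset.mem_offDiag] at hcd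
      have hcd' : c ≠ d := hcd.2.2
      rcases hom a b c d hab hcd' with ⟨h, e1, e2⟩ | ⟨h, e1, e2⟩
      · left
        exact ⟨h, by
          show h • ((a, b) : Ω × Ω) = (c, d)
          rw [Prod.smul_mk, e1, e2]⟩
      · right
        refine ⟨(d, c), ⟨h, ?_⟩, rfl⟩
        show h • ((a, b) : Ω × Ω) = (d, c)
        rw [Prod.smul_mk, e1, e2]
    have h4 := Set.ncard_le_ncard hsub (Set.toFinite _)
    rw [Set.ncard_coe_finset, Finset.offDiag_card, Finset.card_univ] at h4
    have h5 := Set.ncard_union_le (orbit G ((a, b) : Ω × Ω))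
      (Prod.swap '' orbit G ((a, b) : Ω × Ω))
    have h6 := Set.ncard_image_le (f := Prod.swap) (Set.toFinite (orbit G ((a, b) : Ω × Ω)))
    have h7 : Fintype.card Ω * (Fintype.card Ω - 1)
        = Fintype.card Ω * Fintype.card Ω - Fintype.card Ω := by
      rw [Nat.mul_sub_one]
    omega
  have hn : 0 < Fintype.card Ω := Fintype.card_pos_iff.2 ⟨a⟩
  have h8 : Fintype.card Ω * (Nat.card (stabilizer G ((a, b) : Ω × Ω)) * (Fintype.card Ω - 1))
      ≤ Fintype.card Ω * (2 * Nat.card (stabilizer G a)) := by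
    calc Fintype.card Ω * (Nat.card (stabilizer G ((a, b) : Ω × Ω)) * (Fintype.card Ω - 1))
        = Nat.card (stabilizer G ((a, b) : Ω × Ω)) * (Fintype.card Ω * (Fintype.card Ω - 1)) := by
          ring
      _ ≤ Nat.card (stabilizer G ((a, b) : Ω × Ω)) * (2 * (orbit G ((a, b) : Ω × Ω)).ncard) :=
          Nat.mul_le_mul_left _ h3
      _ = 2 * Nat.card G := by rw [← h1]; ring
      _ = Fintype.card Ω * (2 * Nat.card (stabilizer G a)) := by rw [← h2]; ring
  exact Nat.le_of_mul_le_mul_left h8 hn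

omit [Fintype Ω] in
/-- the elements fixing `a` and sending `b'` to `b` are at most as many as the stabiliser of
the pair `(a, b')` -/
theorem bad_card_le [Fintype G] (a b' b : Ω) :
    (Finset.univ.filter (fun h : G => h • a = a ∧ h • b' = b)).card
      ≤ Nat.card (stabilizer G ((a, b') : Ω × Ω)) := by
  have hS : Nat.card (stabilizer G ((a, b') : Ω × Ω))
      = (Finset.univ.filter (fun h : G => h • a = a ∧ h • b' = b')).card := by
    rw [Nat.card_eq_fintype_card]
    refine Fintype.card_of_subtype _ (fun h => ?_)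
    rw [Finset.mem_filter, mem_stabilizer_iff, Prod.smul_mk, Prod.mk.injEq]
    simp
  rw [hS]
  rcases (Finset.univ.filter (fun h : G => h • a = a ∧ h • b' = b)).eq_empty_or_nonempty
    with he | ⟨h0, hh0⟩
  · rw [he]
    exact Nat.zero_le _
  · rw [Finset.mem_filter] at hh0
    apply Finset.card_le_card_of_injOn (fun h => h0⁻¹ * h)
    · intro h hh
      rw [Finset.mem_coe, Finset.mem_filter] at hh
      rw [Finset.mem_coe, Finset.mem_filter]
      refine ⟨Finset.mem_univ _, ?_, ?_⟩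
      · rw [mul_smul, hh.2.1]
        exact inv_fix hh0.2.1
      · rw [mul_smul, hh.2.2, inv_smul_eq_iff]
        exact hh0.2.2.symm
    · intro h _ h' _ e
      exact mul_left_cancel e

/-- the 2-homogeneous case: either a conjugate of `g` by an element fixing `a` has support
meeting that of `g` in `a` alone, or `n` is small -/
theorem homog_case [Finite G] [IsPretransitive G Ω]
    (hom : ∀ a b c d : Ω, a ≠ b → c ≠ d → SOrb G a b c d) (g : G) (a : Ω) (ha : g • a ≠ a) :
    (∃ h : G, h • a = a ∧ ∀ z, g • z ≠ z → g • h⁻¹ • z ≠ h⁻¹ • z → z = a) ∨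
      Fintype.card Ω ≤ 1 + 2 * ((supp Ω g).card - 1) ^ 2 := by
  by_contra hcon
  rw [not_or] at hcon
  obtain ⟨hc1, hc2⟩ := hcon
  have hc1' : ∀ h : G, h • a = a → ∃ z, g • z ≠ z ∧ g • h⁻¹ • z ≠ h⁻¹ • z ∧ z ≠ a := by
    intro h hh
    by_contra hno
    apply hc1
    refine ⟨h, hh, fun z h1 h2 => ?_⟩
    by_contra hza
    exact hno ⟨z, h1, h2, hza⟩
  haveI : Fintype G := Fintype.ofFinite G
  set S' := (supp Ω g).erase a with hS'
  set P := S' ×ˢ S' with hP
  have hPcard : P.card = ((supp Ω g).card - 1) ^ 2 := by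
    rw [hP, Finset.card_product, hS', Finset.card_erase_of_mem (mem_supp.2 ha), sq]
  set Good := Finset.univ.filter (fun h : G => h • a = a) with hGood
  have hGoodcard : Nat.card (stabilizer G a) = Good.card := by
    rw [Nat.card_eq_fintype_card]
    refine Fintype.card_of_subtype _ (fun h => ?_)
    rw [hGood, Finset.mem_filter, mem_stabilizer_iff]
    simp
  have hcover : Good ⊆ P.biUnion
      (fun p => Finset.univ.filter (fun h : G => h • a = a ∧ h • p.1 = p.2)) := by
    intro h hh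
    rw [hGood, Finset.mem_filter] at hh
    obtain ⟨z, hz1, hz2, hz3⟩ := hc1' h hh.2
    rw [Finset.mem_biUnion]
    refine ⟨(h⁻¹ • z, z), ?_, ?_⟩
    · rw [hP, Finset.mem_product, hS', Finset.mem_erase, Finset.mem_erase, mem_supp, mem_supp]
      refine ⟨⟨?_, hz2⟩, hz3, hz1⟩
      intro e
      apply hz3
      rw [inv_smul_eq_iff] at e
      rw [e, hh.2]
    · rw [Finset.mem_filter]
      exact ⟨Finset.mem_univ _, hh.2, smul_inv_smul h z⟩
  have hB : ∀ p ∈ P, (Finset.univ.filter (fun h : G => h • a = a ∧ h • p.1 = p.2)).card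
      * (Fintype.card Ω - 1) ≤ 2 * Good.card := by
    intro p hp
    rw [hP, Finset.mem_product, hS', Finset.mem_erase] at hp
    have h1 := bad_card_le (G := G) a p.1 p.2
    have h2 := pair_stab_bound hom a p.1 (Ne.symm hp.1.1)
    rw [hGoodcard] at h2
    exact le_trans (Nat.mul_le_mul_right _ h1) h2
  have h1 := Finset.card_le_card hcover
  have h2 := Finset.card_biUnion_le (s := P)
    (t := fun p => Finset.univ.filter (fun h : G => h • a = a ∧ h • p.1 = p.2))
  have h3 : Good.card * (Fintype.card Ω - 1) ≤ P.card * (2 * Good.card) := by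
    calc Good.card * (Fintype.card Ω - 1)
        ≤ (∑ p ∈ P, (Finset.univ.filter (fun h : G => h • a = a ∧ h • p.1 = p.2)).card)
            * (Fintype.card Ω - 1) := Nat.mul_le_mul_right _ (le_trans h1 h2)
      _ = ∑ p ∈ P, (Finset.univ.filter (fun h : G => h • a = a ∧ h • p.1 = p.2)).card
            * (Fintype.card Ω - 1) := Finset.sum_mul _ _ _
      _ ≤ ∑ _p ∈ P, 2 * Good.card := Finset.sum_le_sum hB
      _ = P.card * (2 * Good.card) := by rw [Finset.sum_const, smul_eq_mul]
  have hGpos : 0 < Good.card := Finset.card_pos.2 ⟨1, by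
    rw [hGood, Finset.mem_filter]
    exact ⟨Finset.mem_univ _, one_smul _ _⟩⟩
  have h4 : Good.card * (Fintype.card Ω - 1) ≤ Good.card * (2 * P.card) := by
    calc Good.card * (Fintype.card Ω - 1) ≤ P.card * (2 * Good.card) := h3
      _ = Good.card * (2 * P.card) := by ring
  have h5 := Nat.le_of_mul_le_mul_left h4 hGpos
  rw [hPcard] at h5
  apply hc2
  omega

/-- **Minimal degree bound.** A primitive action in which no group element acts as a
3-cycle satisfies `n ≤ (2m+1)^2`, `m` the number of points moved by a non-identity `g`. -/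
theorem card_le_sq [Finite G] [IsPreprimitive G Ω]
    (hno3 : ∀ (h : G) (a b c : Ω), a ≠ b → b ≠ c → a ≠ c → h • a = b → h • b = c → h • c = a →
      (∀ z, z ≠ a → z ≠ b → z ≠ c → h • z = z) → False)
    (g : G) (x : Ω) (hx : g • x ≠ x) :
    Fintype.card Ω ≤ (2 * (supp Ω g).card + 1) ^ 2 := by
  have hm1 : 1 ≤ (supp Ω g).card := Finset.card_pos.2 ⟨x, mem_supp.2 hx⟩
  by_cases hom : ∀ a b c d : Ω, a ≠ b → c ≠ d → SOrb G a b c d
  · rcases homog_case hom g x hx with ⟨h, hh, hmeet⟩ | hle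
    · exfalso
      have hh' : h⁻¹ • x = x := inv_fix hh
      have hτx : (h * g * h⁻¹) • x ≠ x := by
        rw [mul_smul, mul_smul, hh']
        intro e
        apply hx
        apply smul_left_cancel h
        rw [e, hh]
      have hmeet' : ∀ z, g • z ≠ z → (h * g * h⁻¹) • z ≠ z → z = x := by
        intro z h1 h2
        apply hmeet z h1
        intro e
        apply h2
        rw [mul_smul, mul_smul, e, smul_inv_smul]
      obtain ⟨c1, c2, c3, c4⟩ := comm_three_cycle g (h * g * h⁻¹) x hx hτx hmeet'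
      refine hno3 _ x (g • x) ((h * g * h⁻¹) • x) (Ne.symm hx) ?_ (Ne.symm hτx) c1 c2 c3 c4
      intro e
      have h1 : g • (g • x) ≠ g • x := smul_moved hx
      have h2 : (h * g * h⁻¹) • (g • x) ≠ g • x := by
        have := smul_moved hτx
        rwa [← e] at this
      exact hx (hmeet' _ h1 h2)
    · generalize (supp Ω g).card = m at hm1 hle ⊢
      obtain ⟨m', rfl⟩ : ∃ m', m = m' + 1 := ⟨m - 1, by omega⟩
      rw [Nat.add_sub_cancel] at hle
      nlinarith
  · have hom' : ∃ a b c d : Ω, a ≠ b ∧ c ≠ d ∧ ¬ SOrb G a b c d := by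
      by_contra hno
      apply hom
      intro a b c d hab hcd
      by_contra hs
      exact hno ⟨a, b, c, d, hab, hcd, hs⟩
    obtain ⟨a, b, c, d, hab, hcd, hns⟩ := hom'
    obtain ⟨p, q, hpq, hpq'⟩ : ∃ p q : Ω, p ≠ q ∧ ¬ SOrb G x (g • x) p q := by
      by_cases h1 : SOrb G x (g • x) a b
      · exact ⟨c, d, hcd, fun h2 => hns (h1.symm.trans h2)⟩
      · exact ⟨a, b, hab, h1⟩
    obtain ⟨k, hk⟩ := exists_smul_eq G p x
    have hkx : k⁻¹ • x = p := by rw [← hk, inv_smul_smul]
    refine card_le_of_not_homog g x hx (k • q) ?_ ?_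
    · intro e
      apply hpq
      apply smul_left_cancel k
      rw [hk, e]
    · intro h
      have := h.smul k⁻¹
      rw [hkx, inv_smul_smul] at this
      exact hpq' this

/-- moved points and fixed points add up to all points -/
theorem supp_card_add (g : G) :
    (supp Ω g).card + Nat.card (fixedBy Ω g) = Fintype.card Ω := by
  have h1 : Nat.card (fixedBy Ω g) = (Finset.univ.filter (fun z : Ω => g • z = z)).card := by
    rw [Nat.card_eq_fintype_card]
    refine Fintype.card_of_subtype _ (fun z => ?_)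
    rw [Finset.mem_filter, mem_fixedBy]
    simp
  rw [h1, add_comm, ← Finset.card_univ]
  exact Finset.card_filter_add_card_filter_not (fun z : Ω => g • z = z)

end Cfsg.Agent.Lib.Helper23.Babai
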