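import Mathlib

/-!
# Blichfeldt's theorem on abelian Hall subgroups of linear groups: group-theoretic preliminaries
-/

namespace Cfsg.Agent.Lib.Helper23.Blich

/-- `A` is an abelian Hall subgroup for the set of primes `> m + 1`. -/
def IsBHall {G : Type*} [Group G] (m : ℕ) (A : Subgroup G) : Prop :=
  (∀ x ∈ A, ∀ y ∈ A, x * y = y * x) ∧ (∀ q : ℕ, q.Prime → q ∣ Nat.card A → m + 1 < q) ∧
    ∀ q : ℕ, q.Prime → q ∣ A.index → q ≤ m + 1

section Conj

variable {G : Type*} [Group G] [Finite G]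

/-- A `q`-subgroup is conjugate into any subgroup of index prime to `q`. -/
lemma exists_conj_mem_of_not_dvd_index {q : ℕ} [Fact q.Prime] (K H : Subgroup G)
    (hK : IsPGroup q K) (hH : ¬ q ∣ H.index) : ∃ g : G, ∀ k ∈ K, g⁻¹ * k * g ∈ H := by
  obtain ⟨a, ha⟩ := hK.nonempty_fixed_point_of_prime_not_dvd_card (G ⧸ H) hH
  obtain ⟨g, rfl⟩ := QuotientGroup.mk_surjective a
  refine ⟨g, fun k hk => ?_⟩
  have h1 : (⟨k, hk⟩ : K) • (QuotientGroup.mk g : G ⧸ H) = QuotientGroup.mk g := ha ⟨k, hk⟩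
  have h2 : (QuotientGroup.mk (k * g) : G ⧸ H) = QuotientGroup.mk g := h1
  rw [QuotientGroup.eq] at h2
  have h3 := H.inv_mem h2
  convert h3 using 1
  group

/-- A `q`-subgroup lies in every normal subgroup of index prime to `q`. -/
lemma le_of_normal_of_not_dvd_index {q : ℕ} [Fact q.Prime] (S K : Subgroup G) [hKn : K.Normal]
    (hS : IsPGroup q S) (hK : ¬ q ∣ K.index) : S ≤ K := by
  obtain ⟨g, hg⟩ := exists_conj_mem_of_not_dvd_index S K hS hK
  intro s hs
  have h1 := hg s hs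
  have h2 := hKn.conj_mem _ h1 g
  convert h2 using 1
  group

end Conj

end Cfsg.Agent.Lib.Helper23.Blich
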