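import Mathlib
import Cfsg.Agent.Lib.Helper23.BlichBasic
import Cfsg.Agent.Lib.Helper2.CenterIndex
import Cfsg.Agent.Lib.Helper2.Regular
import Cfsg.Agent.Lib.Helper25.DetChar

/-!
# Blichfeldt's theorem: removing central elements of large prime order by a determinant twist
-/

set_option autoImplicit false

namespace Cfsg.Agent.Lib.Helper23.Blich

open Module Cfsg Cfsg.Agent.Lib.Helper2 Cfsg.Agent.Lib.Helper25

universe u v

/-- The induction hypothesis of Blichfeldt's theorem. -/
def IHyp (m N : ℕ) : Prop :=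
  ∀ (G' : Type v) [Group G'] [Finite G'] (V' : Type u) [AddCommGroup V'] [Module ℂ V']
    [FiniteDimensional ℂ V'] (ρ' : Representation ℂ G' V'), Function.Injective ρ' →
    finrank ℂ V' ≤ m → Nat.card G' + finrank ℂ V' < N → ∃ A : Subgroup G', IsBHall m A

/-- No proper subgroup has index divisible only by primes `≤ m + 1`. -/
def NoProperSmallIndex (m : ℕ) (G : Type*) [Group G] : Prop :=
  ∀ L : Subgroup G, (∀ q : ℕ, q.Prime → q ∣ L.index → q ≤ m + 1) → L = ⊤

lemma exists_mul_add_one_dvd {n r : ℕ} (hr : r.Prime) (hn0 : 0 < n) (hnr : n < r) :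
    ∃ k : ℕ, r ∣ n * k + 1 := by
  haveI : Fact r.Prime := ⟨hr⟩
  have hn : (n : ZMod r) ≠ 0 := by
    rw [Ne, ZMod.natCast_eq_zero_iff]
    exact Nat.not_dvd_of_pos_of_lt hn0 hnr
  refine ⟨((-1 : ZMod r) * (n : ZMod r)⁻¹).val, ?_⟩
  rw [← ZMod.natCast_eq_zero_iff]
  push_cast
  rw [ZMod.natCast_zmod_val]
  have h1 : (n : ZMod r) * ((-1) * (n : ZMod r)⁻¹) = -1 := by
    rw [mul_comm (-1 : ZMod r), ← mul_assoc, mul_inv_cancel₀ hn, one_mul]
  rw [h1, neg_add_cancel]

lemma smul_id_injective {V : Type*} [AddCommGroup V] [Module ℂ V] [Nontrivial V] {c d : ℂ}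
    (h : c • (LinearMap.id : V →ₗ[ℂ] V) = d • LinearMap.id) : c = d := by
  obtain ⟨v, hv⟩ := exists_ne (0 : V)
  have h1 := LinearMap.congr_fun h v
  simp only [LinearMap.smul_apply, LinearMap.id_coe, id_eq] at h1
  exact smul_left_injective ℂ hv h1

variable {G : Type v} [Group G] [Finite G] {V : Type u} [AddCommGroup V] [Module ℂ V]
  [FiniteDimensional ℂ V]

/-- Quotient step: if `ρ'` is a representation with nontrivial kernel, then (under the induction
hypothesis and minimality) the quotient by the kernel has only large prime divisors. -/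
theorem big_of_quotient_ker (m : ℕ) (ρ' : Representation ℂ G V) (hm : finrank ℂ V ≤ m)
    (IH : IHyp.{u, v} m (Nat.card G + finrank ℂ V)) (hmin : NoProperSmallIndex m G)
    (hK : MonoidHom.ker ρ' ≠ ⊥) :
    ∀ q : ℕ, q.Prime → q ∣ (MonoidHom.ker ρ').index → m + 1 < q := by
  have hσ : Function.Injective (QuotientGroup.lift (MonoidHom.ker ρ') ρ' le_rfl) := by
    intro x y hxy
    obtain ⟨a, rfl⟩ := QuotientGroup.mk_surjective x
    obtain ⟨b, rfl⟩ := QuotientGroup.mk_surjective y
    rw [QuotientGroup.lift_mk, QuotientGroup.lift_mk] at hxy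
    rw [QuotientGroup.eq, MonoidHom.mem_ker, map_mul, ← hxy, ← map_mul, inv_mul_cancel, map_one]
  have hcardK : 1 < Nat.card (MonoidHom.ker ρ') := (Subgroup.one_lt_card_iff_ne_bot _).mpr hK
  have hcard : Nat.card (G ⧸ MonoidHom.ker ρ') < Nat.card G := by
    rw [Subgroup.card_eq_card_quotient_mul_card_subgroup (MonoidHom.ker ρ')]
    exact lt_mul_of_one_lt_right Nat.card_pos hcardK
  obtain ⟨A', hA'⟩ := IH (G ⧸ MonoidHom.ker ρ') V
    (QuotientGroup.lift (MonoidHom.ker ρ') ρ' le_rfl) hσ hm (Nat.add_lt_add_right hcard _)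
  have hA'top : A' = ⊤ := by
    have h1 : (A'.comap (QuotientGroup.mk' (MonoidHom.ker ρ'))) = ⊤ := by
      apply hmin
      intro q hq hqd
      rw [Subgroup.index_comap_of_surjective _ (QuotientGroup.mk'_surjective _)] at hqd
      exact hA'.2.2 q hq hqd
    apply Subgroup.comap_injective (QuotientGroup.mk'_surjective (MonoidHom.ker ρ'))
    rw [h1, Subgroup.comap_top]
  intro q hq hqd
  apply hA'.2.1 q hq
  rw [hA'top, Subgroup.card_top]
  exact hqd

/-- If a central subgroup `K` has index divisible only by large primes, then (under minimality)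
all prime divisors of `|G|` are large. -/
theorem big_of_central_big_index (m : ℕ) (hmin : NoProperSmallIndex m G) (K : Subgroup G)
    [K.Normal] (hKcen : K ≤ Subgroup.center G)
    (hquot : ∀ q : ℕ, q.Prime → q ∣ K.index → m + 1 < q) :
    ∀ q : ℕ, q.Prime → q ∣ Nat.card G → m + 1 < q := by
  intro q hq hqG
  by_contra hsmall
  haveI : Fact q.Prime := ⟨hq⟩
  have hidx : ¬ q ∣ K.index := fun h => hsmall (hquot q hq h)
  obtain ⟨S⟩ := (inferInstance : Nonempty (Sylow q G))
  have hSK : (S : Subgroup G) ≤ K :=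
    le_of_normal_of_not_dvd_index (S : Subgroup G) K S.isPGroup' hidx
  haveI hSn : (S : Subgroup G).Normal := by
    constructor
    intro n hn g
    have hnc : n ∈ Subgroup.center G := hKcen (hSK hn)
    rw [Subgroup.mem_center_iff] at hnc
    rw [hnc g, mul_inv_cancel_right]
    exact hn
  obtain ⟨L, hL⟩ := Subgroup.exists_right_complement'_of_coprime (N := (S : Subgroup G))
    S.card_coprime_index
  have hLidx : L.index = Nat.card (S : Subgroup G) := hL.index_eq_card
  have hLtop : L = ⊤ := by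
    apply hmin
    intro q' hq' hq'd
    rw [hLidx, S.card_eq_multiplicity] at hq'd
    have h1 := (Nat.prime_dvd_prime_iff_eq hq' hq).mp (hq'.dvd_of_dvd_pow hq'd)
    rw [h1]; omega
  have h1 : Nat.card (S : Subgroup G) = 1 := by
    rw [← hLidx, hLtop, Subgroup.index_top]
  have h2 := S.dvd_card_of_dvd_card hqG
  rw [h1] at h2
  exact hq.one_lt.ne' (Nat.dvd_one.mp h2)

/-- In a minimal situation, a central element of large prime order forces all prime divisors of
`|G|` to be large. -/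
theorem big_of_central (m : ℕ) (ρ : Representation ℂ G V) [ρ.IsIrreducible]
    (hρ : Function.Injective ρ) (hm : finrank ℂ V ≤ m)
    (IH : IHyp.{u, v} m (Nat.card G + finrank ℂ V)) (hmin : NoProperSmallIndex m G)
    {z : G} (hz : z ∈ Subgroup.center G) {r : ℕ} (hr : r.Prime) (hzr : orderOf z = r)
    (hrm : m + 1 < r) : ∀ q : ℕ, q.Prime → q ∣ Nat.card G → m + 1 < q := by
  classical
  haveI : Fintype G := Fintype.ofFinite G
  haveI : Nontrivial V := nontrivial_of_isIrreducible ρ
  have hnpos : 0 < finrank ℂ V := finrank_pos_of_isIrreducible ρ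
  obtain ⟨ω, hω⟩ := exists_smul_id_of_mem_center ρ hz
  have hz1 : z ≠ 1 := by
    intro h; rw [h, orderOf_one] at hzr; exact hr.one_lt.ne hzr
  have hωr : ω ^ r = 1 := by
    have h1 : ρ (z ^ r) = 1 := by rw [← hzr, pow_orderOf_eq_one, map_one]
    rw [map_pow, hω, smul_pow] at h1
    have h2 : (LinearMap.id : V →ₗ[ℂ] V) ^ r = LinearMap.id := by
      rw [← Module.End.one_eq_id, one_pow]
    rw [h2] at h1
    apply smul_id_injective (V := V)
    rw [h1, one_smul]; rfl
  obtain ⟨k, hk⟩ := exists_mul_add_one_dvd hr hnpos (by omega : finrank ℂ V < r)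
  have hωk : ω ^ (finrank ℂ V * k + 1) = 1 := by
    obtain ⟨t, ht⟩ := hk
    rw [ht, pow_mul, hωr, one_pow]
  -- the twisted representation
  obtain ⟨β, hβdef⟩ : ∃ β : G →* ℂˣ, β = (repDetHom ρ) ^ k := ⟨_, rfl⟩
  obtain ⟨ρ', hρ'def⟩ : ∃ ρ' : Representation ℂ G V, ρ' = twistRep β ρ := ⟨_, rfl⟩
  have hβz : ((β z : ℂˣ) : ℂ) = ω ^ (finrank ℂ V * k) := by
    rw [hβdef, MonoidHom.pow_apply, Units.val_pow_eq_pow_val, repDetHom_apply, hω,
      LinearMap.det_smul, LinearMap.det_id, mul_one, pow_mul]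
  have hρ'g : ∀ g : G, ρ' g = ((β g : ℂˣ) : ℂ) • ρ g := fun g => by rw [hρ'def]; rfl
  have hρ'z : ρ' z = 1 := by
    rw [hρ'g, hβz, hω, smul_smul, ← pow_succ, hωk, one_smul]
    rfl
  have hzK : z ∈ MonoidHom.ker ρ' := hρ'z
  have hKbot : MonoidHom.ker ρ' ≠ ⊥ := by
    intro h
    rw [h, Subgroup.mem_bot] at hzK
    exact hz1 hzK
  have hKcen : MonoidHom.ker ρ' ≤ Subgroup.center G := by
    intro g hg
    rw [Subgroup.mem_center_iff]
    intro h
    have h1 : ((β g : ℂˣ) : ℂ) • ρ g = 1 := by rw [← hρ'g]; exact hg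
    have h2 : ρ g = (((β g)⁻¹ : ℂˣ) : ℂ) • (1 : V →ₗ[ℂ] V) := by
      rw [← h1, smul_smul, ← Units.val_mul, inv_mul_cancel, Units.val_one, one_smul]
    apply hρ
    rw [map_mul, map_mul, h2, smul_mul_assoc, mul_smul_comm, one_mul, mul_one]
  exact big_of_central_big_index m hmin (MonoidHom.ker ρ') hKcen
    (big_of_quotient_ker m ρ' hm IH hmin hKbot)

end Cfsg.Agent.Lib.Helper23.Blich
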