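import Mathlib
import Cfsg.Agent.Lib.Helper2.Decomp
import Cfsg.Agent.Lib.Helper2.Integrality
import Cfsg.Agent.Lib.Helper2.Linear
import Cfsg.Agent.Lib.Helper2.Regular

/-!
# A linear group all of whose prime divisors exceed the degree is abelian
-/

set_option autoImplicit false

namespace Cfsg.Agent.Lib.Helper23.Blich

open Module Cfsg.Agent.Lib.Helper2

universe u v

variable {G : Type v} [Group G] [Finite G]

theorem rep_comm_aux : ∀ (n : ℕ) (V : Type u) [AddCommGroup V] [Module ℂ V]
    [FiniteDimensional ℂ V] (ρ : Representation ℂ G V), finrank ℂ V = n →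
    (∀ q : ℕ, q.Prime → q ∣ Nat.card G → n < q) →
    ∀ (a b : G) (v : V), ρ a (ρ b v) = ρ b (ρ a v) := by
  classical
  haveI : Fintype G := Fintype.ofFinite G
  haveI : NeZero (Nat.card G : ℂ) := ⟨by exact_mod_cast Nat.card_pos.ne'⟩
  intro n
  induction n using Nat.strong_induction_on with
  | _ n ih =>
    intro V _ _ _ ρ hn hq a b v
    rcases subsingleton_or_nontrivial V with hV | hV
    · exact Subsingleton.elim _ _
    · obtain ⟨S, S', hS, hc⟩ := exists_irreducible_isCompl ρ
      have hdim : finrank ℂ S.toSubmodule + finrank ℂ S'.toSubmodule = finrank ℂ V :=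
        Submodule.finrank_add_eq_of_isCompl hc
      haveI := hS
      have hSpos : 0 < finrank ℂ S.toSubmodule :=
        finrank_pos_of_isIrreducible S.toRepresentation
      have hdvd : finrank ℂ S.toSubmodule ∣ Nat.card G := finrank_dvd_card S.toRepresentation
      have hS1 : finrank ℂ S.toSubmodule = 1 := by
        by_contra hne
        obtain ⟨p, hp, hpd⟩ := Nat.exists_prime_and_dvd hne
        have h1 := hq p hp (dvd_trans hpd hdvd)
        have h2 := Nat.le_of_dvd hSpos hpd
        omega
      have hv : v ∈ S.toSubmodule ⊔ S'.toSubmodule := by rw [hc.sup_eq_top]; trivial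
      obtain ⟨s, hs, s', hs', rfl⟩ := Submodule.mem_sup.mp hv
      have key1 : ρ a (ρ b s) = ρ b (ρ a s) := by
        obtain ⟨ca, hca⟩ : ∃ c : ℂ, S.toRepresentation a = c • LinearMap.id :=
          ⟨_, eq_trace_smul_id_of_finrank_eq_one hS1 _⟩
        obtain ⟨cb, hcb⟩ : ∃ c : ℂ, S.toRepresentation b = c • LinearMap.id :=
          ⟨_, eq_trace_smul_id_of_finrank_eq_one hS1 _⟩
        have ha : ∀ w ∈ S.toSubmodule, ρ a w = ca • w := by
          intro w hw
          have h := congrArg (fun f => ((f ⟨w, hw⟩ : S.toSubmodule) : V)) hca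
          simpa [Subrepresentation.toRepresentation] using h
        have hb : ∀ w ∈ S.toSubmodule, ρ b w = cb • w := by
          intro w hw
          have h := congrArg (fun f => ((f ⟨w, hw⟩ : S.toSubmodule) : V)) hcb
          simpa [Subrepresentation.toRepresentation] using h
        rw [hb s hs, map_smul, ha s hs, map_smul, hb s hs, smul_comm]
      have key2 : ρ a (ρ b s') = ρ b (ρ a s') := by
        have h := ih (finrank ℂ S'.toSubmodule) (by omega) S'.toSubmodule S'.toRepresentation rfl
          (fun q hq1 hq2 => by have := hq q hq1 hq2; omega) a b ⟨s', hs'⟩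
        have h' := congrArg Subtype.val h
        simpa [Subrepresentation.toRepresentation] using h'
      rw [map_add, map_add, map_add, map_add, key1, key2]

variable {V : Type u} [AddCommGroup V] [Module ℂ V] [FiniteDimensional ℂ V]

/-- A finite group with a faithful representation of degree smaller than every prime divisor of
its order is abelian. -/
theorem comm_of_forall_prime_gt (ρ : Representation ℂ G V) (hρ : Function.Injective ρ)
    (hq : ∀ q : ℕ, q.Prime → q ∣ Nat.card G → finrank ℂ V < q) (a b : G) : a * b = b * a := by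
  apply hρ
  rw [map_mul, map_mul]
  ext v
  exact rep_comm_aux _ V ρ rfl hq a b v

end Cfsg.Agent.Lib.Helper23.Blich
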