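import Mathlib
import Cfsg.Agent.Lib.Helper11.GaloisTwist
import Cfsg.Agent.Lib.Helper2.Orthogonality
import Cfsg.Agent.Lib.Helper2.CharBasic
import Cfsg.Agent.Lib.Helper25.Kernel

/-!
# Galois twists and elements of order `pq` in linear groups of small degree
-/

set_option autoImplicit false

namespace Cfsg.Agent.Lib.Helper23.Blich

open Module Cfsg Cfsg.Agent.Lib.Helper2 Cfsg.Agent.Lib.Helper11 Cfsg.Agent.Lib.Helper25
open scoped ComplexConjugate

section NonInv

variable {G : Type*} [Group G] [Finite G] {V : Type*} [AddCommGroup V] [Module ℂ V]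
  [FiniteDimensional ℂ V]

/-- For an element `x` of prime order `r > deg + 1` of a faithful representation, the character
is not constant on the nontrivial powers of `x`. -/
theorem exists_pow_char_ne (ρ : Representation ℂ G V) (hρ : Function.Injective ρ) {x : G}
    {r : ℕ} (hr : r.Prime) (hx : orderOf x = r) (hn : finrank ℂ V + 1 < r) :
    ∃ s : ℕ, 0 < s ∧ s < r ∧ ρ.character (x ^ s) ≠ ρ.character x := by
  classical
  by_contra hcon
  push Not at hcon
  obtain ⟨μ, hμ1, hμ2, -⟩ := exists_eigenvalues ρ x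
  rw [hx] at hμ1
  obtain ⟨n, hndef⟩ : ∃ n : ℕ, n = finrank ℂ V := ⟨_, rfl⟩
  obtain ⟨c, hcdef⟩ : ∃ c : ℂ, c = ρ.character x := ⟨_, rfl⟩
  have hr0 : (r : ℂ) ≠ 0 := by exact_mod_cast hr.ne_zero
  -- some eigenvalue is not `1`
  have hex : ∃ i, μ i ≠ 1 := by
    by_contra hall
    push Not at hall
    have h1 : ρ.character x = ρ.character 1 := by
      have h := hμ2 1
      rw [pow_one] at h
      rw [h, Representation.char_one]
      simp [hall]
    have h2 : ρ x = 1 := (rep_apply_eq_one_iff ρ x).mpr h1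
    have h3 : x = 1 := hρ (h2.trans (map_one ρ).symm)
    rw [h3, orderOf_one] at hx
    exact hr.one_lt.ne hx
  obtain ⟨i₀, hi₀⟩ := hex
  obtain ⟨ω, hωdef⟩ : ∃ ω : ℂ, ω = μ i₀ := ⟨_, rfl⟩
  have hω : ω ^ r = 1 := by rw [hωdef]; exact hμ1 i₀
  have hω1 : ω ≠ 1 := by rw [hωdef]; exact hi₀
  have hω0 : ω ≠ 0 := by
    intro h0; rw [h0, zero_pow hr.ne_zero] at hω; exact zero_ne_one hω
  have geom : ∀ ζ : ℂ, ζ ^ r = 1 →
      ∑ s ∈ Finset.range r, ζ ^ s = if ζ = 1 then (r : ℂ) else 0 := by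
    intro ζ hζ
    split_ifs with h
    · rw [h]; simp
    · have h1 := geom_sum_mul ζ r
      rw [hζ, sub_self] at h1
      exact (mul_eq_zero.mp h1).resolve_right (sub_ne_zero.mpr h)
  have hval : ∀ s ∈ Finset.range r,
      ρ.character (x ^ s) = if s = 0 then (n : ℂ) else c := by
    intro s hs
    split_ifs with h
    · rw [h, pow_zero, Representation.char_one, hndef]
    · rw [hcdef]; exact hcon s (Nat.pos_of_ne_zero h) (Finset.mem_range.mp hs)
  have ident : ∀ ζ : ℂ, ζ ^ r = 1 →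
      ∑ s ∈ Finset.range r, ζ ^ s * ρ.character (x ^ s) =
        (r : ℂ) * ((Finset.univ.filter (fun i => ζ * μ i = 1)).card : ℂ) := by
    intro ζ hζ
    calc ∑ s ∈ Finset.range r, ζ ^ s * ρ.character (x ^ s)
        = ∑ s ∈ Finset.range r, ∑ i, (ζ * μ i) ^ s := by
          apply Finset.sum_congr rfl
          intro s _
          rw [hμ2 s, Finset.mul_sum]
          apply Finset.sum_congr rfl
          intro i _
          rw [mul_pow]
      _ = ∑ i, ∑ s ∈ Finset.range r, (ζ * μ i) ^ s := Finset.sum_comm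
      _ = ∑ i, (if ζ * μ i = 1 then (r : ℂ) else 0) := by
          apply Finset.sum_congr rfl
          intro i _
          apply geom
          rw [mul_pow, hζ, hμ1 i, one_mul]
      _ = (r : ℂ) * ((Finset.univ.filter (fun i => ζ * μ i = 1)).card : ℂ) := by
          rw [Finset.sum_ite, Finset.sum_const, Finset.sum_const_zero, add_zero, nsmul_eq_mul,
            mul_comm]
  have lhs : ∀ ζ : ℂ, ∑ s ∈ Finset.range r, ζ ^ s * ρ.character (x ^ s) =
      (n : ℂ) - c + c * ∑ s ∈ Finset.range r, ζ ^ s := by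
    intro ζ
    have h1 : ∀ s ∈ Finset.range r, ζ ^ s * ρ.character (x ^ s) =
        (if s = 0 then (n : ℂ) - c else 0) + c * ζ ^ s := by
      intro s hs
      rw [hval s hs]
      split_ifs with h
      · rw [h]; simp
      · ring
    rw [Finset.sum_congr rfl h1, Finset.sum_add_distrib, Finset.sum_ite_eq', ← Finset.mul_sum,
      if_pos (Finset.mem_range.mpr hr.pos)]
  -- the two counts
  obtain ⟨a₀, ha₀⟩ : ∃ a : ℕ, a = (Finset.univ.filter (fun i => (1 : ℂ) * μ i = 1)).card :=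
    ⟨_, rfl⟩
  obtain ⟨a₁, ha₁⟩ : ∃ a : ℕ, a = (Finset.univ.filter (fun i => ω⁻¹ * μ i = 1)).card :=
    ⟨_, rfl⟩
  have ha₁pos : 0 < a₁ := by
    rw [ha₁, Finset.card_pos]
    refine ⟨i₀, ?_⟩
    rw [Finset.mem_filter]
    refine ⟨Finset.mem_univ _, ?_⟩
    rw [← hωdef, inv_mul_cancel₀ hω0]
  have e0 : (r : ℂ) * (a₀ : ℂ) = (n : ℂ) - c + c * (r : ℂ) := by
    have h1 := ident 1 (one_pow r)
    rw [lhs 1, geom 1 (one_pow r), if_pos rfl, ← ha₀] at h1
    exact h1.symm
  have hωinv : (ω⁻¹) ^ r = 1 := by rw [inv_pow, hω, inv_one]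
  have hωinv1 : ω⁻¹ ≠ 1 := by
    intro h; apply hω1; rw [← inv_inv ω, h, inv_one]
  have e1 : (r : ℂ) * (a₁ : ℂ) = (n : ℂ) - c := by
    have h1 := ident ω⁻¹ hωinv
    rw [lhs ω⁻¹, geom ω⁻¹ hωinv, if_neg hωinv1, mul_zero, add_zero, ← ha₁] at h1
    exact h1.symm
  -- eliminate `c`
  have e2 : (r : ℂ) * ((n : ℂ) + (a₁ : ℂ)) = (r : ℂ) * ((a₀ : ℂ) + (r : ℂ) * (a₁ : ℂ)) := by
    have hc : c = (n : ℂ) - (r : ℂ) * (a₁ : ℂ) := by rw [e1]; ring
    rw [hc] at e0
    linear_combination (-1 : ℂ) * e0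
  have e3 : (n : ℂ) + (a₁ : ℂ) = (a₀ : ℂ) + (r : ℂ) * (a₁ : ℂ) := mul_left_cancel₀ hr0 e2
  have e4 : n + a₁ = a₀ + r * a₁ := by exact_mod_cast e3
  have h5 : (n + 2) * a₁ ≤ r * a₁ := Nat.mul_le_mul_right a₁ (by omega)
  have h6 : n ≤ n * a₁ := Nat.le_mul_of_pos_right n ha₁pos
  nlinarith

end NonInv

section Exponent

variable {G : Type*} [Group G] [Finite G]

/-- An exponent `k` prime to `|G|` acting as `s`-th power on elements of order `p` and trivially
on elements of order prime to `p`. -/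
theorem exists_twist_exponent {p : ℕ} (hp : p.Prime) (hpG : p ∣ Nat.card G) {s : ℕ}
    (hs0 : 0 < s) (hsp : s < p) :
    ∃ k : ℕ, k.Coprime (Nat.card G) ∧ (∀ g : G, ¬ p ∣ orderOf g → g ^ k = g) ∧
      ∀ g : G, orderOf g = p → g ^ k = g ^ s := by
  have hN : Nat.card G ≠ 0 := Nat.card_pos.ne'
  obtain ⟨N, hNdef⟩ : ∃ N : ℕ, N = Nat.card G := ⟨_, rfl⟩
  rw [← hNdef] at hpG hN ⊢
  have hsplit : ordProj[p] N * ordCompl[p] N = N := Nat.ordProj_mul_ordCompl_eq_self N p
  have hcop1 : Nat.Coprime p (ordCompl[p] N) := Nat.coprime_ordCompl hp hN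
  have hcop : Nat.Coprime (ordProj[p] N) (ordCompl[p] N) := Nat.Coprime.pow_left _ hcop1
  have hpdvd : p ∣ ordProj[p] N := by
    have h1 : 0 < N.factorization p := hp.factorization_pos_of_dvd hN hpG
    exact dvd_pow_self p h1.ne'
  obtain ⟨k, hk1, hk2⟩ := Nat.chineseRemainder hcop s 1
  have hkp : k ≡ s [MOD p] := hk1.of_dvd hpdvd
  have hsp' : Nat.Coprime s p := by
    rw [Nat.coprime_comm]
    exact (Nat.Prime.coprime_iff_not_dvd hp).mpr (Nat.not_dvd_of_pos_of_lt hs0 hsp)
  have hkcop1 : Nat.Coprime k p := by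
    unfold Nat.Coprime
    rw [hkp.gcd_eq]; exact hsp'
  have hkcop2 : Nat.Coprime k (ordCompl[p] N) := by
    unfold Nat.Coprime
    rw [hk2.gcd_eq]; exact Nat.gcd_one_left _
  refine ⟨k, ?_, ?_, ?_⟩
  · rw [← hsplit]
    exact Nat.Coprime.mul_right (Nat.Coprime.pow_right _ hkcop1) hkcop2
  · intro g hg
    have h1 : orderOf g ∣ N := by rw [hNdef]; exact orderOf_dvd_natCard g
    have h2 : Nat.Coprime (orderOf g) (ordProj[p] N) := by
      apply Nat.Coprime.pow_right
      rw [Nat.coprime_comm]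
      exact (Nat.Prime.coprime_iff_not_dvd hp).mpr hg
    have h3 : orderOf g ∣ ordCompl[p] N := by
      rw [← hsplit] at h1
      exact h2.dvd_of_dvd_mul_left h1
    have h4 : k ≡ 1 [MOD orderOf g] := hk2.of_dvd h3
    have h5 := pow_eq_pow_iff_modEq.mpr h4
    rw [h5, pow_one]
  · intro g hg
    have h4 : k ≡ s [MOD orderOf g] := by rw [hg]; exact hkp
    exact pow_eq_pow_iff_modEq.mpr h4

end Exponent

section Pair

variable {G : Type*} [Group G] [Finite G] {V : Type*} [AddCommGroup V] [Module ℂ V]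
  [FiniteDimensional ℂ V]

/-- A faithful irreducible linear group of degree `n` whose order is divisible by two distinct
primes `p, q > n + 1` has commuting elements of orders `p` and `q`. -/
theorem exists_commute_orderOf (ρ : Representation ℂ G V) [ρ.IsIrreducible]
    (hρ : Function.Injective ρ) {p q : ℕ} (hp : p.Prime) (hq : q.Prime)
    (hpn : finrank ℂ V + 1 < p) (hqn : finrank ℂ V + 1 < q)
    (hpG : p ∣ Nat.card G) (hqG : q ∣ Nat.card G) :
    ∃ x u : G, orderOf x = p ∧ orderOf u = q ∧ Commute x u := by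
  classical
  haveI : Fintype G := Fintype.ofFinite G
  haveI : Fact p.Prime := ⟨hp⟩
  haveI : Fact q.Prime := ⟨hq⟩
  obtain ⟨xp, hxp⟩ := exists_prime_orderOf_dvd_card' p hpG
  obtain ⟨xq, hxq⟩ := exists_prime_orderOf_dvd_card' q hqG
  obtain ⟨sp, hsp0, hspp, hsp⟩ := exists_pow_char_ne ρ hρ hp hxp hpn
  obtain ⟨sq, hsq0, hsqq, hsq⟩ := exists_pow_char_ne ρ hρ hq hxq hqn
  obtain ⟨kp, hkp, hkp1, hkp2⟩ := exists_twist_exponent (G := G) hp hpG hsp0 hspp
  obtain ⟨kq, hkq, hkq1, hkq2⟩ := exists_twist_exponent (G := G) hq hqG hsq0 hsqq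
  have hχ : IsIrrCharacter G ρ.character := isIrrCharacter_of_rep ρ
  have hχp : IsIrrCharacter G (fun g => ρ.character (g ^ kp)) :=
    isIrrCharacter_pow_coprime kp hkp hχ
  have hχq : IsIrrCharacter G (fun g => ρ.character (g ^ kq)) :=
    isIrrCharacter_pow_coprime kq hkq hχ
  by_contra hno
  push Not at hno
  have hnodvd : ∀ g : G, ¬ (p ∣ orderOf g ∧ q ∣ orderOf g) := by
    rintro g ⟨h1, h2⟩
    have ho : orderOf g ≠ 0 := (orderOf_pos g).ne'
    exact hno (g ^ (orderOf g / p)) (g ^ (orderOf g / q)) (orderOf_pow_orderOf_div ho h1)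
      (orderOf_pow_orderOf_div ho h2) ((Commute.refl g).pow_pow _ _)
  have hpt : ∀ g : G, (ρ.character (g ^ kp) - ρ.character g) *
      conj (ρ.character (g ^ kq) - ρ.character g) = 0 := by
    intro g
    by_cases h1 : p ∣ orderOf g
    · have h2 : ¬ q ∣ orderOf g := fun h2 => hnodvd g ⟨h1, h2⟩
      rw [hkq1 g h2, sub_self, map_zero, mul_zero]
    · rw [hkp1 g h1, sub_self, zero_mul]
  have hinner : classInner ((fun g => ρ.character (g ^ kp)) - ρ.character)
      ((fun g => ρ.character (g ^ kq)) - ρ.character) = 0 := by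
    rw [classInner_def]
    apply mul_eq_zero_of_right
    apply Finset.sum_eq_zero
    intro g _
    exact hpt g
  rw [classInner_sub_left, classInner_sub_right, classInner_sub_right] at hinner
  let X : IrrCharacter G := ⟨ρ.character, hχ⟩
  let Xp : IrrCharacter G := ⟨fun g => ρ.character (g ^ kp), hχp⟩
  let Xq : IrrCharacter G := ⟨fun g => ρ.character (g ^ kq), hχq⟩
  have hXp : Xp ≠ X := by
    intro h
    have h1 := congrArg (fun χ : IrrCharacter G => (χ : G → ℂ) xp) h
    simp only [Xp, X] at h1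
    rw [hkp2 xp hxp] at h1
    exact hsp h1
  have hXq : Xq ≠ X := by
    intro h
    have h1 := congrArg (fun χ : IrrCharacter G => (χ : G → ℂ) xq) h
    simp only [Xq, X] at h1
    rw [hkq2 xq hxq] at h1
    exact hsq h1
  have e1 : classInner (fun g => ρ.character (g ^ kp)) ρ.character = 0 :=
    classInner_irrCharacter_ne (χ := Xp) (ψ := X) hXp
  have e2 : classInner ρ.character (fun g => ρ.character (g ^ kq)) = 0 :=
    classInner_irrCharacter_ne (χ := X) (ψ := Xq) (Ne.symm hXq)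
  have e3 : classInner ρ.character ρ.character = 1 := classInner_irrCharacter_self X
  have e4 : classInner (fun g => ρ.character (g ^ kp)) (fun g => ρ.character (g ^ kq)) =
      if Xp = Xq then 1 else 0 := classInner_irrCharacter Xp Xq
  rw [e1, e2, e3, e4] at hinner
  split_ifs at hinner <;> norm_num at hinner

end Pair

end Cfsg.Agent.Lib.Helper23.Blich
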