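import Mathlib
import Cfsg.Agent.Lib.Helper23.BlichBasic
import Cfsg.Agent.Lib.Helper23.BlichComm
import Cfsg.Agent.Lib.Helper23.BlichTwist
import Cfsg.Agent.Lib.Helper23.BlichCentral

/-!
# Blichfeldt's theorem: a linear group of degree `n` has an abelian Hall subgroup for the primes
exceeding `n + 1`
-/

set_option autoImplicit false

namespace Cfsg.Agent.Lib.Helper23.Blich

open Module Cfsg Cfsg.Agent.Lib.Helper2 Cfsg.Agent.Lib.Helper25
open scoped Pointwise

universe u v

variable {G : Type v} [Group G] [Finite G] {V : Type u} [AddCommGroup V] [Module ℂ V]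
  [FiniteDimensional ℂ V]

/-- A `q`-subgroup of a linear group of degree `≤ m < q - 1` is abelian. -/
theorem comm_of_isPGroup (m : ℕ) (ρ : Representation ℂ G V) (hρ : Function.Injective ρ)
    (hm : finrank ℂ V ≤ m) {q : ℕ} (hq : q.Prime) (hqm : m + 1 < q) (Q : Subgroup G)
    (hQ : IsPGroup q Q) : ∀ a ∈ Q, ∀ b ∈ Q, a * b = b * a := by
  haveI : Fact q.Prime := ⟨hq⟩
  intro a ha b hb
  obtain ⟨ρQ, hρQ⟩ : ∃ ρQ : Representation ℂ Q V, ρQ = MonoidHom.comp ρ Q.subtype := ⟨_, rfl⟩
  have hinj : Function.Injective ρQ := by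
    rw [hρQ, MonoidHom.coe_comp]
    exact hρ.comp Q.subtype_injective
  obtain ⟨k, hk⟩ := IsPGroup.iff_card.mp hQ
  have h := comm_of_forall_prime_gt ρQ hinj (fun q' hq' hq'd => by
    rw [hk] at hq'd
    have := (Nat.prime_dvd_prime_iff_eq hq' hq).mp (hq'.dvd_of_dvd_pow hq'd)
    omega) ⟨a, ha⟩ ⟨b, hb⟩
  exact congrArg Subtype.val h

/-- Centralizers of elements of large prime order have index prime to every large prime dividing
their order (in the absence of central elements of large prime order). -/
theorem not_dvd_index_centralizer (m : ℕ) (ρ : Representation ℂ G V)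
    (hρ : Function.Injective ρ) (hm : finrank ℂ V ≤ m)
    (IH : IHyp.{u, v} m (Nat.card G + finrank ℂ V))
    (hnc : ∀ z ∈ Subgroup.center G, ∀ r : ℕ, r.Prime → orderOf z = r → r ≤ m + 1)
    {p q : ℕ} (hp : p.Prime) (hq : q.Prime) (hpm : m + 1 < p) (hqm : m + 1 < q)
    {y : G} (hy : orderOf y = p) (hqD : q ∣ Nat.card (Subgroup.centralizer ({y} : Set G))) :
    ¬ q ∣ (Subgroup.centralizer ({y} : Set G)).index := by
  haveI : Fact p.Prime := ⟨hp⟩
  haveI : Fact q.Prime := ⟨hq⟩
  obtain ⟨w', hw'⟩ := exists_prime_orderOf_dvd_card' q hqD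
  obtain ⟨w, hwdef⟩ : ∃ w : G, w = (w' : G) := ⟨_, rfl⟩
  have hwq : orderOf w = q := by rw [hwdef, Subgroup.orderOf_coe, hw']
  have hwy : y * w = w * y := by
    have h := w'.2
    rw [Subgroup.mem_centralizer_iff] at h
    rw [hwdef]
    exact h y (Set.mem_singleton y)
  have hzp : IsPGroup q (Subgroup.zpowers w) := by
    apply IsPGroup.of_card (n := 1)
    rw [Nat.card_zpowers, hwq, pow_one]
  obtain ⟨Q, hQ⟩ := hzp.exists_le_sylow
  have hwQ : w ∈ (Q : Subgroup G) := hQ (Subgroup.mem_zpowers w)
  have hQab := comm_of_isPGroup m ρ hρ hm hq hqm (Q : Subgroup G) Q.isPGroup'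
  obtain ⟨E, hEdef⟩ : ∃ E : Subgroup G, E = Subgroup.centralizer ({w} : Set G) := ⟨_, rfl⟩
  have hmemE : ∀ g : G, g ∈ E ↔ w * g = g * w := by
    intro g
    rw [hEdef, Subgroup.mem_centralizer_iff]
    constructor
    · intro h; exact h w (Set.mem_singleton w)
    · intro h x hx
      rw [Set.mem_singleton_iff] at hx
      rw [hx]; exact h
  have hQE : (Q : Subgroup G) ≤ E := fun k hk => (hmemE k).mpr (hQab w hwQ k hk)
  have hyE : y ∈ E := (hmemE y).mpr hwy.symm
  have hEtop : E ≠ ⊤ := by
    intro h
    rw [hEdef, Subgroup.centralizer_eq_top_iff_subset] at h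
    have hwc : w ∈ Subgroup.center G := h (Set.mem_singleton w)
    have := hnc w hwc q hq hwq
    omega
  have hEcard : Nat.card E < Nat.card G := by
    by_contra hcon
    push Not at hcon
    exact hEtop (Subgroup.eq_top_of_card_eq E (le_antisymm (Subgroup.card_le_card_group E) hcon))
  obtain ⟨ρE, hρE⟩ : ∃ ρE : Representation ℂ E V, ρE = MonoidHom.comp ρ E.subtype := ⟨_, rfl⟩
  have hinjE : Function.Injective ρE := by
    rw [hρE, MonoidHom.coe_comp]
    exact hρ.comp E.subtype_injective
  obtain ⟨A, hAab, hAcard, hAidx⟩ := IH E V ρE hinjE hm (Nat.add_lt_add_right hEcard _)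
  have hqA : ¬ q ∣ A.index := fun h => by have := hAidx q hq h; omega
  have hpA : ¬ p ∣ A.index := fun h => by have := hAidx p hp h; omega
  obtain ⟨e, he⟩ := exists_conj_mem_of_not_dvd_index ((Q : Subgroup G).subgroupOf E) A
    (Q.isPGroup'.comap_subtype) hqA
  obtain ⟨yE, hyEv⟩ : ∃ yE : E, (yE : G) = y := ⟨⟨y, hyE⟩, rfl⟩
  have hyEp : IsPGroup p (Subgroup.zpowers yE) := by
    apply IsPGroup.of_card (n := 1)
    rw [Nat.card_zpowers, ← Subgroup.orderOf_coe, hyEv, hy, pow_one]
  obtain ⟨e', he'⟩ := exists_conj_mem_of_not_dvd_index (Subgroup.zpowers yE) A hyEp hpA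
  have hy' := he' yE (Subgroup.mem_zpowers _)
  obtain ⟨tE, htE⟩ : ∃ tE : E, tE = e * e'⁻¹ := ⟨_, rfl⟩
  obtain ⟨t, htdef⟩ : ∃ t : G, t = (tE : G) := ⟨_, rfl⟩
  have hconj : ∀ k ∈ (Q : Subgroup G), (t⁻¹ * k * t) * y = y * (t⁻¹ * k * t) := by
    intro k hk
    have hkE : k ∈ E := hQE hk
    obtain ⟨kE, hkEv⟩ : ∃ kE : E, (kE : G) = k := ⟨⟨k, hkE⟩, rfl⟩
    have hk' := he kE (by rw [Subgroup.mem_subgroupOf, hkEv]; exact hk)
    have hc := hAab _ hk' _ hy'
    have h1 : (tE⁻¹ * kE * tE) * yE = yE * (tE⁻¹ * kE * tE) := by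
      rw [htE]
      calc ((e * e'⁻¹)⁻¹ * kE * (e * e'⁻¹)) * yE
          = e' * ((e⁻¹ * kE * e) * (e'⁻¹ * yE * e')) * e'⁻¹ := by group
        _ = e' * ((e'⁻¹ * yE * e') * (e⁻¹ * kE * e)) * e'⁻¹ := by rw [hc]
        _ = yE * ((e * e'⁻¹)⁻¹ * kE * (e * e'⁻¹)) := by group
    have h2 := congrArg Subtype.val h1
    simp only [Subgroup.coe_mul, Subgroup.coe_inv, hkEv, hyEv] at h2
    rw [htdef]
    exact h2
  have hQ'D : ((t⁻¹ • Q : Sylow q G) : Subgroup G) ≤ Subgroup.centralizer ({y} : Set G) := by
    intro x hx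
    rw [Sylow.coe_subgroup_smul, Subgroup.mem_pointwise_smul_iff_inv_smul_mem] at hx
    simp only [MulAut.smul_def, MulAut.conj_inv_apply, inv_inv] at hx
    have h := hconj _ hx
    rw [Subgroup.mem_centralizer_iff]
    intro z hz
    rw [Set.mem_singleton_iff] at hz
    rw [hz]
    have h3 : t⁻¹ * (t * x * t⁻¹) * t = x := by group
    rw [h3] at h
    exact h.symm
  have hdvd := Subgroup.index_dvd_of_le hQ'D
  intro hqidx
  exact (t⁻¹ • Q : Sylow q G).not_dvd_index (dvd_trans hqidx hdvd)

/-- The irreducible case of the key lemma. -/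
theorem big_of_irreducible (m : ℕ) (ρ : Representation ℂ G V) [ρ.IsIrreducible]
    (hρ : Function.Injective ρ) (hm : finrank ℂ V ≤ m)
    (IH : IHyp.{u, v} m (Nat.card G + finrank ℂ V)) (hmin : NoProperSmallIndex m G) :
    ∀ q : ℕ, q.Prime → q ∣ Nat.card G → m + 1 < q := by
  by_cases hcen : ∃ z ∈ Subgroup.center G, ∃ r : ℕ, r.Prime ∧ orderOf z = r ∧ m + 1 < r
  · obtain ⟨z, hz, r, hr, hzr, hrm⟩ := hcen
    exact big_of_central m ρ hρ hm IH hmin hz hr hzr hrm
  · have hnc : ∀ z ∈ Subgroup.center G, ∀ r : ℕ, r.Prime → orderOf z = r → r ≤ m + 1 := by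
      intro z hz r hr hzr
      by_contra hcon
      exact hcen ⟨z, hz, r, hr, hzr, by omega⟩
    by_cases hbig : ∃ p : ℕ, p.Prime ∧ p ∣ Nat.card G ∧ m + 1 < p
    · exfalso
      obtain ⟨p, hp, hpG, hpm⟩ := hbig
      haveI : Fact p.Prime := ⟨hp⟩
      obtain ⟨x, hx⟩ := exists_prime_orderOf_dvd_card' p hpG
      have hDtop : Subgroup.centralizer ({x} : Set G) = ⊤ := by
        apply hmin
        intro q' hq' hq'D
        by_contra hcon
        have hq'm : m + 1 < q' := by omega
        have hq'G : q' ∣ Nat.card G := dvd_trans hq'D (Subgroup.index_dvd_card _)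
        haveI : Fact q'.Prime := ⟨hq'⟩
        obtain ⟨x', u, hx', hu, hcomm⟩ :=
          exists_commute_orderOf ρ hρ hp hq' (by omega) (by omega) hpG hq'G
        have hx'Cu : x' ∈ Subgroup.centralizer ({u} : Set G) := by
          rw [Subgroup.mem_centralizer_iff]
          intro z hz
          rw [Set.mem_singleton_iff] at hz
          rw [hz]
          exact hcomm.eq.symm
        have hpCu : p ∣ Nat.card (Subgroup.centralizer ({u} : Set G)) := by
          rw [← hx']
          exact Subgroup.orderOf_dvd_natCard _ hx'Cu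
        have h1 := not_dvd_index_centralizer m ρ hρ hm IH hnc hq' hp hq'm hpm hu hpCu
        have hxp : IsPGroup p (Subgroup.zpowers x) := by
          apply IsPGroup.of_card (n := 1)
          rw [Nat.card_zpowers, hx, pow_one]
        obtain ⟨g, hg⟩ := exists_conj_mem_of_not_dvd_index (Subgroup.zpowers x)
          (Subgroup.centralizer ({u} : Set G)) hxp h1
        have h2 := hg x (Subgroup.mem_zpowers x)
        rw [Subgroup.mem_centralizer_iff] at h2
        have h3 := h2 u (Set.mem_singleton u)
        have hguD : g * u * g⁻¹ ∈ Subgroup.centralizer ({x} : Set G) := by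
          rw [Subgroup.mem_centralizer_iff]
          intro z hz
          rw [Set.mem_singleton_iff] at hz
          rw [hz]
          calc x * (g * u * g⁻¹) = g * ((g⁻¹ * x * g) * u) * g⁻¹ := by group
            _ = g * (u * (g⁻¹ * x * g)) * g⁻¹ := by rw [h3]
            _ = g * u * g⁻¹ * x := by group
        have hq'Dcard : q' ∣ Nat.card (Subgroup.centralizer ({x} : Set G)) := by
          have h4 : orderOf (g * u * g⁻¹) = q' := by
            have h5 := orderOf_injective (MulAut.conj g).toMonoidHom (MulAut.conj g).injective u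
            rw [← hu, ← h5]
            rfl
          rw [← h4]
          exact Subgroup.orderOf_dvd_natCard _ hguD
        exact not_dvd_index_centralizer m ρ hρ hm IH hnc hp hq' hpm hq'm hx hq'Dcard hq'D
      have hxc : x ∈ Subgroup.center G :=
        Subgroup.centralizer_eq_top_iff_subset.mp hDtop (Set.mem_singleton x)
      have := hnc x hxc p hp hx
      omega
    · push Not at hbig
      have hbot : (⊥ : Subgroup G) = ⊤ := hmin ⊥ (fun q hq hqd => by
        rw [Subgroup.index_bot] at hqd
        exact hbig q hq hqd)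
      have hcard : Nat.card G = 1 := by
        rw [← Subgroup.index_bot, hbot, Subgroup.index_top]
      intro q hq hqG
      rw [hcard] at hqG
      exact absurd (Nat.dvd_one.mp hqG) hq.one_lt.ne'

/-- The key lemma: under the induction hypothesis, a linear group without proper subgroups of
"small" index has only large prime divisors. -/
theorem big_of_noProperSmallIndex (m : ℕ) (ρ : Representation ℂ G V)
    (hρ : Function.Injective ρ) (hm : finrank ℂ V ≤ m)
    (IH : IHyp.{u, v} m (Nat.card G + finrank ℂ V)) (hmin : NoProperSmallIndex m G) :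
    ∀ q : ℕ, q.Prime → q ∣ Nat.card G → m + 1 < q := by
  classical
  haveI : Fintype G := Fintype.ofFinite G
  haveI : NeZero (Nat.card G : ℂ) := ⟨by exact_mod_cast Nat.card_pos.ne'⟩
  rcases subsingleton_or_nontrivial V with hV | hV
  · haveI : Subsingleton G := ⟨fun a b => hρ (LinearMap.ext fun v => Subsingleton.elim _ _)⟩
    intro q hq hqG
    rw [Nat.card_unique] at hqG
    exact absurd (Nat.dvd_one.mp hqG) hq.one_lt.ne'
  · obtain ⟨S, S', hS, hc⟩ := exists_irreducible_isCompl ρ
    haveI := hS
    have hdim : finrank ℂ S.toSubmodule + finrank ℂ S'.toSubmodule = finrank ℂ V :=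
      Submodule.finrank_add_eq_of_isCompl hc
    have hSpos : 0 < finrank ℂ S.toSubmodule := finrank_pos_of_isIrreducible S.toRepresentation
    have IH1 : IHyp.{u, v} m (Nat.card G + finrank ℂ S.toSubmodule) := by
      intro G' _ _ V' _ _ _ ρ' hinj hm' hlt
      exact IH G' V' ρ' hinj hm' (by omega)
    by_cases hK1 : MonoidHom.ker S.toRepresentation = ⊥
    · have hinj1 : Function.Injective S.toRepresentation := (MonoidHom.ker_eq_bot_iff _).mp hK1
      exact big_of_irreducible m S.toRepresentation hinj1 (by omega) IH1 hmin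
    · have hb1 := big_of_quotient_ker m S.toRepresentation (by omega) IH1 hmin hK1
      by_cases hK2 : MonoidHom.ker S'.toRepresentation = ⊥
      · have hinj2 : Function.Injective S'.toRepresentation :=
          (MonoidHom.ker_eq_bot_iff _).mp hK2
        obtain ⟨A, hAab, hAcard, hAidx⟩ :=
          IH G S'.toSubmodule S'.toRepresentation hinj2 (by omega) (by omega)
        have hAtop : A = ⊤ := hmin A hAidx
        intro q hq hqG
        apply hAcard q hq
        rw [hAtop, Subgroup.card_top]; exact hqG
      · have IH2 : IHyp.{u, v} m (Nat.card G + finrank ℂ S'.toSubmodule) := by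
          intro G' _ _ V' _ _ _ ρ' hinj hm' hlt
          exact IH G' V' ρ' hinj hm' (by omega)
        have hb2 := big_of_quotient_ker m S'.toRepresentation (by omega) IH2 hmin hK2
        have hinf : MonoidHom.ker S'.toRepresentation ⊓ MonoidHom.ker S.toRepresentation = ⊥ := by
          rw [eq_bot_iff]
          intro g hg
          rw [Subgroup.mem_inf, MonoidHom.mem_ker, MonoidHom.mem_ker] at hg
          rw [Subgroup.mem_bot]
          apply hρ
          rw [map_one]
          ext v
          have hv : v ∈ S.toSubmodule ⊔ S'.toSubmodule := by rw [hc.sup_eq_top]; trivial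
          obtain ⟨s, hs, s', hs', rfl⟩ := Submodule.mem_sup.mp hv
          have h1 : ρ g s = s := by
            have h := congrArg (fun f => ((f ⟨s, hs⟩ : S.toSubmodule) : V)) hg.2
            simpa [Subrepresentation.toRepresentation] using h
          have h2 : ρ g s' = s' := by
            have h := congrArg (fun f => ((f ⟨s', hs'⟩ : S'.toSubmodule) : V)) hg.1
            simpa [Subrepresentation.toRepresentation] using h
          rw [map_add, h1, h2]; rfl
        intro q hq hqG
        rw [← Subgroup.index_mul_card (MonoidHom.ker S.toRepresentation)] at hqG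
        rcases (Nat.Prime.dvd_mul hq).mp hqG with h | h
        · exact hb1 q hq h
        · apply hb2 q hq
          have h3 : (MonoidHom.ker S'.toRepresentation).relIndex
              (MonoidHom.ker S.toRepresentation) =
              Nat.card (MonoidHom.ker S.toRepresentation) := by
            rw [← Subgroup.inf_relIndex_right, hinf, Subgroup.relIndex_bot_left]
          rw [← h3] at h
          exact dvd_trans h (Subgroup.relIndex_dvd_index_of_normal _ _)

/-- Blichfeldt's theorem, in the inductive form. -/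
theorem ihyp_all (m : ℕ) : ∀ N : ℕ, IHyp.{u, v} m N := by
  intro N
  induction N using Nat.strong_induction_on with
  | _ N ih =>
    intro G' _ _ V' _ _ _ ρ' hinj hm' hlt
    have IH' : IHyp.{u, v} m (Nat.card G' + finrank ℂ V') := ih _ hlt
    by_cases hmin : NoProperSmallIndex m G'
    · have hbig := big_of_noProperSmallIndex m ρ' hinj hm' IH' hmin
      refine ⟨⊤, ?_, ?_, ?_⟩
      · intro x _ y _
        exact comm_of_forall_prime_gt ρ' hinj
          (fun q hq hqd => by have := hbig q hq hqd; omega) x y
      · intro q hq hqd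
        rw [Subgroup.card_top] at hqd
        exact hbig q hq hqd
      · intro q hq hqd
        rw [Subgroup.index_top] at hqd
        exact absurd (Nat.dvd_one.mp hqd) hq.one_lt.ne'
    · unfold NoProperSmallIndex at hmin
      push Not at hmin
      obtain ⟨L, hLidx, hLtop⟩ := hmin
      have hLcard : Nat.card L < Nat.card G' := by
        by_contra hcon
        push Not at hcon
        exact hLtop (Subgroup.eq_top_of_card_eq L
          (le_antisymm (Subgroup.card_le_card_group L) hcon))
      obtain ⟨B, hBab, hBcard, hBidx⟩ := IH' L V' (MonoidHom.comp ρ' L.subtype)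
        (by rw [MonoidHom.coe_comp]; exact hinj.comp L.subtype_injective) hm'
        (Nat.add_lt_add_right hLcard _)
      refine ⟨B.map L.subtype, ?_, ?_, ?_⟩
      · intro x hx y hy
        obtain ⟨a, ha, rfl⟩ := Subgroup.mem_map.mp hx
        obtain ⟨b, hb, rfl⟩ := Subgroup.mem_map.mp hy
        rw [← map_mul, ← map_mul, hBab a ha b hb]
      · intro q hq hqd
        rw [Subgroup.card_map_of_injective L.subtype_injective] at hqd
        exact hBcard q hq hqd
      · intro q hq hqd
        rw [Subgroup.index_map_subtype] at hqd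
        rcases (Nat.Prime.dvd_mul hq).mp hqd with h | h
        · exact hBidx q hq h
        · exact hLidx q hq h

/-- **Blichfeldt's theorem.** A finite group with a faithful complex representation on `V` has an
abelian Hall subgroup for the set of primes exceeding `finrank V + 1`. -/
theorem exists_isBHall (ρ : Representation ℂ G V) (hρ : Function.Injective ρ) :
    ∃ A : Subgroup G, IsBHall (finrank ℂ V) A :=
  ihyp_all.{u, v} (finrank ℂ V) (Nat.card G + finrank ℂ V + 1) G V ρ hρ le_rfl (by omega)

end Cfsg.Agent.Lib.Helper23.Blich
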