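import Mathlib
import Cfsg.Prelude
import Cfsg.Agent.Lib.Helper1.Cores
import Cfsg.Agent.Lib.Helper1.Fitting
import Cfsg.Agent.Lib.Helper1.ThompsonNPC
import Cfsg.Agent.Lib.Helper1.FpfSylow
import Cfsg.Agent.Lib.Helper10.PStableOdd

/-!
# Helper23: an abelian quotient for soluble groups of odd order in which `p`-elements and
`p'`-elements never commute

`exists_normal_abelian_quotient`: `M` finite solvable of odd order, `O_p(M) ≠ 1`, no nontrivial
`p`-element commutes with a nontrivial `p'`-element, and a Sylow `p`-subgroup `P` is not normal.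
Then `M` has a normal subgroup `K ≥ M'` with `P ≰ K`.

`isNormalizerPStable_of_odd`: groups of odd order are `p`-stable in the normalizer form.
-/

set_option autoImplicit false

namespace Cfsg.Agent.Lib.Helper23.CNOdd

open Cfsg
open scoped commutatorElement

section LemmaK

universe u

variable {M : Type u} [Group M] [Finite M]

/-- the Fitting subgroup of a nontrivial finite solvable group is nontrivial -/
theorem fittingSubgroup_ne_bot' [Group.IsSolvable M] [Nontrivial M] : fittingSubgroup M ≠ ⊥ := by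
  intro h
  have h1 := Cfsg.Agent.Lib.Helper1.centralizer_fittingSubgroup_le (G := M)
  rw [h] at h1
  have h2 : Subgroup.centralizer ((⊥ : Subgroup M) : Set M) = ⊤ := by
    rw [Subgroup.centralizer_eq_top_iff_subset]
    intro x hx
    rw [SetLike.mem_coe, Subgroup.mem_bot] at hx
    rw [hx]; exact Subgroup.one_mem _
  rw [h2] at h1
  exact bot_ne_top (le_antisymm bot_le h1)

/-- automorphisms of a cyclic group commute -/
theorem mulAut_comm_of_isCyclic {A : Type*} [Group A] [IsCyclic A] (a b : MulAut A) :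
    a * b = b * a := by
  apply (IsCyclic.mulAutMulEquiv A).injective
  rw [map_mul, map_mul, mul_comm]

theorem exists_normal_abelian_quotient [Group.IsSolvable M] (hodd : Odd (Nat.card M))
    (p : ℕ) [Fact p.Prime]
    (hH : ∀ x y : M, x ≠ 1 → y ≠ 1 → (∃ k : ℕ, x ^ p ^ k = 1) → (orderOf y).Coprime p →
      x * y ≠ y * x)
    (hR : pCore p M ≠ ⊥) (P : Sylow p M) (hP : ¬ (P : Subgroup M).Normal) :
    ∃ K : Subgroup M, K.Normal ∧ commutator M ≤ K ∧ ¬ (P : Subgroup M) ≤ K := by
  classical
  have hp : p.Prime := Fact.out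
  obtain ⟨R, hRdef⟩ : ∃ R : Subgroup M, R = pCore p M := ⟨_, rfl⟩
  have hRn : R.Normal := by rw [hRdef]; exact Cfsg.Agent.Lib.Helper1.pCore_normal p
  have hRp : IsPGroup p R := by rw [hRdef]; exact Cfsg.Agent.Lib.Helper1.pCore_isPGroup p
  have hR1 : R ≠ ⊥ := by rw [hRdef]; exact hR
  have hRP : R ≤ P := by rw [hRdef]; exact Cfsg.Agent.Lib.Helper1.pCore_le_sylow P
  obtain ⟨kR, hkR⟩ := IsPGroup.iff_card.mp hRp
  -- (i) the p'-core is trivial
  have hY : pPrimeCore p M = ⊥ := by
    rw [eq_bot_iff]
    intro y hy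
    rw [Subgroup.mem_bot]
    by_contra hy1
    obtain ⟨⟨x, hxR⟩, hx1⟩ := (Subgroup.ne_bot_iff_exists_ne_one).1 hR1
    have hx1' : x ≠ 1 := fun h => hx1 (Subtype.ext h)
    have hYn : (pPrimeCore p M).Normal := Cfsg.Agent.Lib.Helper1.pPrimeCore_normal p
    have hYc : (Nat.card (pPrimeCore p M)).Coprime p :=
      Cfsg.Agent.Lib.Helper1.pPrimeCore_coprime p
    have hdis : Disjoint R (pPrimeCore p M) := by
      apply Subgroup.disjoint_of_coprime_natCard
      rw [hkR]
      exact Nat.Coprime.pow_left kR hYc.symm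
    have hcomm := Subgroup.commute_of_normal_of_disjoint _ _ hRn hYn hdis x y hxR hy
    have hxp : ∃ k : ℕ, x ^ p ^ k = 1 := by
      obtain ⟨k, hk⟩ := hRp ⟨x, hxR⟩
      exact ⟨k, by simpa using congrArg Subtype.val hk⟩
    have hyc : (orderOf y).Coprime p :=
      Nat.Coprime.coprime_dvd_left (Subgroup.orderOf_dvd_natCard _ hy) hYc
    exact hH x y hx1' hy1 hxp hyc hcomm.eq
  -- (ii)
  have hCR : Subgroup.centralizer (R : Set M) ≤ R := by
    rw [hRdef]; exact Cfsg.Agent.Lib.Helper1.centralizer_pCore_le p hY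
  -- R is proper
  have hRtop : R ≠ ⊤ := by
    intro h
    apply hP
    have : (P : Subgroup M) = ⊤ := top_le_iff.mp (h ▸ hRP)
    rw [this]; infer_instance
  subst hRdef
  -- (iii) the quotient
  have hQp : pCore p (M ⧸ pCore p M) = ⊥ :=
    Cfsg.Agent.Lib.Helper1.ThompsonNPC.pCore_quotient_pCore_eq_bot
  have hQnt : Nontrivial (M ⧸ pCore p M) := by
    rw [QuotientGroup.nontrivial_iff]
    exact hRtop
  obtain ⟨Ab, hAbdef⟩ : ∃ Ab : Subgroup (M ⧸ pCore p M), Ab = fittingSubgroup (M ⧸ pCore p M) :=
    ⟨_, rfl⟩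
  have hAb1 : Ab ≠ ⊥ := by rw [hAbdef]; exact fittingSubgroup_ne_bot'
  have hAbn : Ab.Normal := by rw [hAbdef]; exact Cfsg.Agent.Lib.Helper1.fittingSubgroup_normal
  have hAbnil : Group.IsNilpotent Ab := by
    rw [hAbdef]; exact Cfsg.Agent.Lib.Helper1.fittingSubgroup_isNilpotent
  have hAbC : Subgroup.centralizer (Ab : Set (M ⧸ pCore p M)) ≤ Ab := by
    rw [hAbdef]; exact Cfsg.Agent.Lib.Helper1.centralizer_fittingSubgroup_le
  -- order of Ab coprime to p
  have hAble : Ab ≤ pPrimeCore p (M ⧸ pCore p M) := by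
    rw [hAbdef, Cfsg.Agent.Lib.Helper1.fittingSubgroup_eq_iSup_primes]
    refine iSup_le fun q => ?_
    by_cases hq : (q : ℕ) = p
    · rw [hq, hQp]; exact bot_le
    · apply Cfsg.Agent.Lib.Helper1.le_pPrimeCore (Cfsg.Agent.Lib.Helper1.pCore_normal _)
      have : Fact (q : ℕ).Prime := ⟨q.2⟩
      obtain ⟨k, hk⟩ := IsPGroup.iff_card.mp
        (Cfsg.Agent.Lib.Helper1.pCore_isPGroup (G := M ⧸ pCore p M) (q : ℕ))
      rw [hk]
      exact Nat.Coprime.pow_left k ((Nat.coprime_primes q.2 hp).2 hq)
  have hAbcop : (Nat.card Ab).Coprime p :=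
    Nat.Coprime.coprime_dvd_left (Subgroup.card_dvd_of_le hAble)
      (Cfsg.Agent.Lib.Helper1.pPrimeCore_coprime p)
  -- (iv) the preimage
  obtain ⟨L, hLdef⟩ : ∃ L : Subgroup M, L = Ab.comap (QuotientGroup.mk' (pCore p M)) := ⟨_, rfl⟩
  have hLn : L.Normal := by rw [hLdef]; exact hAbn.comap _
  have hRL : pCore p M ≤ L := by
    intro x hx
    rw [hLdef, Subgroup.mem_comap]
    have : (QuotientGroup.mk' (pCore p M)) x = 1 := (QuotientGroup.eq_one_iff x).2 hx
    rw [this]; exact Subgroup.one_mem _
  have hLcard : Nat.card L = Nat.card Ab * Nat.card (pCore p M) := by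
    have h1 : Nat.card L * L.index = Nat.card M := Subgroup.card_mul_index L
    have h2 : L.index = Ab.index := by
      rw [hLdef]; exact Subgroup.index_comap_of_surjective _ (QuotientGroup.mk'_surjective _)
    have h3 : Nat.card Ab * Ab.index = Nat.card (M ⧸ pCore p M) := Subgroup.card_mul_index Ab
    have h4 : Nat.card M = Nat.card (M ⧸ pCore p M) * Nat.card (pCore p M) :=
      Subgroup.card_eq_card_quotient_mul_card_subgroup _
    have h5 : Ab.index ≠ 0 := Subgroup.index_ne_zero_of_finite
    have h6 : Nat.card L * Ab.index = Nat.card Ab * Nat.card (pCore p M) * Ab.index := by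
      calc Nat.card L * Ab.index = Nat.card L * L.index := by rw [h2]
        _ = Nat.card M := h1
        _ = Nat.card (M ⧸ pCore p M) * Nat.card (pCore p M) := h4
        _ = Nat.card Ab * Ab.index * Nat.card (pCore p M) := by rw [h3]
        _ = Nat.card Ab * Nat.card (pCore p M) * Ab.index := by ring
    exact Nat.eq_of_mul_eq_mul_right (Nat.pos_of_ne_zero h5) h6
  -- ¬ P ≤ L
  have hPL : ¬ (P : Subgroup M) ≤ L := by
    intro hle
    apply hP
    have hPR : (P : Subgroup M) ≤ pCore p M := by
      intro x hx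
      have hxL := hle hx
      rw [hLdef, Subgroup.mem_comap] at hxL
      rw [← QuotientGroup.eq_one_iff (N := pCore p M) x]
      have ho1 : orderOf ((QuotientGroup.mk' (pCore p M)) x) ∣ Nat.card Ab := by
        have := Subgroup.orderOf_dvd_natCard Ab hxL
        exact this
      have ho2 : orderOf ((QuotientGroup.mk' (pCore p M)) x) ∣ orderOf x :=
        orderOf_map_dvd _ x
      obtain ⟨k, hk⟩ := P.isPGroup' ⟨x, hx⟩
      have hxk : x ^ p ^ k = 1 := by simpa using congrArg Subtype.val hk
      have ho3 : orderOf x ∣ p ^ k := orderOf_dvd_of_pow_eq_one hxk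
      have ho4 : orderOf ((QuotientGroup.mk' (pCore p M)) x) = 1 := by
        have hc : (Nat.card Ab).Coprime (p ^ k) := Nat.Coprime.pow_right k hAbcop
        exact Nat.eq_one_of_dvd_coprimes hc ho1 (ho2.trans ho3)
      exact orderOf_eq_one_iff.mp ho4
    have : (P : Subgroup M) = pCore p M := le_antisymm hPR hRP
    rw [this]; exact Cfsg.Agent.Lib.Helper1.pCore_normal p
  -- (v) Ab is cyclic
  have hAbcyc : IsCyclic Ab := by
    -- Schur–Zassenhaus in L
    haveI : ((pCore p M).subgroupOf L).Normal := Subgroup.normal_subgroupOf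
    have hNcard : Nat.card ((pCore p M).subgroupOf L) = Nat.card (pCore p M) :=
      Nat.card_congr (Subgroup.subgroupOfEquivOfLe hRL).toEquiv
    have hNidx : ((pCore p M).subgroupOf L).index = Nat.card Ab := by
      have h1 := Subgroup.card_mul_index ((pCore p M).subgroupOf L)
      rw [hNcard, hLcard] at h1
      have h0 : 0 < Nat.card (pCore p M) := Nat.card_pos
      have : Nat.card (pCore p M) * ((pCore p M).subgroupOf L).index =
          Nat.card (pCore p M) * Nat.card Ab := by rw [h1]; ring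
      exact Nat.eq_of_mul_eq_mul_left h0 this
    have hcop : (Nat.card ((pCore p M).subgroupOf L)).Coprime ((pCore p M).subgroupOf L).index := by
      rw [hNcard, hNidx, hkR]
      exact Nat.Coprime.pow_left kR hAbcop.symm
    obtain ⟨A', hA'⟩ := Subgroup.exists_right_complement'_of_coprime hcop
    have hA'card : Nat.card A' = Nat.card Ab := by
      have h1 := hA'.card_mul_card
      have h2 := Subgroup.card_mul_index ((pCore p M).subgroupOf L)
      rw [hNidx] at h2
      have h0 : 0 < Nat.card ((pCore p M).subgroupOf L) := Nat.card_pos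
      exact Nat.eq_of_mul_eq_mul_left h0 (h1.trans h2.symm)
    -- the image of A' in M
    obtain ⟨A, hAdef⟩ : ∃ A : Subgroup M, A = A'.map L.subtype := ⟨_, rfl⟩
    have hAL : A ≤ L := by rw [hAdef]; exact Subgroup.map_subtype_le _
    have hAcard : Nat.card A = Nat.card Ab := by
      rw [hAdef, Subgroup.card_map_of_injective (Subgroup.subtype_injective L), hA'card]
    have hAcop : (Nat.card A).Coprime p := by rw [hAcard]; exact hAbcop
    have hAR : A ⊓ pCore p M = ⊥ := by
      apply disjoint_iff.mp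
      apply Subgroup.disjoint_of_coprime_natCard
      rw [hkR]; exact Nat.Coprime.pow_right kR hAcop
    -- fpf action
    have hfpf : ∀ h ∈ A, h ≠ 1 → pCore p M ⊓ Subgroup.centralizer {h} = ⊥ := by
      intro h hh hh1
      rw [eq_bot_iff]
      intro x hx
      rw [Subgroup.mem_bot]
      by_contra hx1
      obtain ⟨hxR, hxc⟩ := Subgroup.mem_inf.1 hx
      rw [Subgroup.mem_centralizer_singleton_iff] at hxc
      have hxp : ∃ k : ℕ, x ^ p ^ k = 1 := by
        obtain ⟨k, hk⟩ := hRp ⟨x, hxR⟩
        exact ⟨k, by simpa using congrArg Subtype.val hk⟩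
      have hhc : (orderOf h).Coprime p :=
        Nat.Coprime.coprime_dvd_left (Subgroup.orderOf_dvd_natCard _ hh) hAcop
      exact hH x h hx1 hh1 hxp hhc hxc
    have hZ : IsZGroup A := by
      refine ⟨fun q hq S => ?_⟩
      have : Fact q.Prime := ⟨hq⟩
      rcases Cfsg.Agent.Lib.Helper1.sylow_isCyclic_or_quaternion_of_fpf (pCore p M) A hR hfpf q S
        with h | ⟨n, ⟨e⟩⟩
      · exact h
      · exfalso
        have h1 : Nat.card S = 4 * 2 ^ n := by
          rw [Nat.card_congr e.toEquiv, Nat.card_eq_fintype_card, QuaternionGroup.card]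
        have h2 : Nat.card S ∣ Nat.card M :=
          (Subgroup.card_subgroup_dvd_card _).trans (Subgroup.card_subgroup_dvd_card A)
        have h3 : 2 ∣ Nat.card M := by
          refine Dvd.dvd.trans ?_ h2
          rw [h1]; exact ⟨2 * 2 ^ n, by ring⟩
        rcases hodd with ⟨m, hm⟩
        omega
    -- the surjection A → Ab
    let f : A →* Ab :=
      ((QuotientGroup.mk' (pCore p M)).comp A.subtype).codRestrict Ab (by
        intro a
        have := hAL a.2
        rw [hLdef, Subgroup.mem_comap] at this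
        exact this)
    have hfinj : Function.Injective f := by
      rw [injective_iff_map_eq_one]
      intro a ha
      have h1 : (QuotientGroup.mk' (pCore p M)) (a : M) = 1 := congrArg Subtype.val ha
      have h2 : (a : M) ∈ pCore p M := (QuotientGroup.eq_one_iff (a : M)).1 h1
      have h3 : (a : M) ∈ A ⊓ pCore p M := Subgroup.mem_inf.2 ⟨a.2, h2⟩
      rw [hAR, Subgroup.mem_bot] at h3
      exact Subtype.ext h3
    have hfsurj : Function.Surjective f := by
      have hbij : Function.Bijective f := by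
        rw [Nat.bijective_iff_injective_and_card]
        exact ⟨hfinj, hAcard⟩
      exact hbij.2
    have hZAb : IsZGroup Ab := IsZGroup.of_surjective hfsurj
    infer_instance
  -- (vi) the commutator subgroup of the quotient lies in Ab
  have hcomQ : ∀ x y : M ⧸ pCore p M, ⁅x, y⁆ ∈ Ab := by
    intro x y
    apply hAbC
    rw [Subgroup.mem_centralizer_iff]
    intro a ha
    have h1 : (MulAut.conjNormal (H := Ab) ⁅x, y⁆) = 1 := by
      rw [commutatorElement_def, map_mul, map_mul, map_mul, map_inv, map_inv]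
      rw [mulAut_comm_of_isCyclic (MulAut.conjNormal (H := Ab) x) (MulAut.conjNormal (H := Ab) y)]
      group
    have h2 := congrArg (fun φ : MulAut Ab => ((φ ⟨a, ha⟩ : Ab) : M ⧸ pCore p M)) h1
    simp only [MulAut.conjNormal_apply, MulAut.one_apply] at h2
    calc a * ⁅x, y⁆ = (⁅x, y⁆ * a * ⁅x, y⁆⁻¹) * ⁅x, y⁆ := by rw [h2]
      _ = ⁅x, y⁆ * a := by group
  refine ⟨L, hLn, ?_, hPL⟩
  rw [commutator_def, Subgroup.commutator_le]
  intro x _ y _
  rw [hLdef, Subgroup.mem_comap, map_commutatorElement]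
  exact hcomQ _ _

end LemmaK

section PStable

/-- groups of odd order are `p`-stable in the normalizer form, for every odd prime `p` -/
theorem isNormalizerPStable_of_odd {G : Type*} [Group G] [Finite G] (hodd : Odd (Nat.card G))
    (p : ℕ) [Fact p.Prime] (hp2 : p ≠ 2) : IsNormalizerPStable p G := by
  intro P hP g hg hq
  refine Cfsg.Agent.Lib.Helper10.quadratic_image_mem_pCore hodd hp2 P hP ⟨g, hg⟩ ?_
  intro z hz
  have h1 : ⁅⁅z, g⁆, g⁆ ∈ ⁅⁅P, Subgroup.zpowers g⁆, Subgroup.zpowers g⁆ :=
    Subgroup.commutator_mem_commutator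
      (Subgroup.commutator_mem_commutator hz (Subgroup.mem_zpowers g)) (Subgroup.mem_zpowers g)
  rw [hq] at h1
  exact Subgroup.mem_bot.1 h1

end PStable

end Cfsg.Agent.Lib.Helper23.CNOdd
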