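import Mathlib
import Cfsg.Prelude
import Cfsg.Agent.Lib.Helper23.CNOddK
import Cfsg.Agent.Lib.Helper17.SylowLemmas
import Cfsg.Agent.Lib.Lead.BGTransHyp
import Cfsg.Agent.Lib.Helper10.CNFrob
import Cfsg.Agent.H5.GTMain
import Cfsg.Agent.S3080
import Cfsg.Agent.S1477

/-!
# Helper23: maximal nilpotent subgroups of a minimal simple CN-group of odd order are TI

`sylow_inf_eq_bot_of_noncommuting`: in a simple group of odd order all of whose proper subgroups are
solvable, if no nontrivial `p`-element commutes with a nontrivial `p'`-element then distinct Sylow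
`p`-subgroups meet trivially.

`maxNilpotent_TI`: in a minimal simple CN-group of odd order, a maximal nilpotent subgroup meets
its distinct conjugates trivially.
-/

set_option autoImplicit false

namespace Cfsg.Agent.Lib.Helper23.CNOdd

open Cfsg
open scoped commutatorElement

universe u

/-- a simple group that is not commutative is perfect -/
theorem commutator_eq_top_of_simple {G : Type*} [Group G] [IsSimpleGroup G]
    (hnc : ¬ IsMulCommutative G) : commutator G = ⊤ := by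
  rcases (inferInstance : (commutator G).Normal).eq_bot_or_eq_top with h | h
  · exfalso
    apply hnc
    refine ⟨⟨fun a b => ?_⟩⟩
    have h1 : ⁅a, b⁆ ∈ commutator G := by
      rw [commutator_def]
      exact Subgroup.commutator_mem_commutator (Subgroup.mem_top a) (Subgroup.mem_top b)
    rw [h, Subgroup.mem_bot, commutatorElement_eq_one_iff_mul_comm] at h1
    exact h1
  · exact h

/-- a `p`-subgroup normalized by `N_G(D)` lies in `P`, if `D < P` has the largest order among the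
intersections of `P` with the other Sylow `p`-subgroups -/
theorem le_sylow_of_max_inter {G : Type*} [Group G] [Finite G] {p : ℕ} [Fact p.Prime]
    (D : Subgroup G) (P : Sylow p G) (hDP : D < (P : Subgroup G))
    (hmax : ∀ R : Sylow p G, R ≠ P →
      Nat.card ((R : Subgroup G) ⊓ (P : Subgroup G) : Subgroup G) ≤ Nat.card D)
    (X : Subgroup G) (hX : IsPGroup p X)
    (hXn : Subgroup.normalizer (D : Set G) ≤ Subgroup.normalizer (X : Set G)) :
    X ≤ P := by
  obtain ⟨n, hnP, hnN, hnD⟩ := Cfsg.Agent.Lib.Helper17.pgroup_normalizer_gt P.isPGroup' hDP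
  have hNPp : IsPGroup p ((P : Subgroup G) ⊓ Subgroup.normalizer (D : Set G) : Subgroup G) :=
    P.isPGroup'.to_le inf_le_left
  have hNPn : (P : Subgroup G) ⊓ Subgroup.normalizer (D : Set G) ≤
      Subgroup.normalizer (X : Set G) := inf_le_right.trans hXn
  have hsup : IsPGroup p
      (((P : Subgroup G) ⊓ Subgroup.normalizer (D : Set G)) ⊔ X : Subgroup G) :=
    IsPGroup.to_sup_of_normal_right' hNPp hX hNPn
  obtain ⟨R, hR⟩ := hsup.exists_le_sylow
  have hRP : R = P := by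
    by_contra hne
    have h1 := hmax R hne
    have h2 : D ≤ (R : Subgroup G) ⊓ P := by
      refine le_inf ?_ hDP.le
      exact (le_inf hDP.le Subgroup.le_normalizer).trans (le_sup_left.trans hR)
    have h3 : n ∈ (R : Subgroup G) ⊓ P :=
      Subgroup.mem_inf.2 ⟨hR (Subgroup.mem_sup_left (Subgroup.mem_inf.2 ⟨hnP, hnN⟩)), hnP⟩
    have h4 : D = (R : Subgroup G) ⊓ P := Subgroup.eq_of_le_of_card_ge h2 h1
    exact hnD (h4 ▸ h3)
  rw [← hRP]
  exact le_sup_right.trans hR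

/-- in a CN-group, if a Sylow `p`-subgroup is maximal among the nilpotent subgroups then no
nontrivial `p`-element commutes with a nontrivial `p'`-element -/
theorem noncommuting_of_maxNilpotent_sylow {G : Type*} [Group G] [Finite G] (hCN : IsCNGroup G)
    (p : ℕ) [Fact p.Prime] (P : Sylow p G) (hP1 : (P : Subgroup G) ≠ ⊥)
    (hmax : ∀ L : Subgroup G, Group.IsNilpotent L → (P : Subgroup G) ≤ L → L = P) :
    ∀ x y : G, x ≠ 1 → y ≠ 1 → (∃ k : ℕ, x ^ p ^ k = 1) → (orderOf y).Coprime p →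
      x * y ≠ y * x := by
  intro x y hx1 hy1 ⟨k, hxk⟩ hyc hxy
  have hp : p.Prime := Fact.out
  haveI : Nontrivial (P : Subgroup G) := (Subgroup.nontrivial_iff_ne_bot _).2 hP1
  haveI : Nontrivial (Subgroup.center (P : Subgroup G)) := P.isPGroup'.center_nontrivial
  obtain ⟨⟨⟨z, hzP⟩, hzc⟩, hz1⟩ := exists_ne (1 : Subgroup.center (P : Subgroup G))
  have hz1' : z ≠ 1 := fun h => hz1 (Subtype.ext (Subtype.ext h))
  have hzcomm : ∀ w ∈ (P : Subgroup G), z * w = w * z := by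
    intro w hw
    have h1 := Subgroup.mem_center_iff.mp hzc ⟨w, hw⟩
    exact (congrArg Subtype.val h1).symm
  have hCz : Subgroup.centralizer ({z} : Set G) = P := by
    apply hmax _ (hCN _ hz1')
    intro w hw
    rw [Subgroup.mem_centralizer_singleton_iff]
    exact (hzcomm w hw).symm
  -- conjugate `x` into `P`
  have hxp : IsPGroup p (Subgroup.zpowers x) := by
    obtain ⟨j, -, hj⟩ := (Nat.dvd_prime_pow hp).1 (orderOf_dvd_of_pow_eq_one hxk)
    exact IsPGroup.of_card (by rw [Nat.card_zpowers, hj])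
  obtain ⟨R, hR⟩ := hxp.exists_le_sylow
  obtain ⟨g, hg⟩ := MulAction.exists_smul_eq G R P
  have hgx : g * x * g⁻¹ ∈ (P : Subgroup G) := by
    have h1 : ((g • R : Sylow p G) : Subgroup G) =
        (R : Subgroup G).map (MulAut.conj g).toMonoidHom := rfl
    rw [← hg, h1]
    exact Subgroup.mem_map.2 ⟨x, hR (Subgroup.mem_zpowers x), rfl⟩
  have hx'1 : g * x * g⁻¹ ≠ 1 := by
    intro h
    apply hx1
    have : x = g⁻¹ * (g * x * g⁻¹) * g := by group
    rw [this, h]; group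
  have hy'1 : g * y * g⁻¹ ≠ 1 := by
    intro h
    apply hy1
    have : y = g⁻¹ * (g * y * g⁻¹) * g := by group
    rw [this, h]; group
  have hy'o : orderOf (g * y * g⁻¹) = orderOf y := (MulAut.conj g).orderOf_eq y
  have hzx : z ∈ Subgroup.centralizer ({g * x * g⁻¹} : Set G) := by
    rw [Subgroup.mem_centralizer_singleton_iff]
    exact hzcomm _ hgx
  have hyx : g * y * g⁻¹ ∈ Subgroup.centralizer ({g * x * g⁻¹} : Set G) := by
    rw [Subgroup.mem_centralizer_singleton_iff]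
    calc g * y * g⁻¹ * (g * x * g⁻¹) = g * (y * x) * g⁻¹ := by group
      _ = g * (x * y) * g⁻¹ := by rw [hxy]
      _ = g * x * g⁻¹ * (g * y * g⁻¹) := by group
  obtain ⟨kz, hkz⟩ := P.isPGroup' ⟨z, hzP⟩
  have hzk : z ^ p ^ kz = 1 := by simpa using congrArg Subtype.val hkz
  have hcop : (orderOf z).Coprime (orderOf (g * y * g⁻¹)) := by
    rw [hy'o]
    exact Nat.Coprime.coprime_dvd_left (orderOf_dvd_of_pow_eq_one hzk)
      (Nat.Coprime.pow_left kz hyc.symm)
  have hzy := Cfsg.Agent.Lib.Helper10.commute_of_mem_of_isNilpotent (hCN _ hx'1) hzx hyx hcop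
  have hyP : g * y * g⁻¹ ∈ (P : Subgroup G) := by
    rw [← hCz, Subgroup.mem_centralizer_singleton_iff]
    exact hzy.symm
  obtain ⟨ky, hky⟩ := P.isPGroup' ⟨g * y * g⁻¹, hyP⟩
  have hyk : (g * y * g⁻¹) ^ p ^ ky = 1 := by simpa using congrArg Subtype.val hky
  have ho1 : orderOf (g * y * g⁻¹) ∣ p ^ ky := orderOf_dvd_of_pow_eq_one hyk
  have ho2 : orderOf (g * y * g⁻¹) = 1 := by
    have hc : (orderOf (g * y * g⁻¹)).Coprime (p ^ ky) := by
      rw [hy'o]; exact Nat.Coprime.pow_right ky hyc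
    exact Nat.eq_one_of_dvd_coprimes hc dvd_rfl ho1
  exact hy'1 (orderOf_eq_one_iff.mp ho2)

section TI

variable {G : Type u} [Group G] [Finite G]

theorem sylow_inf_eq_bot_core [IsSimpleGroup G]
    (hodd : Odd (Nat.card G)) (hperf : commutator G = ⊤)
    (hsolv : ∀ H : Subgroup G, H ≠ ⊤ → Group.IsSolvable H)
    (p : ℕ) [Fact p.Prime]
    (hH : ∀ x y : G, x ≠ 1 → y ≠ 1 → (∃ k : ℕ, x ^ p ^ k = 1) → (orderOf y).Coprime p →
      x * y ≠ y * x)
    (P Q : Sylow p G) (hPQ : P ≠ Q) (hD1 : (P : Subgroup G) ⊓ Q ≠ ⊥)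
    (hmax : ∀ R₁ R₂ : Sylow p G, R₁ ≠ R₂ →
      Nat.card ((R₁ : Subgroup G) ⊓ (R₂ : Subgroup G) : Subgroup G) ≤
        Nat.card ((P : Subgroup G) ⊓ (Q : Subgroup G) : Subgroup G)) :
    False := by
  classical
  have hp : p.Prime := Fact.out
  obtain ⟨D, hDdef⟩ : ∃ D : Subgroup G, D = (P : Subgroup G) ⊓ Q := ⟨_, rfl⟩
  rw [← hDdef] at hD1 hmax
  have hDP : D ≤ P := hDdef ▸ inf_le_left
  have hDQ : D ≤ Q := hDdef ▸ inf_le_right
  -- p ≠ 2
  have hp2 : p ≠ 2 := by
    rintro rfl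
    apply hD1
    rw [eq_bot_iff]
    intro d hd
    obtain ⟨k, hk⟩ := P.isPGroup' ⟨d, hDP hd⟩
    have hdk : d ^ 2 ^ k = 1 := by simpa using congrArg Subtype.val hk
    have h1 : orderOf d ∣ 2 ^ k := orderOf_dvd_of_pow_eq_one hdk
    have h3 : Odd (orderOf d) := Odd.of_dvd_nat hodd (orderOf_dvd_natCard d)
    have h4 : orderOf d = 1 := by
      have hc : (orderOf d).Coprime (2 ^ k) := Nat.Coprime.pow_right k h3.coprime_two_right
      exact Nat.eq_one_of_dvd_coprimes hc dvd_rfl h1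
    rw [Subgroup.mem_bot]; exact orderOf_eq_one_iff.1 h4
  have hPtop : (P : Subgroup G) ≠ ⊤ := by
    intro h
    apply hPQ
    have hle : (Q : Subgroup G) ≤ P := h ▸ le_top
    exact Sylow.ext (Q.is_maximal' P.isPGroup' hle)
  have hNproper : ∀ U : Subgroup G, U ≤ P → U ≠ ⊥ → Subgroup.normalizer (U : Set G) ≠ ⊤ := by
    intro U hUP hU1 htop
    have hUn : U.Normal := Subgroup.normalizer_eq_top_iff.1 htop
    rcases hUn.eq_bot_or_eq_top with h | h
    · exact hU1 h
    · exact hPtop (top_le_iff.1 (h ▸ hUP))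
  have hst : IsNormalizerPStable p G := isNormalizerPStable_of_odd hodd p hp2
  have hc : ∀ U : Subgroup G, U ≤ (P : Subgroup G) → U ≠ ⊥ →
      IsPConstrained p ↥(Subgroup.normalizer (U : Set G)) := fun U hUP hU1 =>
    Cfsg.Agent.Lib.Lead.BGTransHyp.isPConstrained_of_isSolvable p (hsolv _ (hNproper U hUP hU1))
  have hfus := (Cfsg.Agent.S3080.result hp2 P (P : Subgroup G)
    ⟨le_refl _, fun x _ g hg => hg⟩ hst hc).1
  obtain ⟨W, hWdef⟩ : ∃ W : Subgroup G, W = centerThompsonAOf (P : Subgroup G) := ⟨_, rfl⟩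
  rw [← hWdef] at hfus
  have hWZ : W = Cfsg.H5.ZJ.Z 0 (P : Subgroup G) := by
    rw [hWdef, Cfsg.H5.ZJ.centerThompsonAOf_eq]
  have hP1 : (P : Subgroup G) ≠ ⊥ := fun h => hD1 (eq_bot_iff.2 (h ▸ hDP))
  have hW1 : W ≠ ⊥ := by
    rw [hWZ]; exact Cfsg.H5.GT.Z_ne_bot (dvd_zero p) P.isPGroup' hP1
  have hWP : W ≤ P := by rw [hWZ]; exact Cfsg.H5.ZJ.Z_le
  have hPM : (P : Subgroup G) ≤ Subgroup.normalizer (W : Set G) := by
    rw [hWZ]; exact Subgroup.le_normalizer.trans (Cfsg.H5.ZJ.normalizer_le_normalizer_Z _)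
  have hMtop : Subgroup.normalizer (W : Set G) ≠ ⊤ := hNproper W hWP hW1
  -- `C(D) ≤ D`
  have hDltP : D < P := lt_of_le_of_ne hDP (fun h => hPQ (by
    have hle : (P : Subgroup G) ≤ Q := h ▸ hDQ
    exact (Sylow.ext (P.is_maximal' Q.isPGroup' hle)).symm))
  have hDltQ : D < Q := lt_of_le_of_ne hDQ (fun h => hPQ (by
    have hle : (Q : Subgroup G) ≤ P := h ▸ hDP
    exact Sylow.ext (Q.is_maximal' P.isPGroup' hle)))
  have hCp : IsPGroup p (Subgroup.centralizer (D : Set G)) := by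
    obtain ⟨⟨d, hdD⟩, hd1⟩ := (Subgroup.ne_bot_iff_exists_ne_one).1 hD1
    have hd1' : d ≠ 1 := fun h => hd1 (Subtype.ext h)
    have hdp : ∃ k : ℕ, d ^ p ^ k = 1 := by
      obtain ⟨k, hk⟩ := P.isPGroup' ⟨d, hDP hdD⟩
      exact ⟨k, by simpa using congrArg Subtype.val hk⟩
    rintro ⟨c, hcC⟩
    obtain ⟨k, m, hm, hkm⟩ :=
      Nat.exists_eq_pow_mul_and_not_dvd (orderOf_pos c).ne' p hp.ne_one
    refine ⟨k, Subtype.ext ?_⟩
    show c ^ p ^ k = 1
    by_contra hy1
    have hyc : (orderOf (c ^ p ^ k)).Coprime p := by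
      have h1 : (c ^ p ^ k) ^ m = 1 := by rw [← pow_mul, ← hkm, pow_orderOf_eq_one]
      have h2 : orderOf (c ^ p ^ k) ∣ m := orderOf_dvd_of_pow_eq_one h1
      exact Nat.Coprime.coprime_dvd_left h2 ((Nat.Prime.coprime_iff_not_dvd hp).2 hm).symm
    have hcomm : d * c ^ p ^ k = c ^ p ^ k * d := by
      have h1 : c ^ p ^ k ∈ Subgroup.centralizer (D : Set G) := Subgroup.pow_mem _ hcC _
      exact Subgroup.mem_centralizer_iff.1 h1 d hdD
    exact hH d (c ^ p ^ k) hd1' hy1 hdp hyc hcomm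
  have hNC : Subgroup.normalizer (D : Set G) ≤
      Subgroup.normalizer ((Subgroup.centralizer (D : Set G) : Subgroup G) : Set G) :=
    Subgroup.le_normalizer_of_normal_subgroupOf (Subgroup.centralizer_le_normalizer _)
  have hCP : Subgroup.centralizer (D : Set G) ≤ P :=
    le_sylow_of_max_inter D P hDltP (fun R hR => hmax R P hR) _ hCp hNC
  have hCQ : Subgroup.centralizer (D : Set G) ≤ Q :=
    le_sylow_of_max_inter D Q hDltQ (fun R hR => hmax R Q hR) _ hCp hNC
  have hCD : Subgroup.centralizer (D : Set G) ≤ D := by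
    intro c hcC
    have h1 : c ∈ (P : Subgroup G) ⊓ Q := Subgroup.mem_inf.2 ⟨hCP hcC, hCQ hcC⟩
    rwa [← hDdef] at h1
  -- the conjugating element
  obtain ⟨g, hg⟩ := MulAction.exists_smul_eq G P Q
  have hQmap : (Q : Subgroup G) = (P : Subgroup G).map (MulAut.conj g).toMonoidHom := by
    rw [← hg]; rfl
  have hQmem : ∀ y : G, g * y * g⁻¹ ∈ (Q : Subgroup G) → y ∈ (P : Subgroup G) := by
    intro y hy
    rw [hQmap, Subgroup.mem_map] at hy
    obtain ⟨w, hw, hwy⟩ := hy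
    have h1 : g * w * g⁻¹ = g * y * g⁻¹ := hwy
    have h2 : w = y := mul_left_cancel (mul_right_cancel h1)
    exact h2 ▸ hw
  obtain ⟨A, hAdef⟩ : ∃ A : Set G, A = {a : G | g * a * g⁻¹ ∈ D} := ⟨_, rfl⟩
  have hAP : A ⊆ (P : Subgroup G) := by
    intro a ha
    rw [hAdef] at ha
    exact hQmem a (hDQ ha)
  have hAimg : (fun a => g * a * g⁻¹) '' A ⊆ (P : Subgroup G) := by
    rintro _ ⟨a, ha, rfl⟩
    rw [hAdef] at ha
    exact hDP ha
  obtain ⟨x, hxM, hxA⟩ := (hfus A hAP).2 g hAimg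
  have hcP : x⁻¹ * g ∈ (P : Subgroup G) := by
    apply hQmem
    apply hDQ
    apply hCD
    rw [Subgroup.mem_centralizer_iff]
    intro d hd
    have ha : g⁻¹ * d * g ∈ A := by
      rw [hAdef]
      show g * (g⁻¹ * d * g) * g⁻¹ ∈ D
      have h0 : g * (g⁻¹ * d * g) * g⁻¹ = d := by group
      rw [h0]; exact hd
    have h1 := hxA _ ha
    have h2 : d = x * (g⁻¹ * d * g) * x⁻¹ := by
      rw [← h1]; group
    have h3 : x⁻¹ * d * x = g⁻¹ * d * g := by
      calc x⁻¹ * d * x = x⁻¹ * (x * (g⁻¹ * d * g) * x⁻¹) * x := by rw [← h2]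
        _ = g⁻¹ * d * g := by group
    calc d * (g * (x⁻¹ * g) * g⁻¹) = g * (g⁻¹ * d * g) * x⁻¹ := by group
      _ = g * (x⁻¹ * d * x) * x⁻¹ := by rw [h3]
      _ = g * (x⁻¹ * g) * g⁻¹ * d := by group
  have hgM : g ∈ Subgroup.normalizer (W : Set G) := by
    have h0 : g = x * (x⁻¹ * g) := by group
    rw [h0]; exact Subgroup.mul_mem _ hxM (hPM hcP)
  -- the subgroup `M = N(W)`
  obtain ⟨M, hMdef⟩ : ∃ M : Subgroup G, M = Subgroup.normalizer (W : Set G) := ⟨_, rfl⟩
  rw [← hMdef] at hPM hMtop hgM hfus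
  haveI hMsolv : Group.IsSolvable M := hsolv M hMtop
  have hModd : Odd (Nat.card M) := Odd.of_dvd_nat hodd (Subgroup.card_subgroup_dvd_card M)
  have hHM : ∀ x y : M, x ≠ 1 → y ≠ 1 → (∃ k : ℕ, x ^ p ^ k = 1) → (orderOf y).Coprime p →
      x * y ≠ y * x := by
    intro x y hx hy ⟨k, hk⟩ hyc hxy
    refine hH (x : G) (y : G) (fun h => hx (Subtype.ext h)) (fun h => hy (Subtype.ext h))
      ⟨k, ?_⟩ ?_ ?_
    · simpa using congrArg Subtype.val hk
    · rw [Subgroup.orderOf_coe]; exact hyc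
    · simpa using congrArg Subtype.val hxy
  have hWM : W ≤ M := by rw [hMdef]; exact Subgroup.le_normalizer
  have hRM : pCore p M ≠ ⊥ := by
    have hWn : (W.subgroupOf M).Normal := by rw [hMdef]; exact Subgroup.normal_in_normalizer
    have hWp : IsPGroup p (W.subgroupOf M) := (P.isPGroup'.to_le hWP).comap_subtype
    have hle := Cfsg.Agent.Lib.Helper1.le_pCore hWn hWp
    intro h
    rw [h, le_bot_iff, Subgroup.subgroupOf_eq_bot] at hle
    exact hW1 (hle.eq_bot_of_le hWM)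
  obtain ⟨PM, hPMdef⟩ : ∃ PM : Sylow p M, PM = P.subtype hPM := ⟨_, rfl⟩
  have hPMcoe : (PM : Subgroup M) = (P : Subgroup G).subgroupOf M := by
    rw [hPMdef]; exact Sylow.coe_subtype _ _
  have hPMnn : ¬ (PM : Subgroup M).Normal := by
    intro hn
    apply hPQ
    have hQP : (Q : Subgroup G) ≤ P := by
      intro y hy
      rw [hQmap, Subgroup.mem_map] at hy
      obtain ⟨w, hw, rfl⟩ := hy
      have h1 : (⟨w, hPM hw⟩ : M) ∈ (PM : Subgroup M) := by
        rw [hPMcoe, Subgroup.mem_subgroupOf]; exact hw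
      have h2 := hn.conj_mem _ h1 ⟨g, hgM⟩
      rw [hPMcoe, Subgroup.mem_subgroupOf] at h2
      exact h2
    exact Sylow.ext (Q.is_maximal' P.isPGroup' hQP)
  obtain ⟨K, -, hKcomm, hKP⟩ := exists_normal_abelian_quotient hModd p hHM hRM PM hPMnn
  -- the focal subgroup
  have hfocal := Subgroup.commutator_inf_eq_focalSubgroup P
  rw [hperf, top_inf_eq] at hfocal
  have hle : (P : Subgroup G) ≤ K.map M.subtype := by
    refine hfocal.le.trans ?_
    rw [Subgroup.focalSubgroup_def, Subgroup.closure_le]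
    rintro z ⟨hzP, x₀, hx₀P, u, hzu⟩
    have h1 : u * x₀⁻¹ * u⁻¹ ∈ (P : Subgroup G) := by
      have h0 : u * x₀⁻¹ * u⁻¹ = x₀⁻¹ * z := by rw [hzu, commutatorElement_def]; group
      rw [h0]; exact Subgroup.mul_mem _ (Subgroup.inv_mem _ hx₀P) hzP
    obtain ⟨m, hmM, hm⟩ := (hfus {x₀⁻¹} (by
        intro a ha
        rw [Set.mem_singleton_iff] at ha
        rw [ha]; exact Subgroup.inv_mem _ hx₀P)).2 u (by
        rintro _ ⟨a, ha, rfl⟩
        rw [Set.mem_singleton_iff] at ha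
        rw [ha]; exact h1)
    have h2 := hm x₀⁻¹ (Set.mem_singleton _)
    have h3 : z = ⁅x₀, m⁆ := by
      rw [hzu, commutatorElement_def, commutatorElement_def]
      calc x₀ * u * x₀⁻¹ * u⁻¹ = x₀ * (u * x₀⁻¹ * u⁻¹) := by group
        _ = x₀ * (m * x₀⁻¹ * m⁻¹) := by rw [h2]
        _ = x₀ * m * x₀⁻¹ * m⁻¹ := by group
    rw [SetLike.mem_coe, Subgroup.mem_map]
    refine ⟨⁅(⟨x₀, hPM hx₀P⟩ : M), ⟨m, hmM⟩⁆, hKcomm ?_, ?_⟩
    · rw [commutator_def]
      exact Subgroup.commutator_mem_commutator (Subgroup.mem_top _) (Subgroup.mem_top _)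
    · rw [h3, map_commutatorElement]; rfl
  apply hKP
  intro y hy
  rw [hPMcoe, Subgroup.mem_subgroupOf] at hy
  obtain ⟨k, hkK, hky⟩ := Subgroup.mem_map.1 (hle hy)
  have h0 : k = y := Subtype.ext hky
  exact h0 ▸ hkK

/-- in a simple group of odd order whose proper subgroups are solvable, if no nontrivial
`p`-element commutes with a nontrivial `p'`-element, then distinct Sylow `p`-subgroups meet
trivially -/
theorem sylow_inf_eq_bot_of_noncommuting [IsSimpleGroup G]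
    (hodd : Odd (Nat.card G)) (hperf : commutator G = ⊤)
    (hsolv : ∀ H : Subgroup G, H ≠ ⊤ → Group.IsSolvable H)
    (p : ℕ) [Fact p.Prime]
    (hH : ∀ x y : G, x ≠ 1 → y ≠ 1 → (∃ k : ℕ, x ^ p ^ k = 1) → (orderOf y).Coprime p →
      x * y ≠ y * x)
    (P Q : Sylow p G) (hPQ : P ≠ Q) : (P : Subgroup G) ⊓ Q = ⊥ := by
  by_contra hne
  haveI : Nonempty {PQ : Sylow p G × Sylow p G // PQ.1 ≠ PQ.2} := ⟨⟨(P, Q), hPQ⟩⟩
  obtain ⟨⟨⟨P₀, Q₀⟩, hPQ₀⟩, hmax⟩ := Finite.exists_max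
    (fun PQ : {PQ : Sylow p G × Sylow p G // PQ.1 ≠ PQ.2} =>
      Nat.card ((PQ.1.1 : Subgroup G) ⊓ (PQ.1.2 : Subgroup G) : Subgroup G))
  have h0 : (P₀ : Subgroup G) ⊓ Q₀ ≠ ⊥ := by
    intro h
    have h1 := hmax ⟨(P, Q), hPQ⟩
    simp only at h1
    rw [h, Subgroup.card_bot] at h1
    exact hne ((Subgroup.card_le_one_iff_eq_bot _).1 h1)
  exact sylow_inf_eq_bot_core hodd hperf hsolv p hH P₀ Q₀ hPQ₀ h0
    (fun R₁ R₂ hR => hmax ⟨(R₁, R₂), hR⟩)

/-- **TI**: in a minimal simple CN-group of odd order, a maximal nilpotent subgroup meets its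
distinct conjugates trivially -/
theorem maxNilpotent_TI (hG : IsMinSimpleOddOrder G) (hCN : IsCNGroup G)
    (H : Subgroup G) (hHnil : Group.IsNilpotent H)
    (hmax : ∀ L : Subgroup G, Group.IsNilpotent L → H ≤ L → L = H) :
    ∀ g : G, H.map (MulAut.conj g).toMonoidHom ≠ H →
      H ⊓ H.map (MulAut.conj g).toMonoidHom = ⊥ := by
  obtain ⟨hodd, hsimp, hnc, hsolv⟩ := hG
  haveI := hsimp
  have hperf : commutator G = ⊤ := commutator_eq_top_of_simple hnc
  have h77 := Cfsg.Agent.S1477.result hCN H hHnil hmax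
  by_cases hpp : IsPrimePow (Nat.card H)
  · obtain ⟨p, k, hp, hk, hpk⟩ := hpp
    have hp' : p.Prime := Nat.prime_iff.2 hp
    haveI : Fact p.Prime := ⟨hp'⟩
    have hHp : IsPGroup p H := IsPGroup.of_card hpk.symm
    have hidx : ¬ p ∣ H.index := by
      have h1 := h77.1
      rw [← hpk] at h1
      intro hd
      exact hp'.one_lt.ne' (Nat.eq_one_of_dvd_coprimes h1 (dvd_pow_self p hk.ne') hd)
    obtain ⟨P, hPdef⟩ : ∃ P : Sylow p G, (P : Subgroup G) = H :=
      ⟨hHp.toSylow hidx, IsPGroup.toSylow_coe _ _⟩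
    intro g hg
    have hQ : ((g • P : Sylow p G) : Subgroup G) = H.map (MulAut.conj g).toMonoidHom := by
      rw [← hPdef]; rfl
    have hne : P ≠ g • P := by
      intro h
      apply hg
      rw [← hQ, ← h, hPdef]
    have hH1 : (P : Subgroup G) ≠ ⊥ := by
      rw [hPdef]
      intro h
      rw [h, Subgroup.card_bot] at hpk
      exact hp'.one_lt.ne' (Nat.eq_one_of_dvd_coprimes (Nat.coprime_one_left 1)
        (hpk ▸ dvd_pow_self p hk.ne') (hpk ▸ dvd_pow_self p hk.ne'))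
    have hHprop := noncommuting_of_maxNilpotent_sylow hCN p P hH1 (by rw [hPdef]; exact hmax)
    have h2 := sylow_inf_eq_bot_of_noncommuting hodd hperf hsolv p hHprop P (g • P) hne
    rw [hQ, hPdef] at h2
    exact h2
  · by_cases h1 : Nat.card H = 1
    · have h2 : H = ⊥ := Subgroup.card_eq_one.1 h1
      intro g _
      rw [h2]; exact bot_inf_eq _
    · exact h77.2.1 hpp h1

end TI

end Cfsg.Agent.Lib.Helper23.CNOdd
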