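import Mathlib
import Cfsg.Prelude
import Cfsg.Agent.Lib.Helper23.CNOddTI
import Cfsg.Agent.Lib.Helper21.Pronormal
import Cfsg.Agent.Lib.Helper13.Frobenius
import Cfsg.Agent.Lib.Helper1.Basic
import Cfsg.Agent.S1526
import Cfsg.Agent.S1473
import Cfsg.Agent.S1474

/-!
# Helper23: CN-groups of odd order are solvable (Feit–Hall–Thompson)

`false_of_minSimple_CN`: there is no minimal simple CN-group of odd order.
`isSolvable_of_odd_of_isCNGroup`: a CN-group of odd order is solvable.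
-/

set_option autoImplicit false

namespace Cfsg.Agent.Lib.Helper23.CNOdd

open Cfsg Cfsg.Agent.Lib.Helper21

universe u

/-- a group in which all elements commute is nilpotent -/
theorem isNilpotent_of_forall_comm {K : Type*} [hK : Group K] (h : ∀ a b : K, a * b = b * a) :
    Group.IsNilpotent K := by
  letI : CommGroup K := { hK with mul_comm := h }
  infer_instance

section

variable {G : Type u} [Group G] [Finite G]

/-- `H` is maximal among the nilpotent subgroups -/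
def IsMaxNil (H : Subgroup G) : Prop :=
  Group.IsNilpotent H ∧ ∀ L : Subgroup G, Group.IsNilpotent L → H ≤ L → L = H

theorem exists_isMaxNil_ge (K : Subgroup G) (hK : Group.IsNilpotent K) :
    ∃ H : Subgroup G, IsMaxNil H ∧ K ≤ H := by
  haveI : Nonempty {L : Subgroup G // Group.IsNilpotent L ∧ K ≤ L} := ⟨⟨K, hK, le_refl K⟩⟩
  obtain ⟨⟨H, hHnil, hKH⟩, hmax⟩ := Finite.exists_max
    (fun L : {L : Subgroup G // Group.IsNilpotent L ∧ K ≤ L} => Nat.card (L.1 : Subgroup G))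
  refine ⟨H, ⟨hHnil, fun L hL hHL => ?_⟩, hKH⟩
  have h1 := hmax ⟨L, hL, hKH.trans hHL⟩
  exact (Subgroup.eq_of_le_of_card_ge hHL h1).symm

theorem IsMaxNil.conj {H : Subgroup G} (hH : IsMaxNil H) (g : G) : IsMaxNil (cj g H) := by
  refine ⟨Cfsg.Agent.Lib.Helper10.isNilpotent_map _ H hH.1, fun L hL hle => ?_⟩
  have h1 : H ≤ cj g⁻¹ L := by
    have h0 := cj_mono (g := g⁻¹) hle
    rwa [cj_inv_cj] at h0
  have h2 := hH.2 (cj g⁻¹ L) (Cfsg.Agent.Lib.Helper10.isNilpotent_map _ L hL) h1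
  rw [← h2, cj_cj_inv]

theorem isNilpotent_zpowers (g : G) : Group.IsNilpotent (Subgroup.zpowers g) := by
  letI : CommGroup (Subgroup.zpowers g) := IsCyclic.commGroup
  infer_instance

theorem IsMaxNil.ne_bot [Nontrivial G] {H : Subgroup G} (hH : IsMaxNil H) : H ≠ ⊥ := by
  intro h
  obtain ⟨g, hg⟩ := exists_ne (1 : G)
  have h1 := hH.2 (Subgroup.zpowers g) (isNilpotent_zpowers g) (h ▸ bot_le)
  rw [h, Subgroup.zpowers_eq_bot] at h1
  exact hg h1

theorem IsMaxNil.ne_top (hG : IsMinSimpleOddOrder G) {H : Subgroup G} (hH : IsMaxNil H) :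
    H ≠ ⊤ := by
  obtain ⟨-, hsimp, hnc, -⟩ := hG
  haveI := hsimp
  intro h
  apply hnc
  have h1 : Group.IsNilpotent (⊤ : Subgroup G) := h ▸ hH.1
  have h2 : Group.IsNilpotent G :=
    Cfsg.Agent.Lib.Helper10.isNilpotent_of_injective_hom
      (Subgroup.topEquiv (G := G)).symm.toMonoidHom (Subgroup.topEquiv (G := G)).symm.injective h1
  have h3 : Group.IsSolvable G := inferInstance
  exact ⟨⟨IsSimpleGroup.comm_iff_isSolvable.2 h3⟩⟩

theorem IsMaxNil.coprime (hCN : IsCNGroup G) {H : Subgroup G} (hH : IsMaxNil H) :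
    (Nat.card H).Coprime H.index :=
  (Cfsg.Agent.S1477.result hCN H hH.1 hH.2).1

theorem IsMaxNil.inf_cj_eq_bot (hG : IsMinSimpleOddOrder G) (hCN : IsCNGroup G) {H : Subgroup G}
    (hH : IsMaxNil H) (g : G) (hne : cj g H ≠ H) : H ⊓ cj g H = ⊥ :=
  maxNilpotent_TI hG hCN H hH.1 hH.2 g hne

theorem IsMaxNil.centralizer_le (hG : IsMinSimpleOddOrder G) (hCN : IsCNGroup G) {H : Subgroup G}
    (hH : IsMaxNil H) {x : G} (hx : x ∈ H) (hx1 : x ≠ 1) :
    Subgroup.centralizer ({x} : Set G) ≤ H :=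
  (Cfsg.Agent.S1477.result hCN H hH.1 hH.2).2.2 (maxNilpotent_TI hG hCN H hH.1 hH.2) x hx hx1

theorem IsMaxNil.eq_of_inf_ne_bot (hG : IsMinSimpleOddOrder G) (hCN : IsCNGroup G)
    {H₁ H₂ : Subgroup G} (h1 : IsMaxNil H₁) (h2 : IsMaxNil H₂) (hne : H₁ ⊓ H₂ ≠ ⊥) :
    H₁ = H₂ := by
  obtain ⟨⟨x, hx⟩, hx1⟩ := (Subgroup.ne_bot_iff_exists_ne_one).1 hne
  have hx1' : x ≠ 1 := fun h => hx1 (Subtype.ext h)
  obtain ⟨hxH1, hxH2⟩ := Subgroup.mem_inf.1 hx
  have hC2 := h2.centralizer_le hG hCN hxH2 hx1'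
  haveI : Nontrivial H₁ := ⟨⟨⟨x, hxH1⟩, 1, fun h => hx1' (congrArg Subtype.val h)⟩⟩
  haveI := h1.1
  have hcen : Subgroup.center H₁ ≠ ⊥ := Group.IsNilpotent.center_ne_bot _
  obtain ⟨⟨⟨z, hzH1⟩, hzc⟩, hz1⟩ := (Subgroup.ne_bot_iff_exists_ne_one).1 hcen
  have hz1' : z ≠ 1 := fun h => hz1 (Subtype.ext (Subtype.ext h))
  have hzx : z ∈ Subgroup.centralizer ({x} : Set G) := by
    rw [Subgroup.mem_centralizer_singleton_iff]
    have h0 := Subgroup.mem_center_iff.mp hzc ⟨x, hxH1⟩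
    exact (congrArg Subtype.val h0).symm
  have hzH2 : z ∈ H₂ := hC2 hzx
  have hCz := h2.centralizer_le hG hCN hzH2 hz1'
  have hle : H₁ ≤ H₂ := by
    intro w hw
    apply hCz
    rw [Subgroup.mem_centralizer_singleton_iff]
    have h0 := Subgroup.mem_center_iff.mp hzc ⟨w, hw⟩
    exact congrArg Subtype.val h0
  exact (h1.2 H₂ h2.1 hle).symm

/-- a `p`-element is conjugate into any given Sylow `p`-subgroup -/
theorem exists_conj_mem_sylow {p : ℕ} [Fact p.Prime] (S : Sylow p G) (x : G)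
    (hx : ∃ k : ℕ, x ^ p ^ k = 1) : ∃ g : G, g * x * g⁻¹ ∈ (S : Subgroup G) := by
  have hp : p.Prime := Fact.out
  obtain ⟨k, hxk⟩ := hx
  have hxp : IsPGroup p (Subgroup.zpowers x) := by
    obtain ⟨j, -, hj⟩ := (Nat.dvd_prime_pow hp).1 (orderOf_dvd_of_pow_eq_one hxk)
    exact IsPGroup.of_card (by rw [Nat.card_zpowers, hj])
  obtain ⟨R, hR⟩ := hxp.exists_le_sylow
  obtain ⟨g, hg⟩ := MulAction.exists_smul_eq G R S
  refine ⟨g, ?_⟩
  have h1 : ((g • R : Sylow p G) : Subgroup G) =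
      (R : Subgroup G).map (MulAut.conj g).toMonoidHom := rfl
  rw [← hg, h1]
  exact Subgroup.mem_map.2 ⟨x, hR (Subgroup.mem_zpowers x), rfl⟩

/-- two maximal nilpotent subgroups whose orders share a prime divisor are conjugate -/
theorem IsMaxNil.exists_cj_eq (hG : IsMinSimpleOddOrder G) (hCN : IsCNGroup G)
    {H₁ H₂ : Subgroup G} (h1 : IsMaxNil H₁) (h2 : IsMaxNil H₂) (q : ℕ) (hq : q.Prime)
    (hq1 : q ∣ Nat.card H₁) (hq2 : q ∣ Nat.card H₂) : ∃ g : G, cj g H₁ = H₂ := by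
  haveI : Fact q.Prime := ⟨hq⟩
  obtain ⟨S⟩ : Nonempty (Sylow q G) := inferInstance
  obtain ⟨H₃, h3, hS3⟩ := exists_isMaxNil_ge (S : Subgroup G) S.isPGroup'.isNilpotent
  have key : ∀ H : Subgroup G, IsMaxNil H → q ∣ Nat.card H → ∃ g : G, cj g H = H₃ := by
    intro H hH hqH
    obtain ⟨⟨x, hxH⟩, hxo⟩ := exists_prime_orderOf_dvd_card' q hqH
    have hxo' : orderOf x = q := by rw [← hxo, Subgroup.orderOf_mk]
    have hx1 : x ≠ 1 := by
      intro h
      rw [h, orderOf_one] at hxo'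
      exact hq.one_lt.ne' hxo'.symm
    obtain ⟨g, hg⟩ := exists_conj_mem_sylow S x ⟨1, by rw [pow_one, ← hxo', pow_orderOf_eq_one]⟩
    refine ⟨g, (hH.conj g).eq_of_inf_ne_bot hG hCN h3 ?_⟩
    intro hbot
    have hmem : g * x * g⁻¹ ∈ cj g H ⊓ H₃ :=
      Subgroup.mem_inf.2 ⟨conj_mem_cj hxH, hS3 hg⟩
    rw [hbot, Subgroup.mem_bot] at hmem
    apply hx1
    have h0 : x = g⁻¹ * (g * x * g⁻¹) * g := by group
    rw [h0, hmem]; group
  obtain ⟨g₁, hg₁⟩ := key H₁ h1 hq1
  obtain ⟨g₂, hg₂⟩ := key H₂ h2 hq2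
  refine ⟨g₂⁻¹ * g₁, ?_⟩
  rw [cj_mul, hg₁, ← hg₂, cj_inv_cj]

/-- a maximal nilpotent subgroup is properly contained in its normalizer -/
theorem IsMaxNil.lt_normalizer (hG : IsMinSimpleOddOrder G) (hCN : IsCNGroup G)
    {H : Subgroup G} (hH : IsMaxNil H) : H < Subgroup.normalizer (H : Set G) := by
  obtain ⟨hodd, hsimp, hnc, hsolv⟩ := id hG
  haveI := hsimp
  refine lt_of_le_of_ne Subgroup.le_normalizer (fun heq => ?_)
  have hH1 : H ≠ ⊥ := hH.ne_bot
  have hcard1 : Nat.card H ≠ 1 := fun h => hH1 (Subgroup.card_eq_one.1 h)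
  obtain ⟨p, hp, hpd⟩ := Nat.exists_prime_and_dvd hcard1
  haveI : Fact p.Prime := ⟨hp⟩
  obtain ⟨⟨x, hxH⟩, hxo⟩ := exists_prime_orderOf_dvd_card' p hpd
  have hxo' : orderOf x = p := by rw [← hxo, Subgroup.orderOf_mk]
  have hx1 : x ≠ 1 := by
    intro h
    rw [h, orderOf_one] at hxo'
    exact hp.one_lt.ne' hxo'.symm
  have hxp : IsPGroup p (Subgroup.zpowers x) :=
    IsPGroup.of_card (n := 1) (by rw [Nat.card_zpowers, hxo', pow_one])
  obtain ⟨P, hP⟩ := hxp.exists_le_sylow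
  have hxP : x ∈ (P : Subgroup G) := hP (Subgroup.mem_zpowers x)
  obtain ⟨H₃, h3, hP3⟩ := exists_isMaxNil_ge (P : Subgroup G) P.isPGroup'.isNilpotent
  have hH3 : H = H₃ := by
    apply hH.eq_of_inf_ne_bot hG hCN h3
    intro hbot
    have hmem : x ∈ H ⊓ H₃ := Subgroup.mem_inf.2 ⟨hxH, hP3 hxP⟩
    rw [hbot, Subgroup.mem_bot] at hmem
    exact hx1 hmem
  have hPH : (P : Subgroup G) ≤ H := hH3 ▸ hP3
  have hloc : Cfsg.Agent.Lib.Helper13.LocalCentral p G := by
    apply Cfsg.Agent.Lib.Helper13.localCentral_of_sylow P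
    intro Q hQP g hg hcop
    rw [Subgroup.mem_centralizer_iff]
    intro h hh
    by_cases hh1 : h = 1
    · rw [hh1, one_mul, mul_one]
    · have hhH : h ∈ H := hPH (hQP hh)
      have hgh : g * h * g⁻¹ ∈ Q := (Subgroup.mem_normalizer_iff.1 hg h).1 hh
      have hcj : cj g H = H := by
        by_contra hne
        have hbot := hH.inf_cj_eq_bot hG hCN g hne
        have hmem : g * h * g⁻¹ ∈ H ⊓ cj g H :=
          Subgroup.mem_inf.2 ⟨hPH (hQP hgh), conj_mem_cj hhH⟩
        rw [hbot, Subgroup.mem_bot] at hmem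
        apply hh1
        have h0 : h = g⁻¹ * (g * h * g⁻¹) * g := by group
        rw [h0, hmem]; group
      have hgN : g ∈ Subgroup.normalizer (H : Set G) := mem_normalizer_of_cj_eq_self hcj
      have hgH : g ∈ H := by rw [heq]; exact hgN
      obtain ⟨k, hk⟩ := P.isPGroup' ⟨h, hQP hh⟩
      have hhk : h ^ p ^ k = 1 := by simpa using congrArg Subtype.val hk
      have hc : (orderOf h).Coprime (orderOf g) :=
        Nat.Coprime.coprime_dvd_left (orderOf_dvd_of_pow_eq_one hhk)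
          (Nat.Coprime.pow_left k hcop.symm)
      exact Cfsg.Agent.Lib.Helper10.commute_of_mem_of_isNilpotent hH.1 hhH hgH hc
  obtain ⟨K, hKn, hKc⟩ := Cfsg.Agent.Lib.Helper13.exists_normal_complement_of_localCentral hloc P
  rcases hKn.eq_bot_or_eq_top with hK | hK
  · rw [hK, Subgroup.isComplement'_bot_left] at hKc
    exact hH.ne_top hG (top_le_iff.1 (hKc ▸ hPH))
  · rw [hK, Subgroup.isComplement'_top_left] at hKc
    rw [hKc, Subgroup.mem_bot] at hxP
    exact hx1 hxP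

/-- **Feit–Hall–Thompson**: there is no minimal simple CN-group of odd order. -/
theorem false_of_minSimple_CN (hG : IsMinSimpleOddOrder G) (hCN : IsCNGroup G) : False := by
  classical
  obtain ⟨hodd, hsimp, hnc, hsolv⟩ := id hG
  haveI := hsimp
  have hSfin : {n : ℕ | ∃ H : Subgroup G, IsMaxNil H ∧ Nat.card H = n}.Finite :=
    (Set.finite_Iic (Nat.card G)).subset (by
      rintro n ⟨H, -, rfl⟩
      exact Subgroup.card_le_card_group H)
  haveI : Finite {n : ℕ | ∃ H : Subgroup G, IsMaxNil H ∧ Nat.card H = n} := hSfin.to_subtype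
  haveI : Fintype {n : ℕ | ∃ H : Subgroup G, IsMaxNil H ∧ Nat.card H = n} := Fintype.ofFinite _
  have hex : ∀ i : {n : ℕ | ∃ H : Subgroup G, IsMaxNil H ∧ Nat.card H = n},
      ∃ H : Subgroup G, IsMaxNil H ∧ Nat.card H = i := fun i => i.2
  choose Hf hHf using hex
  refine Cfsg.Agent.S1526.result hodd ?_ (fun i => Subgroup.normalizer (Hf i : Set G)) Hf
    ?_ ?_ ?_ ?_ ?_ ?_ ?_
  · -- at least two orders
    obtain ⟨H, hH, -⟩ := exists_isMaxNil_ge (⊥ : Subgroup G) inferInstance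
    have hidx : H.index ≠ 1 := fun h => hH.ne_top hG (Subgroup.index_eq_one.1 h)
    obtain ⟨q, hq, hqd⟩ := Nat.exists_prime_and_dvd hidx
    haveI : Fact q.Prime := ⟨hq⟩
    obtain ⟨S⟩ : Nonempty (Sylow q G) := inferInstance
    obtain ⟨H', hH', hSH'⟩ := exists_isMaxNil_ge (S : Subgroup G) S.isPGroup'.isNilpotent
    have hqG : q ∣ Nat.card G := hqd.trans (Subgroup.index_dvd_card H)
    have hqH' : q ∣ Nat.card H' :=
      (S.dvd_card_of_dvd_card hqG).trans (Subgroup.card_dvd_of_le hSH')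
    have hne : Nat.card H ≠ Nat.card H' := by
      intro h
      have hc := hH.coprime hCN
      rw [h] at hc
      exact hq.one_lt.ne' (Nat.eq_one_of_dvd_coprimes hc hqH' hqd)
    rw [← Nat.succ_le_iff.symm, Fintype.one_lt_card_iff]
    exact ⟨⟨Nat.card H, H, hH, rfl⟩, ⟨Nat.card H', H', hH', rfl⟩,
      fun h => hne (congrArg Subtype.val h)⟩
  · intro i
    exact (hHf i).1.lt_normalizer hG hCN
  · intro i
    exact (hHf i).1.ne_bot
  · intro i x hx h hh
    exact (Subgroup.mem_normalizer_iff.1 hx h).1 hh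
  · intro i h hh hh1
    exact inf_le_right.trans ((hHf i).1.centralizer_le hG hCN hh hh1)
  · intro i j hij
    apply Nat.coprime_of_dvd
    intro q hq hqi hqj
    obtain ⟨g, hg⟩ := (hHf i).1.exists_cj_eq hG hCN (hHf j).1 q hq hqi hqj
    apply hij
    apply Subtype.ext
    rw [← (hHf i).2, ← (hHf j).2, ← hg]
    exact (Subgroup.card_map_of_injective (MulAut.conj g).injective).symm
  · intro i
    refine ⟨?_, rfl⟩
    intro g hg x hx hgx
    by_contra hx1
    have hne : cj g (Hf i) ≠ Hf i := fun h => hg (mem_normalizer_of_cj_eq_self h)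
    have hbot := (hHf i).1.inf_cj_eq_bot hG hCN g hne
    have hmem : g * x * g⁻¹ ∈ Hf i ⊓ cj g (Hf i) := Subgroup.mem_inf.2 ⟨hgx, conj_mem_cj hx⟩
    rw [hbot, Subgroup.mem_bot] at hmem
    apply hx1
    have h0 : x = g⁻¹ * (g * x * g⁻¹) * g := by group
    rw [h0, hmem]; group
  · intro g hg1
    obtain ⟨H', hH', hgH'⟩ := exists_isMaxNil_ge (Subgroup.zpowers g) (isNilpotent_zpowers g)
    have hcard1 : Nat.card H' ≠ 1 := fun h => hH'.ne_bot (Subgroup.card_eq_one.1 h)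
    obtain ⟨q, hq, hqd⟩ := Nat.exists_prime_and_dvd hcard1
    let i : {n : ℕ | ∃ H : Subgroup G, IsMaxNil H ∧ Nat.card H = n} := ⟨Nat.card H', H', hH', rfl⟩
    have hqi : q ∣ Nat.card (Hf i) := by rw [(hHf i).2]; exact hqd
    obtain ⟨a, ha⟩ := hH'.exists_cj_eq hG hCN (hHf i).1 q hq hqd hqi
    refine ⟨i, a, ?_⟩
    rw [← ha]
    exact conj_mem_cj (hgH' (Subgroup.mem_zpowers g))

end

/-- **The CN-theorem for odd order** -/
theorem isSolvable_of_odd_of_isCNGroup : ∀ (n : ℕ) (G : Type u) [Group G] [Finite G],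
    Nat.card G = n → Odd (Nat.card G) → IsCNGroup G → Group.IsSolvable G := by
  intro n
  induction n using Nat.strong_induction_on with
  | _ n ih =>
  intro G _ _ hn hodd hCN
  by_contra hns
  have hsub : ∀ H : Subgroup G, H ≠ ⊤ → Group.IsSolvable H := by
    intro H hH
    have hlt : Nat.card H < n := by
      rw [← hn]
      exact lt_of_le_of_ne (Subgroup.card_le_card_group H)
        (fun h => hH (Subgroup.eq_top_of_card_eq H h))
    exact ih _ hlt H rfl (Odd.of_dvd_nat hodd (Subgroup.card_subgroup_dvd_card H))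
      (Cfsg.Agent.S1474.isCNGroup_subgroup hCN H)
  haveI hnt : Nontrivial G := by
    by_contra h
    rw [not_nontrivial_iff_subsingleton] at h
    exact hns inferInstance
  have hsimple : IsSimpleGroup G := by
    refine { toNontrivial := hnt, eq_bot_or_eq_top_of_normal := fun N hN => ?_ }
    by_contra hcon
    push Not at hcon
    obtain ⟨hN1, hN2⟩ := hcon
    haveI := hN
    haveI hNs : Group.IsSolvable N := hsub N hN2
    have hQCN : IsCNGroup (G ⧸ N) := Cfsg.Agent.S1473.result hCN N hNs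
    have hQlt : Nat.card (G ⧸ N) < n := by
      rw [← hn]; exact Cfsg.Agent.Lib.Helper1.card_quotient_lt_of_ne_bot hN1
    have hQodd : Odd (Nat.card (G ⧸ N)) :=
      Odd.of_dvd_nat hodd (Subgroup.card_quotient_dvd_card N)
    haveI hQs : Group.IsSolvable (G ⧸ N) := ih _ hQlt (G ⧸ N) rfl hQodd hQCN
    apply hns
    refine Group.isSolvable_of_ker_le_range N.subtype (QuotientGroup.mk' N) ?_
    rw [QuotientGroup.ker_mk', Subgroup.range_subtype]
  have hnc : ¬ IsMulCommutative G := by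
    intro h
    exact hns (Group.isSolvable_of_comm (fun a b => h.is_comm.comm a b))
  exact false_of_minSimple_CN ⟨hodd, hsimple, hnc, hsub⟩ hCN

end Cfsg.Agent.Lib.Helper23.CNOdd
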