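import Mathlib

/-!
Canonical lifts of involutions in central extensions (generic lemmas).

`π : E →* G` with central kernel.  For an involution `c = x y x⁻¹ y⁻¹` of `G` whose centralizer is
generated by elements of odd order, the commutator `τ` of arbitrary lifts of `x, y` is an involution
of `E`, is centralized by the full preimage of `C_G(c)`, and the conjugates of `τ` give well defined
lifts of the conjugates of `c` which satisfy the Coxeter relations of their images.
-/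

set_option autoImplicit false

namespace Cfsg.Agent.Lib.Helper23.CanonLift

variable {E G : Type*} [Group E] [Group G]

/-- the commutator `a b a⁻¹ b⁻¹` -/
def cm (a b : E) : E := a * b * a⁻¹ * b⁻¹

theorem cm_def (a b : E) : cm a b = a * b * a⁻¹ * b⁻¹ := rfl

theorem central_comm {k : E} (hk : k ∈ Subgroup.center E) (g : E) : g * k = k * g :=
  Subgroup.mem_center_iff.mp hk g

theorem conj_mul_central {a k : E} (hk : k ∈ Subgroup.center E) (g : E) :
    a * k * g * (a * k)⁻¹ = a * g * a⁻¹ := by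
  have h := central_comm hk g
  calc a * k * g * (a * k)⁻¹ = a * (k * g) * k⁻¹ * a⁻¹ := by simp [mul_assoc]
    _ = a * (g * k) * k⁻¹ * a⁻¹ := by rw [h]
    _ = a * g * a⁻¹ := by simp [mul_assoc]

/-- commutators do not see central factors -/
theorem cm_mul_central {a b k l : E} (hk : k ∈ Subgroup.center E) (hl : l ∈ Subgroup.center E) :
    cm (a * k) (b * l) = cm a b := by
  unfold cm
  rw [conj_mul_central hk]
  have h := central_comm hl (a⁻¹)
  calc a * (b * l) * a⁻¹ * (b * l)⁻¹ = a * b * (l * a⁻¹) * l⁻¹ * b⁻¹ := by simp [mul_assoc]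
    _ = a * b * (a⁻¹ * l) * l⁻¹ * b⁻¹ := by rw [h]
    _ = a * b * a⁻¹ * b⁻¹ := by simp [mul_assoc]

/-- two elements with the same image differ by a central element -/
theorem exists_central_of_map_eq (π : E →* G) (hK : π.ker ≤ Subgroup.center E) {a a' : E}
    (h : π a = π a') : ∃ k ∈ Subgroup.center E, a' = a * k := by
  refine ⟨a⁻¹ * a', hK ?_, by simp⟩
  rw [MonoidHom.mem_ker, map_mul, map_inv, h, inv_mul_cancel]

/-- the commutator of lifts only depends on the images -/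
theorem cm_eq_of_map_eq (π : E →* G) (hK : π.ker ≤ Subgroup.center E) {a a' b b' : E}
    (ha : π a = π a') (hb : π b = π b') : cm a b = cm a' b' := by
  obtain ⟨k, hk, rfl⟩ := exists_central_of_map_eq π hK ha
  obtain ⟨l, hl, rfl⟩ := exists_central_of_map_eq π hK hb
  exact (cm_mul_central hk hl).symm

theorem map_cm (π : E →* G) (a b : E) : π (cm a b) = π a * π b * (π a)⁻¹ * (π b)⁻¹ := by
  simp [cm]

/-- if the images commute the commutator is central -/
theorem cm_mem_center (π : E →* G) (hK : π.ker ≤ Subgroup.center E) {h t : E}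
    (hc : π h * π t = π t * π h) : cm h t ∈ Subgroup.center E := by
  apply hK
  rw [MonoidHom.mem_ker, map_cm, hc]
  group

/-- `h ↦ cm h t` is multiplicative as soon as the values are central -/
theorem cm_mul_left {h₁ h₂ t : E} (h2 : cm h₂ t ∈ Subgroup.center E) :
    cm (h₁ * h₂) t = cm h₁ t * cm h₂ t := by
  have e : h₂ * t * h₂⁻¹ = cm h₂ t * t := by simp [cm, mul_assoc]
  have hz := central_comm h2
  calc cm (h₁ * h₂) t = h₁ * (h₂ * t * h₂⁻¹) * h₁⁻¹ * t⁻¹ := by simp [cm, mul_assoc]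
    _ = h₁ * (cm h₂ t * t) * h₁⁻¹ * t⁻¹ := by rw [e]
    _ = (h₁ * cm h₂ t) * t * h₁⁻¹ * t⁻¹ := by simp [mul_assoc]
    _ = (cm h₂ t * h₁) * t * h₁⁻¹ * t⁻¹ := by rw [hz h₁]
    _ = cm h₂ t * (h₁ * t * h₁⁻¹ * t⁻¹) := by simp [mul_assoc]
    _ = (h₁ * t * h₁⁻¹ * t⁻¹) * cm h₂ t := (hz _).symm
    _ = cm h₁ t * cm h₂ t := rfl

/-- `t ↦ cm h t` is multiplicative as soon as the values are central -/
theorem cm_mul_right {h t₁ t₂ : E} (h2 : cm h t₂ ∈ Subgroup.center E) :
    cm h (t₁ * t₂) = cm h t₁ * cm h t₂ := by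
  have hz := central_comm h2
  calc cm h (t₁ * t₂) = (h * t₁ * h⁻¹) * (h * t₂ * h⁻¹ * t₂⁻¹) * t₁⁻¹ := by simp [cm, mul_assoc]
    _ = (h * t₁ * h⁻¹) * cm h t₂ * t₁⁻¹ := rfl
    _ = cm h t₂ * (h * t₁ * h⁻¹) * t₁⁻¹ := by rw [hz]
    _ = cm h t₂ * (h * t₁ * h⁻¹ * t₁⁻¹) := by simp [mul_assoc]
    _ = (h * t₁ * h⁻¹ * t₁⁻¹) * cm h t₂ := (hz _).symm
    _ = cm h t₁ * cm h t₂ := rfl

theorem cm_central_left {k t : E} (hk : k ∈ Subgroup.center E) : cm k t = 1 := by
  have := central_comm hk t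
  unfold cm
  rw [← this]; simp

theorem cm_central_right {h k : E} (hk : k ∈ Subgroup.center E) : cm h k = 1 := by
  have := central_comm hk h
  unfold cm
  rw [this]; simp

theorem cm_eq_one_iff {h t : E} : cm h t = 1 ↔ h * t = t * h := by
  unfold cm
  constructor
  · intro e
    have : h * t * h⁻¹ * t⁻¹ * t * h = 1 * t * h := by rw [e]
    simpa [mul_assoc] using this
  · intro e
    rw [e]; simp

theorem cm_pow_left {h t : E} (hc : cm h t ∈ Subgroup.center E) (n : ℕ) :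
    cm (h ^ n) t = cm h t ^ n := by
  induction n with
  | zero => simp [cm]
  | succ n ih => rw [pow_succ, cm_mul_left hc, ih, pow_succ]

theorem cm_pow_right {h t : E} (hc : cm h t ∈ Subgroup.center E) (n : ℕ) :
    cm h (t ^ n) = cm h t ^ n := by
  induction n with
  | zero => simp [cm]
  | succ n ih => rw [pow_succ, cm_mul_right hc, ih, pow_succ]

/-- **Key lemma.** A lift of an odd-order element commuting with an involution `π t` commutes
with `t`. -/
theorem commute_of_odd (π : E →* G) (hK : π.ker ≤ Subgroup.center E) {h t : E} {m : ℕ}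
    (hm : Odd m) (hhm : π h ^ m = 1) (ht : π t ^ 2 = 1) (hc : π h * π t = π t * π h) :
    h * t = t * h := by
  rw [← cm_eq_one_iff]
  have hz := cm_mem_center π hK hc
  have e1 : cm h t ^ m = 1 := by
    rw [← cm_pow_left hz]
    apply cm_central_left
    apply hK
    rw [MonoidHom.mem_ker, map_pow, hhm]
  have e2 : cm h t ^ 2 = 1 := by
    rw [← cm_pow_right hz]
    apply cm_central_right
    apply hK
    rw [MonoidHom.mem_ker, map_pow, ht]
  obtain ⟨k, rfl⟩ := hm
  rw [pow_succ, pow_mul, e2, one_pow, one_mul] at e1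
  exact e1

/-- If `C ≤ G` is generated by a set `S` of odd-order elements commuting with the involution
`π t`, every lift of every element of the closure commutes with `t`. -/
theorem commute_of_mem_closure (π : E →* G) (hπ : Function.Surjective π)
    (hK : π.ker ≤ Subgroup.center E) {t : E} (ht : π t ^ 2 = 1) (S : Set G)
    (hS : ∀ s ∈ S, (∃ m : ℕ, Odd m ∧ s ^ m = 1) ∧ s * π t = π t * s)
    {g : G} (hg : g ∈ Subgroup.closure S) : ∀ h : E, π h = g → h * t = t * h := by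
  induction hg using Subgroup.closure_induction with
  | mem s hs =>
    intro h hh
    obtain ⟨⟨m, hm, hsm⟩, hc⟩ := hS s hs
    exact commute_of_odd π hK hm (by rw [hh]; exact hsm) ht (by rw [hh]; exact hc)
  | one =>
    intro h hh
    exact central_comm (hK (by rwa [MonoidHom.mem_ker])) t |>.symm
  | mul g₁ g₂ _ _ ih₁ ih₂ =>
    intro h hh
    obtain ⟨h₁, hh₁⟩ := hπ g₁
    have e₁ := ih₁ h₁ hh₁
    have e₂ := ih₂ (h₁⁻¹ * h) (by rw [map_mul, map_inv, hh, hh₁]; group)
    have : h = h₁ * (h₁⁻¹ * h) := by group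
    rw [this, mul_assoc, e₂, ← mul_assoc, e₁, mul_assoc]
  | inv g _ ih =>
    intro h hh
    have e := ih h⁻¹ (by rw [map_inv, hh, inv_inv])
    have : h * t = h * (t * h⁻¹) * h := by simp [mul_assoc]
    rw [this, ← e]; simp [mul_assoc]

/-- the commutator `τ = cm x y` of lifts is an involution as soon as `π x` is an involution and
`x` commutes with `τ`. -/
theorem cm_sq_eq_one (π : E →* G) (hK : π.ker ≤ Subgroup.center E) {x y : E}
    (hx : π x ^ 2 = 1) (hc : x * cm x y = cm x y * x) : cm x y ^ 2 = 1 := by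
  have hk : x * x ∈ Subgroup.center E := by
    apply hK
    rw [MonoidHom.mem_ker, map_mul, ← sq, hx]
  have e0 : cm (x * x) y = 1 := cm_central_left hk
  have e1 : cm (x * x) y = x * cm x y * x⁻¹ * cm x y := by
    simp [cm, mul_assoc]
  rw [e1, hc] at e0
  rw [sq]
  simpa [mul_assoc] using e0

/-- conjugating by lifts only depends on the image -/
theorem conj_eq_of_map_eq (π : E →* G) (hK : π.ker ≤ Subgroup.center E) {u u' : E}
    (h : π u = π u') (τ : E) : u * τ * u⁻¹ = u' * τ * u'⁻¹ := by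
  obtain ⟨k, hk, rfl⟩ := exists_central_of_map_eq π hK h
  exact (conj_mul_central hk τ).symm

/-- The hypotheses on the base involution: `τ` is an involution of `E` lifting `c`, and every
lift of every element of `C_G(c)` commutes with `τ`. -/
structure IsCanon (π : E →* G) (τ : E) : Prop where
  sq : τ ^ 2 = 1
  comm : ∀ h : E, π h * π τ = π τ * π h → h * τ = τ * h

/-- construction of `IsCanon` from odd-order generators of the centralizer -/
theorem isCanon_of_closure (π : E →* G) (hπ : Function.Surjective π)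
    (hK : π.ker ≤ Subgroup.center E) {x y : E} (hx : π x ^ 2 = 1)
    (hxc : π x * π (cm x y) = π (cm x y) * π x) (hc2 : π (cm x y) ^ 2 = 1) (S : Set G)
    (hS : ∀ s ∈ S, (∃ m : ℕ, Odd m ∧ s ^ m = 1) ∧ s * π (cm x y) = π (cm x y) * s)
    (hgen : ∀ g : G, g * π (cm x y) = π (cm x y) * g → g ∈ Subgroup.closure S) :
    IsCanon π (cm x y) := by
  have hcomm : ∀ h : E, π h * π (cm x y) = π (cm x y) * π h → h * cm x y = cm x y * h :=
    fun h hh => commute_of_mem_closure π hπ hK hc2 S hS (hgen _ hh) h rfl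
  exact ⟨cm_sq_eq_one π hK hx (hcomm x hxc), hcomm⟩

namespace IsCanon

variable {π : E →* G} {τ : E}

theorem inv_eq (hτ : IsCanon π τ) : τ⁻¹ = τ := by
  have := hτ.sq
  rw [pow_two] at this
  exact inv_eq_of_mul_eq_one_left this

theorem conj_sq (hτ : IsCanon π τ) (u : E) : (u * τ * u⁻¹) ^ 2 = 1 := by
  rw [pow_two]
  have := hτ.sq
  rw [pow_two] at this
  calc u * τ * u⁻¹ * (u * τ * u⁻¹) = u * (τ * τ) * u⁻¹ := by simp [mul_assoc]
    _ = 1 := by rw [this]; simp

theorem conj_inv (hτ : IsCanon π τ) (u : E) : (u * τ * u⁻¹)⁻¹ = u * τ * u⁻¹ := by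
  have := hτ.conj_sq u
  rw [pow_two] at this
  exact inv_eq_of_mul_eq_one_left this

/-- the conjugate lift only depends on the conjugate of `c` -/
theorem conj_eq_of_conj_eq (hτ : IsCanon π τ) {u v : E}
    (h : π u * π τ * (π u)⁻¹ = π v * π τ * (π v)⁻¹) : u * τ * u⁻¹ = v * τ * v⁻¹ := by
  have h1 : π (v⁻¹ * u) * π τ = π τ * π (v⁻¹ * u) := by
    rw [map_mul, map_inv]
    have : (π v)⁻¹ * (π u * π τ * (π u)⁻¹) * π u = (π v)⁻¹ * (π v * π τ * (π v)⁻¹) * π u := by
      rw [h]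
    simpa [mul_assoc] using this
  have h2 := hτ.comm _ h1
  have : u * τ * u⁻¹ = v * ((v⁻¹ * u) * τ) * u⁻¹ := by simp [mul_assoc]
  rw [this, h2]; simp [mul_assoc]

/-- commuting images give commuting canonical lifts -/
theorem conj_comm (hτ : IsCanon π τ) {u v : E}
    (h : π (u * τ * u⁻¹) * π (v * τ * v⁻¹) = π (v * τ * v⁻¹) * π (u * τ * u⁻¹)) :
    (u * τ * u⁻¹) * (v * τ * v⁻¹) = (v * τ * v⁻¹) * (u * τ * u⁻¹) := by
  have h1 : π (u⁻¹ * (v * τ * v⁻¹) * u) * π τ = π τ * π (u⁻¹ * (v * τ * v⁻¹) * u) := by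
    have e : (π u)⁻¹ * (π (u * τ * u⁻¹) * π (v * τ * v⁻¹)) * π u
        = (π u)⁻¹ * (π (v * τ * v⁻¹) * π (u * τ * u⁻¹)) * π u := by rw [h]
    simp only [map_mul, map_inv] at e ⊢
    simpa [mul_assoc] using e.symm
  have h2 := hτ.comm _ h1
  have e1 : (v * τ * v⁻¹) * (u * τ * u⁻¹) = u * ((u⁻¹ * (v * τ * v⁻¹) * u) * τ) * u⁻¹ := by
    simp [mul_assoc]
  have e2 : (u * τ * u⁻¹) * (v * τ * v⁻¹) = u * (τ * (u⁻¹ * (v * τ * v⁻¹) * u)) * u⁻¹ := by
    simp [mul_assoc]
  rw [e1, e2, h2]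

/-- images with a product of order three give canonical lifts with a product of order three -/
theorem conj_braid (hτ : IsCanon π τ) {u v : E}
    (h : (π (u * τ * u⁻¹) * π (v * τ * v⁻¹)) ^ 3 = 1) :
    ((u * τ * u⁻¹) * (v * τ * v⁻¹)) ^ 3 = 1 := by
  set t₁ := u * τ * u⁻¹ with ht₁
  set t₂ := v * τ * v⁻¹ with ht₂
  have i₁ : t₁⁻¹ = t₁ := hτ.conj_inv u
  have i₂ : t₂⁻¹ = t₂ := hτ.conj_inv v
  have j₁ : t₁ * t₁ = 1 := by rw [← pow_two]; exact hτ.conj_sq u
  have j₂ : t₂ * t₂ = 1 := by rw [← pow_two]; exact hτ.conj_sq v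
  have k₁ : π t₁ * π t₁ = 1 := by rw [← map_mul, j₁, map_one]
  have k₂ : π t₂ * π t₂ = 1 := by rw [← map_mul, j₂, map_one]
  -- `t₁ t₂ u` conjugates `c` to `c₂`
  have key : (t₁ * t₂ * u) * τ * (t₁ * t₂ * u)⁻¹ = v * τ * v⁻¹ := by
    apply hτ.conj_eq_of_conj_eq
    have e : π (t₁ * t₂ * u) * π τ * (π (t₁ * t₂ * u))⁻¹
        = π t₁ * π t₂ * π t₁ * (π t₂)⁻¹ * (π t₁)⁻¹ := by
      rw [ht₁]; simp only [map_mul, map_inv, mul_inv_rev, inv_inv]; group
    have e' : π v * π τ * (π v)⁻¹ = π t₂ := by rw [ht₂]; simp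
    rw [e, e']
    have i₁' : (π t₁)⁻¹ = π t₁ := inv_eq_of_mul_eq_one_left k₁
    have i₂' : (π t₂)⁻¹ = π t₂ := inv_eq_of_mul_eq_one_left k₂
    rw [i₁', i₂']
    have h3 : π t₁ * π t₂ * (π t₁ * π t₂) * (π t₁ * π t₂) = 1 := by
      rw [← h, pow_succ, pow_succ, pow_one]
    calc π t₁ * π t₂ * π t₁ * π t₂ * π t₁
        = π t₁ * π t₂ * (π t₁ * π t₂) * (π t₁ * π t₂) * π t₂ := by
          simp only [mul_assoc]; rw [k₂, mul_one]
      _ = π t₂ := by rw [h3, one_mul]
  have key' : t₁ * t₂ * t₁ * t₂ * t₁ = t₂ := by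
    have : (t₁ * t₂ * u) * τ * (t₁ * t₂ * u)⁻¹ = t₁ * t₂ * t₁ * t₂⁻¹ * t₁⁻¹ := by
      rw [ht₁]; simp only [mul_inv_rev, inv_inv]; group
    rw [this, i₁, i₂] at key
    exact key
  rw [pow_succ, pow_succ, pow_one]
  calc t₁ * t₂ * (t₁ * t₂) * (t₁ * t₂) = (t₁ * t₂ * t₁ * t₂ * t₁) * t₂ := by simp only [mul_assoc]
    _ = 1 := by rw [key', j₂]

end IsCanon

end Cfsg.Agent.Lib.Helper23.CanonLift
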