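import Cfsg.Agent.Lib.Helper23.Co1MLBOf
import Cfsg.Agent.Lib.Helper4.Orb.GrpCo1

/-!
S2043-[LB] (helper23 for helper22): the automorphism group of the rank-24 lattice, with the projection
onto its central quotient, is a stem extension of `Cfsg.Spor.Co1` with kernel cyclic of order two.
-/

set_option autoImplicit false

namespace Cfsg.Agent.Lib.Helper22.Co1M

theorem exists_cover : ∃ (Γ : Type) (_ : Group Γ) (_ : Finite Γ) (σ : Γ →* Cfsg.Spor.Co1),
    Cfsg.IsStemExtension σ ∧ Nonempty (σ.ker ≃* Multiplicative (ZMod 2)) :=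
  exists_cover_of_simple Cfsg.Agent.Helper4.CO.Grp.finite_co0
    Cfsg.Agent.Helper4.CO.Grp.co1_simpCard

end Cfsg.Agent.Lib.Helper22.Co1M
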