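import Mathlib
import Cfsg.Prelude.Def_KGroupFacts

/-!
S2043-[LB], generic part (helper23 for helper22): a finite group `Γ` with centre of order `2`, perfect
central quotient, and an element whose square is the non-trivial central element, is a stem extension
of `Γ ⧸ Z(Γ)` with kernel `C2`.
-/

set_option autoImplicit false

namespace Cfsg.Agent.Lib.Helper22.Co1M.Helper23

open Cfsg

theorem stem_of_center_two {Γ : Type*} [Group Γ] [Finite Γ]
    (hZ2 : Nat.card (Subgroup.center Γ) = 2)
    (hperf : commutator (Γ ⧸ Subgroup.center Γ) = ⊤) (g : Γ)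
    (hg : g * g ∈ Subgroup.center Γ) (hg1 : g * g ≠ 1) :
    IsStemExtension (QuotientGroup.mk' (Subgroup.center Γ)) ∧
      Nonempty ((QuotientGroup.mk' (Subgroup.center Γ)).ker ≃* Multiplicative (ZMod 2)) := by
  classical
  set Z := Subgroup.center Γ with hZ
  have hsurj : Function.Surjective (QuotientGroup.mk' Z) := QuotientGroup.mk'_surjective Z
  have hker : (QuotientGroup.mk' Z).ker = Z := QuotientGroup.ker_mk' Z
  -- every central element is `1` or `g * g`
  have hcases : ∀ z ∈ Z, z = 1 ∨ z = g * g := by
    intro z hz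
    by_cases h1 : z = 1
    · exact Or.inl h1
    · right
      obtain ⟨b, _, hb⟩ := (Nat.card_eq_two_iff' (1 : Z)).mp hZ2
      have e1 : (⟨z, hz⟩ : Z) = b := hb _ (fun h => h1 (congrArg Subtype.val h))
      have e2 : (⟨g * g, hg⟩ : Z) = b := hb _ (fun h => hg1 (congrArg Subtype.val h))
      exact congrArg Subtype.val (e1.trans e2.symm)
  -- the square of a central element is one
  have hsq : ∀ z ∈ Z, z * z = 1 := by
    intro z hz
    have h := pow_card_eq_one' (G := Z) (x := ⟨z, hz⟩)
    rw [hZ2] at h
    have := congrArg Subtype.val h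
    simpa [pow_two] using this
  -- `g * g` is a product of commutators
  have hgc : g * g ∈ commutator Γ := by
    have hmap : (commutator Γ).map (QuotientGroup.mk' Z) = commutator (Γ ⧸ Z) := by
      rw [commutator_def, commutator_def, Subgroup.map_commutator,
        Subgroup.map_top_of_surjective _ hsurj]
    have hx : QuotientGroup.mk' Z g ∈ (commutator Γ).map (QuotientGroup.mk' Z) := by
      rw [hmap, hperf]; exact Subgroup.mem_top _
    obtain ⟨d, hd, hdg⟩ := hx
    have hz : d⁻¹ * g ∈ Z := by
      rw [← hker, MonoidHom.mem_ker, map_mul, map_inv, hdg, inv_mul_cancel]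
    have hzc := Subgroup.mem_center_iff.mp hz
    have e : g * g = d * d := by
      have h1 : g = d * (d⁻¹ * g) := by group
      calc g * g = d * (d⁻¹ * g) * (d * (d⁻¹ * g)) := by rw [← h1]
        _ = d * ((d⁻¹ * g) * d) * (d⁻¹ * g) := by simp only [mul_assoc]
        _ = d * (d * (d⁻¹ * g)) * (d⁻¹ * g) := by rw [hzc d]
        _ = d * d * ((d⁻¹ * g) * (d⁻¹ * g)) := by simp only [mul_assoc]
        _ = d * d := by rw [hsq _ hz, mul_one]
    rw [e]
    exact mul_mem hd hd
  have hcomm : (QuotientGroup.mk' Z).ker ≤ commutator Γ := by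
    rw [hker]
    intro z hz
    rcases hcases z hz with rfl | rfl
    · exact Subgroup.one_mem _
    · exact hgc
  refine ⟨⟨hsurj, by rw [hker], hcomm⟩, ?_⟩
  have : Fact (Nat.Prime 2) := ⟨Nat.prime_two⟩
  have hker2 : Nat.card (QuotientGroup.mk' Z).ker = 2 := by rw [hker]; exact hZ2
  have hcard2 : Nat.card (Multiplicative (ZMod 2)) = 2 := by
    rw [Nat.card_eq_fintype_card]; rfl
  exact ⟨mulEquivOfPrimeCardEq hker2 hcard2⟩

end Cfsg.Agent.Lib.Helper22.Co1M.Helper23

namespace Cfsg.Agent.Lib.Helper22.Co1M.Helper23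

/-- a finite simple group whose order is not a prime is perfect -/
theorem commutator_eq_top_of_simple_of_not_prime {G : Type*} [Group G] (hs : IsSimpleGroup G)
    (hn : ¬ (Nat.card G).Prime) : commutator G = ⊤ := by
  have := hs
  rcases IsSimpleGroup.eq_bot_or_eq_top_of_normal (commutator G) inferInstance with h | h
  · exfalso
    apply hn
    have hc : Subgroup.center G = ⊤ := (commutator_eq_bot_iff_center_eq_top G).mp h
    let _ : CommGroup G := Group.commGroupOfCenterEqTop hc
    exact IsSimpleGroup.prime_card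
  · exact h

end Cfsg.Agent.Lib.Helper22.Co1M.Helper23
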