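import Cfsg.Agent.Lib.Helper4.CoMat
import Cfsg.Agent.S0398
import Cfsg.Agent.Lib.Helper23.Co1MLBGen

/-!
S2043-[LB] (helper23 for helper22): the automorphism group of the rank-24 lattice is a stem extension
of its central quotient with kernel of order two. The centre has order two (`S0398`), and the central
element `-1` is the square of the monomial automorphism `gEl` (an antisymmetric signed permutation
matrix), hence a product of commutators once the central quotient is perfect. The finiteness of the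
group and the perfectness of the quotient are hypotheses of `exists_cover_of`.
-/

set_option autoImplicit false
set_option linter.style.haveILetI false
set_option linter.unusedVariables false

namespace Cfsg.Agent.Lib.Helper22.Co1M.Helper23

open Cfsg Cfsg.Agent.Lib.Helper4 Cfsg.Agent.Lib.Helper28 Cfsg.Agent.Helper4.LC Cfsg.Agent.Helper4.CO

/-- twice an antisymmetric signed permutation matrix -/
def gMat : List (List ℤ) := [
  [0, 0, 0, 0, 0, 0, 0, 0, 0, 0, 0, -2, 0, 0, 0, 0, 0, 0, 0, 0, 0, 0, 0, 0],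
  [0, 0, 0, 0, 0, 0, 0, 0, 0, 0, 0, 0, 0, 0, 0, 0, 0, 0, 0, 0, 0, -2, 0, 0],
  [0, 0, 0, 0, 0, 0, 0, -2, 0, 0, 0, 0, 0, 0, 0, 0, 0, 0, 0, 0, 0, 0, 0, 0],
  [0, 0, 0, 0, 2, 0, 0, 0, 0, 0, 0, 0, 0, 0, 0, 0, 0, 0, 0, 0, 0, 0, 0, 0],
  [0, 0, 0, -2, 0, 0, 0, 0, 0, 0, 0, 0, 0, 0, 0, 0, 0, 0, 0, 0, 0, 0, 0, 0],
  [0, 0, 0, 0, 0, 0, 0, 0, 0, 0, 0, 0, 0, 0, 0, 0, 0, 0, -2, 0, 0, 0, 0, 0],
  [0, 0, 0, 0, 0, 0, 0, 0, 0, 0, 0, 0, -2, 0, 0, 0, 0, 0, 0, 0, 0, 0, 0, 0],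
  [0, 0, 2, 0, 0, 0, 0, 0, 0, 0, 0, 0, 0, 0, 0, 0, 0, 0, 0, 0, 0, 0, 0, 0],
  [0, 0, 0, 0, 0, 0, 0, 0, 0, 0, 0, 0, 0, 0, 0, 2, 0, 0, 0, 0, 0, 0, 0, 0],
  [0, 0, 0, 0, 0, 0, 0, 0, 0, 0, 0, 0, 0, 0, 0, 0, 2, 0, 0, 0, 0, 0, 0, 0],
  [0, 0, 0, 0, 0, 0, 0, 0, 0, 0, 0, 0, 0, 0, 0, 0, 0, 0, 0, 0, 2, 0, 0, 0],
  [2, 0, 0, 0, 0, 0, 0, 0, 0, 0, 0, 0, 0, 0, 0, 0, 0, 0, 0, 0, 0, 0, 0, 0],
  [0, 0, 0, 0, 0, 0, 2, 0, 0, 0, 0, 0, 0, 0, 0, 0, 0, 0, 0, 0, 0, 0, 0, 0],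
  [0, 0, 0, 0, 0, 0, 0, 0, 0, 0, 0, 0, 0, 0, 0, 0, 0, 0, 0, 2, 0, 0, 0, 0],
  [0, 0, 0, 0, 0, 0, 0, 0, 0, 0, 0, 0, 0, 0, 0, 0, 0, 2, 0, 0, 0, 0, 0, 0],
  [0, 0, 0, 0, 0, 0, 0, 0, -2, 0, 0, 0, 0, 0, 0, 0, 0, 0, 0, 0, 0, 0, 0, 0],
  [0, 0, 0, 0, 0, 0, 0, 0, 0, -2, 0, 0, 0, 0, 0, 0, 0, 0, 0, 0, 0, 0, 0, 0],
  [0, 0, 0, 0, 0, 0, 0, 0, 0, 0, 0, 0, 0, 0, -2, 0, 0, 0, 0, 0, 0, 0, 0, 0],
  [0, 0, 0, 0, 0, 2, 0, 0, 0, 0, 0, 0, 0, 0, 0, 0, 0, 0, 0, 0, 0, 0, 0, 0],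
  [0, 0, 0, 0, 0, 0, 0, 0, 0, 0, 0, 0, 0, -2, 0, 0, 0, 0, 0, 0, 0, 0, 0, 0],
  [0, 0, 0, 0, 0, 0, 0, 0, 0, 0, -2, 0, 0, 0, 0, 0, 0, 0, 0, 0, 0, 0, 0, 0],
  [0, 2, 0, 0, 0, 0, 0, 0, 0, 0, 0, 0, 0, 0, 0, 0, 0, 0, 0, 0, 0, 0, 0, 0],
  [0, 0, 0, 0, 0, 0, 0, 0, 0, 0, 0, 0, 0, 0, 0, 0, 0, 0, 0, 0, 0, 0, 0, 2],
  [0, 0, 0, 0, 0, 0, 0, 0, 0, 0, 0, 0, 0, 0, 0, 0, 0, 0, 0, 0, 0, 0, -2, 0]]

set_option maxRecDepth 1000000 in
theorem gMat_good : GoodMat gMat := by decide +kernel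

set_option maxRecDepth 1000000 in
theorem gMat_anti : ∀ a b : Fin 24, ent gMat b.val a.val = - ent gMat a.val b.val := by
  decide +kernel

theorem gMat_sq : toM gMat * toM gMat = (-4 : ℤ) • (1 : Matrix GolayPt GolayPt ℤ) := by
  have h1 := orthoRows_spec gMat_good.1 gMat_good.2.1
  have h2 : (toM gMat).transpose = -(toM gMat) := by
    apply Matrix.ext
    intro p q
    show ent gMat (ptInv q).val (ptInv p).val = - ent gMat (ptInv p).val (ptInv q).val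
    exact gMat_anti _ _
  rw [h2, Matrix.mul_neg] at h1
  rw [neg_smul, ← h1, neg_neg]

theorem actV_actV_neg {A : List (List ℤ)} (hA : WF A) (hpA : PresL A)
    (hAA : toM A * toM A = (-4 : ℤ) • (1 : Matrix GolayPt GolayPt ℤ)) {x : GolayPt → ℤ}
    (hx : x ∈ leechLattice) : actV A (actV A x) = -x := by
  obtain ⟨hz, hxz⟩ := actV_spec hA hpA hx
  obtain ⟨hw, hzw⟩ := actV_spec hA hpA hz
  have h4 : (toM A).mulVec ((toM A).mulVec x) = (-4 : ℤ) • x := by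
    rw [Matrix.mulVec_mulVec, hAA, Matrix.smul_mulVec, Matrix.one_mulVec]
  rw [hxz, Matrix.mulVec_smul, hzw, smul_smul] at h4
  funext p
  have := congrFun h4 p
  simp only [Pi.smul_apply, smul_eq_mul, Pi.neg_apply] at this ⊢
  omega

/-- the monomial automorphism whose square is `-1` -/
noncomputable def gEl : Co0 := matCo0 gMat gMat_good

theorem gEl_sq_apply (v : leechLattice) :
    ((gEl * gEl : Co0) : Equiv.Perm leechLattice) v = -v := by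
  show matPerm gMat gMat_good (matPerm gMat gMat_good v) = -v
  apply Subtype.ext
  show actV gMat (actV gMat (v : GolayPt → ℤ)) = ((-v : leechLattice) : GolayPt → ℤ)
  rw [AddSubgroup.coe_neg]
  exact actV_actV_neg gMat_good.1 gMat_good.2.2.2.1 gMat_sq v.2

theorem mem_center_of_neg (z : Co0)
    (hz : ∀ v : leechLattice, (z : Equiv.Perm leechLattice) v = -v) :
    z ∈ Subgroup.center Co0 := by
  rw [Subgroup.mem_center_iff]
  intro h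
  apply Subtype.ext
  apply Equiv.ext
  intro v
  show (h : Equiv.Perm leechLattice) ((z : Equiv.Perm leechLattice) v) =
    (z : Equiv.Perm leechLattice) ((h : Equiv.Perm leechLattice) v)
  rw [hz, hz, Cfsg.Agent.S0398.co0_neg]

theorem gEl_sq_mem : gEl * gEl ∈ Subgroup.center Co0 := mem_center_of_neg _ gEl_sq_apply

theorem gEl_sq_ne : gEl * gEl ≠ 1 := by
  intro h
  have h1 := gEl_sq_apply (e8 none)
  rw [h] at h1
  have h2 := congrArg (fun w : leechLattice => (w : GolayPt → ℤ) none) h1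
  simp only [Subgroup.coe_one, Equiv.Perm.coe_one, id_eq, AddSubgroup.coe_neg, Pi.neg_apply,
    e8_apply, if_true] at h2
  omega

end Cfsg.Agent.Lib.Helper22.Co1M.Helper23

namespace Cfsg.Agent.Lib.Helper22.Co1M

open Cfsg

/-- S2043-[LB], from the finiteness of the automorphism group of the lattice and the perfectness of
its central quotient -/
theorem exists_cover_of (hfin : Finite Cfsg.Co0) (hperf : commutator Cfsg.Spor.Co1 = ⊤) :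
    ∃ (Γ : Type) (_ : Group Γ) (_ : Finite Γ) (σ : Γ →* Cfsg.Spor.Co1),
      Cfsg.IsStemExtension σ ∧ Nonempty (σ.ker ≃* Multiplicative (ZMod 2)) := by
  haveI := hfin
  obtain ⟨h1, h2⟩ := Helper23.stem_of_center_two (Γ := Cfsg.Co0) Cfsg.Agent.S0398.result hperf
    Helper23.gEl Helper23.gEl_sq_mem Helper23.gEl_sq_ne
  exact ⟨Cfsg.Co0, inferInstance, hfin, QuotientGroup.mk' (Subgroup.center Cfsg.Co0), h1, h2⟩

/-- S2043-[LB], from the finiteness of the automorphism group of the lattice and the simplicity and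
the order of its central quotient -/
theorem exists_cover_of_simple (hfin : Finite Cfsg.Co0)
    (hs : IsSimpleGroup (Cfsg.Co0 ⧸ Subgroup.center Cfsg.Co0) ∧
      Nat.card (Cfsg.Co0 ⧸ Subgroup.center Cfsg.Co0) = 4157776806543360000) :
    ∃ (Γ : Type) (_ : Group Γ) (_ : Finite Γ) (σ : Γ →* Cfsg.Spor.Co1),
      Cfsg.IsStemExtension σ ∧ Nonempty (σ.ker ≃* Multiplicative (ZMod 2)) := by
  refine exists_cover_of hfin ?_
  apply Helper23.commutator_eq_top_of_simple_of_not_prime hs.1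
  rw [hs.2]
  norm_num

end Cfsg.Agent.Lib.Helper22.Co1M
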