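import Mathlib
import Cfsg.Prelude.Def_ChevAutomorphisms
import Cfsg.Prelude.Def_KGroupFacts
import Cfsg.Prelude.Def_ChevD4
import Cfsg.Prelude.Def_ChevE6
import Cfsg.Prelude.Def_ChevE7
import Cfsg.Prelude.Def_ChevE8
set_option autoImplicit false
set_option maxRecDepth 100000
set_option synthInstance.maxSize 100000
set_option synthInstance.maxHeartbeats 0
set_option maxHeartbeats 0

/-! Rigidity of the Dynkin diagrams E6, E7, E8 (farm-out FO-A of helper8, msg 2031). -/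

namespace Cfsg.Agent.Lib.Helper23.DiagSym

open Cfsg Cfsg.Lie

/-- explicit bond table of E8 -/
def T8 (i j : Fin 8) : ℤ := (([[4, 0, 1, 0, 0, 0, 0, 0], [0, 4, 0, 1, 0, 0, 0, 0], [1, 0, 4, 1, 0, 0, 0, 0], [0, 1, 1, 4, 1, 0, 0, 0], [0, 0, 0, 1, 4, 1, 0, 0], [0, 0, 0, 0, 1, 4, 1, 0], [0, 0, 0, 0, 0, 1, 4, 1], [0, 0, 0, 0, 0, 0, 1, 4]] : List (List ℤ)).getD i.val []).getD j.val 0

theorem bonds_eq_T8 : ∀ i j : Fin 8, chevE8.bonds i.val j.val = T8 i j := by decide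

theorem key8 : ∀ a3 : Fin 8, ∀ a1 : Fin 8, T8 a3 a1 = T8 3 1 → ∀ a2 : Fin 8, T8 a3 a2 = T8 3 2 → T8 a1 a2 = T8 1 2 → ∀ a4 : Fin 8, T8 a3 a4 = T8 3 4 → T8 a1 a4 = T8 1 4 → T8 a2 a4 = T8 2 4 → ∀ a0 : Fin 8, T8 a3 a0 = T8 3 0 → T8 a1 a0 = T8 1 0 → T8 a2 a0 = T8 2 0 → T8 a4 a0 = T8 4 0 → ∀ a5 : Fin 8, T8 a3 a5 = T8 3 5 → T8 a1 a5 = T8 1 5 → T8 a2 a5 = T8 2 5 → T8 a4 a5 = T8 4 5 → T8 a0 a5 = T8 0 5 → ∀ a6 : Fin 8, T8 a3 a6 = T8 3 6 → T8 a1 a6 = T8 1 6 → T8 a2 a6 = T8 2 6 → T8 a4 a6 = T8 4 6 → T8 a0 a6 = T8 0 6 → T8 a5 a6 = T8 5 6 → ∀ a7 : Fin 8, T8 a3 a7 = T8 3 7 → T8 a1 a7 = T8 1 7 → T8 a2 a7 = T8 2 7 → T8 a4 a7 = T8 4 7 → T8 a0 a7 = T8 0 7 → T8 a5 a7 = T8 5 7 → T8 a6 a7 = T8 6 7 → a0 = 0 ∧ a1 = 1 ∧ a2 = 2 ∧ a3 = 3 ∧ a4 = 4 ∧ a5 = 5 ∧ a6 = 6 ∧ a7 = 7 := by decide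

/-- explicit bond table of E7 -/
def T7 (i j : Fin 7) : ℤ := (([[4, 0, 1, 0, 0, 0, 0], [0, 4, 0, 1, 0, 0, 0], [1, 0, 4, 1, 0, 0, 0], [0, 1, 1, 4, 1, 0, 0], [0, 0, 0, 1, 4, 1, 0], [0, 0, 0, 0, 1, 4, 1], [0, 0, 0, 0, 0, 1, 4]] : List (List ℤ)).getD i.val []).getD j.val 0

theorem bonds_eq_T7 : ∀ i j : Fin 7, chevE7.bonds i.val j.val = T7 i j := by decide

theorem key7 : ∀ a3 : Fin 7, ∀ a1 : Fin 7, T7 a3 a1 = T7 3 1 → ∀ a2 : Fin 7, T7 a3 a2 = T7 3 2 → T7 a1 a2 = T7 1 2 → ∀ a4 : Fin 7, T7 a3 a4 = T7 3 4 → T7 a1 a4 = T7 1 4 → T7 a2 a4 = T7 2 4 → ∀ a0 : Fin 7, T7 a3 a0 = T7 3 0 → T7 a1 a0 = T7 1 0 → T7 a2 a0 = T7 2 0 → T7 a4 a0 = T7 4 0 → ∀ a5 : Fin 7, T7 a3 a5 = T7 3 5 → T7 a1 a5 = T7 1 5 → T7 a2 a5 = T7 2 5 → T7 a4 a5 = T7 4 5 → T7 a0 a5 = T7 0 5 → ∀ a6 : Fin 7, T7 a3 a6 = T7 3 6 → T7 a1 a6 = T7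 1 6 → T7 a2 a6 = T7 2 6 → T7 a4 a6 = T7 4 6 → T7 a0 a6 = T7 0 6 → T7 a5 a6 = T7 5 6 → a0 = 0 ∧ a1 = 1 ∧ a2 = 2 ∧ a3 = 3 ∧ a4 = 4 ∧ a5 = 5 ∧ a6 = 6 := by decide

/-- explicit bond table of E6 -/
def T6 (i j : Fin 6) : ℤ := (([[4, 0, 1, 0, 0, 0], [0, 4, 0, 1, 0, 0], [1, 0, 4, 1, 0, 0], [0, 1, 1, 4, 1, 0], [0, 0, 0, 1, 4, 1], [0, 0, 0, 0, 1, 4]] : List (List ℤ)).getD i.val []).getD j.val 0

theorem bonds_eq_T6 : ∀ i j : Fin 6, chevE6.bonds i.val j.val = T6 i j := by decide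

theorem key6 : ∀ a3 : Fin 6, ∀ a1 : Fin 6, T6 a3 a1 = T6 3 1 → ∀ a2 : Fin 6, T6 a3 a2 = T6 3 2 → T6 a1 a2 = T6 1 2 → ∀ a4 : Fin 6, T6 a3 a4 = T6 3 4 → T6 a1 a4 = T6 1 4 → T6 a2 a4 = T6 2 4 → ∀ a0 : Fin 6, T6 a3 a0 = T6 3 0 → T6 a1 a0 = T6 1 0 → T6 a2 a0 = T6 2 0 → T6 a4 a0 = T6 4 0 → ∀ a5 : Fin 6, T6 a3 a5 = T6 3 5 → T6 a1 a5 = T6 1 5 → T6 a2 a5 = T6 2 5 → T6 a4 a5 = T6 4 5 → T6 a0 a5 = T6 0 5 → (a0 = 0 ∧ a1 = 1 ∧ a2 = 2 ∧ a3 = 3 ∧ a4 = 4 ∧ a5 = 5) ∨ (a0 = 5 ∧ a1 = 1 ∧ a2 = 4 ∧ a3 = 3 ∧ a4 = 2 ∧ a5 = 0) := by decide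

theorem aux8 (π : Equiv.Perm (Fin 8))
    (h : ∀ i j : Fin 8, i ≠ j → chevE8.bonds (π i).val (π j).val = chevE8.bonds i.val j.val) : π = 1 := by
  have hT : ∀ i j : Fin 8, i ≠ j → T8 (π i) (π j) = T8 i j := by
    intro i j hij
    rw [← bonds_eq_T8, ← bonds_eq_T8]; exact h i j hij
  have hk := key8 (π 3) (π 1) (hT 3 1 (by decide)) (π 2) (hT 3 2 (by decide)) (hT 1 2 (by decide)) (π 4) (hT 3 4 (by decide)) (hT 1 4 (by decide)) (hT 2 4 (by decide)) (π 0) (hT 3 0 (by decide)) (hT 1 0 (by decide)) (hT 2 0 (by decide)) (hT 4 0 (by decide)) (π 5) (hT 3 5 (by decide)) (hT 1 5 (by decide)) (hT 2 5 (by decide)) (hT 4 5 (by decide)) (hT 0 5 (by decide)) (π 6) (hT 3 6 (by decide)) (hT 1 6 (by decide)) (hT 2 6 (by decide)) (hT 4 6 (by decide)) (hT 0 6 (by decide)) (hT 5 6 (by decide)) (π 7) (hT 3 7 (by decide))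 (hT 1 7 (by decide)) (hT 2 7 (by decide)) (hT 4 7 (by decide)) (hT 0 7 (by decide)) (hT 5 7 (by decide)) (hT 6 7 (by decide))
  obtain ⟨h0, h1, h2, h3, h4, h5, h6, h7⟩ := hk
  ext i
  fin_cases i <;> simp [*]

theorem diagSym_E8 (π : Equiv.Perm (Fin chevE8.rank)) (h : chevE8.IsDiagramSymmetry π) : π = 1 :=
  aux8 π h

theorem aux7 (π : Equiv.Perm (Fin 7))
    (h : ∀ i j : Fin 7, i ≠ j → chevE7.bonds (π i).val (π j).val = chevE7.bonds i.val j.val) : π = 1 := by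
  have hT : ∀ i j : Fin 7, i ≠ j → T7 (π i) (π j) = T7 i j := by
    intro i j hij
    rw [← bonds_eq_T7, ← bonds_eq_T7]; exact h i j hij
  have hk := key7 (π 3) (π 1) (hT 3 1 (by decide)) (π 2) (hT 3 2 (by decide)) (hT 1 2 (by decide)) (π 4) (hT 3 4 (by decide)) (hT 1 4 (by decide)) (hT 2 4 (by decide)) (π 0) (hT 3 0 (by decide)) (hT 1 0 (by decide)) (hT 2 0 (by decide)) (hT 4 0 (by decide)) (π 5) (hT 3 5 (by decide)) (hT 1 5 (by decide)) (hT 2 5 (by decide)) (hT 4 5 (by decide)) (hT 0 5 (by decide)) (π 6) (hT 3 6 (by decide)) (hT 1 6 (by decide)) (hT 2 6 (by decide)) (hT 4 6 (by decide)) (hT 0 6 (by decide)) (hT 5 6 (by decide))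
  obtain ⟨h0, h1, h2, h3, h4, h5, h6⟩ := hk
  ext i
  fin_cases i <;> simp [*]

theorem diagSym_E7 (π : Equiv.Perm (Fin chevE7.rank)) (h : chevE7.IsDiagramSymmetry π) : π = 1 :=
  aux7 π h

theorem aux6 (π : Equiv.Perm (Fin 6))
    (h : ∀ i j : Fin 6, i ≠ j → chevE6.bonds (π i).val (π j).val = chevE6.bonds i.val j.val) :
    π = 1 ∨ ∀ i : Fin 6, (π i).val = [5, 1, 4, 3, 2, 0].getD i.val 0 := by
  have hT : ∀ i j : Fin 6, i ≠ j → T6 (π i) (π j) = T6 i j := by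
    intro i j hij
    rw [← bonds_eq_T6, ← bonds_eq_T6]; exact h i j hij
  have hk := key6 (π 3) (π 1) (hT 3 1 (by decide)) (π 2) (hT 3 2 (by decide)) (hT 1 2 (by decide)) (π 4) (hT 3 4 (by decide)) (hT 1 4 (by decide)) (hT 2 4 (by decide)) (π 0) (hT 3 0 (by decide)) (hT 1 0 (by decide)) (hT 2 0 (by decide)) (hT 4 0 (by decide)) (π 5) (hT 3 5 (by decide)) (hT 1 5 (by decide)) (hT 2 5 (by decide)) (hT 4 5 (by decide)) (hT 0 5 (by decide))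
  rcases hk with ⟨h0, h1, h2, h3, h4, h5⟩ | ⟨h0, h1, h2, h3, h4, h5⟩
  · left
    ext i
    fin_cases i <;> simp [*]
  · right
    intro i
    fin_cases i <;> simp [*]

theorem diagSym_E6 (π : Equiv.Perm (Fin chevE6.rank)) (h : chevE6.IsDiagramSymmetry π) :
    π = 1 ∨ ∀ i : Fin chevE6.rank, (π i).val = [5, 1, 4, 3, 2, 0].getD i.val 0 :=
  aux6 π h

end Cfsg.Agent.Lib.Helper23.DiagSym
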