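import Mathlib
import Cfsg.Agent.Lib.Helper1.Frattini
import Cfsg.Agent.Lib.Helper1.Fitting
import Cfsg.Agent.Lib.Helper1.Cores
import Cfsg.Agent.Lib.Helper10.PLength
import Cfsg.Agent.Lib.Helper10.PComponent
import Cfsg.Agent.Lib.Helper16.PReduced
import Cfsg.Agent.Lib.Helper2.BurnsidePQ
import Cfsg.Agent.Lib.Helper1.PLengthOne

set_option autoImplicit false

/-!
Groups of exponent dividing 6 have 2-length and 3-length at most one.
-/

namespace Cfsg.Agent.Lib.Helper23.ExpSix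

open Cfsg
open scoped commutatorElement

/-- abstract core: a four-group `{1,A,B,C}` permuted cyclically by `Xi` with `Xi² + Xi + 1 = 0`
acts trivially (no 2-torsion). -/
theorem add_four_group_fixed {V : Type*} [AddCommGroup V] (h2 : ∀ v : V, v + v = 0 → v = 0)
    (A B C Xi : V →+ V)
    (hAA : ∀ v, A (A v) = v) (hBB : ∀ v, B (B v) = v) (hAB : ∀ v, A (B v) = B (A v))
    (hC : ∀ v, C v = B (A v))
    (hXA : ∀ v, A (Xi v) = Xi (C v)) (hXC : ∀ v, C (Xi v) = Xi (B v))
    (hN : ∀ v, Xi (Xi v) + Xi v + v = 0) (hXinj : ∀ v, Xi v = 0 → v = 0) :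
    ∀ v, A v = v := by
  have case1 : ∀ e : V, A e = -e → B e = e → e = 0 := by
    intro e hA hB
    have hCe : C e = -e := by rw [hC, hA, map_neg, hB]
    have hAf : A (Xi e) = -Xi e := by rw [hXA, hCe, map_neg]
    have hAg : A (Xi (Xi e)) = Xi (Xi e) := by rw [hXA, hXC, hB]
    have h1 := hN e
    have h2' : A (Xi (Xi e) + Xi e + e) = 0 := by rw [h1, map_zero]
    rw [map_add, map_add, hAg, hAf, hA] at h2'
    have h3 : Xi (Xi e) + Xi (Xi e) = 0 := by
      have : Xi (Xi e) + Xi (Xi e) =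
          (Xi (Xi e) + Xi e + e) + (Xi (Xi e) + -Xi e + -e) := by abel
      rw [this, h1, h2', add_zero]
    exact hXinj _ (hXinj _ (h2 _ h3))
  have case2 : ∀ e : V, A e = -e → B e = -e → e = 0 := by
    intro e hA hB
    have hCe : C e = e := by rw [hC, hA, map_neg, hB, neg_neg]
    have hAf : A (Xi e) = Xi e := by rw [hXA, hCe]
    have hAg : A (Xi (Xi e)) = -Xi (Xi e) := by rw [hXA, hXC, hB, map_neg, map_neg]
    have h1 := hN e
    have h2' : A (Xi (Xi e) + Xi e + e) = 0 := by rw [h1, map_zero]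
    rw [map_add, map_add, hAg, hAf, hA] at h2'
    have h3 : Xi e + Xi e = 0 := by
      have : Xi e + Xi e =
          (Xi (Xi e) + Xi e + e) + (-Xi (Xi e) + Xi e + -e) := by abel
      rw [this, h1, h2', add_zero]
    exact hXinj _ (h2 _ h3)
  intro v
  by_contra hne
  set e₁ := A v - v with he₁
  have he₁0 : e₁ ≠ 0 := sub_ne_zero.mpr hne
  have hA1 : A e₁ = -e₁ := by rw [he₁, map_sub, hAA, neg_sub]
  have hA2 : e₁ + B e₁ = 0 := by
    apply case1
    · rw [map_add, hAB, hA1, map_neg, neg_add]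
    · rw [map_add, hBB, add_comm]
  have hA3 : e₁ - B e₁ = 0 := by
    apply case2
    · rw [map_sub, hAB, hA1, map_neg, neg_sub_neg, neg_sub]
    · rw [map_sub, hBB, neg_sub]
  apply he₁0
  apply h2
  have : e₁ + e₁ = (e₁ + B e₁) + (e₁ - B e₁) := by abel
  rw [this, hA2, hA3, add_zero]

/-- abelian normal subgroup `T` without 2-torsion, `u`, `x` inducing (mod `C(T)`) a four-group with a
3-cycle, and `(x t)^3 = 1` on `T`: then `u` centralizes `T`. -/
theorem conj_eq_of_four_group_cube {H : Type*} [Group H] (T : Subgroup H) [hT : T.Normal]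
    (hab : ∀ s ∈ T, ∀ t ∈ T, s * t = t * s) (h2 : ∀ t ∈ T, t * t = 1 → t = 1) (x u : H)
    (hu2 : u * u ∈ T)
    (hcomm : u * (x⁻¹ * u * x) * (x⁻¹ * u * x * u)⁻¹ ∈ T)
    (hprod : u * (x⁻¹ * u * x) * (x⁻¹ * (x⁻¹ * u * x) * x) ∈ T)
    (hx3 : x * x * x = 1)
    (hcube : ∀ t ∈ T, x⁻¹ * (x⁻¹ * t * x) * x * (x⁻¹ * t * x) * t = 1) :
    ∀ t ∈ T, u * t * u⁻¹ = t := by
  let _ : CommGroup T := { (inferInstance : Group T) with
    mul_comm := fun s t => Subtype.ext (hab s s.2 t t.2) }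
  set b := x⁻¹ * u * x with hb
  set c := x⁻¹ * b * x with hc
  let cn : H →* MulAut T := MulAut.conjNormal
  have hmul : ∀ (g h : H) (t : T), cn g (cn h t) = cn (g * h) t := by
    intro g h t
    rw [map_mul, MulAut.mul_apply]
  have htriv : ∀ s ∈ T, ∀ t : T, cn s t = t := by
    intro s hs t
    apply Subtype.ext
    change (MulAut.conjNormal s t : T).1 = t.1
    rw [MulAut.conjNormal_apply, hab s hs t t.2, mul_inv_cancel_right]
  have hcongr : ∀ g h : H, g * h⁻¹ ∈ T → ∀ t : T, cn g t = cn h t := by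
    intro g h hgh t
    have : cn g t = cn (g * h⁻¹) (cn h t) := by rw [hmul, inv_mul_cancel_right]
    rw [this, htriv _ hgh]
  have m1 : ∀ t : T, cn u (cn u t) = t := fun t => by rw [hmul, htriv _ hu2]
  have hbb : b * b ∈ T := by
    have h1 : b * b = x⁻¹ * (u * u) * x⁻¹⁻¹ := by rw [hb]; group
    rw [h1]
    exact hT.conj_mem _ hu2 _
  have m2 : ∀ t : T, cn b (cn b t) = t := fun t => by rw [hmul, htriv _ hbb]
  have m3 : ∀ t : T, cn u (cn b t) = cn b (cn u t) := fun t => by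
    rw [hmul, hmul]
    exact hcongr _ _ hcomm t
  have m4 : ∀ t : T, cn c t = cn b (cn u t) := by
    intro t
    have h1 : cn u (cn b (cn c t)) = t := by
      rw [hmul b c, hmul u (b * c), show u * (b * c) = u * b * c from (mul_assoc _ _ _).symm,
        htriv _ hprod]
    have h2' : cn b (cn c t) = cn u t := by
      have := congrArg (cn u) h1
      rwa [m1] at this
    have h3 := congrArg (cn b) h2'
    rwa [m2] at h3
  have hxx : x * x = x⁻¹ := eq_inv_of_mul_eq_one_left hx3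
  have m5 : ∀ t : T, cn u (cn x⁻¹ t) = cn x⁻¹ (cn c t) := by
    intro t
    rw [hmul, hmul]
    have : x⁻¹ * c = u * x⁻¹ := by
      calc x⁻¹ * c = (x * x * x)⁻¹ * u * (x * x) := by rw [hc, hb]; group
        _ = u * x⁻¹ := by rw [hx3, inv_one, one_mul, hxx]
    rw [this]
  have m6 : ∀ t : T, cn c (cn x⁻¹ t) = cn x⁻¹ (cn b t) := by
    intro t
    rw [hmul, hmul]
    have : c * x⁻¹ = x⁻¹ * b := by rw [hc]; group
    rw [this]
  have m7 : ∀ t : T, cn x⁻¹ (cn x⁻¹ t) * cn x⁻¹ t * t = 1 := by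
    intro t
    apply Subtype.ext
    change ((MulAut.conjNormal x⁻¹ (MulAut.conjNormal x⁻¹ t : T) : T).1 *
      (MulAut.conjNormal x⁻¹ t : T).1 * t.1) = 1
    rw [MulAut.conjNormal_apply, MulAut.conjNormal_apply, inv_inv]
    exact hcube t t.2
  let ad : H → (Additive T →+ Additive T) := fun g =>
    MonoidHom.toAdditive ((cn g : MulAut T).toMonoidHom)
  have had : ∀ (g : H) (v : Additive T), ad g v = Additive.ofMul (cn g (Additive.toMul v)) :=
    fun _ _ => rfl
  have key := add_four_group_fixed (V := Additive T) ?_ (ad u) (ad b) (ad c) (ad x⁻¹)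
    ?_ ?_ ?_ ?_ ?_ ?_ ?_ ?_
  · intro t ht
    have := key (Additive.ofMul ⟨t, ht⟩)
    rw [had] at this
    have h' : cn u ⟨t, ht⟩ = ⟨t, ht⟩ := this
    have h'' := congrArg Subtype.val h'
    change (MulAut.conjNormal u (⟨t, ht⟩ : T) : T).1 = t at h''
    rwa [MulAut.conjNormal_apply] at h''
  · intro v hv
    have h' : Additive.toMul v * Additive.toMul v = 1 := hv
    have := h2 _ (Additive.toMul v).2 (by
      have := congrArg Subtype.val h'
      simpa using this)
    have h3 : Additive.toMul v = 1 := Subtype.ext this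
    exact h3
  · intro v; rw [had, had]; exact congrArg Additive.ofMul (m1 _)
  · intro v; rw [had, had]; exact congrArg Additive.ofMul (m2 _)
  · intro v; rw [had, had, had, had]; exact congrArg Additive.ofMul (m3 _)
  · intro v; rw [had, had, had]; exact congrArg Additive.ofMul (m4 _)
  · intro v; rw [had, had, had, had]; exact congrArg Additive.ofMul (m5 _)
  · intro v; rw [had, had, had, had]; exact congrArg Additive.ofMul (m6 _)
  · intro v; rw [had, had]; exact congrArg Additive.ofMul (m7 _)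
  · intro v hv
    rw [had] at hv
    have h' : cn x⁻¹ (Additive.toMul v) = 1 := hv
    have h3 : Additive.toMul v = 1 := (MulEquiv.map_eq_one_iff (cn x⁻¹)).mp h'
    exact h3

/-- the same modulo a normal subgroup `Φ` -/
theorem commutator_mem_of_four_group_cube {H : Type*} [Group H] (T Φ : Subgroup H)
    [hT : T.Normal] [hΦ : Φ.Normal]
    (hab : ∀ s ∈ T, ∀ t ∈ T, s * t * (t * s)⁻¹ ∈ Φ)
    (h2 : ∀ t ∈ T, t * t ∈ Φ → t ∈ Φ) (x u : H)
    (hu2 : u * u ∈ T)
    (hcomm : u * (x⁻¹ * u * x) * (x⁻¹ * u * x * u)⁻¹ ∈ T)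
    (hprod : u * (x⁻¹ * u * x) * (x⁻¹ * (x⁻¹ * u * x) * x) ∈ T)
    (hx3 : x * x * x = 1)
    (hcube : ∀ t ∈ T, x⁻¹ * (x⁻¹ * t * x) * x * (x⁻¹ * t * x) * t ∈ Φ) :
    ∀ t ∈ T, u * t * u⁻¹ * t⁻¹ ∈ Φ := by
  set π := QuotientGroup.mk' Φ with hπ
  have hsurj : Function.Surjective π := QuotientGroup.mk'_surjective Φ
  have hker : ∀ y : H, π y = 1 ↔ y ∈ Φ := fun y => QuotientGroup.eq_one_iff y
  have : (T.map π).Normal := hT.map π hsurj
  have key := conj_eq_of_four_group_cube (T.map π) ?_ ?_ (π x) (π u) ?_ ?_ ?_ ?_ ?_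
  · intro t ht
    have := key (π t) (Subgroup.mem_map_of_mem π ht)
    rw [← hker, map_mul, map_mul, map_mul, map_inv, map_inv, this, mul_inv_cancel]
  · rintro _ ⟨s, hs, rfl⟩ _ ⟨t, ht, rfl⟩
    have := (hker _).mpr (hab s hs t ht)
    rw [map_mul, map_inv, mul_inv_eq_one] at this
    rw [← map_mul, ← map_mul]
    exact this
  · rintro _ ⟨t, ht, rfl⟩ h
    rw [← map_mul, hker] at h
    exact (hker t).mpr (h2 t ht h)
  · rw [← map_mul]; exact Subgroup.mem_map_of_mem π hu2
  · have := Subgroup.mem_map_of_mem π hcomm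
    simpa only [map_mul, map_inv] using this
  · have := Subgroup.mem_map_of_mem π hprod
    simpa only [map_mul, map_inv] using this
  · rw [← map_mul, ← map_mul, hx3, map_one]
  · rintro _ ⟨t, ht, rfl⟩
    have := (hker _).mpr (hcube t ht)
    simpa only [map_mul, map_inv] using this


theorem pow_three_of_pgroup {H : Type*} [Group H] (h6 : ∀ y : H, y ^ 6 = 1) (y : H) (k : ℕ)
    (hy : y ^ (3 ^ k) = 1) : y ^ 3 = 1 := by
  have h1 : orderOf y ∣ 3 * 2 := orderOf_dvd_of_pow_eq_one (h6 y)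
  have h2 : orderOf y ∣ 3 ^ k := orderOf_dvd_of_pow_eq_one hy
  have h3 : Nat.Coprime (orderOf y) 2 :=
    Nat.Coprime.coprime_dvd_left h2 (Nat.Coprime.pow_left k (by decide))
  exact orderOf_dvd_iff_pow_eq_one.mp (h3.dvd_of_dvd_mul_right h1)

theorem pow_two_of_pgroup {H : Type*} [Group H] (h6 : ∀ y : H, y ^ 6 = 1) (y : H) (k : ℕ)
    (hy : y ^ (2 ^ k) = 1) : y ^ 2 = 1 := by
  have h1 : orderOf y ∣ 2 * 3 := orderOf_dvd_of_pow_eq_one (h6 y)
  have h2 : orderOf y ∣ 2 ^ k := orderOf_dvd_of_pow_eq_one hy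
  have h3 : Nat.Coprime (orderOf y) 3 :=
    Nat.Coprime.coprime_dvd_left h2 (Nat.Coprime.pow_left k (by decide))
  exact orderOf_dvd_iff_pow_eq_one.mp (h3.dvd_of_dvd_mul_right h1)

theorem eq_one_of_pow_two_of_pow_three {H : Type*} [Group H] (y : H) (k : ℕ)
    (hy : y ^ (3 ^ k) = 1) (hy2 : y ^ 2 = 1) : y = 1 := by
  have h1 : orderOf y ∣ 2 := orderOf_dvd_of_pow_eq_one hy2
  have h2 : orderOf y ∣ 3 ^ k := orderOf_dvd_of_pow_eq_one hy
  have h3 : Nat.Coprime (orderOf y) 2 :=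
    Nat.Coprime.coprime_dvd_left h2 (Nat.Coprime.pow_left k (by decide))
  exact orderOf_eq_one_iff.mp (Nat.Coprime.eq_one_of_dvd h3 h1)

theorem pCore_quotient_pCore_eq_bot {L : Type*} [Group L] [Finite L] (p : ℕ) [Fact p.Prime] :
    pCore p (L ⧸ pCore p L) = ⊥ := by
  apply Cfsg.Agent.Lib.Helper16.pCore_quotient_eq_bot_of
  intro D hD hp
  apply Cfsg.Agent.Lib.Helper1.le_pCore hD
  intro d
  obtain ⟨k, hk⟩ := hp d.1 d.2
  obtain ⟨j, hj⟩ := (Cfsg.Agent.Lib.Helper1.pCore_isPGroup (G := L) p) ⟨_, hk⟩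
  refine ⟨k + j, Subtype.ext ?_⟩
  have h1 := congrArg Subtype.val hj
  simp only [SubgroupClass.coe_pow, Subgroup.coe_one] at h1 ⊢
  rw [pow_add, pow_mul]
  exact h1

/-- elements of a group generated by an involution -/
theorem eq_one_or_eq_of_mem_zpowers {H : Type*} [Group H] (u : H) (hu : u * u = 1) (a : H)
    (ha : a ∈ Subgroup.zpowers u) : a = 1 ∨ a = u := by
  obtain ⟨n, rfl⟩ := Subgroup.mem_zpowers_iff.mp ha
  have h2 : u ^ (2 : ℤ) = 1 := by rw [zpow_two]; exact hu
  rcases Int.even_or_odd' n with ⟨k, hk | hk⟩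
  · left
    rw [hk, zpow_mul, h2, one_zpow]
  · right
    rw [hk, zpow_add, zpow_mul, h2, one_zpow, one_mul, zpow_one]

/-- main lemma: solvable, exponent dividing 6, `O_{3'} = 1`: the elements of order 3 lie in `O_3`. -/
theorem mem_pCore_three {H : Type*} [Group H] [Finite H] [Group.IsSolvable H]
    (h6 : ∀ y : H, y ^ 6 = 1) (hO : pPrimeCore 3 H = ⊥) (x : H) (hx : x ^ 3 = 1) :
    x ∈ pCore 3 H := by
  have : Fact (Nat.Prime 3) := ⟨Nat.prime_three⟩
  have : Fact (Nat.Prime 2) := ⟨Nat.prime_two⟩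
  by_contra hxT
  set T := pCore 3 H with hTdef
  have hTp : IsPGroup 3 T := Cfsg.Agent.Lib.Helper1.pCore_isPGroup 3
  have hCT : Subgroup.centralizer (T : Set H) ≤ T :=
    Cfsg.Agent.Lib.Helper1.centralizer_pCore_le 3 hO
  set π := QuotientGroup.mk' T with hπ
  have hsurj : Function.Surjective π := QuotientGroup.mk'_surjective T
  have hker : ∀ y, π y = 1 ↔ y ∈ T := fun y => QuotientGroup.eq_one_iff y
  have h6' : ∀ y : H ⧸ T, y ^ 6 = 1 := by
    intro y
    obtain ⟨y, rfl⟩ := hsurj y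
    rw [← map_pow, h6, map_one]
  have hO3 : pCore 3 (H ⧸ T) = ⊥ := pCore_quotient_pCore_eq_bot 3
  have hO2' : pPrimeCore 2 (H ⧸ T) = ⊥ := by
    rw [eq_bot_iff, ← hO3]
    apply Cfsg.Agent.Lib.Helper1.le_pCore (Cfsg.Agent.Lib.Helper1.pPrimeCore_normal 2)
    intro d
    have hcop := Cfsg.Agent.Lib.Helper1.pPrimeCore_coprime (G := H ⧸ T) 2
    refine ⟨1, ?_⟩
    have h1 : orderOf d ∣ 3 * 2 := orderOf_dvd_of_pow_eq_one (by
      apply Subtype.ext
      simpa using h6' d.1)
    have h2 : orderOf d ∣ Nat.card (pPrimeCore 2 (H ⧸ T)) := orderOf_dvd_natCard d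
    have h3 : Nat.Coprime (orderOf d) 2 := Nat.Coprime.coprime_dvd_left h2 hcop
    rw [pow_one]
    exact orderOf_dvd_iff_pow_eq_one.mp (h3.dvd_of_dvd_mul_right h1)
  set Q := pCore 2 (H ⧸ T) with hQdef
  have hQn : Q.Normal := Cfsg.Agent.Lib.Helper1.pCore_normal 2
  have hCQ : Subgroup.centralizer (Q : Set (H ⧸ T)) ≤ Q :=
    Cfsg.Agent.Lib.Helper1.centralizer_pCore_le 2 hO2'
  have hQp : IsPGroup 2 Q := Cfsg.Agent.Lib.Helper1.pCore_isPGroup 2
  have hQ2 : ∀ r ∈ Q, r * r = 1 := by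
    intro r hr
    obtain ⟨k, hk⟩ := hQp ⟨r, hr⟩
    have h1 : r ^ (2 ^ k) = 1 := by
      have := congrArg Subtype.val hk
      simpa using this
    have := pow_two_of_pgroup h6' r k h1
    rwa [pow_two] at this
  have hQab : ∀ r ∈ Q, ∀ s ∈ Q, r * s = s * r := by
    intro r hr s hs
    have h1 := hQ2 _ (Q.mul_mem hr hs)
    have h2 := hQ2 r hr
    have h3 := hQ2 s hs
    symm
    calc s * r = (r * r) * (s * r) * (s * s) := by rw [h2, h3, one_mul, mul_one]
      _ = r * (r * s * (r * s)) * s := by group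
      _ = r * s := by rw [h1, mul_one]
  -- the element x̄
  have hx3 : x * x * x = 1 := by rw [pow_succ, pow_two] at hx; exact hx
  have hxb3 : π x * π x * π x = 1 := by rw [← map_mul, ← map_mul, hx3, map_one]
  have hxb1 : π x ≠ 1 := fun h => hxT ((hker x).mp h)
  have hxQ : π x ∉ Q := by
    intro h
    have h2 := hQ2 _ h
    apply hxb1
    rw [h2, one_mul] at hxb3
    exact hxb3
  have hxC : π x ∉ Subgroup.centralizer (Q : Set (H ⧸ T)) := fun h => hxQ (hCQ h)
  rw [Subgroup.mem_centralizer_iff] at hxC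
  push Not at hxC
  obtain ⟨q₀, hq₀Q, hq₀x⟩ := hxC
  obtain ⟨q, rfl⟩ := hsurj q₀
  -- conjugation by x̄⁻¹
  set cj : H ⧸ T → H ⧸ T := fun y => (π x)⁻¹ * y * π x with hcj
  have cj_mem : ∀ y ∈ Q, cj y ∈ Q := by
    intro y hy
    have := hQn.conj_mem y hy (π x)⁻¹
    rwa [inv_inv] at this
  have cj_mul : ∀ y z, cj (y * z) = cj y * cj z := by
    intro y z
    simp only [hcj]
    group
  have cj3 : ∀ y, cj (cj (cj y)) = y := by
    intro y
    have : cj (cj (cj y)) = (π x * π x * π x)⁻¹ * y * (π x * π x * π x) := by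
      simp only [hcj]
      group
    rw [this, hxb3, inv_one, one_mul, mul_one]
  set q₁ := cj (π q) with hq₁
  set q₂ := cj q₁ with hq₂
  have hq₁Q : q₁ ∈ Q := cj_mem _ hq₀Q
  have hq₂Q : q₂ ∈ Q := cj_mem _ hq₁Q
  have hq₃ : cj q₂ = π q := cj3 _
  -- the element w̄ = q₀ q₁
  set wb := π q * q₁ with hwb
  have hwbQ : wb ∈ Q := Q.mul_mem hq₀Q hq₁Q
  have hwb1 : wb ≠ 1 := by
    intro h
    apply hq₀x
    have h1 : q₁ = π q := by
      have h2 := hQ2 _ hq₀Q
      have : q₁ = (π q)⁻¹ := (eq_inv_of_mul_eq_one_right h)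
      rw [this]
      exact (eq_inv_of_mul_eq_one_left h2).symm
    have h3 : (π x)⁻¹ * π q * π x = π q := h1
    calc π q * π x = π x * ((π x)⁻¹ * π q * π x) := by group
      _ = π x * π q := by rw [h3]
  set w := q * (x⁻¹ * q * x) with hw
  have hπw : π w = wb := by
    rw [hw, map_mul, map_mul, map_mul, map_inv]
  set u := w ^ 3 with hu
  have hπu : π u = wb := by
    rw [hu, map_pow, hπw, pow_succ, pow_two, hQ2 _ hwbQ, one_mul]
  have huu : u * u = 1 := by
    rw [hu, ← pow_add]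
    exact h6 w
  have huT : u ∉ T := by
    intro h
    apply hwb1
    rw [← hπu]
    exact (hker u).mpr h
  -- relations modulo T
  have hcjw : cj wb = q₁ * q₂ := by rw [hwb, cj_mul]
  have hcjcjw : cj (cj wb) = q₂ * π q := by rw [hcjw, cj_mul, hq₃]
  set b := x⁻¹ * u * x with hb
  set c := x⁻¹ * b * x with hc
  have hπb : π b = cj wb := by
    rw [hb, map_mul, map_mul, map_inv, hπu]
  have hπc : π c = cj (cj wb) := by
    rw [hc, map_mul, map_mul, map_inv, hπb]
  have hrel1 : u * u ∈ T := by rw [huu]; exact T.one_mem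
  have hrel2 : u * b * (b * u)⁻¹ ∈ T := by
    rw [← hker, map_mul π (u * b), map_inv, map_mul π u b, map_mul π b u, hπb, hπu,
      mul_inv_eq_one]
    exact hQab _ hwbQ _ (cj_mem _ hwbQ)
  have hrel3 : u * b * c ∈ T := by
    rw [← hker, map_mul π (u * b), map_mul π u b, hπc, hπb, hπu, hcjcjw, hcjw, hwb]
    calc π q * q₁ * (q₁ * q₂) * (q₂ * π q) = π q * (q₁ * q₁) * (q₂ * q₂) * π q := by group
      _ = 1 := by rw [hQ2 _ hq₁Q, hQ2 _ hq₂Q, mul_one, mul_one, hQ2 _ hq₀Q]
  -- the Frattini subgroup of T inside H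
  set Φ : Subgroup H := (frattini T).map T.subtype with hΦ
  have hΦn : Φ.Normal := by
    rw [← Subgroup.normalizer_eq_top_iff, eq_top_iff]
    have := Cfsg.Agent.Lib.Helper1.normalizer_le_normalizer_map_of_characteristic T (frattini T)
    rwa [Subgroup.normalizer_eq_top] at this
  have hTn : T.Normal := Cfsg.Agent.Lib.Helper1.pCore_normal 3
  have hab : ∀ s ∈ T, ∀ t ∈ T, s * t * (t * s)⁻¹ ∈ Φ := by
    intro s hs t ht
    have h1 : (⁅(⟨s, hs⟩ : T), (⟨t, ht⟩ : T)⁆ : T) ∈ frattini T := by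
      apply Cfsg.Agent.Lib.Helper1.IsPGroup.commutator_le_frattini hTp
      exact Subgroup.commutator_mem_commutator (Subgroup.mem_top _) (Subgroup.mem_top _)
    have h2 := Subgroup.mem_map_of_mem T.subtype h1
    have h3 : T.subtype ⁅(⟨s, hs⟩ : T), (⟨t, ht⟩ : T)⁆ = s * t * (t * s)⁻¹ := by
      simp [commutatorElement_def, mul_assoc]
    rw [h3] at h2
    exact h2
  have h2Φ : ∀ t ∈ T, t * t ∈ Φ → t ∈ Φ := by
    intro t ht htt
    obtain ⟨k, hk⟩ := hTp ⟨t, ht⟩
    have hk' : t ^ (3 ^ k) = 1 := by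
      have := congrArg Subtype.val hk
      simpa using this
    have hodd : Odd (3 ^ k) := Odd.pow (by decide)
    obtain ⟨m, hm⟩ := hodd
    have : t = (t * t) ^ (m + 1) := by
      rw [← pow_two, ← pow_mul]
      have : 2 * (m + 1) = 3 ^ k + 1 := by omega
      rw [this, pow_succ, hk', one_mul]
    rw [this]
    exact Φ.pow_mem htt _
  have hcube : ∀ t ∈ T, x⁻¹ * (x⁻¹ * t * x) * x * (x⁻¹ * t * x) * t ∈ Φ := by
    intro t ht
    have h1 : x⁻¹ * (x⁻¹ * t * x) * x * (x⁻¹ * t * x) * t =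
        (x * x * x)⁻¹ * ((x * t) * (x * t) * (x * t)) := by
      group
    have h2 : (x * t) * (x * t) * (x * t) = 1 := by
      rw [← pow_two, ← pow_succ]
      have hy : (x * t) ^ 3 ∈ T := by
        rw [← hker, map_pow, map_mul, (hker t).mpr ht, mul_one, pow_succ, pow_two, hxb3]
      obtain ⟨k, hk⟩ := hTp ⟨_, hy⟩
      have hk' : ((x * t) ^ 3) ^ (3 ^ k) = 1 := by
        have := congrArg Subtype.val hk
        simpa using this
      apply eq_one_of_pow_two_of_pow_three _ k hk'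
      rw [← pow_mul]
      exact h6 _
    rw [h1, h2, hx3, inv_one, one_mul]
    exact Φ.one_mem
  have hcen := commutator_mem_of_four_group_cube T Φ hab h2Φ x u hrel1 hrel2 hrel3 hx3 hcube
  have hle := Cfsg.Agent.Lib.Helper1.le_centralizer_of_commutator_le_frattini
    (Subgroup.zpowers u) T (by rw [Subgroup.normalizer_eq_top]; exact le_top) ?_ ?_
  · exact huT (hCT (hle (Subgroup.mem_zpowers u)))
  · rw [Nat.card_zpowers]
    have h1 : orderOf u ∣ 2 := orderOf_dvd_of_pow_eq_one (by rw [pow_two]; exact huu)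
    obtain ⟨j, hj⟩ := (hTp.to_subgroup (frattini T)).exists_card_eq
    rw [hj]
    exact Nat.Coprime.coprime_dvd_left h1 (Nat.Coprime.pow_right j (by decide))
  · intro a ha k hk
    rcases eq_one_or_eq_of_mem_zpowers u huu a ha with rfl | rfl
    · rw [one_mul, inv_one, mul_one, mul_inv_cancel]
      exact Φ.one_mem
    · exact hcen k hk


universe u

theorem exists_card_eq_of_exp_six {G : Type u} [Group G] [Finite G] (h : ∀ x : G, x ^ 6 = 1) :
    ∃ a b : ℕ, Nat.card G = 2 ^ a * 3 ^ b := by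
  set n := Nat.card G with hn
  have hn0 : n ≠ 0 := Nat.card_pos.ne'
  have hsub : n.factorization.support ⊆ ({2, 3} : Finset ℕ) := by
    intro p hp
    rw [Nat.support_factorization] at hp
    have hpp : p.Prime := Nat.prime_of_mem_primeFactors hp
    have hpd : p ∣ n := Nat.dvd_of_mem_primeFactors hp
    have : Fact p.Prime := ⟨hpp⟩
    obtain ⟨x, hx⟩ := exists_prime_orderOf_dvd_card' (G := G) p hpd
    have h6 : p ∣ 2 * 3 := by
      rw [← hx]
      exact orderOf_dvd_of_pow_eq_one (h x)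
    rcases (Nat.Prime.dvd_mul hpp).mp h6 with h2 | h3
    · rw [(Nat.prime_dvd_prime_iff_eq hpp Nat.prime_two).mp h2]; simp
    · rw [(Nat.prime_dvd_prime_iff_eq hpp Nat.prime_three).mp h3]; simp
  refine ⟨n.factorization 2, n.factorization 3, ?_⟩
  have h1 := Nat.prod_factorization_pow_eq_self hn0
  rw [Finsupp.prod_of_support_subset n.factorization hsub (fun p k => p ^ k)
    (fun _ _ => pow_zero _), Finset.prod_pair (by decide)] at h1
  exact h1.symm

theorem pLengthLE_one_of_sylow_le {G : Type u} [Group G] [Finite G] (p : ℕ) [hp : Fact p.Prime]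
    (P : Sylow p G) (hP : (P : Subgroup G) ≤ pPrimePCore p G) : PLengthLE p 1 G := by
  apply Cfsg.Agent.Lib.Helper10.pLengthLE_one_of_index_coprime
  have h1 : (pPrimePCore p G).index ∣ (P : Subgroup G).index := Subgroup.index_dvd_of_le hP
  have h2 : ¬ p ∣ (P : Subgroup G).index := P.not_dvd_index
  exact Nat.Coprime.coprime_dvd_left h1 ((Nat.Prime.coprime_iff_not_dvd hp.out).mpr h2).symm

theorem isMulCommutative_of_sq {G : Type u} [Group G] (K : Subgroup G)
    (h : ∀ r ∈ K, r * r = 1) : IsMulCommutative K := by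
  refine ⟨⟨?_⟩⟩
  rintro ⟨r, hr⟩ ⟨s, hs⟩
  apply Subtype.ext
  change r * s = s * r
  have h1 := h _ (K.mul_mem hr hs)
  have h2 := h r hr
  have h3 := h s hs
  symm
  calc s * r = (r * r) * (s * r) * (s * s) := by rw [h2, h3, one_mul, mul_one]
    _ = r * (r * s * (r * s)) * s := by group
    _ = r * s := by rw [h1, mul_one]

/-- **Exponent six**: a finite group of exponent dividing 6 has 2-length and 3-length at most 1. -/
theorem pLengthLE_of_exp_six {G : Type u} [Group G] [Finite G] (h : ∀ x : G, x ^ 6 = 1) :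
    PLengthLE 2 1 G ∧ PLengthLE 3 1 G := by
  have : Fact (Nat.Prime 3) := ⟨Nat.prime_three⟩
  have : Fact (Nat.Prime 2) := ⟨Nat.prime_two⟩
  obtain ⟨a, b, hab⟩ := exists_card_eq_of_exp_six h
  have hsolv : Group.IsSolvable G :=
    Cfsg.Agent.Lib.Helper2.isSolvable_of_card_eq_prime_pow_mul_prime_pow 2 3 Nat.prime_two
      Nat.prime_three (Nat.card G) G rfl ⟨a, b, hab⟩
  constructor
  · -- 2-length
    obtain ⟨P⟩ : Nonempty (Sylow 2 G) := inferInstance
    apply pLengthLE_one_of_sylow_le 2 P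
    set N := pPrimeCore 2 G with hN
    set π := QuotientGroup.mk' N with hπ
    have hsurj : Function.Surjective π := QuotientGroup.mk'_surjective N
    have h6' : ∀ y : G ⧸ N, y ^ 6 = 1 := by
      intro y
      obtain ⟨y, rfl⟩ := hsurj y
      rw [← map_pow, h, map_one]
    set Pb : Sylow 2 (G ⧸ N) := P.mapSurjective hsurj with hPb
    have hPbc : IsMulCommutative Pb := by
      apply isMulCommutative_of_sq
      intro r hr
      obtain ⟨k, hk⟩ := Pb.2 ⟨r, hr⟩
      have h1 : r ^ (2 ^ k) = 1 := by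
        have := congrArg Subtype.val hk
        simpa using this
      have := pow_two_of_pgroup h6' r k h1
      rwa [pow_two] at this
    have h1 := Cfsg.Agent.Lib.Helper1.sylow_eq_pCore_of_comm 2
      (Cfsg.Agent.Lib.Helper10.pPrimeCore_quotient_eq_bot (G := G) 2) Pb hPbc
    intro y hy
    change π y ∈ pCore 2 (G ⧸ N)
    rw [← h1, hPb, Sylow.coe_mapSurjective]
    exact Subgroup.mem_map_of_mem π hy
  · -- 3-length
    obtain ⟨P⟩ : Nonempty (Sylow 3 G) := inferInstance
    apply pLengthLE_one_of_sylow_le 3 P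
    set N := pPrimeCore 3 G with hN
    set π := QuotientGroup.mk' N with hπ
    have hsurj : Function.Surjective π := QuotientGroup.mk'_surjective N
    have h6' : ∀ y : G ⧸ N, y ^ 6 = 1 := by
      intro y
      obtain ⟨y, rfl⟩ := hsurj y
      rw [← map_pow, h, map_one]
    intro y hy
    change π y ∈ pCore 3 (G ⧸ N)
    apply mem_pCore_three h6' (Cfsg.Agent.Lib.Helper10.pPrimeCore_quotient_eq_bot (G := G) 3)
    obtain ⟨k, hk⟩ := P.2 ⟨y, hy⟩
    have h1 : y ^ (3 ^ k) = 1 := by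
      have := congrArg Subtype.val hk
      simpa using this
    rw [← map_pow, pow_three_of_pgroup h y k h1, map_one]

end Cfsg.Agent.Lib.Helper23.ExpSix
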