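import Mathlib
import Cfsg.Agent.Lib.Helper1.CoprimeSylow

/-!
# External coprime actions (helper23 library)

Bridge from an action `MulDistribMulAction A G` to the internal coprime-action library of helper1,
through the semidirect product `G ⋊ A`.
-/

set_option autoImplicit false

namespace Cfsg.Agent.Lib.Helper23

open SemidirectProduct Subgroup
open scoped Pointwise

universe u v

section ext

variable {A : Type v} {G : Type u} [Group A] [Group G] [MulDistribMulAction A G]

/-- The semidirect product attached to an action by automorphisms. -/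
abbrev ExtSemi (A : Type v) (G : Type u) [Group A] [Group G] [MulDistribMulAction A G] : Type (max u v) :=
  G ⋊[MulDistribMulAction.toMulAut A G] A

theorem extSemi_inl_smul (a : A) (x : G) :
    (inl (a • x) : ExtSemi A G) = inr a * inl x * (inr a)⁻¹ := by
  rw [← map_inv, ← inl_aut]
  rfl

/-- The internal coprime action attached to an external one. -/
theorem coprimeAct_ext [Finite A] [Finite G] (hcop : (Nat.card A).Coprime (Nat.card G))
    (hsol : Group.IsSolvable A ∨ Group.IsSolvable G) :
    Cfsg.Agent.Lib.Helper1.CoprimeAct (inr : A →* ExtSemi A G).range (inl : G →* ExtSemi A G).range := by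
  have hK : ((inl : G →* ExtSemi A G).range).Normal := by
    rw [range_inl_eq_ker_rightHom]; infer_instance
  refine ⟨?_, ?_, ?_⟩
  · rw [Subgroup.normalizer_eq_top]
    exact le_top
  · rw [Nat.card_congr (MonoidHom.ofInjective (inr_injective (φ := MulDistribMulAction.toMulAut A G))).toEquiv.symm,
      Nat.card_congr (MonoidHom.ofInjective (inl_injective (φ := MulDistribMulAction.toMulAut A G))).toEquiv.symm]
    exact hcop
  · rcases hsol with h | h
    · left
      exact Group.isSolvable_of_surjective (f := (inr : A →* ExtSemi A G).rangeRestrict)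
        (MonoidHom.rangeRestrict_surjective _)
    · right
      exact Group.isSolvable_of_surjective (f := (inl : G →* ExtSemi A G).rangeRestrict)
        (MonoidHom.rangeRestrict_surjective _)

/-- Under a coprime action (one of the groups solvable) there is an invariant Sylow `p`-subgroup. -/
theorem exists_invariant_sylow_of_coprime [Finite A] [Finite G]
    (hcop : (Nat.card A).Coprime (Nat.card G))
    (hsol : Group.IsSolvable A ∨ Group.IsSolvable G) (p : ℕ) [Fact p.Prime] :
    ∃ P : Sylow p G, ∀ (a : A) (x : G), x ∈ P → a • x ∈ P := by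
  have h := coprimeAct_ext (A := A) (G := G) hcop hsol
  have hfin : Finite (ExtSemi A G) :=
    Finite.of_equiv _ (SemidirectProduct.equivProd (φ := MulDistribMulAction.toMulAut A G)).symm
  obtain ⟨P, hP⟩ := h.exists_invariant_sylSet p
  have hinj : Function.Injective (inl : G →* ExtSemi A G) := inl_injective
  set P₀ : Subgroup G := P.1.comap (inl : G →* ExtSemi A G) with hP₀
  have hmap : P₀.map (inl : G →* ExtSemi A G) = P.1 := by
    rw [hP₀, Subgroup.map_comap_eq, inf_eq_right]
    exact P.2.1
  have hcardK : Nat.card (inl : G →* ExtSemi A G).range = Nat.card G :=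
    Nat.card_congr (MonoidHom.ofInjective hinj).toEquiv.symm
  have hcard : Nat.card P₀ = p ^ (Nat.card G).factorization p := by
    rw [← hcardK, ← P.2.2, ← hmap]
    exact (Nat.card_congr (P₀.equivMapOfInjective _ hinj).toEquiv)
  refine ⟨Sylow.ofCard P₀ hcard, ?_⟩
  intro a x hx
  change a • x ∈ P₀
  have hx' : (inl x : ExtSemi A G) ∈ P.1 := hx
  change (inl (a • x) : ExtSemi A G) ∈ P.1
  rw [extSemi_inl_smul]
  have ha : (inr a : ExtSemi A G) ∈ normalizer (P.1 : Set (ExtSemi A G)) := hP ⟨a, rfl⟩
  exact (Subgroup.mem_normalizer_iff.mp ha _).mp hx'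

end ext

end Cfsg.Agent.Lib.Helper23
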