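import Mathlib

/-!
# A minimal configuration for a `p`-automorphism of a `p'`-group

`MinAuto p α`: `α` is an automorphism of `p`-power order of a finite group `Q` of order prime to
`p`, acting nontrivially on `Q` but trivially on every proper `α`-invariant subgroup.
Then `Q` is a `q`-group, `C_Q(α) = Z(Q)` contains `Q'` when `Q` is nonabelian, and
`|Q| ≡ |C_Q(α)| (mod p)`.
-/

set_option autoImplicit false

namespace Cfsg.Agent.Lib.Helper23.HH

open scoped Pointwise

variable {Q : Type*} [Group Q]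

theorem pow_apply_of_fixed (α : MulAut Q) {g u : Q} (h1 : α g = u * g) (h2 : α u = u) (j : ℕ) :
    (α ^ j) g = u ^ j * g := by
  induction j with
  | zero => simp
  | succ j ih =>
    rw [pow_succ', MulAut.mul_apply, ih, map_mul, map_pow, h2, h1, pow_succ, mul_assoc]

/-- The subgroup of fixed points of an automorphism. -/
def fixedSubgroup (α : MulAut Q) : Subgroup Q where
  carrier := {x | α x = x}
  mul_mem' := by
    intro a b ha hb
    change α a = a at ha
    change α b = b at hb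
    change α (a * b) = a * b
    rw [map_mul, ha, hb]
  one_mem' := map_one α
  inv_mem' := by
    intro a ha
    change α a = a at ha
    change α a⁻¹ = a⁻¹
    rw [map_inv, ha]

theorem mem_fixedSubgroup (α : MulAut Q) (x : Q) : x ∈ fixedSubgroup α ↔ α x = x := Iff.rfl

/-- The minimal configuration. -/
structure MinAuto (p : ℕ) (α : MulAut Q) : Prop where
  cop : ¬ p ∣ Nat.card Q
  pow : ∃ a : ℕ, α ^ (p ^ a) = 1
  min : ∀ Q₁ : Subgroup Q, Q₁ ≠ ⊤ → (∀ x ∈ Q₁, α x ∈ Q₁) → ∀ x ∈ Q₁, α x = x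
  nc : ∃ x, α x ≠ x

variable [Finite Q] {p : ℕ} [hp : Fact p.Prime] {α : MulAut Q}

omit [Finite Q] in
theorem MinAuto.eq_one_of_fixed (h : MinAuto p α) {g u : Q} (h1 : α g = u * g) (h2 : α u = u) :
    u = 1 := by
  obtain ⟨a, ha⟩ := h.pow
  have h3 := pow_apply_of_fixed α h1 h2 (p ^ a)
  rw [ha, MulAut.one_apply] at h3
  have h4 : u ^ (p ^ a) = 1 := by
    have h5 : 1 * g = u ^ p ^ a * g := by rw [one_mul]; exact h3
    exact (mul_right_cancel h5).symm
  have h5 : orderOf u ∣ p ^ a := orderOf_dvd_of_pow_eq_one h4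
  have h6 : orderOf u ∣ Nat.card Q := orderOf_dvd_natCard u
  have h7 : Nat.Coprime (p ^ a) (Nat.card Q) :=
    Nat.Coprime.pow_left a ((Nat.Prime.coprime_iff_not_dvd hp.out).mpr h.cop)
  have h8 : orderOf u = 1 := Nat.eq_one_of_dvd_coprimes h7 h5 h6
  exact orderOf_eq_one_iff.mp h8

omit [Finite Q] hp in
theorem MinAuto.fixedSubgroup_ne_top (h : MinAuto p α) : fixedSubgroup α ≠ ⊤ := by
  intro htop
  obtain ⟨x, hx⟩ := h.nc
  exact hx ((mem_fixedSubgroup α x).mp (htop ▸ Subgroup.mem_top x))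

omit [Finite Q] hp in
theorem MinAuto.le_fixedSubgroup (h : MinAuto p α) (Q₁ : Subgroup Q) (h1 : Q₁ ≠ ⊤)
    (h2 : ∀ x ∈ Q₁, α x ∈ Q₁) : Q₁ ≤ fixedSubgroup α := fun x hx => h.min Q₁ h1 h2 x hx

omit [Finite Q] in
/-- An invariant proper subgroup cannot contain all the elements `α g * g⁻¹`. -/
theorem MinAuto.exists_div_not_mem (h : MinAuto p α) (K : Subgroup Q) (hK : K ≠ ⊤)
    (hKα : ∀ x ∈ K, α x ∈ K) : ∃ g, α g * g⁻¹ ∉ K := by
  by_contra hcon
  push Not at hcon
  obtain ⟨x, hx⟩ := h.nc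
  apply hx
  have h1 : α x = (α x * x⁻¹) * x := by group
  have h2 : α (α x * x⁻¹) = α x * x⁻¹ := h.min K hK hKα _ (hcon x)
  have h3 : α x * x⁻¹ = 1 := h.eq_one_of_fixed h1 h2
  exact mul_inv_eq_one.mp h3

omit [Finite Q] hp in
theorem MinAuto.nontrivial (h : MinAuto p α) : Nontrivial Q := by
  obtain ⟨x, hx⟩ := h.nc
  refine ⟨⟨x, 1, ?_⟩⟩
  rintro rfl
  exact hx (map_one α)

omit [Finite Q] hp in
theorem MinAuto.commutator_le_fixed (h : MinAuto p α) (hsol : Group.IsSolvable Q) :
    commutator Q ≤ fixedSubgroup α := by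
  haveI := h.nontrivial
  haveI := hsol
  apply h.le_fixedSubgroup
  · exact (Group.IsSolvable.commutator_lt_top_of_nontrivial Q).ne
  · intro x hx
    have hchar : (commutator Q).Characteristic := by
      rw [commutator_def]; infer_instance
    have h1 := (Subgroup.characteristic_iff_map_eq.mp hchar) α
    rw [← h1]
    exact Subgroup.mem_map_of_mem _ hx

omit [Finite Q] in
theorem MinAuto.fixed_le_center (h : MinAuto p α) (hsol : Group.IsSolvable Q) :
    fixedSubgroup α ≤ Subgroup.center Q := by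
  intro c hc
  rw [mem_fixedSubgroup] at hc
  have hcomm := h.commutator_le_fixed hsol
  have hu : ∀ g : Q, (α g * g⁻¹) * c = c * (α g * g⁻¹) := by
    intro g
    have ht : g⁻¹ * c⁻¹ * g * c ∈ commutator Q := by
      have h0 := Subgroup.commutator_mem_commutator (Subgroup.mem_top g⁻¹) (Subgroup.mem_top c⁻¹)
      rw [commutatorElement_def, inv_inv, inv_inv] at h0
      rw [commutator_def]
      exact h0
    have h1 : α (g⁻¹ * c⁻¹ * g * c) = g⁻¹ * c⁻¹ * g * c := hcomm ht
    rw [map_mul, map_mul, map_mul, map_inv, map_inv, hc] at h1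
    have h2 : (α g)⁻¹ * c⁻¹ * α g = g⁻¹ * c⁻¹ * g := mul_right_cancel h1
    have h3 : c⁻¹ * (α g * g⁻¹) = (α g * g⁻¹) * c⁻¹ := by
      calc c⁻¹ * (α g * g⁻¹) = α g * ((α g)⁻¹ * c⁻¹ * α g) * g⁻¹ := by group
        _ = α g * (g⁻¹ * c⁻¹ * g) * g⁻¹ := by rw [h2]
        _ = (α g * g⁻¹) * c⁻¹ := by group
    calc (α g * g⁻¹) * c = c * (c⁻¹ * (α g * g⁻¹)) * c := by group
      _ = c * ((α g * g⁻¹) * c⁻¹) * c := by rw [h3]
      _ = c * (α g * g⁻¹) := by group
  by_contra hcen
  have hD : Subgroup.centralizer ({c} : Set Q) ≠ ⊤ := by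
    intro htop
    apply hcen
    rw [Subgroup.mem_center_iff]
    intro g
    have h1 : g ∈ Subgroup.centralizer ({c} : Set Q) := htop ▸ Subgroup.mem_top g
    rw [Subgroup.mem_centralizer_iff] at h1
    exact (h1 c rfl).symm
  have hDα : ∀ x ∈ Subgroup.centralizer ({c} : Set Q),
      α x ∈ Subgroup.centralizer ({c} : Set Q) := by
    intro x hx
    rw [Subgroup.mem_centralizer_iff] at hx ⊢
    intro y hy
    rw [Set.mem_singleton_iff] at hy
    rw [hy]
    have h1 := hx c rfl
    have h2 := congrArg α h1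
    rw [map_mul, map_mul, hc] at h2
    exact h2
  obtain ⟨g, hg⟩ := h.exists_div_not_mem _ hD hDα
  apply hg
  rw [Subgroup.mem_centralizer_iff]
  intro y hy
  rw [Set.mem_singleton_iff] at hy
  rw [hy]
  exact (hu g).symm

omit [Finite Q] hp in
theorem MinAuto.center_le_fixed (h : MinAuto p α) (hnab : Subgroup.center Q ≠ ⊤) :
    Subgroup.center Q ≤ fixedSubgroup α := by
  apply h.le_fixedSubgroup _ hnab
  intro x hx
  rw [Subgroup.mem_center_iff] at hx ⊢
  intro g
  have h1 := hx (α.symm g)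
  have h2 := congrArg α h1
  rw [map_mul, map_mul, MulEquiv.apply_symm_apply] at h2
  exact h2

omit [Finite Q] hp in
theorem MinAuto.isPGroup_zpowers (h : MinAuto p α) : IsPGroup p (Subgroup.zpowers α) := by
  obtain ⟨a, ha⟩ := h.pow
  intro z
  obtain ⟨z, hz⟩ := z
  obtain ⟨j, rfl⟩ := Subgroup.mem_zpowers_iff.mp hz
  refine ⟨a, ?_⟩
  apply Subtype.ext
  simp only [Subgroup.coe_pow, Subgroup.coe_one]
  rw [← zpow_natCast, ← zpow_mul, mul_comm, zpow_mul, zpow_natCast, ha, one_zpow]

theorem MinAuto.card_modEq (h : MinAuto p α) :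
    Nat.card Q ≡ Nat.card (fixedSubgroup α) [MOD p] := by
  have h1 := h.isPGroup_zpowers.card_modEq_card_fixedPoints Q
  have hset : MulAction.fixedPoints (Subgroup.zpowers α) Q = (fixedSubgroup α : Set Q) := by
    ext x
    constructor
    · intro hx
      exact hx ⟨α, Subgroup.mem_zpowers α⟩
    · intro hx z
      obtain ⟨z, hz⟩ := z
      have h2 : Subgroup.zpowers α ≤ MulAction.stabilizer (MulAut Q) x := by
        rw [Subgroup.zpowers_le, MulAction.mem_stabilizer_iff]
        exact hx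
      exact h2 hz
  have h3 : Nat.card (MulAction.fixedPoints (Subgroup.zpowers α) Q) =
      Nat.card (fixedSubgroup α) := by
    rw [hset]; rfl
  rwa [h3] at h1

/-- In the minimal configuration `Q` is a group of prime power order. -/
theorem MinAuto.exists_isPGroup (h : MinAuto p α) : ∃ q : ℕ, q.Prime ∧ IsPGroup q Q := by
  by_contra hcon
  push Not at hcon
  have hfix := h.fixedSubgroup_ne_top
  have hidx : (fixedSubgroup α).index ≠ 1 := fun h1 => hfix (Subgroup.index_eq_one.mp h1)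
  obtain ⟨q, hq, hqd⟩ := Nat.exists_prime_and_dvd hidx
  haveI : Fact q.Prime := ⟨hq⟩
  have hcard : ¬ p ∣ Nat.card (Sylow q Q) := by
    intro hd
    obtain ⟨S₀⟩ := (inferInstance : Nonempty (Sylow q Q))
    exact h.cop (dvd_trans hd (dvd_trans S₀.card_dvd_index (Subgroup.index_dvd_card _)))
  obtain ⟨S, hS⟩ := h.isPGroup_zpowers.nonempty_fixed_point_of_prime_not_dvd_card (Sylow q Q) hcard
  have hSα : α • S = S := hS ⟨α, Subgroup.mem_zpowers α⟩
  have hinv : ∀ x ∈ (S : Subgroup Q), α x ∈ (S : Subgroup Q) := by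
    intro x hx
    have h1 : α • x ∈ ((α • S : Sylow q Q) : Subgroup Q) := by
      rw [Sylow.pointwise_smul_def]
      exact Subgroup.smul_mem_pointwise_smul x α S hx
    rw [hSα] at h1
    exact h1
  have hStop : (S : Subgroup Q) ≠ ⊤ := by
    intro htop
    apply hcon q hq
    have h1 := S.isPGroup'
    rw [htop] at h1
    exact h1.of_equiv Subgroup.topEquiv
  have hSfix : (S : Subgroup Q) ≤ fixedSubgroup α := h.le_fixedSubgroup _ hStop hinv
  exact S.not_dvd_index (dvd_trans hqd (Subgroup.index_dvd_of_le hSfix))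

end Cfsg.Agent.Lib.Helper23.HH
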