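import Mathlib
import Cfsg.Prelude.Def_Characters
import Cfsg.Agent.Lib.Helper23.HHAuto
import Cfsg.Agent.Lib.Helper25.Kernel
import Cfsg.Agent.Lib.Helper25.Complete
import Cfsg.Agent.Lib.Helper2.Orthogonality
import Cfsg.Agent.Lib.Helper2.CharBasic
import Cfsg.Agent.Lib.Helper2.Linear
import Cfsg.Agent.Lib.Helper2.Regular

/-!
# Invariant irreducible characters in the minimal configuration

If `α` is a `p`-automorphism of the `p'`-group `Q` in the minimal configuration `MinAuto p α`
and `σ` is an irreducible complex representation of `Q` whose character is `α`-invariant and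
which is nontrivial, then `Q` is a `q`-group of "central type" modulo the kernel: the degree
`m` of `σ` is a power of `q`, `m ≥ 2` and `m ^ 2 ≡ 1 (mod p)`.
-/

set_option autoImplicit false

namespace Cfsg.Agent.Lib.Helper23.HH

open Module Cfsg Cfsg.Agent.Lib.Helper2 Cfsg.Agent.Lib.Helper25
open scoped ComplexConjugate

section Scalar

variable {Q : Type*} [Group Q] {V : Type*} [AddCommGroup V] [Module ℂ V]

/-- The subgroup of elements whose operators commute with the whole image. -/
def commSubgroup (σ : Representation ℂ Q V) : Subgroup Q where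
  carrier := {x | ∀ k, σ x * σ k = σ k * σ x}
  mul_mem' := by
    intro a b ha hb k
    change ∀ k, σ a * σ k = σ k * σ a at ha
    change ∀ k, σ b * σ k = σ k * σ b at hb
    rw [map_mul, mul_assoc, hb k, ← mul_assoc, ha k, mul_assoc]
  one_mem' := by
    intro k
    rw [map_one, one_mul, mul_one]
  inv_mem' := by
    intro a ha k
    change ∀ k, σ a * σ k = σ k * σ a at ha
    have h1 : σ a⁻¹ * σ a = 1 := by rw [← map_mul, inv_mul_cancel, map_one]
    have h2 : σ a * σ a⁻¹ = 1 := by rw [← map_mul, mul_inv_cancel, map_one]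
    calc σ a⁻¹ * σ k = σ a⁻¹ * (σ k * (σ a * σ a⁻¹)) := by rw [h2, mul_one]
      _ = σ a⁻¹ * ((σ k * σ a) * σ a⁻¹) := by rw [mul_assoc]
      _ = σ a⁻¹ * ((σ a * σ k) * σ a⁻¹) := by rw [ha k]
      _ = (σ a⁻¹ * σ a) * σ k * σ a⁻¹ := by simp only [mul_assoc]
      _ = σ k * σ a⁻¹ := by rw [h1, one_mul]

theorem mem_commSubgroup (σ : Representation ℂ Q V) (x : Q) :
    x ∈ commSubgroup σ ↔ ∀ k, σ x * σ k = σ k * σ x := Iff.rfl

theorem center_le_commSubgroup (σ : Representation ℂ Q V) :
    Subgroup.center Q ≤ commSubgroup σ := by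
  intro z hz k
  rw [Subgroup.mem_center_iff] at hz
  rw [← map_mul, ← map_mul, hz k]

theorem smul_one_injective' [Nontrivial V] {c d : ℂ}
    (h : c • (1 : Module.End ℂ V) = d • 1) : c = d := by
  obtain ⟨v, hv⟩ := exists_ne (0 : V)
  have h1 := LinearMap.congr_fun h v
  simp only [LinearMap.smul_apply, Module.End.one_apply] at h1
  exact smul_left_injective ℂ hv h1

variable [FiniteDimensional ℂ V]

theorem exists_smul_of_mem_commSubgroup (σ : Representation ℂ Q V) (hirr : σ.IsIrreducible)
    {x : Q} (hx : x ∈ commSubgroup σ) : ∃ c : ℂ, σ x = c • (1 : Module.End ℂ V) := by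
  apply schur_scalar σ hirr (σ x)
  intro g
  exact hx g

theorem character_of_smul (σ : Representation ℂ Q V) {x : Q} {c : ℂ}
    (hx : σ x = c • (1 : Module.End ℂ V)) : σ.character x = c * (finrank ℂ V : ℂ) := by
  rw [Representation.character, hx, map_smul, LinearMap.trace_one, smul_eq_mul]

end Scalar

variable {Q : Type*} [Group Q] [Finite Q] {p : ℕ} [hp : Fact p.Prime] {α : MulAut Q}
variable {V : Type*} [AddCommGroup V] [Module ℂ V] [FiniteDimensional ℂ V]

/-- The degree of a nontrivial invariant irreducible character in the minimal configuration. -/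
theorem MinAuto.degree_facts (h : MinAuto p α) (σ : Representation ℂ Q V)
    (hirr : σ.IsIrreducible) (hinv : ∀ x, σ.character (α x) = σ.character x)
    (hnt : ∃ x, σ.character x ≠ σ.character 1) :
    2 ≤ finrank ℂ V ∧ (finrank ℂ V) ^ 2 ≡ 1 [MOD p] ∧
      ∃ q i : ℕ, q.Prime ∧ IsPGroup q Q ∧ finrank ℂ V = q ^ i := by
  classical
  haveI := hirr
  haveI : Nontrivial V := nontrivial_of_isIrreducible σ
  haveI := Fintype.ofFinite Q
  have hm0 : 0 < finrank ℂ V := finrank_pos
  have hm0' : (finrank ℂ V : ℂ) ≠ 0 := Nat.cast_ne_zero.mpr hm0.ne'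
  -- the kernel
  have hK : ∀ x, σ x = 1 ↔ σ.character x = σ.character 1 := rep_apply_eq_one_iff σ
  have hKα : ∀ x, σ x = 1 → σ (α x) = 1 := by
    intro x hx
    rw [hK] at hx ⊢
    rw [hinv, hx]
  have hKne : MonoidHom.ker σ ≠ ⊤ := by
    intro htop
    obtain ⟨x, hx⟩ := hnt
    apply hx
    rw [← hK]
    exact MonoidHom.mem_ker.mp (htop ▸ Subgroup.mem_top x)
  have hKinv : ∀ x ∈ MonoidHom.ker σ, α x ∈ MonoidHom.ker σ := by
    intro x hx
    rw [MonoidHom.mem_ker] at hx ⊢
    exact hKα x hx
  have hσα : ∀ a b, σ a = σ b → σ (α a) = σ (α b) := by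
    intro a b hab
    have h1 : σ (a * b⁻¹) = 1 := by
      rw [map_mul, hab, ← map_mul, mul_inv_cancel, map_one]
    have h2 := hKα _ h1
    have h3 : α a = α (a * b⁻¹) * α b := by rw [← map_mul, inv_mul_cancel_right]
    rw [h3, map_mul, h2, one_mul]
  have hZα : ∀ x ∈ commSubgroup σ, α x ∈ commSubgroup σ := by
    intro x hx k
    obtain ⟨k', rfl⟩ := α.surjective k
    have e1 : σ (α x) * σ (α k') = σ (α (x * k')) := by rw [map_mul, map_mul]
    have e2 : σ (α k') * σ (α x) = σ (α (k' * x)) := by rw [map_mul, map_mul]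
    rw [e1, e2]
    apply hσα
    rw [map_mul, map_mul]
    exact hx k'
  have hZne : commSubgroup σ ≠ ⊤ := by
    intro htop
    obtain ⟨g, hg⟩ := h.exists_div_not_mem (MonoidHom.ker σ) hKne hKinv
    apply hg
    rw [MonoidHom.mem_ker]
    obtain ⟨c, hc⟩ := exists_smul_of_mem_commSubgroup σ hirr
      (htop ▸ Subgroup.mem_top g : g ∈ commSubgroup σ)
    obtain ⟨c', hc'⟩ := exists_smul_of_mem_commSubgroup σ hirr
      (htop ▸ Subgroup.mem_top (α g) : α g ∈ commSubgroup σ)
    have h1 := character_of_smul σ hc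
    have h2 := character_of_smul σ hc'
    rw [hinv, h1] at h2
    have h3 : c = c' := mul_right_cancel₀ hm0' h2
    rw [map_mul, hc', ← h3, ← hc, ← map_mul, mul_inv_cancel, map_one]
  obtain ⟨q, hq, hQq⟩ := h.exists_isPGroup
  haveI : Fact q.Prime := ⟨hq⟩
  have hsol : Group.IsSolvable Q := by
    haveI := hQq.isNilpotent
    infer_instance
  have hcz : Subgroup.center Q ≤ commSubgroup σ := center_le_commSubgroup σ
  have hnab : Subgroup.center Q ≠ ⊤ := by
    intro htop
    apply hZne
    rw [eq_top_iff, ← htop]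
    exact hcz
  have hFC : fixedSubgroup α ≤ Subgroup.center Q := h.fixed_le_center hsol
  have hCF : Subgroup.center Q ≤ fixedSubgroup α := h.center_le_fixed hnab
  have hZF : commSubgroup σ ≤ fixedSubgroup α := h.le_fixedSubgroup _ hZne hZα
  have hcomm : commutator Q ≤ fixedSubgroup α := h.commutator_le_fixed hsol
  have hFeq : fixedSubgroup α = Subgroup.center Q := le_antisymm hFC hCF
  -- vanishing off the center
  have hvan : ∀ g, g ∉ Subgroup.center Q → σ.character g = 0 := by
    intro g hg
    have hgZ : g ∉ commSubgroup σ := fun hgZ => hg (hFC (hZF hgZ))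
    rw [mem_commSubgroup] at hgZ
    push Not at hgZ
    obtain ⟨k, hk⟩ := hgZ
    have hz : g⁻¹ * k * g * k⁻¹ ∈ commutator Q := by
      have h0 := Subgroup.commutator_mem_commutator (Subgroup.mem_top g⁻¹) (Subgroup.mem_top k)
      rw [commutatorElement_def, inv_inv] at h0
      rw [commutator_def]
      exact h0
    have hzZ : g⁻¹ * k * g * k⁻¹ ∈ commSubgroup σ := hcz (hFC (hcomm hz))
    obtain ⟨c, hc⟩ := exists_smul_of_mem_commSubgroup σ hirr hzZ
    have hconj : k * g * k⁻¹ = g * (g⁻¹ * k * g * k⁻¹) := by group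
    have h1 : σ.character g = c * σ.character g := by
      calc σ.character g = σ.character (k * g * k⁻¹) := (σ.char_conj g k).symm
        _ = σ.character (g * (g⁻¹ * k * g * k⁻¹)) := by rw [hconj]
        _ = c * σ.character g := by
          rw [Representation.character, Representation.character, map_mul, hc, mul_smul_comm,
            mul_one, map_smul, smul_eq_mul]
    have hc1 : c ≠ 1 := by
      rintro rfl
      rw [one_smul] at hc
      apply hk
      have h2 : σ (k * g * k⁻¹) = σ g := by
        rw [hconj, map_mul, hc, mul_one]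
      calc σ g * σ k = σ (k * g * k⁻¹) * σ k := by rw [h2]
        _ = σ k * σ g := by rw [← map_mul, inv_mul_cancel_right, map_mul]
    have h3 : (1 - c) * σ.character g = 0 := by rw [sub_mul, one_mul, ← h1, sub_self]
    rcases mul_eq_zero.mp h3 with h4 | h4
    · exact absurd (sub_eq_zero.mp h4).symm hc1
    · exact h4
  -- central values
  have hcen : ∀ z ∈ Subgroup.center Q,
      σ.character z * conj (σ.character z) = (finrank ℂ V : ℂ) ^ 2 := by
    intro z hz
    obtain ⟨c, hc⟩ := exists_smul_of_mem_commSubgroup σ hirr (hcz hz)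
    have h1 : c ^ orderOf z = 1 := by
      have h2 : σ (z ^ orderOf z) = 1 := by rw [pow_orderOf_eq_one, map_one]
      rw [map_pow, hc, smul_pow, one_pow] at h2
      have h3 : (c ^ orderOf z) • (1 : Module.End ℂ V) = (1 : ℂ) • 1 := by rw [h2, one_smul]
      exact smul_one_injective' h3
    have h4 : ‖c‖ = 1 := Complex.norm_eq_one_of_pow_eq_one h1 (orderOf_pos z).ne'
    have h5 : c * conj c = 1 := by
      rw [Complex.mul_conj, Complex.normSq_eq_norm_sq, h4]; norm_num
    rw [character_of_smul σ hc, map_mul, Complex.conj_natCast]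
    calc c * (finrank ℂ V : ℂ) * (conj c * (finrank ℂ V : ℂ))
        = (c * conj c) * (finrank ℂ V : ℂ) ^ 2 := by ring
      _ = (finrank ℂ V : ℂ) ^ 2 := by rw [h5, one_mul]
  -- orthogonality
  have hirrc : Cfsg.IsIrrCharacter Q σ.character := isIrrCharacter_of_rep σ
  have hinner := classInner_irrCharacter_self (⟨σ.character, hirrc⟩ : Cfsg.IrrCharacter Q)
  rw [classInner_def] at hinner
  have hsum : ∑ g : Q, σ.character g * conj (σ.character g) =
      (Nat.card (Subgroup.center Q) : ℂ) * (finrank ℂ V : ℂ) ^ 2 := by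
    have h1 : ∀ g : Q, σ.character g * conj (σ.character g) =
        if g ∈ Subgroup.center Q then (finrank ℂ V : ℂ) ^ 2 else 0 := by
      intro g
      split_ifs with hg
      · exact hcen g hg
      · rw [hvan g hg, zero_mul]
    have hcard : (Finset.univ.filter (fun g : Q => g ∈ Subgroup.center Q)).card =
        Nat.card (Subgroup.center Q) := by
      rw [Nat.card_eq_fintype_card, Fintype.card_subtype]
    rw [Finset.sum_congr rfl (fun g _ => h1 g), ← Finset.sum_filter, Finset.sum_const,
      nsmul_eq_mul, hcard]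
  have hcardQ : (Nat.card Q : ℂ) ≠ 0 := Nat.cast_ne_zero.mpr Nat.card_pos.ne'
  have hQeq : (Nat.card Q : ℂ) =
      (Nat.card (Subgroup.center Q) : ℂ) * (finrank ℂ V : ℂ) ^ 2 := by
    have h1 : (Nat.card Q : ℂ)⁻¹ * ∑ g : Q, σ.character g * conj (σ.character g) = 1 := hinner
    rw [hsum] at h1
    exact (inv_mul_eq_one₀ hcardQ).mp h1
  have hQeqN : Nat.card Q = Nat.card (Subgroup.center Q) * (finrank ℂ V) ^ 2 := by
    exact_mod_cast hQeq
  obtain ⟨e, he⟩ := IsPGroup.iff_card.mp hQq
  have hmdvd : finrank ℂ V ∣ q ^ e := by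
    rw [← he, hQeqN]
    exact dvd_mul_of_dvd_right (dvd_pow_self _ two_ne_zero) _
  obtain ⟨i, _, hi⟩ := (Nat.dvd_prime_pow hq).mp hmdvd
  refine ⟨?_, ?_, q, i, hq, hQq, hi⟩
  · by_contra hlt
    have hm1 : finrank ℂ V = 1 := by omega
    apply hZne
    rw [eq_top_iff]
    intro x _ k
    have hx := eq_trace_smul_id_of_finrank_eq_one hm1 (σ x)
    rw [← Module.End.one_eq_id] at hx
    rw [hx, smul_mul_assoc, mul_smul_comm, one_mul, mul_one]
  · have h1 := h.card_modEq
    rw [hFeq, hQeqN] at h1
    have hcop : Nat.gcd p (Nat.card (Subgroup.center Q)) = 1 :=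
      (Nat.Prime.coprime_iff_not_dvd hp.out).mpr
        (fun hd => h.cop (dvd_trans hd (Subgroup.card_subgroup_dvd_card _)))
    have h2 : Nat.card (Subgroup.center Q) * (finrank ℂ V) ^ 2 ≡
        Nat.card (Subgroup.center Q) * 1 [MOD p] := by rwa [mul_one]
    exact Nat.ModEq.cancel_left_of_coprime hcop h2

end Cfsg.Agent.Lib.Helper23.HH
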