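import Mathlib
import Cfsg.Prelude.Def_Characters
import Cfsg.Agent.Lib.Helper23.HHChar
import Cfsg.Agent.Lib.Helper2.Completeness
import Cfsg.Agent.Lib.Helper2.EquivOfChar
import Cfsg.Agent.Lib.Helper25.Kernel

/-!
# A faithful representation of small degree in the minimal configuration

If `α` is a `p`-automorphism of the `p'`-group `Q` in the minimal configuration `MinAuto p α`
and `ρ` is a faithful complex representation of `Q` of degree `n < p` whose character is
`α`-invariant, then `n = p - 1` is a power of `2` and `ρ` is irreducible.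
-/

set_option autoImplicit false

namespace Cfsg.Agent.Lib.Helper23.HH

open Module Cfsg Cfsg.Agent.Lib.Helper2 Cfsg.Agent.Lib.Helper25
open scoped ComplexConjugate

universe u

section Twist

variable {Q : Type u} [Group Q]

/-- The twist of an irreducible character by an automorphism. -/
def irrTwist (β : MulAut Q) (θ : IrrCharacter Q) : IrrCharacter Q :=
  ⟨fun x => (θ : Q → ℂ) (β⁻¹ x),
    isIrrCharacter_comp (β⁻¹ : MulAut Q).toMonoidHom (β⁻¹ : MulAut Q).surjective θ.2⟩

theorem irrTwist_apply (β : MulAut Q) (θ : IrrCharacter Q) (x : Q) :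
    (irrTwist β θ : Q → ℂ) x = (θ : Q → ℂ) (β⁻¹ x) := rfl

/-- The action of automorphisms on irreducible characters. -/
@[reducible] def irrMulAction : MulAction (MulAut Q) (IrrCharacter Q) where
  smul := irrTwist
  one_smul θ := by
    apply Subtype.ext
    funext x
    change (θ : Q → ℂ) ((1 : MulAut Q)⁻¹ x) = (θ : Q → ℂ) x
    rw [inv_one, MulAut.one_apply]
  mul_smul β γ θ := by
    apply Subtype.ext
    funext x
    change (θ : Q → ℂ) ((β * γ)⁻¹ x) = (θ : Q → ℂ) (γ⁻¹ (β⁻¹ x))
    rw [mul_inv_rev, MulAut.mul_apply]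

/-- The automorphisms leaving a function invariant. -/
def invSubgroup (f : Q → ℂ) : Subgroup (MulAut Q) where
  carrier := {β | ∀ x, f (β x) = f x}
  mul_mem' := by
    intro a b ha hb x
    change ∀ x, f (a x) = f x at ha
    change ∀ x, f (b x) = f x at hb
    rw [MulAut.mul_apply, ha, hb]
  one_mem' := fun x => rfl
  inv_mem' := by
    intro a ha x
    change ∀ x, f (a x) = f x at ha
    have h1 := ha (a⁻¹ x)
    rw [MulAut.apply_inv_self] at h1
    exact h1.symm

theorem mem_invSubgroup (f : Q → ℂ) (β : MulAut Q) :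
    β ∈ invSubgroup f ↔ ∀ x, f (β x) = f x := Iff.rfl

theorem msum_apply (m : Multiset (IrrCharacter Q)) (g : Q) :
    (m.map (fun χ : IrrCharacter Q => (χ : Q → ℂ))).sum g =
      (m.map (fun χ : IrrCharacter Q => (χ : Q → ℂ) g)).sum := by
  induction m using Multiset.induction_on with
  | empty => simp
  | cons f m ih => simp [ih]

variable [Fintype Q]

theorem classInner_comp_aut (β : MulAut Q) (φ ψ : Q → ℂ) :
    classInner (fun x => φ (β x)) (fun x => ψ (β x)) = classInner φ ψ := by
  rw [classInner_def, classInner_def]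
  congr 1
  exact Equiv.sum_comp β.toEquiv (fun g => φ g * conj (ψ g))

theorem classInner_msum (m : Multiset (IrrCharacter Q)) (θ : IrrCharacter Q) :
    classInner (m.map (fun χ : IrrCharacter Q => (χ : Q → ℂ))).sum (θ : Q → ℂ) =
      (m.count θ : ℂ) := by
  classical
  induction m using Multiset.induction_on with
  | empty => simp [classInner_def]
  | cons ψ m ih =>
    rw [Multiset.map_cons, Multiset.sum_cons, classInner_add_left, ih, Multiset.count_cons,
      classInner_irrCharacter]
    by_cases hψ : ψ = θ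
    · rw [if_pos hψ, if_pos hψ.symm]; push_cast; ring
    · rw [if_neg hψ, if_neg (fun h => hψ h.symm)]; push_cast; ring

end Twist

variable {Q : Type u} [Group Q] [Finite Q] {p : ℕ} [hp : Fact p.Prime] {α : MulAut Q}
variable {V : Type*} [AddCommGroup V] [Module ℂ V] [FiniteDimensional ℂ V]

/-- A faithful representation of degree `< p` with invariant character in the minimal
configuration. -/
theorem MinAuto.faithful_facts (h : MinAuto p α) {n : ℕ} (ρ : Representation ℂ Q V)
    (hρ : Function.Injective ρ) (hn : finrank ℂ V = n) (hnp : n < p)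
    (hinv : ∀ x, ρ.character (α x) = ρ.character x) :
    n + 1 = p ∧ (∃ k : ℕ, n = 2 ^ k) ∧ ρ.IsIrreducible := by
  classical
  haveI := Fintype.ofFinite Q
  obtain ⟨m, hm⟩ := exists_multiset_irr_of_rep ρ
  have hdeg : ∀ θ : IrrCharacter Q, ∃ d : ℕ, 0 < d ∧ (θ : Q → ℂ) 1 = d :=
    fun θ => IsIrrCharacter.apply_one θ.2
  choose deg hdegpos hdegeq using hdeg
  have happ : ∀ g : Q, ρ.character g =
      (m.map (fun θ : IrrCharacter Q => (θ : Q → ℂ) g)).sum := by
    intro g
    rw [hm, msum_apply]
  have hsumdeg : (m.map deg).sum = n := by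
    have h1 := happ 1
    rw [Representation.char_one, hn] at h1
    have h2 : (m.map (fun θ : IrrCharacter Q => (θ : Q → ℂ) 1)) =
        m.map (fun θ => ((deg θ : ℕ) : ℂ)) :=
      Multiset.map_congr rfl (fun θ _ => hdegeq θ)
    rw [h2] at h1
    have h3 : (m.map (fun θ => ((deg θ : ℕ) : ℂ))).sum = (((m.map deg).sum : ℕ) : ℂ) := by
      rw [Nat.cast_multiset_sum, Multiset.map_map]
      rfl
    rw [h3] at h1
    exact_mod_cast h1.symm
  have hcard_le : ∀ m' : Multiset (IrrCharacter Q), Multiset.card m' ≤ (m'.map deg).sum := by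
    intro m'
    induction m' using Multiset.induction_on with
    | empty => simp
    | cons θ m' ih =>
      rw [Multiset.card_cons, Multiset.map_cons, Multiset.sum_cons]
      have := hdegpos θ
      omega
  -- a nontrivial constituent
  have hex : ∃ θ ∈ m, ∃ x, (θ : Q → ℂ) x ≠ (θ : Q → ℂ) 1 := by
    by_contra hcon
    push Not at hcon
    obtain ⟨x, hx⟩ := h.nc
    apply hx
    have h1 : ∀ y : Q, y = 1 := by
      intro y
      apply hρ
      rw [map_one, rep_apply_eq_one_iff, happ, happ]
      exact congrArg Multiset.sum (Multiset.map_congr rfl (fun θ hθ => hcon θ hθ y))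
    rw [h1 x, map_one]
  obtain ⟨θ, hθm, hθnt⟩ := hex
  -- invariance
  letI : MulAction (MulAut Q) (IrrCharacter Q) := irrMulAction
  have hS : Subgroup.zpowers α ≤ invSubgroup ρ.character := by
    rw [Subgroup.zpowers_le]
    exact hinv
  have hcount : ∀ β ∈ invSubgroup ρ.character, ∀ θ' : IrrCharacter Q,
      m.count (β • θ') = m.count θ' := by
    intro β hβ θ'
    have h1 := classInner_msum m (β • θ')
    have h2 := classInner_msum m θ'
    rw [← hm] at h1 h2
    have hβ' : ∀ x, ρ.character (β⁻¹ x) = ρ.character x := inv_mem hβ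
    have h3 : classInner ρ.character ((β • θ' : IrrCharacter Q) : Q → ℂ) =
        classInner ρ.character (θ' : Q → ℂ) := by
      have h4 := classInner_comp_aut β⁻¹ ρ.character (θ' : Q → ℂ)
      have h5 : (fun x => ρ.character (β⁻¹ x)) = ρ.character := funext hβ'
      rw [h5] at h4
      exact h4
    rw [h3, h2] at h1
    exact_mod_cast h1.symm
  have hmem : ∀ β ∈ Subgroup.zpowers α, β • θ ∈ m := by
    intro β hβ
    rw [← Multiset.count_pos, hcount β (hS hβ) θ, Multiset.count_pos]
    exact hθm
  have hfix : α • θ = θ := by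
    by_contra hne
    obtain ⟨k, hk⟩ := h.isPGroup_zpowers.card_orbit θ
    have hk0 : k ≠ 0 := by
      rintro rfl
      rw [pow_zero] at hk
      have hsub : Subsingleton (MulAction.orbit (Subgroup.zpowers α) θ) :=
        (Nat.card_eq_one_iff_unique.mp hk).1
      have h1 : (⟨α • θ, ⟨⟨α, Subgroup.mem_zpowers α⟩, rfl⟩⟩ :
          MulAction.orbit (Subgroup.zpowers α) θ) = ⟨θ, MulAction.mem_orbit_self θ⟩ :=
        Subsingleton.elim _ _
      exact hne (congrArg Subtype.val h1)
    have hp_le : p ≤ Nat.card (MulAction.orbit (Subgroup.zpowers α) θ) := by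
      rw [hk]
      calc p = p ^ 1 := (pow_one p).symm
        _ ≤ p ^ k := Nat.pow_le_pow_right hp.out.pos (Nat.one_le_iff_ne_zero.mpr hk0)
    have hsub : MulAction.orbit (Subgroup.zpowers α) θ ⊆
        (m.toFinset : Set (IrrCharacter Q)) := by
      rintro θ' ⟨β, rfl⟩
      change (β : MulAut Q) • θ ∈ (m.toFinset : Set (IrrCharacter Q))
      rw [Finset.mem_coe, Multiset.mem_toFinset]
      exact hmem β.1 β.2
    have h1 : Nat.card (MulAction.orbit (Subgroup.zpowers α) θ) ≤ m.toFinset.card := by
      rw [Nat.card_coe_set_eq, ← Set.ncard_coe_finset]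
      exact Set.ncard_le_ncard hsub (Finset.finite_toSet _)
    have h2 := Multiset.toFinset_card_le m
    have h3 := hcard_le m
    omega
  have hθinv : ∀ x, (θ : Q → ℂ) (α x) = (θ : Q → ℂ) x := by
    intro x
    have h1 := congrArg (fun θ' : IrrCharacter Q => (θ' : Q → ℂ) (α x)) hfix
    change (θ : Q → ℂ) (α⁻¹ (α x)) = (θ : Q → ℂ) (α x) at h1
    rw [MulAut.inv_apply_self] at h1
    exact h1.symm
  obtain ⟨d, σ, hσirr, hσ⟩ := θ.2
  have hd : finrank ℂ (Fin d → ℂ) = deg θ := by
    have h1 := hdegeq θ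
    rw [← hσ, Representation.char_one] at h1
    exact_mod_cast h1
  have hfacts := h.degree_facts σ hσirr (by intro x; rw [hσ]; exact hθinv x)
    (by obtain ⟨x, hx⟩ := hθnt; exact ⟨x, by rw [hσ]; exact hx⟩)
  rw [hd] at hfacts
  obtain ⟨h2le, hmod, q, i, hq, hQq, hqi⟩ := hfacts
  obtain ⟨m', rfl⟩ := Multiset.exists_cons_of_mem hθm
  rw [Multiset.map_cons, Multiset.sum_cons] at hsumdeg
  have hdle : deg θ ≤ n := by omega
  have hdvd : p ∣ (deg θ) ^ 2 - 1 :=
    (Nat.modEq_iff_dvd' (Nat.one_le_pow _ _ (by omega))).mp hmod.symm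
  obtain ⟨e, he⟩ : ∃ e, deg θ = e + 1 := ⟨deg θ - 1, by omega⟩
  have hfac : (deg θ) ^ 2 - 1 = e * (e + 2) := by
    rw [he]
    have : (e + 1) ^ 2 = e * (e + 2) + 1 := by ring
    omega
  rw [hfac] at hdvd
  have hp1 : p = e + 2 := by
    rcases (Nat.Prime.dvd_mul hp.out).mp hdvd with h1 | h1
    · exfalso
      have := Nat.le_of_dvd (by omega) h1
      omega
    · have := Nat.le_of_dvd (by omega) h1
      omega
  have hn_eq : n = e + 1 := by omega
  have hm'0 : m' = 0 := by
    have h1 := hcard_le m'
    have h2 : (m'.map deg).sum = 0 := by omega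
    rw [h2] at h1
    exact Multiset.card_eq_zero.mp (Nat.le_zero.mp h1)
  have hq2 : q = 2 := by
    have hodd : p % 2 = 1 := by
      rcases hp.out.eq_two_or_odd with h2 | h2
      · omega
      · exact h2
    have h2dvd : 2 ∣ q ^ i := by
      rw [← hqi, he]
      omega
    have h3 := Nat.Prime.dvd_of_dvd_pow Nat.prime_two h2dvd
    exact ((Nat.prime_dvd_prime_iff_eq Nat.prime_two hq).mp h3).symm
  refine ⟨by omega, ⟨i, by rw [hn_eq, ← he, hqi, hq2]⟩, ?_⟩
  have hchar : σ.character = ρ.character := by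
    rw [hσ, hm, hm'0]
    simp
  obtain ⟨φ⟩ := nonempty_equiv_of_char_eq _ _ _ σ ρ rfl hchar
  haveI := hσirr
  exact isIrreducible_of_equiv φ

end Cfsg.Agent.Lib.Helper23.HH
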