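import Mathlib
import Cfsg.Agent.Lib.Helper23.HHMain
import Cfsg.Agent.Lib.Helper25.Irred

/-!
# A Hall–Higman type lemma for complex linear groups of small degree

Let `G` be a finite group with a faithful complex representation of degree `n < p`.  If a
`p`-element `y` normalizes a `p'`-subgroup `X` without centralizing it, then `n = p - 1` is a
power of `2` and the representation is irreducible.
-/

set_option autoImplicit false

namespace Cfsg.Agent.Lib.Helper23.HH

open Module Cfsg Cfsg.Agent.Lib.Helper25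

universe u

variable {G : Type u} [Group G]

/-- Conjugation by `y` on a finite `y`-invariant subgroup. -/
noncomputable def conjAut (X : Subgroup G) [Finite X] (y : G)
    (hy : ∀ x ∈ X, y * x * y⁻¹ ∈ X) : MulAut X :=
  MulEquiv.ofBijective
    ({ toFun := fun x => ⟨y * x * y⁻¹, hy x x.2⟩
       map_one' := Subtype.ext (by simp)
       map_mul' := fun a b => Subtype.ext (by simp [mul_assoc]) } : X →* X)
    (Finite.injective_iff_bijective.mp (by
      intro a b hab
      have h1 := congrArg Subtype.val hab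
      apply Subtype.ext
      simpa using h1))

theorem conjAut_apply (X : Subgroup G) [Finite X] (y : G)
    (hy : ∀ x ∈ X, y * x * y⁻¹ ∈ X) (x : X) :
    ((conjAut X y hy x : X) : G) = y * x * y⁻¹ := rfl

theorem conjAut_pow_apply (X : Subgroup G) [Finite X] (y : G)
    (hy : ∀ x ∈ X, y * x * y⁻¹ ∈ X) (j : ℕ) (x : X) :
    (((conjAut X y hy) ^ j) x : G) = y ^ j * x * (y ^ j)⁻¹ := by
  induction j generalizing x with
  | zero => simp
  | succ j ih =>
    rw [pow_succ', MulAut.mul_apply, conjAut_apply, ih, pow_succ']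
    group

variable [Finite G] {V : Type*} [AddCommGroup V] [Module ℂ V] [FiniteDimensional ℂ V]

/-- **Hall–Higman type lemma** for linear groups of degree `< p`. -/
theorem hh_lite {p : ℕ} [hp : Fact p.Prime] {n : ℕ} (ρ : Representation ℂ G V)
    (hρ : Function.Injective ρ) (hn : finrank ℂ V = n) (hnp : n < p)
    (X : Subgroup G) (hX : ¬ p ∣ Nat.card X) (y : G) (a : ℕ) (hya : y ^ (p ^ a) = 1)
    (hyX : ∀ x ∈ X, y * x * y⁻¹ ∈ X) (hnc : ∃ x ∈ X, y * x * y⁻¹ ≠ x) :
    n + 1 = p ∧ (∃ k : ℕ, n = 2 ^ k) ∧ ρ.IsIrreducible := by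
  classical
  have hne : ∃ k : ℕ, ∃ Q : Subgroup G, (¬ p ∣ Nat.card Q ∧ (∀ x ∈ Q, y * x * y⁻¹ ∈ Q) ∧
      ∃ x ∈ Q, y * x * y⁻¹ ≠ x) ∧ Nat.card Q = k := ⟨_, X, ⟨hX, hyX, hnc⟩, rfl⟩
  obtain ⟨Q, ⟨hQp, hQy, hQnc⟩, hk⟩ := Nat.find_spec hne
  have hQmin : ∀ Q' : Subgroup G, ¬ p ∣ Nat.card Q' → (∀ x ∈ Q', y * x * y⁻¹ ∈ Q') →
      (∃ x ∈ Q', y * x * y⁻¹ ≠ x) → Nat.card Q ≤ Nat.card Q' := by
    intro Q' h1 h2 h3
    rw [hk]
    exact Nat.find_min' hne ⟨Q', ⟨h1, h2, h3⟩, rfl⟩
  obtain ⟨α, hα⟩ : ∃ α : MulAut Q, α = conjAut Q y hQy := ⟨_, rfl⟩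
  have hαapp : ∀ x : Q, ((α x : Q) : G) = y * x * y⁻¹ := by
    intro x
    rw [hα]
    rfl
  have hmin : MinAuto p α := by
    refine ⟨hQp, ⟨a, ?_⟩, ?_, ?_⟩
    · ext x
      rw [hα, conjAut_pow_apply, hya]
      simp
    · intro Q₁ hQ₁ hQ₁α x hx
      by_contra hxne
      have hcard : Nat.card (Q₁.map Q.subtype) = Nat.card Q₁ :=
        Subgroup.card_map_of_injective Q.subtype_injective
      have hlt : Nat.card Q₁ < Nat.card Q :=
        lt_of_le_of_ne (Subgroup.card_le_card_group Q₁)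
          (fun h => hQ₁ ((Subgroup.card_eq_iff_eq_top Q₁).mp h))
      have h4 := hQmin (Q₁.map Q.subtype) ?_ ?_ ?_
      · omega
      · rw [hcard]
        intro hd
        exact hQp (dvd_trans hd (Subgroup.card_subgroup_dvd_card Q₁))
      · rintro _ ⟨x', hx', rfl⟩
        exact ⟨α x', hQ₁α x' hx', hαapp x'⟩
      · refine ⟨x, ⟨x, hx, rfl⟩, fun h => hxne (Subtype.ext ?_)⟩
        rw [hαapp]
        exact h
    · obtain ⟨x, hx, hxne⟩ := hQnc
      refine ⟨⟨x, hx⟩, fun h => hxne ?_⟩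
      have h5 := congrArg Subtype.val h
      rw [hαapp] at h5
      exact h5
  obtain ⟨ρQ, hρQdef⟩ : ∃ ρQ : Representation ℂ Q V, ρQ = MonoidHom.comp ρ Q.subtype := ⟨_, rfl⟩
  have hρQapp : ∀ x : Q, ρQ x = ρ (x : G) := by
    intro x
    rw [hρQdef]
    rfl
  have hρQ : Function.Injective ρQ := by
    intro a b hab
    rw [hρQapp, hρQapp] at hab
    exact Subtype.ext (hρ hab)
  have hinv : ∀ x : Q, ρQ.character (α x) = ρQ.character x := by
    intro x
    have e1 : ρQ.character (α x) = ρ.character ((α x : Q) : G) := by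
      rw [Representation.character, Representation.character, hρQapp]
    have e2 : ρQ.character x = ρ.character (x : G) := by
      rw [Representation.character, Representation.character, hρQapp]
    rw [e1, e2, hαapp, Representation.char_conj]
  obtain ⟨h1, h2, h3⟩ := hmin.faithful_facts ρQ hρQ hn hnp hinv
  refine ⟨h1, h2, ?_⟩
  rw [isIrreducible_iff] at h3 ⊢
  refine ⟨h3.1, fun W hW => h3.2 W (fun g v hv => ?_)⟩
  rw [hρQapp]
  exact hW (g : G) v hv

/-- If the degree is `< p - 1`, a `p`-element normalizing a `p'`-subgroup centralizes it. -/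
theorem commute_of_lt {p : ℕ} [hp : Fact p.Prime] {n : ℕ} (ρ : Representation ℂ G V)
    (hρ : Function.Injective ρ) (hn : finrank ℂ V = n) (hnp : n + 1 < p)
    (X : Subgroup G) (hX : ¬ p ∣ Nat.card X) (y : G) (a : ℕ) (hya : y ^ (p ^ a) = 1)
    (hyX : ∀ x ∈ X, y * x * y⁻¹ ∈ X) : ∀ x ∈ X, y * x * y⁻¹ = x := by
  by_contra hcon
  push Not at hcon
  have h1 := (hh_lite ρ hρ hn (by omega) X hX y a hya hyX hcon).1
  omega

end Cfsg.Agent.Lib.Helper23.HH
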