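import Mathlib
import Cfsg.Prelude.Def_Solvable
import Cfsg.Agent.Lib.Helper1.Cores
import Cfsg.Agent.Lib.Helper23.HHGroup
import Cfsg.Agent.Lib.Helper23.BlichComm

/-!
# Tools for the Feit–Thompson–Blichfeldt theorem on normal Sylow subgroups of linear groups
-/

set_option autoImplicit false

namespace Cfsg.Agent.Lib.Helper23.FTB

open Module Cfsg Cfsg.Agent.Lib.Helper1 Cfsg.Agent.Lib.Helper2

universe u

/-- Every Sylow `p`-subgroup is normal. -/
def PClosed (p : ℕ) (G : Type*) [Group G] : Prop :=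
  ∀ Q : Sylow p G, (Q : Subgroup G).Normal

theorem PClosed.of_equiv {p : ℕ} [Fact p.Prime] {A B : Type*} [Group A] [Group B] [Finite A]
    (e : A ≃* B) (h : PClosed p B) : PClosed p A := by
  intro Q
  have h1 : ((Q : Subgroup A).map e.toMonoidHom).Normal :=
    h (Q.mapSurjective (f := e.toMonoidHom) e.surjective)
  have h2 : (Q : Subgroup A) = ((Q : Subgroup A).map e.toMonoidHom).comap e.toMonoidHom :=
    (Subgroup.comap_map_eq_self_of_injective e.injective _).symm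
  rw [h2]
  exact Subgroup.Normal.comap h1 _

variable {G : Type u} [Group G] [Finite G] {p : ℕ} [hp : Fact p.Prime]

/-- In a group all of whose proper subgroups are `p`-closed, two `p`-subgroups of a proper
subgroup lie in a common Sylow `p`-subgroup. -/
theorem exists_sylow_ge_of_le_proper (hmin : ∀ K : Subgroup G, K ≠ ⊤ → PClosed p K)
    {L A B : Subgroup G} (hL : L ≠ ⊤) (hA : IsPGroup p A) (hB : IsPGroup p B)
    (hAL : A ≤ L) (hBL : B ≤ L) : ∃ Q : Sylow p G, A ≤ Q ∧ B ≤ Q := by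
  have hA' : IsPGroup p (A.subgroupOf L) := hA.comap_subtype
  have hB' : IsPGroup p (B.subgroupOf L) := hB.comap_subtype
  obtain ⟨SA, hSA⟩ := hA'.exists_le_sylow
  obtain ⟨SB, hSB⟩ := hB'.exists_le_sylow
  have hn : (SA : Subgroup L).Normal := hmin L hL SA
  haveI := Sylow.unique_of_normal SA hn
  have hSS : SB = SA := Subsingleton.elim _ _
  rw [hSS] at hSB
  have hS : IsPGroup p ((SA : Subgroup L).map L.subtype) := SA.isPGroup'.map _
  obtain ⟨Q, hQ⟩ := hS.exists_le_sylow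
  refine ⟨Q, ?_, ?_⟩
  · intro a ha
    apply hQ
    exact ⟨⟨a, hAL ha⟩, hSA (Subgroup.mem_subgroupOf.mpr ha), rfl⟩
  · intro b hb
    apply hQ
    exact ⟨⟨b, hBL hb⟩, hSB (Subgroup.mem_subgroupOf.mpr hb), rfl⟩

theorem sylow_eq_of_le_proper (hmin : ∀ K : Subgroup G, K ≠ ⊤ → PClosed p K)
    {L : Subgroup G} (hL : L ≠ ⊤) (Q₁ Q₂ : Sylow p G) (h1 : (Q₁ : Subgroup G) ≤ L)
    (h2 : (Q₂ : Subgroup G) ≤ L) : Q₁ = Q₂ := by
  obtain ⟨Q, hQ1, hQ2⟩ :=
    exists_sylow_ge_of_le_proper hmin hL Q₁.isPGroup' Q₂.isPGroup' h1 h2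
  have e1 : Q = Q₁ := Sylow.ext (Q₁.is_maximal' Q.isPGroup' hQ1)
  have e2 : Q = Q₂ := Sylow.ext (Q₂.is_maximal' Q.isPGroup' hQ2)
  rw [← e1, ← e2]

theorem inf_le_center (hmin : ∀ K : Subgroup G, K ≠ ⊤ → PClosed p K)
    (hab : ∀ Q : Sylow p G, ∀ a ∈ (Q : Subgroup G), ∀ b ∈ (Q : Subgroup G), a * b = b * a)
    {Q₁ Q₂ : Sylow p G} (hne : Q₁ ≠ Q₂) :
    (Q₁ : Subgroup G) ⊓ (Q₂ : Subgroup G) ≤ Subgroup.center G := by
  by_contra hcon
  apply hne
  have hL : Subgroup.centralizer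
      ((((Q₁ : Subgroup G) ⊓ (Q₂ : Subgroup G) : Subgroup G)) : Set G) ≠ ⊤ := by
    intro htop
    apply hcon
    rw [Subgroup.centralizer_eq_top_iff_subset] at htop
    exact fun x hx => htop hx
  refine sylow_eq_of_le_proper hmin hL Q₁ Q₂ ?_ ?_
  · intro a ha
    rw [Subgroup.mem_centralizer_iff]
    intro e he
    exact hab Q₁ e (Subgroup.mem_inf.mp he).1 a ha
  · intro a ha
    rw [Subgroup.mem_centralizer_iff]
    intro e he
    exact hab Q₂ e (Subgroup.mem_inf.mp he).2 a ha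

theorem inf_eq_pCore (hmin : ∀ K : Subgroup G, K ≠ ⊤ → PClosed p K)
    (hab : ∀ Q : Sylow p G, ∀ a ∈ (Q : Subgroup G), ∀ b ∈ (Q : Subgroup G), a * b = b * a)
    {Q₁ Q₂ : Sylow p G} (hne : Q₁ ≠ Q₂) :
    (Q₁ : Subgroup G) ⊓ (Q₂ : Subgroup G) = pCore p G := by
  apply le_antisymm
  · have hc := inf_le_center hmin hab hne
    apply le_pCore
    · refine ⟨fun x hx g => ?_⟩
      have h1 := hc hx
      rw [Subgroup.mem_center_iff] at h1
      have h2 : g * x * g⁻¹ = x := by rw [h1 g, mul_inv_cancel_right]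
      rw [h2]
      exact hx
    · exact Q₁.isPGroup'.to_le inf_le_left
  · exact le_inf (pCore_le_sylow Q₁) (pCore_le_sylow Q₂)

open scoped IsMulCommutative in
/-- The transfer into an abelian subgroup, evaluated on central elements. -/
theorem exists_transfer (P : Subgroup G) (hab : ∀ a ∈ P, ∀ b ∈ P, a * b = b * a) :
    ∃ V : G →* P, ∀ z ∈ Subgroup.center G, z ∈ P → ((V z : P) : G) = z ^ P.index := by
  haveI : IsMulCommutative P := ⟨⟨fun a b => Subtype.ext (hab a a.2 b b.2)⟩⟩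
  refine ⟨MonoidHom.transfer (MonoidHom.id P), ?_⟩
  intro z hz hzP
  have key : ∀ (k : ℕ) (g₀ : G), g₀⁻¹ * z ^ k * g₀ ∈ P → g₀⁻¹ * z ^ k * g₀ = z ^ k := by
    intro k g₀ _
    have h1 : z ^ k ∈ Subgroup.center G := Subgroup.pow_mem _ hz k
    rw [Subgroup.mem_center_iff] at h1
    rw [mul_assoc, ← h1 g₀, inv_mul_cancel_left]
  rw [MonoidHom.transfer_eq_pow (MonoidHom.id P) z key]
  rfl

variable {V : Type*} [AddCommGroup V] [Module ℂ V] [FiniteDimensional ℂ V]

/-- Sylow `p`-subgroups of a complex linear group of degree `< p` are abelian. -/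
theorem sylow_abelian (ρ : Representation ℂ G V) (hρ : Function.Injective ρ) {n : ℕ}
    (hn : finrank ℂ V = n) (hnp : n < p) (Q : Sylow p G) :
    ∀ a ∈ (Q : Subgroup G), ∀ b ∈ (Q : Subgroup G), a * b = b * a := by
  intro a ha b hb
  obtain ⟨ρQ, hρQdef⟩ : ∃ ρQ : Representation ℂ (Q : Subgroup G) V,
      ρQ = MonoidHom.comp ρ (Q : Subgroup G).subtype := ⟨_, rfl⟩
  have hρQ : Function.Injective ρQ := by
    rw [hρQdef, MonoidHom.coe_comp]
    exact hρ.comp (Q : Subgroup G).subtype_injective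
  have hq : ∀ q : ℕ, q.Prime → q ∣ Nat.card (Q : Subgroup G) → finrank ℂ V < q := by
    intro q hq hqd
    obtain ⟨k, hk⟩ := IsPGroup.iff_card.mp Q.isPGroup'
    rw [hk] at hqd
    have h1 := (Nat.prime_dvd_prime_iff_eq hq hp.out).mp (hq.dvd_of_dvd_pow hqd)
    rw [hn, h1]
    exact hnp
  have h1 := Cfsg.Agent.Lib.Helper23.Blich.comm_of_forall_prime_gt ρQ hρQ hq ⟨a, ha⟩ ⟨b, hb⟩
  exact congrArg Subtype.val h1

/-- A Sylow `p`-subgroup `P` with `K P` normal, `K` a normal `p'`-subgroup, is normal when the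
degree is `< p - 1`. -/
theorem normal_of_pPrime_normal (ρ : Representation ℂ G V) (hρ : Function.Injective ρ) {n : ℕ}
    (hn : finrank ℂ V = n) (hnp : n + 1 < p) (P : Sylow p G) (K : Subgroup G)
    (hK : ¬ p ∣ Nat.card K) (hKn : K.Normal) (hKP : (K ⊔ (P : Subgroup G)).Normal) :
    (P : Subgroup G).Normal := by
  have hcent : ∀ y ∈ (P : Subgroup G), ∀ x ∈ K, y * x * y⁻¹ = x := by
    intro y hy
    obtain ⟨a, ha⟩ := P.isPGroup' ⟨y, hy⟩
    have hya : y ^ (p ^ a) = 1 := by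
      have h1 := congrArg Subtype.val ha
      simpa using h1
    exact HH.commute_of_lt ρ hρ hn hnp K hK y a hya (fun x hx => hKn.conj_mem x hx y)
  haveI := hKP
  have hF := Sylow.normalizer_sup_eq_top' P
    (le_sup_right : (P : Subgroup G) ≤ K ⊔ (P : Subgroup G))
  rw [← Subgroup.normalizer_eq_top_iff, eq_top_iff, ← hF]
  apply sup_le le_rfl
  apply sup_le
  · refine le_trans ?_ (Subgroup.centralizer_le_normalizer _)
    intro x hx
    rw [Subgroup.mem_centralizer_iff]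
    intro y hy
    have h4 := hcent y hy x hx
    calc y * x = y * x * y⁻¹ * y := by group
      _ = x * y := by rw [h4]
  · exact Subgroup.le_normalizer

/-- Irreducible constituents of a representation, with their degrees. -/
theorem exists_constituents (ρ : Representation ℂ G V) :
    ∃ m : Multiset (IrrCharacter G),
      (∀ g, ρ.character g = (m.map (fun χ : IrrCharacter G => (χ : G → ℂ) g)).sum) ∧
      ∀ χ ∈ m, ∃ d : ℕ, 0 < d ∧ d ≤ finrank ℂ V ∧ (χ : G → ℂ) 1 = d := by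
  classical
  obtain ⟨m, hm⟩ := exists_multiset_irr_of_rep ρ
  have hdeg : ∀ θ : IrrCharacter G, ∃ d : ℕ, 0 < d ∧ (θ : G → ℂ) 1 = d :=
    fun θ => IsIrrCharacter.apply_one θ.2
  choose deg hdegpos hdegeq using hdeg
  have happ : ∀ g : G, ρ.character g =
      (m.map (fun θ : IrrCharacter G => (θ : G → ℂ) g)).sum := by
    intro g
    rw [hm, HH.msum_apply]
  have hsumdeg : (m.map deg).sum = finrank ℂ V := by
    have h1 := happ 1
    rw [Representation.char_one] at h1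
    have h2 : (m.map (fun θ : IrrCharacter G => (θ : G → ℂ) 1)) =
        m.map (fun θ => ((deg θ : ℕ) : ℂ)) :=
      Multiset.map_congr rfl (fun θ _ => hdegeq θ)
    rw [h2] at h1
    have h3 : (m.map (fun θ => ((deg θ : ℕ) : ℂ))).sum = (((m.map deg).sum : ℕ) : ℂ) := by
      rw [Nat.cast_multiset_sum, Multiset.map_map]
      rfl
    rw [h3] at h1
    exact_mod_cast h1.symm
  refine ⟨m, happ, fun χ hχ => ⟨deg χ, hdegpos χ, ?_, hdegeq χ⟩⟩
  obtain ⟨m', rfl⟩ := Multiset.exists_cons_of_mem hχ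
  rw [Multiset.map_cons, Multiset.sum_cons] at hsumdeg
  omega

end Cfsg.Agent.Lib.Helper23.FTB
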