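import Mathlib
import Cfsg.Agent.Lib.Helper23.FTBBasic
import Cfsg.Agent.Lib.Helper11.FTLemma4
import Cfsg.Agent.Lib.Helper2.Linear
import Cfsg.Agent.Lib.Helper25.Kernel

/-!
# The Feit–Thompson–Blichfeldt theorem on normal Sylow subgroups of complex linear groups
-/

set_option autoImplicit false

namespace Cfsg.Agent.Lib.Helper23.FTB

open Module Cfsg Cfsg.Agent.Lib.Helper1 Cfsg.Agent.Lib.Helper2 Cfsg.Agent.Lib.Helper25
open scoped Pointwise

universe u v

variable {G : Type u} [Group G] [Finite G] {p : ℕ} [hp : Fact p.Prime]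
variable {V : Type v} [AddCommGroup V] [Module ℂ V] [FiniteDimensional ℂ V]

/-- The case of a nontrivial (central) `p`-core: transfer gives a normal `p`-complement. -/
theorem normal_of_core_ne_bot (ρ : Representation ℂ G V) (hρ : Function.Injective ρ) {n : ℕ}
    (hn : finrank ℂ V = n) (hnp : n + 1 < p)
    (hmin : ∀ K : Subgroup G, K ≠ ⊤ → PClosed p K) (P : Sylow p G)
    (hab : ∀ a ∈ (P : Subgroup G), ∀ b ∈ (P : Subgroup G), a * b = b * a)
    (hZ0c : pCore p G ≤ Subgroup.center G) (hZ0 : pCore p G ≠ ⊥) :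
    (P : Subgroup G).Normal := by
  obtain ⟨T, hT⟩ := exists_transfer (P : Subgroup G) hab
  have hZ0P : pCore p G ≤ (P : Subgroup G) := pCore_le_sylow P
  have hKZ : T.ker ⊓ pCore p G = ⊥ := by
    rw [eq_bot_iff]
    intro z hz
    obtain ⟨hzK, hzZ⟩ := Subgroup.mem_inf.mp hz
    rw [Subgroup.mem_bot]
    have h1 := hT z (hZ0c hzZ) (hZ0P hzZ)
    rw [MonoidHom.mem_ker.mp hzK, Subgroup.coe_one] at h1
    have h2 : z ^ (P : Subgroup G).index = 1 := h1.symm
    obtain ⟨k, hk⟩ := P.isPGroup' ⟨z, hZ0P hzZ⟩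
    have h3 : z ^ (p ^ k) = 1 := by
      have h3' := congrArg Subtype.val hk
      simpa using h3'
    have h4 : orderOf z ∣ Nat.gcd ((P : Subgroup G).index) (p ^ k) :=
      Nat.dvd_gcd (orderOf_dvd_of_pow_eq_one h2) (orderOf_dvd_of_pow_eq_one h3)
    have h5 : Nat.gcd ((P : Subgroup G).index) (p ^ k) = 1 :=
      Nat.Coprime.pow_right k
        ((Nat.Prime.coprime_iff_not_dvd hp.out).mpr P.not_dvd_index).symm
    rw [h5, Nat.dvd_one, orderOf_eq_one_iff] at h4
    exact h4
  have hKn : T.ker.Normal := MonoidHom.normal_ker T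
  have hKtop : T.ker ≠ ⊤ := by
    intro htop
    apply hZ0
    rw [← hKZ, htop, top_inf_eq]
  have hKp : ¬ p ∣ Nat.card T.ker := by
    obtain ⟨S⟩ : Nonempty (Sylow p T.ker) := inferInstance
    have hSn : (S : Subgroup T.ker).Normal := hmin T.ker hKtop S
    haveI hSc : (S : Subgroup T.ker).Characteristic := Sylow.characteristic_of_normal S hSn
    have hSG : ((S : Subgroup T.ker).map T.ker.subtype).Normal := inferInstance
    have hSp : IsPGroup p ((S : Subgroup T.ker).map T.ker.subtype) := S.isPGroup'.map _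
    have h1 : (S : Subgroup T.ker).map T.ker.subtype ≤ pCore p G := le_pCore hSG hSp
    have h2 : (S : Subgroup T.ker).map T.ker.subtype ≤ T.ker := Subgroup.map_subtype_le _
    have h3 : (S : Subgroup T.ker).map T.ker.subtype = ⊥ := by
      rw [eq_bot_iff, ← hKZ]
      exact le_inf h2 h1
    have h4 : (S : Subgroup T.ker) = ⊥ := by
      rw [eq_bot_iff]
      intro s hs
      have h5 : (s : G) ∈ (S : Subgroup T.ker).map T.ker.subtype := ⟨s, hs, rfl⟩
      rw [h3, Subgroup.mem_bot] at h5
      rw [Subgroup.mem_bot]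
      exact Subtype.ext h5
    have h5 := S.not_dvd_index
    rw [h4, Subgroup.index_bot] at h5
    exact h5
  have hq : IsPGroup p (G ⧸ T.ker) := by
    intro x
    obtain ⟨g, rfl⟩ := QuotientGroup.mk_surjective x
    obtain ⟨k, hk⟩ := P.isPGroup' (T g)
    refine ⟨k, ?_⟩
    rw [← QuotientGroup.mk_pow, QuotientGroup.eq_one_iff, MonoidHom.mem_ker, map_pow]
    exact hk
  have hπ := QuotientGroup.mk'_surjective T.ker
  have htop : (P : Subgroup G).map (QuotientGroup.mk' T.ker) = ⊤ :=
    ((P.mapSurjective hπ).is_maximal' (Q := ⊤) (hq.to_subgroup ⊤) le_top).symm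
  have hsup : T.ker ⊔ (P : Subgroup G) = ⊤ := by
    rw [← QuotientGroup.comap_map_mk', htop, Subgroup.comap_top]
  have hKP : (T.ker ⊔ (P : Subgroup G)).Normal := by
    rw [hsup]
    infer_instance
  exact normal_of_pPrime_normal ρ hρ hn hnp P T.ker hKp hKn hKP

/-- The case of a trivial `p`-core: the Sylow subgroups are TI, and the lemma of Feit and
Thompson forces all constituents to be linear. -/
theorem normal_of_core_eq_bot (ρ : Representation ℂ G V) (hρ : Function.Injective ρ) {n : ℕ}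
    (hn : finrank ℂ V = n)
    (hmin : ∀ K : Subgroup G, K ≠ ⊤ → PClosed p K) (P : Sylow p G)
    (hab : ∀ Q : Sylow p G, ∀ a ∈ (Q : Subgroup G), ∀ b ∈ (Q : Subgroup G), a * b = b * a)
    (hTI : ∀ Q₁ Q₂ : Sylow p G, Q₁ ≠ Q₂ → (Q₁ : Subgroup G) ⊓ (Q₂ : Subgroup G) = ⊥)
    (hbig : (n + 1) ^ 2 ≤ Nat.card (P : Subgroup G)) :
    (P : Subgroup G).Normal := by
  classical
  by_contra hP
  haveI := Fintype.ofFinite G
  haveI : Fintype (P : Subgroup G) := Fintype.ofFinite _
  obtain ⟨g₀, hg₀⟩ : ∃ g : G, g • P ≠ P := by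
    by_contra hcon
    push Not at hcon
    apply hP
    rw [← Subgroup.normalizer_eq_top_iff, eq_top_iff]
    intro g _
    exact Sylow.smul_eq_iff_mem_normalizer.mp (hcon g)
  have hZ : (P : Subgroup G) ⊓ Subgroup.center G = ⊥ := by
    rw [eq_bot_iff, ← hTI _ _ hg₀]
    intro z hz
    obtain ⟨hzP, hzc⟩ := Subgroup.mem_inf.mp hz
    refine Subgroup.mem_inf.mpr ⟨?_, hzP⟩
    have h1 : MulAut.conj g₀ • z ∈ MulAut.conj g₀ • (P : Subgroup G) :=
      Subgroup.smul_mem_pointwise_smul z _ _ hzP
    have h2 : MulAut.conj g₀ • z = z := by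
      rw [MulAut.smul_def, MulAut.conj_apply]
      rw [Subgroup.mem_center_iff] at hzc
      rw [hzc g₀, mul_inv_cancel_right]
    rw [h2] at h1
    exact h1
  have hconj : ∀ c : G, (P : Subgroup G).map (MulAut.conj c).toMonoidHom =
      ((c • P : Sylow p G) : Subgroup G) := fun c => rfl
  have hone : ∀ g : G, g ∉ Subgroup.center G → ∀ a b : G,
      Subgroup.centralizer ({g} : Set G) ⊓ (P : Subgroup G).map (MulAut.conj a).toMonoidHom ≠ ⊥ →
      Subgroup.centralizer ({g} : Set G) ⊓ (P : Subgroup G).map (MulAut.conj b).toMonoidHom ≠ ⊥ →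
      (P : Subgroup G).map (MulAut.conj a).toMonoidHom =
        (P : Subgroup G).map (MulAut.conj b).toMonoidHom := by
    intro g hg a b hA hB
    rw [hconj a] at hA ⊢
    rw [hconj b] at hB ⊢
    have hL : Subgroup.centralizer ({g} : Set G) ≠ ⊤ := by
      intro htop
      apply hg
      rw [Subgroup.centralizer_eq_top_iff_subset] at htop
      exact htop rfl
    obtain ⟨Q, hQA, hQB⟩ := exists_sylow_ge_of_le_proper hmin hL
      ((a • P).isPGroup'.to_le inf_le_right) ((b • P).isPGroup'.to_le inf_le_right)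
      inf_le_left inf_le_left
    have hQa : Q = a • P := by
      by_contra hne
      apply hA
      rw [eq_bot_iff, ← hTI Q (a • P) hne]
      exact le_inf hQA inf_le_right
    have hQb : Q = b • P := by
      by_contra hne
      apply hB
      rw [eq_bot_iff, ← hTI Q (b • P) hne]
      exact le_inf hQB inf_le_right
    rw [← hQa, ← hQb]
  have hgen : ∀ M : Subgroup G, M.Normal → (P : Subgroup G) ≤ M → M = ⊤ := by
    intro M hM hPM
    by_contra hMtop
    apply hP
    have hSn : ((P.subtype hPM : Sylow p M) : Subgroup M).Normal := hmin M hMtop _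
    haveI hSc : ((P.subtype hPM : Sylow p M) : Subgroup M).Characteristic :=
      Sylow.characteristic_of_normal _ hSn
    haveI := hM
    have hSG : (((P.subtype hPM : Sylow p M) : Subgroup M).map M.subtype).Normal :=
      inferInstance
    rw [Sylow.coe_subtype, Subgroup.subgroupOf_map_subtype, inf_of_le_left hPM] at hSG
    exact hSG
  obtain ⟨m, happ, hmdeg⟩ := exists_constituents ρ
  have hlin : ∀ χ ∈ m, (χ : G → ℂ) 1 = 1 := by
    intro χ hχ
    by_contra h1
    have h2 := Cfsg.Agent.Lib.Helper11.FTLemma.ft_second (P : Subgroup G) (hab P) hZ hone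
      (χ : G → ℂ) χ.2 h1 hgen
    obtain ⟨d, hd0, hdle, hd⟩ := hmdeg χ hχ
    rw [hd, Complex.natCast_re] at h2
    have h3 : (Nat.card (P : Subgroup G) : ℝ) < (((1 + d) ^ 2 : ℕ) : ℝ) := by
      push_cast
      exact h2
    have h4 : Nat.card (P : Subgroup G) < (1 + d) ^ 2 := by exact_mod_cast h3
    have h5 : (1 + d) ^ 2 ≤ (n + 1) ^ 2 := Nat.pow_le_pow_left (by omega) 2
    omega
  have hcomm : ∀ x ∈ commutator G, x = 1 := by
    intro x hx
    apply hρ
    rw [map_one, rep_apply_eq_one_iff, happ, happ]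
    refine congrArg Multiset.sum (Multiset.map_congr rfl (fun χ hχ => ?_))
    obtain ⟨φ, hφ⟩ := exists_monoidHom_of_isIrrCharacter_of_apply_one χ.2 (hlin χ hχ)
    have hk := Abelianization.commutator_subset_ker φ hx
    rw [MonoidHom.mem_ker] at hk
    rw [hφ]
    simp [hk]
  apply hP
  refine ⟨fun x hx g => ?_⟩
  have h1 : g * x * g⁻¹ * x⁻¹ = 1 := hcomm _ (by
    rw [commutator_def]
    exact Subgroup.commutator_mem_commutator (Subgroup.mem_top g) (Subgroup.mem_top x))
  have h2 : g * x * g⁻¹ = x := mul_inv_eq_one.mp h1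
  rw [h2]
  exact hx

/-- The minimal configuration is impossible. -/
theorem pclosed_core (ρ : Representation ℂ G V) (hρ : Function.Injective ρ) {n : ℕ}
    (hn : finrank ℂ V = n) (hnp : n + 1 < p)
    (hbig : (n + 1) ^ 2 ≤ p ∨ p ^ 2 ∣ Nat.card G)
    (hmin : ∀ K : Subgroup G, K ≠ ⊤ → PClosed p K) : PClosed p G := by
  intro P
  by_contra hP
  have hab : ∀ Q : Sylow p G, ∀ a ∈ (Q : Subgroup G), ∀ b ∈ (Q : Subgroup G),
      a * b = b * a := fun Q => sylow_abelian ρ hρ hn (by omega) Q
  obtain ⟨g₀, hg₀⟩ : ∃ g : G, g • P ≠ P := by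
    by_contra hcon
    push Not at hcon
    apply hP
    rw [← Subgroup.normalizer_eq_top_iff, eq_top_iff]
    intro g _
    exact Sylow.smul_eq_iff_mem_normalizer.mp (hcon g)
  have hTI : ∀ Q₁ Q₂ : Sylow p G, Q₁ ≠ Q₂ →
      (Q₁ : Subgroup G) ⊓ (Q₂ : Subgroup G) = pCore p G :=
    fun Q₁ Q₂ h => inf_eq_pCore hmin hab h
  have hZ0c : pCore p G ≤ Subgroup.center G := by
    rw [← hTI _ _ hg₀]
    exact inf_le_center hmin hab hg₀
  by_cases hZ0 : pCore p G = ⊥
  · apply hP
    refine normal_of_core_eq_bot ρ hρ hn hmin P hab (fun Q₁ Q₂ h => by rw [hTI Q₁ Q₂ h, hZ0]) ?_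
    obtain ⟨k, hk⟩ := IsPGroup.iff_card.mp P.isPGroup'
    rcases hbig with hbig | hbig
    · have hk0 : k ≠ 0 := by
        rintro rfl
        rw [pow_zero] at hk
        apply hP
        have hbot : (P : Subgroup G) = ⊥ := Subgroup.card_eq_one.mp hk
        rw [hbot]
        infer_instance
      rw [hk]
      calc (n + 1) ^ 2 ≤ p := hbig
        _ = p ^ 1 := (pow_one p).symm
        _ ≤ p ^ k := Nat.pow_le_pow_right hp.out.pos (Nat.one_le_iff_ne_zero.mpr hk0)
    · have h1 : Nat.card G = Nat.card (P : Subgroup G) * (P : Subgroup G).index :=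
        (Subgroup.card_mul_index _).symm
      rw [h1] at hbig
      have hcop : Nat.Coprime (p ^ 2) (P : Subgroup G).index :=
        Nat.Coprime.pow_left 2 ((Nat.Prime.coprime_iff_not_dvd hp.out).mpr P.not_dvd_index)
      have h2 : p ^ 2 ∣ Nat.card (P : Subgroup G) := hcop.dvd_of_dvd_mul_right hbig
      have h3 : p ^ 2 ≤ Nat.card (P : Subgroup G) := Nat.le_of_dvd Nat.card_pos h2
      have h4 : (n + 1) ^ 2 ≤ p ^ 2 := Nat.pow_le_pow_left (by omega) 2
      omega
  · exact hP (normal_of_core_ne_bot ρ hρ hn hnp hmin P (hab P) hZ0c hZ0)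

/-- **Feit–Thompson–Blichfeldt**: a finite complex linear group of degree `n` has a normal
Sylow `p`-subgroup if `(n + 1) ^ 2 ≤ p`, or if `n + 1 < p` and every subgroup of order not
divisible by `p ^ 2` has a normal Sylow `p`-subgroup. -/
theorem pclosed_of_faithful : ∀ (N : ℕ) (G : Type u) [Group G] [Finite G] (V : Type v)
    [AddCommGroup V] [Module ℂ V] [FiniteDimensional ℂ V] (ρ : Representation ℂ G V),
    Function.Injective ρ → ∀ n : ℕ, finrank ℂ V = n →
    ((n + 1) ^ 2 ≤ p ∨ (n + 1 < p ∧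
      ∀ K : Subgroup G, ¬ p ^ 2 ∣ Nat.card K → PClosed p K)) →
    Nat.card G = N → PClosed p G := by
  intro N
  induction N using Nat.strong_induction_on with
  | _ N ih =>
    intro G _ _ V _ _ _ ρ hρ n hn h hN
    have hnp : n + 1 < p := by
      rcases h with h | h
      · have hp2 := hp.out.two_le
        rcases Nat.eq_zero_or_pos n with h0 | h0
        · omega
        · have : n + 1 < (n + 1) ^ 2 := by nlinarith
          omega
      · exact h.1
    by_cases hp2 : (n + 1) ^ 2 ≤ p ∨ p ^ 2 ∣ Nat.card G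
    · apply pclosed_core ρ hρ hn hnp hp2
      intro K hK
      have hlt : Nat.card K < N := by
        rw [← hN]
        exact lt_of_le_of_ne (Subgroup.card_le_card_group K)
          (fun h => hK ((Subgroup.card_eq_iff_eq_top K).mp h))
      obtain ⟨ρK, hρKdef⟩ : ∃ ρK : Representation ℂ K V, ρK = MonoidHom.comp ρ K.subtype :=
        ⟨_, rfl⟩
      have hρK : Function.Injective ρK := by
        rw [hρKdef, MonoidHom.coe_comp]
        exact hρ.comp K.subtype_injective
      refine ih (Nat.card K) hlt K V ρK hρK n hn ?_ rfl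
      rcases h with h | ⟨h1, h2⟩
      · left
        exact h
      · right
        refine ⟨h1, fun K' hK' => ?_⟩
        have hcard : Nat.card (K'.map K.subtype) = Nat.card K' :=
          Subgroup.card_map_of_injective K.subtype_injective
        exact PClosed.of_equiv (Subgroup.equivMapOfInjective K' K.subtype K.subtype_injective)
          (h2 (K'.map K.subtype) (by rw [hcard]; exact hK'))
    · push Not at hp2
      rcases h with h | ⟨h1, h2⟩
      · exact absurd h (not_le.mpr hp2.1)
      · have h3 := h2 ⊤ (by rw [Subgroup.card_top]; exact hp2.2)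
        exact PClosed.of_equiv Subgroup.topEquiv.symm h3

end Cfsg.Agent.Lib.Helper23.FTB
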