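import Cfsg.Agent.Lib.Helper6.Fi22M.Defs
import Cfsg.Agent.Lib.Helper3.Fi22MEXK

set_option autoImplicit false
set_option maxRecDepth 100000
set_option linter.unusedVariables false
set_option linter.style.haveILetI false
set_option linter.constructorNameAsVariable false

/-! S2053-[EX] (architect helper6): the covering group `PW1` is a stem extension of `P = Fi22`
with kernel `C6`.  Port of `Lib/Helper23/U62MEX.lean` (S2091-[EX]).  The statement is proved from
the statements of the other pieces as hypotheses (`Helper23.exists_stem_of`). -/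

namespace Cfsg.Agent.Lib.Helper6.Fi22M

open Cfsg Cfsg.Agent.Helper4.TC

namespace Helper23

/-! ### the homomorphism onto `P` -/

theorem mem_centL_of (b : List ℕ) (hb : b ∈ coxL ++ [rho2]) : b ∈ coxL ++ centL := by
  rcases List.mem_append.mp hb with h | h
  · exact List.mem_append_left _ h
  · apply List.mem_append_right
    unfold centL
    simp only [List.mem_cons, List.not_mem_nil, or_false] at h ⊢
    exact Or.inr (Or.inl h)

theorem mem_centL_of' (b : List ℕ) (hb : b ∈ [rho1, rho3]) : b ∈ coxL ++ centL := by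
  apply List.mem_append_right
  unfold centL
  simp only [List.mem_cons, List.not_mem_nil, or_false] at hb ⊢
  rcases hb with h | h
  · exact Or.inl h
  · exact Or.inr (Or.inr h)

theorem exists_tau : ∃ τ : PW1 →* P, ∀ k, τ (PresentedGroup.of k) = PresentedGroup.of k :=
  Schur.exists_hom_weak0 Fi22U62.coding (⊥ : Subgroup P) bot_le (PresentedGroup.of (rels := RP))
    (coxL ++ [rho2]) [rho1, rho3] gensL
    (fun b hb => evc_of_eq_one b (mem_centL_of b hb))
    (fun ρ hρ => by
      rw [Subgroup.mem_bot]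
      exact evc_of_eq_one ρ (mem_centL_of' ρ hρ))

theorem relW1_one (b : List ℕ) (hb : b ∈ relW1) :
    evc (PresentedGroup.of (rels := RW1)) dec b = 1 := by
  rw [evc_of]
  exact PresentedGroup.one_of_mem (mem_relSet _ b hb)

/-! ### centrality of the two words in `PW1` -/

/-- a commutator word which is trivial: the two elements commute -/
theorem commute_of_comm_word {Q : Type*} [Group Q] (f : Gen → Q) (w ρ : List ℕ)
    (h : evc f dec (invW w ++ invW ρ ++ w ++ ρ) = 1) :
    evc f dec ρ * evc f dec w = evc f dec w * evc f dec ρ := by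
  rw [evc_append, evc_append, evc_append, evc_invW f Fi22U62.coding,
    evc_invW f Fi22U62.coding] at h
  have h2 : evc f dec ρ * evc f dec w * (evc f dec ρ)⁻¹ * (evc f dec w)⁻¹ = 1 := by
    rw [← h]
    group
  calc evc f dec ρ * evc f dec w
      = (evc f dec ρ * evc f dec w * (evc f dec ρ)⁻¹ * (evc f dec w)⁻¹) *
          (evc f dec w * evc f dec ρ) := by group
    _ = evc f dec w * evc f dec ρ := by rw [h2, one_mul]

theorem evc_letter {Q : Type*} [Group Q] (f : Gen → Q) (c : ℕ) :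
    evc f dec [c] = gl f (dec c) := by
  rw [evc_cons, evc_nil, one_mul]

/-- the words of the generators -/
def gw : Gen → List ℕ
  | .a => [0]
  | .b => [2]
  | .c => [4]
  | .d => [6]
  | .e => [8]
  | .f => [10]
  | .g => [12]
  | .h => [14]
  | .i => [16]

theorem evc_gw {Q : Type*} [Group Q] (f : Gen → Q) (k : Gen) : evc f dec (gw k) = f k := by
  cases k <;> rw [gw, evc_letter] <;> rfl

theorem gw_mem (k : Gen) : gw k ∈ gensL := by
  cases k <;> decide

theorem comm_word_mem (k : Gen) (ρ : List ℕ) (L : List (List ℕ)) (hρ : ρ ∈ L) :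
    invW (gw k) ++ invW ρ ++ gw k ++ ρ ∈ Schur.weakify0 gensL L := by
  unfold Schur.weakify0
  exact List.mem_flatMap.mpr ⟨ρ, hρ, List.mem_map.mpr ⟨gw k, gw_mem k, rfl⟩⟩

noncomputable def cW (w : List ℕ) : PW1 := evc (PresentedGroup.of (rels := RW1)) dec w

theorem cW_comm (ρ : List ℕ) (hρ : ρ ∈ [rho1, rho3]) (k : Gen) :
    cW ρ * PresentedGroup.of k = PresentedGroup.of k * cW ρ := by
  have h := commute_of_comm_word (PresentedGroup.of (rels := RW1)) (gw k) ρ
    (relW1_one _ (List.mem_append_right _ (comm_word_mem k ρ _ hρ)))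
  rw [evc_gw] at h
  exact h

theorem center_of_comm_W (g : PW1) (hg : ∀ k, g * PresentedGroup.of k = PresentedGroup.of k * g) :
    g ∈ Subgroup.center PW1 := by
  have h : (⊤ : Subgroup PW1) ≤ Subgroup.centralizer {g} := by
    rw [← PresentedGroup.closure_range_of RW1, Subgroup.closure_le]
    rintro _ ⟨k, rfl⟩
    rw [SetLike.mem_coe, Subgroup.mem_centralizer_iff]
    intro h hh
    rw [Set.mem_singleton_iff.mp hh]
    exact hg k
  rw [Subgroup.mem_center_iff]
  intro u
  have hu := Subgroup.mem_centralizer_iff.mp (h (Subgroup.mem_top u)) g (Set.mem_singleton _)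
  exact hu.symm

theorem cW_center (ρ : List ℕ) (hρ : ρ ∈ [rho1, rho3]) : cW ρ ∈ Subgroup.center PW1 :=
  center_of_comm_W _ (cW_comm ρ hρ)

theorem r1_center : r1 ∈ Subgroup.center PW1 := cW_center rho1 (by simp)
theorem r3_center : r3 ∈ Subgroup.center PW1 := cW_center rho3 (by simp)

theorem cW_mem_ker (τ : PW1 →* P) (hτ : ∀ k, τ (PresentedGroup.of k) = PresentedGroup.of k)
    (ρ : List ℕ) (hρ : ρ ∈ [rho1, rho3]) : cW ρ ∈ τ.ker := by
  rw [MonoidHom.mem_ker]
  unfold cW
  rw [Schur.map_evc]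
  have h2 : (fun k => τ (PresentedGroup.of k)) = PresentedGroup.of (rels := RP) := funext hτ
  rw [h2]
  exact evc_of_eq_one ρ (mem_centL_of' ρ hρ)

/-! ### separation of the six products -/

theorem pow_eq_of_order {Δ : Type*} [Group Δ] (a : Δ) (p : ℕ) [hp : Fact p.Prime] (ha : a ≠ 1)
    (hap : a ^ p = 1) (i j : Fin p) (h : a ^ i.val = a ^ j.val) : i = j := by
  have ho : orderOf a = p := orderOf_eq_prime hap ha
  have hinj := pow_injOn_Iio_orderOf (x := a)
  apply Fin.ext
  apply hinj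
  · rw [Set.mem_Iio, ho]; exact i.2
  · rw [Set.mem_Iio, ho]; exact j.2
  · exact h

/-- [EX] from the statements of the other pieces (`hcardP` is `card_P`, `hcard` is [EX-card],
`hperf` is [EX-perf], `hA` is [EX-2], `hB` is [EX-3]) -/
theorem exists_stem_of
    (hcardP : Nat.card P = 64561751654400)
    (hcard : Finite PW1 ∧ Nat.card PW1 ≤ 6 * 64561751654400)
    (hperf : commutator PW1 = ⊤)
    (hA : ∃ (Δ : Type) (_ : Group Δ) (φ : PW1 →* Δ),
      φ r3 ≠ 1 ∧ φ r3 ^ 2 = 1 ∧ φ r1 = 1)
    (hB : ∃ (Δ : Type) (_ : Group Δ) (φ : PW1 →* Δ),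
      φ r1 ≠ 1 ∧ φ r1 ^ 3 = 1 ∧ φ r3 = 1) :
    ∃ τ : PW1 →* P, IsStemExtension τ ∧
      Nonempty (τ.ker ≃* Multiplicative (ZMod 6)) := by
  haveI : Finite PW1 := hcard.1
  obtain ⟨τ, hτ⟩ := exists_tau
  obtain ⟨ΔA, _, φA, hA1, hA2, hA3⟩ := hA
  obtain ⟨ΔB, _, φB, hB1, hB2, hB3⟩ := hB
  have hsurj : Function.Surjective τ := by
    rw [← MonoidHom.range_eq_top, eq_top_iff, ← PresentedGroup.closure_range_of RP,
      Subgroup.closure_le]
    rintro _ ⟨k, rfl⟩
    exact ⟨PresentedGroup.of k, hτ k⟩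
  have hcardK : Nat.card τ.ker ≤ 6 := by
    have h1 : Nat.card PW1 = Nat.card τ.ker * Nat.card P := by
      rw [← Subgroup.card_mul_index τ.ker, Subgroup.index_ker,
        MonoidHom.range_eq_top.mpr hsurj, Subgroup.card_top]
    have h2 := hcard.2
    rw [h1, hcardP] at h2
    omega
  have hxk : r1 ∈ τ.ker := cW_mem_ker τ hτ rho1 (by simp)
  have hyk : r3 ∈ τ.ker := cW_mem_ker τ hτ rho3 (by simp)
  have hxy : Commute r1 r3 := (Subgroup.mem_center_iff.mp r1_center r3).symm
  -- the product homomorphism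
  let φ : PW1 →* ΔB × ΔA := φB.prod φA
  have hφ1 : φ r1 = (φB r1, 1) := by
    show (φB r1, φA r1) = _
    rw [hA3]
  have hφ3 : φ r3 = (1, φA r3) := by
    show (φB r3, φA r3) = _
    rw [hB3]
  have h3 : φ r1 ^ 3 = 1 := by
    rw [hφ1]
    ext
    · exact hB2
    · simp
  have h2 : φ r3 ^ 2 = 1 := by
    rw [hφ3]
    ext
    · simp
    · exact hA2
  have hinj : Function.Injective
      (fun t : Fin 3 × Fin 2 => φ r1 ^ t.1.val * φ r3 ^ t.2.val) := by
    have hval : ∀ t : Fin 3 × Fin 2,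
        φ r1 ^ t.1.val * φ r3 ^ t.2.val = (φB r1 ^ t.1.val, φA r3 ^ t.2.val) := by
      intro t
      rw [hφ1, hφ3]
      ext <;> simp
    intro t t' htt
    simp only at htt
    rw [hval t, hval t'] at htt
    have e1 := congrArg Prod.fst htt
    have e2 := congrArg Prod.snd htt
    simp only at e1 e2
    haveI : Fact (Nat.Prime 3) := ⟨by norm_num⟩
    haveI : Fact (Nat.Prime 2) := ⟨by norm_num⟩
    have f1 := pow_eq_of_order (φB r1) 3 hB1 hB2 t.1 t'.1 e1
    have f2 := pow_eq_of_order (φA r3) 2 hA1 hA2 t.2 t'.2 e2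
    exact Prod.ext f1 f2
  haveI : Finite τ.ker := inferInstance
  obtain ⟨hgen, ⟨e⟩⟩ := kernel_c6 τ.ker hcardK φ r1 r3 hxk hyk hxy h3 h2 hinj
  have hcen : τ.ker ≤ Subgroup.center PW1 := by
    intro g hg
    obtain ⟨i, j, rfl⟩ := hgen g hg
    exact Subgroup.mul_mem _ (Subgroup.pow_mem _ r1_center i) (Subgroup.pow_mem _ r3_center j)
  have hcomm : τ.ker ≤ commutator PW1 := by
    rw [hperf]; exact le_top
  exact ⟨τ, ⟨hsurj, hcen, hcomm⟩, ⟨e⟩⟩

end Helper23

end Cfsg.Agent.Lib.Helper6.Fi22M
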