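import Mathlib
import Cfsg.Agent.Lib.Helper4.TC.Basic

/-!
Changing a tuple of group elements by central factors (generic lemmas in helper4's `ev` / `evc`
vocabulary, helper23): `ev (g · k) w = ev g w * ev k w` for a central-valued `k`, and the evaluation of a
tuple with values in a subgroup.
-/

set_option autoImplicit false

namespace Cfsg.Agent.Lib.Helper23.FlipLift

open Cfsg.Agent.Helper4.TC

variable {α : Type} {Γ : Type*} [Group Γ]

theorem gl_mem_center (k : α → Γ) (hk : ∀ x, k x ∈ Subgroup.center Γ) (l : Letter α) :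
    gl k l ∈ Subgroup.center Γ := by
  unfold gl
  split_ifs
  · exact hk _
  · exact (Subgroup.center Γ).inv_mem (hk _)

theorem ev_mem_center (k : α → Γ) (hk : ∀ x, k x ∈ Subgroup.center Γ) (w : List (Letter α)) :
    ev k w ∈ Subgroup.center Γ := by
  induction w with
  | nil => exact (Subgroup.center Γ).one_mem
  | cons l ls ih => exact (Subgroup.center Γ).mul_mem ih (gl_mem_center k hk l)

theorem gl_mul_central (g k : α → Γ) (hk : ∀ x, k x ∈ Subgroup.center Γ) (l : Letter α) :
    gl (fun x => g x * k x) l = gl g l * gl k l := by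
  unfold gl
  split_ifs
  · rfl
  · have := Subgroup.mem_center_iff.mp (hk l.1) (g l.1)
    rw [mul_inv_rev]
    have h2 := Subgroup.mem_center_iff.mp ((Subgroup.center Γ).inv_mem (hk l.1)) (g l.1)⁻¹
    exact h2.symm

theorem ev_mul_central (g k : α → Γ) (hk : ∀ x, k x ∈ Subgroup.center Γ) (w : List (Letter α)) :
    ev (fun x => g x * k x) w = ev g w * ev k w := by
  induction w with
  | nil => simp [ev]
  | cons l ls ih =>
    simp only [ev, ih, gl_mul_central g k hk]
    have h1 := Subgroup.mem_center_iff.mp (ev_mem_center k hk ls) (gl g l)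
    calc ev g ls * ev k ls * (gl g l * gl k l) = ev g ls * (ev k ls * gl g l) * gl k l := by
          simp only [mul_assoc]
      _ = ev g ls * (gl g l * ev k ls) * gl k l := by rw [h1]
      _ = ev g ls * gl g l * (ev k ls * gl k l) := by simp only [mul_assoc]

theorem evc_mul_central (g k : α → Γ) (hk : ∀ x, k x ∈ Subgroup.center Γ) (dec : ℕ → Letter α)
    (cs : List ℕ) : evc (fun x => g x * k x) dec cs = evc g dec cs * evc k dec cs :=
  ev_mul_central g k hk _

theorem gl_coe (K : Subgroup Γ) (k : α → K) (l : Letter α) :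
    gl (fun x => (k x : Γ)) l = ((gl k l : K) : Γ) := by
  unfold gl
  split_ifs <;> simp

theorem ev_coe (K : Subgroup Γ) (k : α → K) (w : List (Letter α)) :
    ev (fun x => (k x : Γ)) w = ((ev k w : K) : Γ) := by
  induction w with
  | nil => simp [ev]
  | cons l ls ih => simp only [ev, ih, gl_coe, Subgroup.coe_mul]

theorem evc_coe (K : Subgroup Γ) (k : α → K) (dec : ℕ → Letter α) (cs : List ℕ) :
    evc (fun x => (k x : Γ)) dec cs = ((evc k dec cs : K) : Γ) :=
  ev_coe K k _

theorem gl_map {G : Type*} [Group G] (σ : Γ →* G) (g : α → Γ) (l : Letter α) :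
    σ (gl g l) = gl (fun x => σ (g x)) l := by
  unfold gl
  split_ifs <;> simp

theorem ev_map {G : Type*} [Group G] (σ : Γ →* G) (g : α → Γ) (w : List (Letter α)) :
    σ (ev g w) = ev (fun x => σ (g x)) w := by
  induction w with
  | nil => simp [ev]
  | cons l ls ih => simp only [ev, map_mul, ih, gl_map]

theorem evc_map {G : Type*} [Group G] (σ : Γ →* G) (g : α → Γ) (dec : ℕ → Letter α) (cs : List ℕ) :
    σ (evc g dec cs) = evc (fun x => σ (g x)) dec cs :=
  ev_map σ g _

end Cfsg.Agent.Lib.Helper23.FlipLift
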