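import Mathlib
import Cfsg.Agent.Lib.Helper21.FrobeniusCount2

set_option autoImplicit false

/-!
Generalised Frobenius theorem (Frobenius / P. Hall): the number of `x` with `x ^ n` in the
class of `c` is a multiple of `gcd (h * n) |G|`, `h` the class size.
-/

namespace Cfsg.Agent.Lib.Helper23.FrobeniusRoots

universe u

/-- `#{x | x^n ∈ cl(c)} = |cl(c)| * #{x | x^n = c}` -/
theorem card_roots_class {G : Type u} [Group G] [Finite G] (c : G) (n : ℕ) :
    Nat.card {x : G // IsConj c (x ^ n)} =
      Nat.card {y : G // IsConj c y} * Nat.card {x : G // x ^ n = c} := by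
  classical
  have : Fintype {y : G // IsConj c y} := Fintype.ofFinite _
  have e : {x : G // IsConj c (x ^ n)} ≃ Σ y : {y : G // IsConj c y}, {x : G // x ^ n = y.1} :=
    { toFun := fun x => ⟨⟨x.1 ^ n, x.2⟩, ⟨x.1, rfl⟩⟩
      invFun := fun p => ⟨p.2.1, by rw [p.2.2]; exact p.1.2⟩
      left_inv := fun x => rfl
      right_inv := by
        intro q
        obtain ⟨⟨y, hy⟩, ⟨x, hx⟩⟩ := q
        have hx' : x ^ n = y := hx
        subst hx'
        rfl }
  rw [Nat.card_congr e, Nat.card_sigma]
  have hfib : ∀ y : {y : G // IsConj c y},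
      Nat.card {x : G // x ^ n = y.1} = Nat.card {x : G // x ^ n = c} := by
    rintro ⟨y, hy⟩
    obtain ⟨g, hg⟩ := isConj_iff.mp hy
    apply Nat.card_congr
    refine Equiv.subtypeEquiv (MulAut.conj g⁻¹).toEquiv ?_
    intro x
    have h1 : ((MulAut.conj g⁻¹).toEquiv x) ^ n = g⁻¹ * x ^ n * g := by
      change (MulAut.conj g⁻¹ x) ^ n = _
      rw [← map_pow, MulAut.conj_apply, inv_inv]
    rw [h1]
    change x ^ n = y ↔ _
    rw [← hg]
    constructor
    · intro h; rw [h]; group
    · intro h; rw [← h]; group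
  rw [Finset.sum_congr rfl (fun y _ => hfib y), Finset.sum_const, Finset.card_univ, smul_eq_mul,
    ← Nat.card_eq_fintype_card]

/-- class equation for one class -/
theorem card_class_mul_card_centralizer {G : Type u} [Group G] [Finite G] (c : G) :
    Nat.card {y : G // IsConj c y} * Nat.card (Subgroup.centralizer ({c} : Set G)) = Nat.card G := by
  have h1 : Nat.card {y : G // IsConj c y} = (MulAction.stabilizer (ConjAct G) c).index := by
    rw [MulAction.index_stabilizer, ← Nat.card_coe_set_eq]
    apply Nat.card_congr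
    refine Equiv.subtypeEquivRight ?_
    intro y
    rw [ConjAct.mem_orbit_conjAct, isConj_comm]
  rw [h1, Subgroup.nat_card_centralizer_nat_card_stabilizer, Subgroup.index_mul_card]
  rfl

/-- reduction of the class statement to the central statement in the centraliser -/
theorem class_of_central {G : Type u} [Group G] [Finite G] (c : G) (n : ℕ)
    (hQ : ∀ (H : Type u) [Group H] [Finite H], Nat.card H ≤ Nat.card G → ∀ c' : H,
        (∀ g, g * c' = c' * g) → Nat.gcd n (Nat.card H) ∣ Nat.card {x : H // x ^ n = c'}) :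
    Nat.gcd (Nat.card {y : G // IsConj c y} * n) (Nat.card G) ∣
      Nat.card {x : G // IsConj c (x ^ n)} := by
  set C := Subgroup.centralizer ({c} : Set G) with hC
  have hcC : c ∈ C := by
    rw [hC, Subgroup.mem_centralizer_iff]
    intro h hh
    rw [Set.mem_singleton_iff] at hh
    rw [hh]
  have hcentral : ∀ g : C, g * (⟨c, hcC⟩ : C) = ⟨c, hcC⟩ * g := by
    intro g
    apply Subtype.ext
    have := (Subgroup.mem_centralizer_iff.mp g.2) c rfl
    simpa using this.symm
  have h1 := hQ C (Subgroup.card_le_card_group C) ⟨c, hcC⟩ hcentral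
  have key : ∀ x : G, x ^ n = c → x ∈ C := by
    intro x hx
    rw [hC, Subgroup.mem_centralizer_iff]
    intro h hh
    rw [Set.mem_singleton_iff] at hh
    rw [hh, ← hx]
    exact (pow_mul_comm' x n)
  have h2 : Nat.card {x : C // x ^ n = (⟨c, hcC⟩ : C)} = Nat.card {x : G // x ^ n = c} := by
    apply Nat.card_congr
    exact
      { toFun := fun x => ⟨x.1.1, by
          have := congrArg Subtype.val x.2
          simpa using this⟩
        invFun := fun x => ⟨⟨x.1, key x.1 x.2⟩, by
            apply Subtype.ext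
            simpa using x.2⟩
        left_inv := fun x => rfl
        right_inv := fun x => rfl }
  rw [card_roots_class, ← card_class_mul_card_centralizer c, Nat.gcd_mul_left]
  rw [h2] at h1
  exact Nat.mul_dvd_mul_left _ h1

/-- order of a `p^a`-th root of an element of order divisible by `p` -/
theorem orderOf_root_prime_pow {G : Type u} [Group G] [Finite G] {p a : ℕ} (hp : p.Prime)
    (x c : G) (hx : x ^ (p ^ a) = c) (hpc : p ∣ orderOf c) : orderOf x = orderOf c * p ^ a := by
  have h := orderOf_pow (n := p ^ a) x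
  rw [hx] at h
  obtain ⟨b, hb, hd⟩ := (Nat.dvd_prime_pow hp).mp (Nat.gcd_dvd_right (orderOf x) (p ^ a))
  have ho : orderOf x = orderOf c * p ^ b := by
    rw [h, hd]
    exact (Nat.div_mul_cancel (hd ▸ Nat.gcd_dvd_left _ _)).symm
  rcases lt_or_eq_of_le hb with hlt | heq
  · exfalso
    have h1 : p ^ (b + 1) ∣ orderOf x := by
      rw [ho, pow_succ, mul_comm (p ^ b) p]
      exact Nat.mul_dvd_mul hpc dvd_rfl
    have h2 : p ^ (b + 1) ∣ p ^ a := Nat.pow_dvd_pow p hlt
    have h3 : p ^ (b + 1) ∣ p ^ b := hd ▸ Nat.dvd_gcd h1 h2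
    have := (Nat.pow_dvd_pow_iff_le_right hp.one_lt).mp h3
    omega
  · rw [ho, heq]

/-- the roots generating a fixed cyclic group come in packets of `p^a` -/
theorem prime_pow_dvd_card_fiber {G : Type u} [Group G] [Finite G] {p a : ℕ} (hp : p.Prime)
    (c x₀ : G) (hx₀ : x₀ ^ (p ^ a) = c) (hpc : p ∣ orderOf c) :
    p ^ a ∣ Nat.card {x : G // x ^ (p ^ a) = c ∧ Subgroup.zpowers x = Subgroup.zpowers x₀} := by
  set Z := Subgroup.zpowers x₀ with hZ
  have hcomm : ∀ u : G, u ∈ Z → Commute u x₀ := by
    intro u hu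
    obtain ⟨k, rfl⟩ := Subgroup.mem_zpowers_iff.mp hu
    exact (Commute.refl x₀).zpow_left k
  have key : ∀ x : G, Subgroup.zpowers x = Z → x ∈ Z := fun x h => h ▸ Subgroup.mem_zpowers x
  have e : {x : G // x ^ (p ^ a) = c ∧ Subgroup.zpowers x = Z} ≃ {u : Z // u ^ (p ^ a) = 1} :=
    { toFun := fun x => ⟨⟨x.1 * x₀⁻¹, by
          have h1 : x.1 ∈ Z := key x.1 x.2.2
          exact Z.mul_mem h1 (Z.inv_mem (Subgroup.mem_zpowers x₀))⟩, by
          have h1 : x.1 ∈ Z := key x.1 x.2.2
          apply Subtype.ext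
          simp only [SubgroupClass.coe_pow, Subgroup.coe_one]
          rw [((hcomm x.1 h1).inv_right).mul_pow, x.2.1, inv_pow, hx₀, mul_inv_cancel]⟩
      invFun := fun u => ⟨u.1.1 * x₀, by
          have hu : (u.1.1) ^ (p ^ a) = 1 := by
            have := congrArg Subtype.val u.2
            simpa using this
          have hpow : (u.1.1 * x₀) ^ (p ^ a) = c := by
            rw [(hcomm u.1.1 u.1.2).mul_pow, hu, one_mul, hx₀]
          refine ⟨hpow, ?_⟩
          have hle : Subgroup.zpowers (u.1.1 * x₀) ≤ Z := by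
            rw [Subgroup.zpowers_le]
            exact Z.mul_mem u.1.2 (Subgroup.mem_zpowers x₀)
          apply Subgroup.eq_of_le_of_card_ge hle
          rw [Nat.card_zpowers, Nat.card_zpowers, orderOf_root_prime_pow hp _ c hpow hpc,
            orderOf_root_prime_pow hp _ c hx₀ hpc]⟩
      left_inv := fun x => by
        apply Subtype.ext
        simp
      right_inv := fun u => by
        apply Subtype.ext
        apply Subtype.ext
        simp }
  rw [Nat.card_congr e]
  have h1 := Cfsg.Agent.Lib.Helper21.frobenius_gcd_dvd (G := Z) (p ^ a)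
  have h2 : Nat.gcd (p ^ a) (Nat.card Z) = p ^ a := by
    rw [hZ, Nat.card_zpowers, orderOf_root_prime_pow hp _ c hx₀ hpc]
    exact Nat.gcd_eq_left (dvd_mul_left _ _)
  rwa [h2] at h1

/-- `p^a` divides the number of `p^a`-th roots of an element of order divisible by `p` -/
theorem prime_pow_dvd_card_roots {G : Type u} [Group G] [Finite G] {p a : ℕ} (hp : p.Prime)
    (c : G) (hpc : p ∣ orderOf c) : p ^ a ∣ Nat.card {x : G // x ^ (p ^ a) = c} := by
  classical
  have : Fintype (Subgroup G) := Fintype.ofFinite _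
  have e : {x : G // x ^ (p ^ a) = c} ≃
      Σ Z : Subgroup G, {x : G // x ^ (p ^ a) = c ∧ Subgroup.zpowers x = Z} :=
    { toFun := fun x => ⟨Subgroup.zpowers x.1, ⟨x.1, x.2, rfl⟩⟩
      invFun := fun q => ⟨q.2.1, q.2.2.1⟩
      left_inv := fun x => rfl
      right_inv := by
        rintro ⟨Z, x, hx, rfl⟩
        rfl }
  rw [Nat.card_congr e, Nat.card_sigma]
  apply Finset.dvd_sum
  intro Z _
  by_cases hne : Nonempty {x : G // x ^ (p ^ a) = c ∧ Subgroup.zpowers x = Z}
  · obtain ⟨x₀, hx₀, rfl⟩ := hne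
    exact prime_pow_dvd_card_fiber hp c x₀ hx₀ hpc
  · rw [not_nonempty_iff] at hne
    rw [@Nat.card_of_isEmpty _ hne]
    exact dvd_zero _

/-- splitting off a factor of the exponent -/
theorem gcd_dvd_card_of_factor {G : Type u} [Group G] [Finite G] (c : G)
    (hc : ∀ g, g * c = c * g) (n1 n2 : ℕ)
    (hP : ∀ d : G, Nat.gcd (Nat.card {y : G // IsConj d y} * n1) (Nat.card G) ∣
      Nat.card {x : G // IsConj d (x ^ n1)}) :
    Nat.gcd n1 (Nat.card G) ∣ Nat.card {x : G // x ^ (n1 * n2) = c} := by
  classical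
  have : Fintype (ConjClasses G) := Fintype.ofFinite _
  have hconj : ∀ g : G, g * c * g⁻¹ = c := by
    intro g
    rw [hc g, mul_inv_cancel_right]
  have e : {x : G // x ^ (n1 * n2) = c} ≃
      Σ D : ConjClasses G, {x : G // x ^ (n1 * n2) = c ∧ ConjClasses.mk (x ^ n1) = D} :=
    { toFun := fun x => ⟨ConjClasses.mk (x.1 ^ n1), ⟨x.1, x.2, rfl⟩⟩
      invFun := fun q => ⟨q.2.1, q.2.2.1⟩
      left_inv := fun x => rfl
      right_inv := by
        rintro ⟨D, x, hx, rfl⟩
        rfl }
  rw [Nat.card_congr e, Nat.card_sigma]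
  apply Finset.dvd_sum
  intro D _
  obtain ⟨d, rfl⟩ := ConjClasses.mk_surjective D
  by_cases hd : d ^ n2 = c
  · have e2 : {x : G // x ^ (n1 * n2) = c ∧ ConjClasses.mk (x ^ n1) = ConjClasses.mk d} ≃
        {x : G // IsConj d (x ^ n1)} := by
      refine Equiv.subtypeEquivRight ?_
      intro x
      constructor
      · intro h
        exact (ConjClasses.mk_eq_mk_iff_isConj.mp h.2).symm
      · intro h
        refine ⟨?_, ConjClasses.mk_eq_mk_iff_isConj.mpr h.symm⟩
        obtain ⟨g, hg⟩ := isConj_iff.mp h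
        rw [pow_mul, ← hg, conj_pow, hd, hconj]
    rw [Nat.card_congr e2]
    exact dvd_trans (Nat.gcd_dvd_gcd_of_dvd_left _ (dvd_mul_left n1 _)) (hP d)
  · have hemp : IsEmpty {x : G // x ^ (n1 * n2) = c ∧
        ConjClasses.mk (x ^ n1) = ConjClasses.mk d} := by
      refine ⟨?_⟩
      rintro ⟨x, hx, hD⟩
      apply hd
      obtain ⟨g, hg⟩ := isConj_iff.mp (ConjClasses.mk_eq_mk_iff_isConj.mp hD)
      rw [← hg, conj_pow, ← pow_mul, hx, hconj]
    rw [@Nat.card_of_isEmpty _ hemp]
    exact dvd_zero _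

/-- the central case, by double induction -/
theorem central_roots (N : ℕ) : ∀ (n : ℕ) (G : Type u) [Group G] [Finite G], Nat.card G = N →
    ∀ c : G, (∀ g, g * c = c * g) → Nat.gcd n N ∣ Nat.card {x : G // x ^ n = c} := by
  induction N using Nat.strong_induction_on with
  | _ N ihN =>
  intro n
  induction n using Nat.strong_induction_on with
  | _ n ihn =>
  intro G _ _ hG c hc
  have hP : ∀ n' < n, ∀ d : G,
      Nat.gcd (Nat.card {y : G // IsConj d y} * n') (Nat.card G) ∣
        Nat.card {x : G // IsConj d (x ^ n')} := by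
    intro n' hn' d
    apply class_of_central d n'
    intro H _ _ hH c' hc'
    rw [hG] at hH
    rcases lt_or_eq_of_le hH with h | h
    · exact ihN _ h n' H rfl c' hc'
    · have := ihn n' hn' H h c' hc'
      rwa [← h] at this
  rcases n with _ | _ | n
  · -- n = 0
    rw [Nat.gcd_zero_left]
    by_cases h1 : c = 1
    · subst h1
      have : Nat.card {x : G // x ^ 0 = 1} = Nat.card G :=
        Nat.card_congr (Equiv.subtypeUnivEquiv (fun x => pow_zero x))
      rw [this, hG]
    · have hemp : IsEmpty {x : G // x ^ 0 = c} := ⟨fun x => h1 (by rw [← x.2, pow_zero])⟩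
      rw [@Nat.card_of_isEmpty _ hemp]
      exact dvd_zero _
  · -- n = 1
    rw [Nat.gcd_one_left]
    exact one_dvd _
  · -- n + 2
    set m := n + 2 with hm
    have hm2 : 2 ≤ m := by omega
    have hm0 : m ≠ 0 := by omega
    have hp : (Nat.minFac m).Prime := Nat.minFac_prime (by omega)
    set p := Nat.minFac m with hpdef
    have hpm : p ∣ m := Nat.minFac_dvd m
    obtain ⟨a, m', hpm', hmeq⟩ := Nat.exists_eq_pow_mul_and_not_dvd hm0 p hp.ne_one
    have ha : 1 ≤ a := by
      rcases Nat.eq_zero_or_pos a with h0 | h0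
      · exfalso
        rw [h0, pow_zero, one_mul] at hmeq
        rw [hmeq] at hpm
        exact hpm' hpm
      · exact h0
    have hm'0 : m' ≠ 0 := by
      rintro rfl
      rw [mul_zero] at hmeq
      exact hm0 hmeq
    have hpa2 : 2 ≤ p ^ a := by
      calc 2 ≤ p := hp.two_le
        _ = p ^ 1 := (pow_one p).symm
        _ ≤ p ^ a := Nat.pow_le_pow_right hp.pos ha
    by_cases hm'1 : m' = 1
    · -- prime power
      rw [hm'1, mul_one] at hmeq
      rw [hmeq]
      by_cases hpc : p ∣ orderOf c
      · exact dvd_trans (Nat.gcd_dvd_left _ _) (prime_pow_dvd_card_roots hp c hpc)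
      · -- translate to roots of one
        have hcop : (Nat.card (Subgroup.zpowers c)).Coprime (p ^ a) := by
          rw [Nat.card_zpowers]
          exact Nat.Coprime.pow_right a ((Nat.Prime.coprime_iff_not_dvd hp).mpr hpc).symm
        obtain ⟨c'', hc''⟩ := (powCoprime hcop).surjective ⟨c, Subgroup.mem_zpowers c⟩
        have hc''pow : (c''.1) ^ (p ^ a) = c := by
          have := congrArg Subtype.val hc''
          simpa [powCoprime] using this
        have hc''comm : ∀ g : G, Commute g c''.1 := by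
          intro g
          obtain ⟨k, hk⟩ := Subgroup.mem_zpowers_iff.mp c''.2
          rw [← hk]
          exact Commute.zpow_right (hc g) k
        have e : {x : G // x ^ (p ^ a) = c} ≃ {x : G // x ^ (p ^ a) = 1} := by
          refine Equiv.subtypeEquiv (Equiv.mulRight (c''.1)⁻¹) ?_
          intro x
          change x ^ (p ^ a) = c ↔ (x * (c''.1)⁻¹) ^ (p ^ a) = 1
          rw [((hc''comm x).inv_right).mul_pow, inv_pow, hc''pow, mul_inv_eq_one]
        rw [Nat.card_congr e, ← hG]
        exact Cfsg.Agent.Lib.Helper21.frobenius_gcd_dvd (G := G) (p ^ a)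
    · -- coprime factorisation
      have hm'2 : 2 ≤ m' := by omega
      have hcop : Nat.Coprime (p ^ a) m' :=
        Nat.Coprime.pow_left a ((Nat.Prime.coprime_iff_not_dvd hp).mpr hpm')
      have hlt1 : p ^ a < m := by
        rw [hmeq]
        calc p ^ a = p ^ a * 1 := (mul_one _).symm
          _ < p ^ a * m' := (Nat.mul_lt_mul_left (by omega : 0 < p ^ a)).mpr (by omega)
      have hlt2 : m' < m := by
        rw [hmeq]
        calc m' = 1 * m' := (one_mul _).symm
          _ < p ^ a * m' := (Nat.mul_lt_mul_right (by omega : 0 < m')).mpr (by omega)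
      have h1 := gcd_dvd_card_of_factor c hc (p ^ a) m' (hP _ hlt1)
      have h2 := gcd_dvd_card_of_factor c hc m' (p ^ a) (hP _ hlt2)
      rw [mul_comm m' (p ^ a)] at h2
      rw [hG] at h1 h2
      rw [hmeq, Nat.gcd_comm, Nat.Coprime.gcd_mul _ hcop, Nat.gcd_comm N, Nat.gcd_comm N]
      refine Nat.Coprime.mul_dvd_of_dvd_of_dvd ?_ h1 h2
      exact (hcop.coprime_dvd_left (Nat.gcd_dvd_left _ _)).coprime_dvd_right (Nat.gcd_dvd_left _ _)

/-- **Frobenius / P. Hall**: the number of `x` with `x ^ n` conjugate to `c` is a multiple of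
`gcd (|cl(c)| * n) |G|`. -/
theorem gcd_dvd_card_roots_class {G : Type u} [Group G] [Finite G] (c : G) (n : ℕ) :
    Nat.gcd (Nat.card {y : G // IsConj c y} * n) (Nat.card G) ∣
      Nat.card {x : G // IsConj c (x ^ n)} := by
  apply class_of_central c n
  intro H _ _ _ c' hc'
  exact central_roots (Nat.card H) n H rfl c' hc'

/-- central form: for central `c`, `gcd n |G|` divides the number of `n`-th roots of `c`. -/
theorem gcd_dvd_card_roots_central {G : Type u} [Group G] [Finite G] (c : G)
    (hc : ∀ g, g * c = c * g) (n : ℕ) :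
    Nat.gcd n (Nat.card G) ∣ Nat.card {x : G // x ^ n = c} :=
  central_roots (Nat.card G) n G rfl c hc

end Cfsg.Agent.Lib.Helper23.FrobeniusRoots
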