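import Mathlib

/-!
# Helper23 library: arithmetic for the exceptional case of the Shult–Gross theorem

If `p` is an odd prime with `p ^ s = 2 ^ d + 1` and `p ^ (s + i)` divides `2 ^ e - 1`, then
`2 * d * p ^ i` divides `e`.
-/

set_option autoImplicit false

namespace Cfsg.Agent.Lib.Helper23.Gross

theorem two_mul_dvd_of_fermat {M d e : ℕ} (hM : 2 ^ d + 1 = M) (hd : 0 < d)
    (h : M ∣ 2 ^ e - 1) : 2 * d ∣ e := by
  have hM3 : 3 ≤ M := by
    have : 2 ^ 1 ≤ 2 ^ d := Nat.pow_le_pow_right (by norm_num) hd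
    omega
  haveI : NeZero M := ⟨by omega⟩
  have h2d : (2 : ZMod M) ^ d = -1 := by
    have h1 : ((2 ^ d + 1 : ℕ) : ZMod M) = 0 := by
      rw [hM]
      exact ZMod.natCast_self M
    push_cast at h1
    exact eq_neg_of_add_eq_zero_left h1
  have h2e : (2 : ZMod M) ^ e = 1 := by
    have h1 : ((2 ^ e - 1 : ℕ) : ZMod M) = 0 := (ZMod.natCast_eq_zero_iff _ _).mpr h
    rw [Nat.cast_sub Nat.one_le_two_pow] at h1
    push_cast at h1
    exact sub_eq_zero.mp h1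
  have h22d : (2 : ZMod M) ^ (2 * d) = 1 := by
    rw [mul_comm, pow_mul, h2d]
    norm_num
  have hb : (2 : ZMod M) ^ (e % (2 * d)) = 1 := by
    have h1 : e = 2 * d * (e / (2 * d)) + e % (2 * d) := (Nat.div_add_mod e (2 * d)).symm
    rw [h1, pow_add, pow_mul, h22d, one_pow, one_mul] at h2e
    exact h2e
  have hblt : e % (2 * d) < 2 * d := Nat.mod_lt _ (by omega)
  rw [Nat.dvd_iff_mod_eq_zero]
  generalize e % (2 * d) = b at hb hblt
  by_contra hb0
  by_cases hbd : b < d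
  · -- `M ∣ 2 ^ b - 1 < M`
    have h1 : ((2 ^ b - 1 : ℕ) : ZMod M) = 0 := by
      rw [Nat.cast_sub Nat.one_le_two_pow]
      push_cast
      rw [hb, sub_self]
    have h2 : M ∣ 2 ^ b - 1 := (ZMod.natCast_eq_zero_iff _ _).mp h1
    have h3 : 2 ^ b < 2 ^ d := Nat.pow_lt_pow_right (by norm_num) hbd
    have h4 : 2 ^ 1 ≤ 2 ^ b := Nat.pow_le_pow_right (by norm_num) (by omega)
    have h5 := Nat.le_of_dvd (by omega) h2
    omega
  · -- `b = d + c`, `M ∣ 2 ^ c + 1 < M`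
    obtain ⟨c, rfl⟩ : ∃ c, b = d + c := ⟨b - d, by omega⟩
    rw [pow_add, h2d] at hb
    have h1 : ((2 ^ c + 1 : ℕ) : ZMod M) = 0 := by
      push_cast
      have : (2 : ZMod M) ^ c = -1 := by
        have h2 : -(2 : ZMod M) ^ c = 1 := by rw [← hb]; ring
        rw [← h2, neg_neg]
      rw [this]
      ring
    have h2 : M ∣ 2 ^ c + 1 := (ZMod.natCast_eq_zero_iff _ _).mp h1
    have h3 : 2 ^ c < 2 ^ d := Nat.pow_lt_pow_right (by norm_num) (by omega)
    have h5 := Nat.le_of_dvd (by positivity) h2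
    omega

theorem dvd_of_pow_dvd_two_pow_sub_one {p s d i e : ℕ} (hp : p.Prime) (hp2 : p ≠ 2) (hs : 0 < s)
    (hd : 2 ^ d + 1 = p ^ s) (he : 0 < e) (h : p ^ (s + i) ∣ 2 ^ e - 1) :
    2 * d * p ^ i ∣ e := by
  haveI : Fact p.Prime := ⟨hp⟩
  have hodd : Odd p := hp.odd_of_ne_two hp2
  have hp3 : 3 ≤ p := by
    have := hp.two_le
    omega
  have hps3 : 3 ≤ p ^ s := by
    calc 3 ≤ p := hp3
      _ = p ^ 1 := (pow_one p).symm
      _ ≤ p ^ s := Nat.pow_le_pow_right hp.pos hs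
  have hd0 : 0 < d := by
    by_contra h0
    have : d = 0 := by omega
    rw [this] at hd
    norm_num at hd
    omega
  have h1 : 2 * d ∣ e :=
    two_mul_dvd_of_fermat hd hd0 ((pow_dvd_pow p (Nat.le_add_right s i)).trans h)
  obtain ⟨a, rfl⟩ := h1
  have ha0 : a ≠ 0 := by
    rintro rfl
    omega
  refine Nat.mul_dvd_mul_left _ ?_
  -- lifting the exponent
  have hx1 : 1 < 2 ^ (2 * d) := Nat.one_lt_two_pow (by omega)
  have hfac : 2 ^ (2 * d) - 1 = (p ^ s - 2) * p ^ s := by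
    have h2 : 2 ^ (2 * d) = 2 ^ d * 2 ^ d := by rw [two_mul, pow_add]
    have h3 : 2 ^ d = p ^ s - 1 := by omega
    rw [h2, h3]
    obtain ⟨m, hm⟩ : ∃ m, p ^ s = m + 2 := ⟨p ^ s - 2, by omega⟩
    rw [hm]
    have h4 : m + 2 - 1 = m + 1 := by omega
    have h5 : m + 2 - 2 = m := by omega
    rw [h4, h5]
    have h6 : (m + 1) * (m + 1) = m * (m + 2) + 1 := by ring
    rw [h6, Nat.add_sub_cancel]
  have hnd : ¬ p ∣ p ^ s - 2 := by
    intro h2
    have h3 : p ∣ p ^ s := dvd_pow_self p hs.ne'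
    have h4 : p ∣ p ^ s - (p ^ s - 2) := Nat.dvd_sub h3 h2
    have h5 : p ^ s - (p ^ s - 2) = 2 := by omega
    rw [h5] at h4
    exact hp2 ((Nat.prime_dvd_prime_iff_eq hp Nat.prime_two).mp h4)
  have hval : padicValNat p (2 ^ (2 * d) - 1) = s := by
    rw [hfac, padicValNat.mul (by omega) (by positivity), padicValNat.eq_zero_of_not_dvd hnd,
      padicValNat.prime_pow, zero_add]
  have hpx : p ∣ 2 ^ (2 * d) - 1 := by
    rw [hfac]
    exact Dvd.dvd.mul_left (dvd_pow_self p hs.ne') _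
  have hpx' : ¬ p ∣ 2 ^ (2 * d) := by
    intro h2
    have h3 := hp.dvd_of_dvd_pow h2
    exact hp2 ((Nat.prime_dvd_prime_iff_eq hp Nat.prime_two).mp h3)
  have hlte := padicValNat.pow_sub_pow (p := p) hodd (x := 2 ^ (2 * d)) (y := 1) hx1
    hpx hpx' ha0
  rw [one_pow, ← pow_mul, hval] at hlte
  have hne : 2 ^ (2 * d * a) - 1 ≠ 0 := by
    have : 1 < 2 ^ (2 * d * a) := Nat.one_lt_two_pow (by omega)
    omega
  have h2 : s + i ≤ padicValNat p (2 ^ (2 * d * a) - 1) := (padicValNat_dvd_iff_le hne).mp h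
  rw [hlte] at h2
  have h3 : i ≤ padicValNat p a := by omega
  exact (pow_dvd_pow p h3).trans pow_padicValNat_dvd

theorem pow_le_of_pow_dvd_two_pow_sub_one {p s d i e : ℕ} (hp : p.Prime) (hp2 : p ≠ 2)
    (hs : 0 < s) (hd : 2 ^ d + 1 = p ^ s) (he : 0 < e) (h : p ^ (s + i) ∣ 2 ^ e - 1) :
    (2 ^ (2 * d)) ^ (p ^ i) ≤ 2 ^ e := by
  have h1 := dvd_of_pow_dvd_two_pow_sub_one hp hp2 hs hd he h
  rw [← pow_mul]
  exact Nat.pow_le_pow_right (by norm_num) (Nat.le_of_dvd he h1)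

end Cfsg.Agent.Lib.Helper23.Gross
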