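import Mathlib

/-!
# Helper23 library: automorphisms of `p`-power order (Shult–Gross)

* `exists_pow_eq` : in a cyclic group of order dividing `p ^ n`, the element `σ ^ (p ^ (n-1))` is a
  power of every `σ ^ k` with `0 < k < p ^ n`.
* `inv_mul_pow_apply_mem` : `x⁻¹ ψ(x) ∈ N` implies `x⁻¹ ψ^c(x) ∈ N` for `ψ`-stable `N`.
* `exists_fixed_mul` : coprime lifting of fixed points along a stable subgroup.
-/

set_option autoImplicit false

namespace Cfsg.Agent.Lib.Helper23.Gross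

universe u

theorem exists_pow_eq {A : Type*} [Group A] (σ : A) {p n : ℕ} (hp : p.Prime) (hn : 0 < n)
    (hσ : σ ^ (p ^ n) = 1) {k : ℕ} (hk0 : 0 < k) (hk : k < p ^ n) :
    ∃ c : ℕ, (σ ^ k) ^ c = σ ^ (p ^ (n - 1)) := by
  obtain ⟨a, k', hk', rfl⟩ := Nat.exists_eq_pow_mul_and_not_dvd hk0.ne' p hp.ne_one
  have ha : a < n := by
    have h1 : p ^ a ≤ p ^ a * k' := Nat.le_mul_of_pos_right _ (Nat.pos_of_ne_zero (by
      rintro rfl
      simp at hk0))
    exact (Nat.pow_lt_pow_iff_right hp.one_lt).mp (lt_of_le_of_lt h1 hk)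
  have hcop : Nat.Coprime k' (p ^ n) :=
    Nat.Coprime.pow_right n ((Nat.Prime.coprime_iff_not_dvd hp).mpr hk').symm
  have hpn1 : 1 < p ^ n := Nat.one_lt_pow hn.ne' hp.one_lt
  obtain ⟨c', -, hc'⟩ := Nat.exists_mul_mod_eq_one_of_coprime hcop hpn1
  refine ⟨c' * p ^ (n - 1 - a), ?_⟩
  have h1 : k' * c' = p ^ n * (k' * c' / p ^ n) + 1 := by
    have := Nat.div_add_mod (k' * c') (p ^ n)
    rw [hc'] at this
    exact this.symm
  have h2 : p ^ a * k' * (c' * p ^ (n - 1 - a)) = p ^ (n - 1) * (k' * c') := by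
    have h3 : p ^ (n - 1) = p ^ a * p ^ (n - 1 - a) := by
      rw [← pow_add]
      congr 1
      omega
    rw [h3]
    ring
  rw [← pow_mul, h2, h1, mul_add, mul_one, pow_add, ← mul_assoc, mul_comm (p ^ (n - 1)) (p ^ n),
    mul_assoc, pow_mul, hσ, one_pow, one_mul]

theorem inv_mul_pow_apply_mem {P : Type*} [Group P] (ψ : MulAut P) (N : Subgroup P)
    (hN : ∀ x ∈ N, ψ x ∈ N) {x : P} (hx : x⁻¹ * ψ x ∈ N) (c : ℕ) : x⁻¹ * (ψ ^ c) x ∈ N := by
  have hNc : ∀ c : ℕ, ∀ y ∈ N, (ψ ^ c) y ∈ N := by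
    intro c
    induction c with
    | zero => intro y hy; simpa using hy
    | succ c ih =>
      intro y hy
      rw [pow_succ', MulAut.mul_apply]
      exact hN _ (ih y hy)
  induction c with
  | zero => simp
  | succ c ih =>
    have h1 : x⁻¹ * (ψ ^ (c + 1)) x = (x⁻¹ * (ψ ^ c) x) * (ψ ^ c) (x⁻¹ * ψ x) := by
      rw [pow_succ, MulAut.mul_apply, map_mul, map_inv]
      group
    rw [h1]
    exact N.mul_mem ih (hNc c _ hx)

/-- coprime lifting of fixed points. -/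
theorem exists_fixed_mul {P : Type u} [Group P] [Finite P] {p : ℕ} (hp : p.Prime) (τ : MulAut P)
    {a : ℕ} (hτ : τ ^ (p ^ a) = 1) (N : Subgroup P) (hN : ∀ x ∈ N, τ x ∈ N)
    (hpN : ¬ p ∣ Nat.card N) {x : P} (hx : x⁻¹ * τ x ∈ N) :
    ∃ z ∈ N, τ (x * z) = x * z := by
  haveI : Fact p.Prime := ⟨hp⟩
  let f : N → N := fun z => ⟨x⁻¹ * τ (x * z), by
    have h1 : x⁻¹ * τ (x * z) = (x⁻¹ * τ x) * τ z := by rw [map_mul, mul_assoc]
    rw [h1]
    exact N.mul_mem hx (hN _ z.2)⟩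
  have hfinj : Function.Injective f := by
    intro z z' h
    have h1 : x⁻¹ * τ (x * z) = x⁻¹ * τ (x * z') := congrArg Subtype.val h
    have h2 := τ.injective (mul_left_cancel h1)
    exact Subtype.ext (mul_left_cancel h2)
  let e : Equiv.Perm N := Equiv.ofBijective f (Finite.injective_iff_bijective.mp hfinj)
  have hepow : ∀ (j : ℕ) (z : N), (((e ^ j) z : N) : P) = x⁻¹ * (τ ^ j) (x * z) := by
    intro j
    induction j with
    | zero => intro z; simp
    | succ j ih =>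
      intro z
      rw [pow_succ', Equiv.Perm.mul_apply]
      show x⁻¹ * τ (x * ((e ^ j) z : N)) = _
      rw [ih, mul_inv_cancel_left, pow_succ', MulAut.mul_apply]
  have he : e ^ (p ^ a) = 1 := by
    ext z
    rw [hepow, hτ, MulAut.one_apply, inv_mul_cancel_left, Equiv.Perm.one_apply]
  have hG : IsPGroup p (Subgroup.zpowers e) := by
    apply IsPGroup.of_card (n := (Nat.factorization (orderOf e)) p)
    rw [Nat.card_zpowers]
    obtain ⟨b, -, hb⟩ := (Nat.dvd_prime_pow hp).mp (orderOf_dvd_of_pow_eq_one he)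
    rw [hb, Nat.Prime.factorization_pow hp]
    simp
  obtain ⟨z, hz⟩ := hG.nonempty_fixed_point_of_prime_not_dvd_card N hpN
  refine ⟨z, z.2, ?_⟩
  have h1 : e z = z := hz ⟨e, Subgroup.mem_zpowers e⟩
  have h2 : x⁻¹ * τ (x * z) = z := congrArg Subtype.val h1
  calc τ (x * z) = x * (x⁻¹ * τ (x * z)) := by group
    _ = x * z := by rw [h2]

end Cfsg.Agent.Lib.Helper23.Gross
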