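import Mathlib
import Cfsg.Agent.Lib.Helper23.GrossAut

/-!
# Helper23 library: the critical configuration for the Shult–Gross theorem

`Crit p n q σ`: `σ` is a fixed-point-free automorphism of the `q`-group `P` with
`σ ^ (p ^ n) = 1`; the fixed points of `τ = σ ^ (p ^ (n-1))` are central and contain all
commutators, and every proper `σ`-invariant subgroup containing them is centralised by `τ`.
-/

set_option autoImplicit false

namespace Cfsg.Agent.Lib.Helper23.Gross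

open scoped commutatorElement

universe u

variable {P : Type u} [Group P]

structure Crit (p n q : ℕ) (σ : MulAut P) : Prop where
  hq : IsPGroup q P
  hn : 0 < n
  pow : σ ^ (p ^ n) = 1
  fpf : ∀ x, σ x = x → x = 1
  central : ∀ z, (σ ^ (p ^ (n - 1))) z = z → ∀ g, g * z = z * g
  comm : ∀ g h : P, (σ ^ (p ^ (n - 1))) ⁅g, h⁆ = ⁅g, h⁆
  irr : ∀ I : Subgroup P, (∀ z, (σ ^ (p ^ (n - 1))) z = z → z ∈ I) → (∀ x ∈ I, σ x ∈ I) → I ≠ ⊤ →
    ∀ x ∈ I, (σ ^ (p ^ (n - 1))) x = x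

variable {p n q : ℕ} {σ : MulAut P}

theorem Crit.tau_pow (hC : Crit p n q σ) : (σ ^ (p ^ (n - 1))) ^ p = 1 := by
  rw [← pow_mul, ← pow_succ, Nat.sub_add_cancel hC.hn, hC.pow]

theorem Crit.not_dvd_card [Finite P] (hC : Crit p n q σ) (hp : p.Prime) (hq : q.Prime)
    (hpq : p ≠ q) (N : Subgroup P) : ¬ p ∣ Nat.card N := by
  haveI : Fact q.Prime := ⟨hq⟩
  obtain ⟨e, he⟩ := IsPGroup.iff_card.mp hC.hq
  intro h
  have h1 : p ∣ q ^ e := he ▸ h.trans (Subgroup.card_subgroup_dvd_card N)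
  exact hpq ((Nat.prime_dvd_prime_iff_eq hp hq).mp (hp.dvd_of_dvd_pow h1))

/-- a subgroup containing the fixed points of `τ`, stable under a nonidentity power of `σ`,
contains every `x` with `x⁻¹ ψ(x)` in it. -/
theorem Crit.mem_of_inv_mul_mem [Finite P] (hC : Crit p n q σ) (hp : p.Prime) (hq : q.Prime)
    (hpq : p ≠ q) (N : Subgroup P) (hN₀ : ∀ z, (σ ^ (p ^ (n - 1))) z = z → z ∈ N)
    {k : ℕ} (hk0 : 0 < k) (hk : k < p ^ n) (hNψ : ∀ x ∈ N, (σ ^ k) x ∈ N) {x : P}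
    (hx : x⁻¹ * (σ ^ k) x ∈ N) : x ∈ N := by
  obtain ⟨c, hc⟩ := exists_pow_eq σ hp hC.hn hC.pow hk0 hk
  have h1 := inv_mul_pow_apply_mem (σ ^ k) N hNψ hx c
  rw [hc] at h1
  have hNτ : ∀ y ∈ N, (σ ^ (p ^ (n - 1))) y ∈ N := by
    intro y hy
    rw [← hc]
    have hNc : ∀ c : ℕ, ∀ y ∈ N, ((σ ^ k) ^ c) y ∈ N := by
      intro c
      induction c with
      | zero => intro y hy; simpa using hy
      | succ c ih =>
        intro y hy
        rw [pow_succ', MulAut.mul_apply]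
        exact hNψ _ (ih y hy)
    exact hNc c y hy
  obtain ⟨z, hz, hfix⟩ := exists_fixed_mul hp (σ ^ (p ^ (n - 1))) (a := 1)
    (by rw [pow_one]; exact hC.tau_pow) N hNτ (hC.not_dvd_card hp hq hpq N) h1
  have h2 : x * z ∈ N := hN₀ _ hfix
  have h3 : x = (x * z) * z⁻¹ := by group
  rw [h3]
  exact N.mul_mem h2 (N.inv_mem hz)

end Cfsg.Agent.Lib.Helper23.Gross
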