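import Mathlib
import Cfsg.Agent.Lib.Helper10.XRepCore

/-!
# Helper23 library: the core theorem of `Helper10.XRep` for cyclic operator groups of
arbitrary order acting semiregularly modulo the centre

`core_pp` generalises `Helper10.XRep.core` from prime order to an arbitrary order `m`, assuming
that every nonidentity power of the automorphism is fixed-point-free modulo `Z`.
-/

set_option autoImplicit false

namespace Cfsg.Agent.Lib.Helper23.Gross

open Module Cfsg.Agent.Lib.Helper10.XRep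
open scoped commutatorElement

universe u v w

section Orbit

variable {B : Type u} [Finite B] (σ : B → B) (r : ℕ) (b₀ : B)

theorem exists_orbit_param' (hr : 0 < r) (hσr : ∀ b, σ^[r] b = b) (hb₀ : σ b₀ = b₀)
    (hfree' : ∀ b k, 0 < k → k < r → σ^[k] b = b → b = b₀) :
    ∃ (T₀ : Type u) (_ : Fintype T₀) (rep : T₀ → B), Function.Bijective (orbMap σ r b₀ rep) := by
  classical
  have hper : ∀ b, Function.IsPeriodicPt σ r b := hσr
  have hmul : ∀ m b, σ^[r * m] b = b := fun m b => (hper b).mul_const m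
  have hinj : Function.Injective σ := by
    intro a b hab
    have h1 : σ^[r] a = σ^[r] b := by
      obtain ⟨m, hm⟩ : ∃ m, r = m + 1 := ⟨r - 1, (Nat.succ_pred_eq_of_pos hr).symm⟩
      rw [hm, Function.iterate_succ_apply, Function.iterate_succ_apply, hab]
    rwa [hσr, hσr] at h1
  have hfix : ∀ k, σ^[k] b₀ = b₀ := fun k => Function.iterate_fixed hb₀ k
  have hle : ∀ k, k ≤ r * k := fun k => Nat.le_mul_of_pos_left k hr
  have hback : ∀ k b, σ^[r * k - k] (σ^[k] b) = b := by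
    intro k b
    rw [← Function.iterate_add_apply, Nat.sub_add_cancel (hle k), hmul]
  have hb₀' : ∀ k b, σ^[k] b = b₀ → b = b₀ := by
    intro k b hk
    have := hback k b
    rw [hk, hfix] at this
    exact this.symm
  let S : Setoid B :=
    { r := fun b b' => ∃ k, σ^[k] b = b'
      iseqv :=
        { refl := fun b => ⟨0, rfl⟩
          symm := by
            rintro b b' ⟨k, hk⟩
            exact ⟨r * k - k, by rw [← hk, hback]⟩
          trans := by
            rintro a b c ⟨k, hk⟩ ⟨k', hk'⟩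
            exact ⟨k' + k, by rw [Function.iterate_add_apply, hk, hk']⟩ } }
  let T₀ : Type u := {ω : Quotient S // ω ≠ Quotient.mk S b₀}
  have : Finite (Quotient S) := Quotient.finite S
  haveI : Fintype T₀ := Fintype.ofFinite T₀
  let rep : T₀ → B := fun t => t.1.out
  have hrep : ∀ t : T₀, Quotient.mk S (rep t) = t.1 := fun t => Quotient.out_eq t.1
  have hrep_ne : ∀ t : T₀, rep t ≠ b₀ := by
    intro t h
    apply t.2
    rw [← hrep t, h]
  refine ⟨T₀, inferInstance, rep, ?_, ?_⟩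
  · rintro (_ | ⟨t, k⟩) (_ | ⟨t', k'⟩) h
    · rfl
    · exfalso
      have h1 : σ^[k'.val] (rep t') = b₀ := h.symm
      exact hrep_ne t' (hb₀' _ _ h1)
    · exfalso
      have h1 : σ^[k.val] (rep t) = b₀ := h
      exact hrep_ne t (hb₀' _ _ h1)
    · have h1 : σ^[k.val] (rep t) = σ^[k'.val] (rep t') := h
      have htt : t = t' := by
        apply Subtype.ext
        rw [← hrep t, ← hrep t']
        apply Quotient.sound
        refine ⟨r * k'.val - k'.val + k.val, ?_⟩
        rw [Function.iterate_add_apply, h1, hback]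
      subst htt
      have hkk : ∀ a b : ℕ, a ≤ b → b < r → σ^[a] (rep t) = σ^[b] (rep t) → a = b := by
        intro a b hab hbr hh
        by_contra hne
        have h2 : σ^[a] (rep t) = σ^[a] (σ^[b - a] (rep t)) := by
          rw [← Function.iterate_add_apply, Nat.add_sub_cancel' hab]
          exact hh
        have h3 := (hinj.iterate a) h2
        exact hrep_ne t (hfree' _ (b - a) (by omega) (by omega) h3.symm)
      have hval : k.val = k'.val := by
        rcases Nat.le_total k.val k'.val with hle' | hle'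
        · exact hkk _ _ hle' k'.2 h1
        · exact (hkk _ _ hle' k.2 h1.symm).symm
      rw [Fin.ext hval]
  · intro b
    by_cases hb : b = b₀
    · exact ⟨none, hb.symm⟩
    · have hω : Quotient.mk S b ≠ Quotient.mk S b₀ := by
        intro h
        obtain ⟨k, hk⟩ := Quotient.exact h
        exact hb (hb₀' k b hk)
      let t : T₀ := ⟨Quotient.mk S b, hω⟩
      have h1 : S (rep t) b := Quotient.exact (hrep t)
      obtain ⟨k, hk⟩ := h1
      refine ⟨some (t, ⟨k % r, Nat.mod_lt _ hr⟩), ?_⟩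
      show σ^[k % r] (rep t) = b
      rw [(hper _).iterate_mod_apply, hk]

/-- the cardinality of a set with a semiregular cyclic action fixing one point. -/
theorem card_eq_one_add_mul (hr : 0 < r) (hσr : ∀ b, σ^[r] b = b) (hb₀ : σ b₀ = b₀)
    (hfree' : ∀ b k, 0 < k → k < r → σ^[k] b = b → b = b₀) :
    ∃ t : ℕ, Nat.card B = 1 + t * r := by
  classical
  obtain ⟨T₀, hT₀, rep, hbij⟩ := exists_orbit_param' σ r b₀ hr hσr hb₀ hfree'
  refine ⟨Fintype.card T₀, ?_⟩
  haveI : NeZero r := ⟨hr.ne'⟩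
  rw [← Nat.card_congr (Equiv.ofBijective _ hbij), Nat.card_eq_fintype_card, Fintype.card_option,
    Fintype.card_prod, Fintype.card_fin, add_comm]

end Orbit

section Family

variable {Q : Type u} [Group Q] [Finite Q]

theorem exists_family' (r : ℕ) [NeZero r] (Z : Subgroup Q) (φ : Q ≃* Q)
    (hφZ : ∀ z ∈ Z, φ z = z) (hφr : ∀ g, φ^[r] g = g)
    (hfpf : ∀ k, 0 < k → k < r → ∀ g, g⁻¹ * φ^[k] g ∈ Z → g ∈ Z) :
    ∃ (T₀ : Type u) (_ : Fintype T₀) (g : Option (T₀ × Fin r) → Q),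
      g none = 1 ∧ (∀ t k, φ (g (some (t, k))) = g (some (t, k + 1))) ∧
      (∀ j j', (g j')⁻¹ * g j ∈ Z → j = j') ∧ (∀ x : Q, ∃ j, (g j)⁻¹ * x ∈ Z) := by
  classical
  have hr : 0 < r := Nat.pos_of_ne_zero (NeZero.ne r)
  have hwd : ∀ a b : Q, (QuotientGroup.leftRel Z) a b → (QuotientGroup.leftRel Z) (φ a) (φ b) := by
    intro a b hab
    rw [QuotientGroup.leftRel_apply] at hab ⊢
    rw [← map_inv, ← map_mul, hφZ _ hab]
    exact hab
  let σ : Q ⧸ Z → Q ⧸ Z := Quotient.map' φ hwd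
  have hσ : ∀ x : Q, σ (x : Q ⧸ Z) = ((φ x : Q) : Q ⧸ Z) := fun x => rfl
  have hσk : ∀ (k : ℕ) (x : Q), σ^[k] (x : Q ⧸ Z) = ((φ^[k] x : Q) : Q ⧸ Z) := by
    intro k
    induction k with
    | zero => intro x; rfl
    | succ k ih =>
      intro x
      rw [Function.iterate_succ_apply, hσ, ih, Function.iterate_succ_apply]
  have hσr : ∀ b, σ^[r] b = b := by
    intro b
    obtain ⟨x, rfl⟩ := QuotientGroup.mk_surjective b
    rw [hσk, hφr]
  have hb₀ : σ ((1 : Q) : Q ⧸ Z) = ((1 : Q) : Q ⧸ Z) := by rw [hσ, map_one]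
  have hfree : ∀ b k, 0 < k → k < r → σ^[k] b = b → b = ((1 : Q) : Q ⧸ Z) := by
    intro b k hk0 hkr hb
    obtain ⟨x, rfl⟩ := QuotientGroup.mk_surjective b
    rw [hσk] at hb
    have h1 : x⁻¹ * φ^[k] x ∈ Z := QuotientGroup.eq.mp hb.symm
    have h2 := hfpf k hk0 hkr x h1
    apply QuotientGroup.eq.mpr
    rw [mul_one]
    exact Z.inv_mem h2
  obtain ⟨T₀, hT₀, rep, hbij⟩ := exists_orbit_param' σ r ((1 : Q) : Q ⧸ Z) hr hσr hb₀ hfree
  let g : Option (T₀ × Fin r) → Q := fun j =>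
    match j with
    | none => 1
    | some (t, k) => φ^[k.val] (rep t).out
  have hgΓ : ∀ j, ((g j : Q) : Q ⧸ Z) = orbMap σ r ((1 : Q) : Q ⧸ Z) rep j := by
    rintro (_ | ⟨t, k⟩)
    · rfl
    · show ((φ^[k.val] (rep t).out : Q) : Q ⧸ Z) = σ^[k.val] (rep t)
      rw [← hσk, QuotientGroup.out_eq']
  refine ⟨T₀, hT₀, g, rfl, ?_, ?_, ?_⟩
  · intro t k
    show φ (φ^[k.val] (rep t).out) = φ^[(k + 1).val] (rep t).out
    rw [← Function.iterate_succ_apply' φ, Fin.val_add]
    have h1 : ((1 : Fin r).val) = 1 % r := Fin.val_one' r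
    rw [h1, Nat.add_mod_mod]
    have hper : Function.IsPeriodicPt φ r (rep t).out := hφr _
    rw [hper.iterate_mod_apply]
  · intro j j' h
    apply hbij.1
    rw [← hgΓ, ← hgΓ]
    exact (QuotientGroup.eq.mpr h).symm
  · intro x
    obtain ⟨j, hj⟩ := hbij.2 (x : Q ⧸ Z)
    refine ⟨j, ?_⟩
    rw [← hgΓ] at hj
    exact QuotientGroup.eq.mp hj

end Family

variable {E : Type v} [Field E] {Q : Type u} [Group Q] [Fintype Q]
  {U : Type w} [AddCommGroup U] [Module E U]
  {ρ : Q →* Module.End E U} {Z : Subgroup Q}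

/-- **Core theorem**, arbitrary order. -/
theorem core_pp [IsAlgClosed E] [FiniteDimensional E U] [Nontrivial U] (H : Heis ρ Z) (φ : Q ≃* Q)
    {r : ℕ} (hr : 0 < r) (hφZ : ∀ z ∈ Z, φ z = z) (hφr : ∀ g, φ^[r] g = g)
    (hfpf : ∀ k, 0 < k → k < r → ∀ g, g⁻¹ * φ^[k] g ∈ Z → g ∈ Z)
    (T : Module.End E U) (hTr : T ^ r = 1) (hT : ∀ g, T * ρ g = ρ (φ g) * T)
    (hrE : (r : E) ≠ 0) (hfix : ∀ u, T u = u → u = 0) :
    ∃ n t : ℕ, Z.index = n * n ∧ Z.index = 1 + t * r ∧ n * n ≤ (r - 1) * (1 + t) := by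
  have : NeZero r := ⟨hr.ne'⟩
  have hfpf1 : ∀ g, g⁻¹ * φ g ∈ Z → g ∈ Z := by
    intro g hg
    by_cases h1 : r = 1
    · have h2 := hφr g
      rw [h1, Function.iterate_one] at h2
      -- then `T = 1` and everything is fixed: contradiction with `Nontrivial U`
      exfalso
      rw [h1, pow_one] at hTr
      obtain ⟨u, hu⟩ := exists_ne (0 : U)
      exact hu (hfix u (by rw [hTr, Module.End.one_apply]))
    · exact hfpf 1 Nat.one_pos (by omega) g (by rwa [Function.iterate_one])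
  obtain ⟨T₀, hT₀, g, hg1, hgφ, hginj, hgsurj⟩ := exists_family' r Z φ hφZ hφr hfpf
  obtain ⟨τ₁, hτmem, hτr, hτ⟩ := exists_tau H φ hr hφZ hφr hfpf1
  obtain ⟨η, hηr, hunit⟩ := isUnit_sub H φ hr τ₁ hτmem hτr hτ T hTr hT hfix
  have := isSimpleRing_envAlg H
  obtain ⟨n, hn, ⟨e⟩⟩ := IsSimpleRing.exists_algEquiv_matrix_of_isAlgClosed E (envAlg ρ)
  have hpow : (⟨τ₁, (mem_envAlg_iff ρ).mpr hτmem⟩ : envAlg ρ) ^ r = 1 := by
    apply Subtype.ext
    rw [Subalgebra.coe_pow, Subalgebra.coe_one]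
    exact hτr
  have hineq := finrank_le_mul_finrank_commSub e _ hr hrE hpow η⁻¹
    (by rw [inv_pow, hηr, inv_one]) hunit
  rw [finrank_commSub_envAlg H φ g hg1 hgφ hginj hgsurj hr τ₁ hτmem hτr hτ,
    finrank_envAlg H g hginj hgsurj] at hineq
  have hnn : Fintype.card (Option (T₀ × Fin r)) = n * n := by
    rw [← finrank_envAlg H g hginj hgsurj, LinearEquiv.finrank_eq e.toLinearEquiv, finrank_matrix,
      finrank_self, mul_one, Fintype.card_fin]
  have hJ : Fintype.card (Option (T₀ × Fin r)) = 1 + Fintype.card T₀ * r := by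
    rw [Fintype.card_option, Fintype.card_prod, Fintype.card_fin, add_comm]
  have hidx : Z.index = Fintype.card (Option (T₀ × Fin r)) := by
    rw [← Nat.card_eq_fintype_card]
    symm
    apply Nat.card_eq_of_bijective (fun j => ((g j : Q) : Q ⧸ Z))
    constructor
    · intro j j' hjj
      exact (hginj j' j (QuotientGroup.eq.mp hjj)).symm
    · intro b
      obtain ⟨x, rfl⟩ := QuotientGroup.mk_surjective b
      obtain ⟨j, hj⟩ := hgsurj x
      exact ⟨j, QuotientGroup.eq.mpr hj⟩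
  refine ⟨n, Fintype.card T₀, ?_, ?_, ?_⟩
  · rw [hidx, hnn]
  · rw [hidx, hJ]
  · rw [← hnn]
    exact hineq

/-- the arithmetic of the core theorem for odd prime powers. -/
theorem core_arith {p s n t : ℕ} (hp : p.Prime) (hp2 : p ≠ 2) (hs : 0 < s)
    (h1 : n * n = 1 + t * p ^ s) (h2 : n * n ≤ (p ^ s - 1) * (1 + t)) (hn1 : n * n ≠ 1) :
    n + 1 = p ^ s := by
  set m := p ^ s with hm
  have hm3 : 3 ≤ m := by
    have h3 : 3 ≤ p := by
      have := hp.two_le
      omega
    calc 3 ≤ p := h3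
      _ = p ^ 1 := (pow_one p).symm
      _ ≤ p ^ s := Nat.pow_le_pow_right hp.pos hs
  obtain ⟨m', hm'⟩ : ∃ m', m = m' + 1 := ⟨m - 1, by omega⟩
  rw [hm'] at h1 h2 ⊢
  rw [Nat.add_sub_cancel] at h2
  have ht0 : t ≠ 0 := by
    rintro rfl
    apply hn1
    rw [h1, zero_mul, add_zero]
  have hts : 1 + t ≤ m' := by nlinarith
  have hns : n ≤ m' := by
    by_contra hcon
    push Not at hcon
    have : (m' + 1) * (m' + 1) ≤ n * n := Nat.mul_le_mul hcon hcon
    nlinarith
  have hn2 : 2 ≤ n := by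
    by_contra hcon
    push Not at hcon
    have : n * n ≤ 1 * 1 := Nat.mul_le_mul (by omega) (by omega)
    have ht1 : 1 ≤ t := Nat.one_le_iff_ne_zero.mpr ht0
    nlinarith
  have hdvd : p ^ s ∣ (n - 1) * (n + 1) := by
    obtain ⟨k, hk⟩ : ∃ k, n = k + 1 := ⟨n - 1, by omega⟩
    refine ⟨t, ?_⟩
    rw [← hm, hm', hk, Nat.add_sub_cancel]
    rw [hk] at h1
    nlinarith
  -- `p` cannot divide both factors
  by_cases hpd : p ∣ n - 1
  · have hpd' : ¬ p ∣ n + 1 := by
      intro h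
      have h3 : p ∣ (n + 1) - (n - 1) := Nat.dvd_sub h hpd
      have h4 : (n + 1) - (n - 1) = 2 := by omega
      rw [h4] at h3
      exact hp2 ((Nat.prime_dvd_prime_iff_eq hp Nat.prime_two).mp h3)
    have hcop : Nat.Coprime (p ^ s) (n + 1) :=
      Nat.Coprime.pow_left s ((Nat.Prime.coprime_iff_not_dvd hp).mpr hpd')
    have h3 : p ^ s ∣ n - 1 := hcop.dvd_of_dvd_mul_right hdvd
    have h4 := Nat.le_of_dvd (by omega) h3
    omega
  · have hcop : Nat.Coprime (p ^ s) (n - 1) :=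
      Nat.Coprime.pow_left s ((Nat.Prime.coprime_iff_not_dvd hp).mpr hpd)
    have h3 : p ^ s ∣ n + 1 := hcop.dvd_of_dvd_mul_left hdvd
    have h4 := Nat.le_of_dvd (by omega) h3
    omega

end Cfsg.Agent.Lib.Helper23.Gross
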