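import Mathlib

/-!
# Helper23 library: linear algebra for the Shult–Gross theorem

Simultaneous eigenvectors of commuting families, independence of simultaneous eigenvectors with
distinct characters, and orbit sums.
-/

set_option autoImplicit false

namespace Cfsg.Agent.Lib.Helper23.Gross

open Module

universe v w

variable {k : Type v} [Field k] {M : Type w} [AddCommGroup M] [Module k M]

/-- a commuting family of operators stabilising a nonzero finite-dimensional subspace has a
simultaneous eigenvector in it. -/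
theorem exists_simultaneous_eigenvector [IsAlgClosed k] [FiniteDimensional k M]
    (W : Submodule k M) (hW : W ≠ ⊥) (C : Set (Module.End k M))
    (hCW : ∀ f ∈ C, ∀ w ∈ W, f w ∈ W)
    (hcomm : ∀ f ∈ C, ∀ f' ∈ C, ∀ w ∈ W, f (f' w) = f' (f w)) :
    ∃ v ∈ W, v ≠ 0 ∧ ∀ f ∈ C, ∃ c : k, f v = c • v := by
  classical
  let S : Set (Submodule k M) := {W' | W' ≠ ⊥ ∧ W' ≤ W ∧ ∀ f ∈ C, ∀ w ∈ W', f w ∈ W'}
  have hS0 : W ∈ S := ⟨hW, le_refl _, hCW⟩
  obtain ⟨W₁, hW₁S, hW₁min⟩ := wellFounded_lt.has_min S ⟨_, hS0⟩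
  obtain ⟨hW₁0, hW₁le, hW₁C⟩ := hW₁S
  have : Nontrivial W₁ := Submodule.nontrivial_iff_ne_bot.mpr hW₁0
  have hscal : ∀ f ∈ C, ∃ c : k, ∀ u ∈ W₁, f u = c • u := by
    intro f hf
    obtain ⟨c, hc⟩ := Module.End.exists_eigenvalue (f.restrict (hW₁C f hf))
    obtain ⟨u₁, hu₁⟩ := hc.exists_hasEigenvector
    have hu₁1 : f (u₁ : M) = c • (u₁ : M) :=
      congrArg Subtype.val (Module.End.mem_eigenspace_iff.mp hu₁.1)
    have hu₁0 : (u₁ : M) ≠ 0 := fun h => hu₁.2 (Subtype.ext h)
    let W₂ : Submodule k M := W₁ ⊓ Module.End.eigenspace f c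
    have hW₂S : W₂ ∈ S := by
      refine ⟨?_, inf_le_left.trans hW₁le, ?_⟩
      · rw [Submodule.ne_bot_iff]
        exact ⟨u₁, ⟨u₁.2, Module.End.mem_eigenspace_iff.mpr hu₁1⟩, hu₁0⟩
      · intro f' hf' u hu
        have hu2 := Module.End.mem_eigenspace_iff.mp hu.2
        refine ⟨hW₁C f' hf' u hu.1, ?_⟩
        show f' u ∈ Module.End.eigenspace f c
        rw [Module.End.mem_eigenspace_iff, hcomm f hf f' hf' u (hW₁le hu.1), hu2, map_smul]
    have hWU : W₂ = W₁ := by
      by_contra hne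
      exact hW₁min W₂ hW₂S (lt_of_le_of_ne inf_le_left hne)
    refine ⟨c, ?_⟩
    intro u hu
    have : u ∈ W₂ := hWU ▸ hu
    exact Module.End.mem_eigenspace_iff.mp this.2
  obtain ⟨v, hv⟩ := exists_ne (0 : W₁)
  refine ⟨v, hW₁le v.2, fun h => hv (Subtype.ext h), ?_⟩
  intro f hf
  obtain ⟨c, hc⟩ := hscal f hf
  exact ⟨c, hc v v.2⟩

/-- simultaneous eigenvectors with pairwise distinct characters are independent. -/
theorem eq_zero_of_sum_eq_zero {ι α : Type*} [DecidableEq α] (f : ι → Module.End k M)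
    (χ : α → ι → k) (v : α → M) :
    ∀ s : Finset α, (∀ a ∈ s, ∀ i, f i (v a) = χ a i • v a) →
      (∀ a ∈ s, ∀ b ∈ s, a ≠ b → ∃ i, χ a i ≠ χ b i) →
      ∑ a ∈ s, v a = 0 → ∀ a ∈ s, v a = 0 := by
  intro s
  induction s using Finset.induction_on generalizing v with
  | empty =>
    intro _ _ _ a ha
    exact absurd ha (Finset.notMem_empty a)
  | insert a₀ s ha₀ ih =>
    intro heig hdist hsum
    rw [Finset.sum_insert ha₀] at hsum
    -- kill the `a₀` component
    have hrest : ∀ b ∈ s, v b = 0 := by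
      intro b hb
      have hne : a₀ ≠ b := fun h => ha₀ (h ▸ hb)
      obtain ⟨i, hi⟩ := hdist a₀ (Finset.mem_insert_self a₀ s) b (Finset.mem_insert_of_mem hb) hne
      let v' : α → M := fun a => (χ a i - χ a₀ i) • v a
      have h1 : ∀ a ∈ s, ∀ i', f i' (v' a) = χ a i' • v' a := by
        intro a ha i'
        show f i' ((χ a i - χ a₀ i) • v a) = χ a i' • ((χ a i - χ a₀ i) • v a)
        rw [map_smul, heig a (Finset.mem_insert_of_mem ha) i', smul_comm]
      have h2 : ∀ a ∈ s, ∀ b ∈ s, a ≠ b → ∃ i, χ a i ≠ χ b i := fun a ha b hb hab =>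
        hdist a (Finset.mem_insert_of_mem ha) b (Finset.mem_insert_of_mem hb) hab
      have h3 : ∑ a ∈ s, v' a = 0 := by
        have e1 : f i (v a₀ + ∑ a ∈ s, v a) - χ a₀ i • (v a₀ + ∑ a ∈ s, v a) = 0 := by
          rw [hsum, map_zero, smul_zero, sub_zero]
        rw [map_add, heig a₀ (Finset.mem_insert_self a₀ s) i, map_sum, smul_add,
          Finset.smul_sum, add_sub_add_left_eq_sub, ← Finset.sum_sub_distrib] at e1
        rw [← e1]
        apply Finset.sum_congr rfl
        intro a ha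
        show (χ a i - χ a₀ i) • v a = f i (v a) - χ a₀ i • v a
        rw [heig a (Finset.mem_insert_of_mem ha) i, sub_smul]
      have h4 := ih v' h1 h2 h3 b hb
      have h5 : (χ b i - χ a₀ i) • v b = 0 := h4
      rcases smul_eq_zero.mp h5 with h6 | h6
      · exact absurd (sub_eq_zero.mp h6).symm hi
      · exact h6
    intro a ha
    rcases Finset.mem_insert.mp ha with rfl | ha
    · rw [Finset.sum_eq_zero hrest, add_zero] at hsum
      exact hsum
    · exact hrest a ha

/-- an orbit sum is fixed. -/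
theorem orbit_sum_fixed (T : Module.End k M) (L : ℕ) (v : M) (hv : (T ^ L) v = v) :
    T (∑ l ∈ Finset.range L, (T ^ l) v) = ∑ l ∈ Finset.range L, (T ^ l) v := by
  rw [map_sum]
  have h1 : ∀ l, T ((T ^ l) v) = (T ^ (l + 1)) v := by
    intro l
    rw [pow_succ', Module.End.mul_apply]
  rw [Finset.sum_congr rfl (fun l _ => h1 l)]
  have h2 := Finset.sum_range_succ' (fun l => (T ^ l) v) L
  have h3 := Finset.sum_range_succ (fun l => (T ^ l) v) L
  rw [h3] at h2
  simp only [pow_zero, Module.End.one_apply] at h2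
  rw [hv] at h2
  exact (add_right_cancel h2).symm

end Cfsg.Agent.Lib.Helper23.Gross
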