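import Mathlib
import Cfsg.Agent.Lib.Helper23.GrossLin
import Cfsg.Agent.Lib.Helper10.XRepSub

/-!
# Helper23 library: reduction to a scalar centre (Shult–Gross)

A representation `ρ` of a finite group `P`, twisted by an automorphism `σ` of `p`-power order
through an operator `S`.  A *valid pair* `(U, i)` is a `P`-invariant, `S ^ (p ^ i)`-invariant
nonzero subspace such that fixed vectors of `S ^ (p ^ i)` in `U` produce fixed vectors of `S`,
and on which `τ = σ ^ (p ^ (n - 1))` acts nontrivially.  Every valid pair contains a valid pair on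
which the elements commuting with `P` act by scalars.
-/

set_option autoImplicit false

namespace Cfsg.Agent.Lib.Helper23.Gross

open Module Cfsg.Agent.Lib.Helper10.XRep

universe u v w

variable {k : Type v} [Field k] {P : Type u} [Group P] {M : Type w} [AddCommGroup M] [Module k M]

/-- the elements of `P` whose action on `U` commutes with the action of `P`. -/
def commSet (ρ : P →* Module.End k M) (U : Submodule k M) : Set P :=
  {g | ∀ h, ∀ u ∈ U, ρ g (ρ h u) = ρ h (ρ g u)}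

/-- a simultaneous eigenspace inside `U`. -/
def simEig (ρ : P →* Module.End k M) (U : Submodule k M) (Z : Set P) (μ : P → k) :
    Submodule k M where
  carrier := {u | u ∈ U ∧ ∀ g ∈ Z, ρ g u = μ g • u}
  add_mem' := by
    rintro a b ⟨ha, ha'⟩ ⟨hb, hb'⟩
    refine ⟨U.add_mem ha hb, fun g hg => ?_⟩
    rw [map_add, ha' g hg, hb' g hg, smul_add]
  zero_mem' := ⟨U.zero_mem, fun g _ => by rw [map_zero, smul_zero]⟩
  smul_mem' := by
    rintro c a ⟨ha, ha'⟩
    refine ⟨U.smul_mem c ha, fun g hg => ?_⟩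
    rw [map_smul, ha' g hg, smul_comm]

theorem mem_simEig (ρ : P →* Module.End k M) (U : Submodule k M) (Z : Set P) (μ : P → k) (u : M) :
    u ∈ simEig ρ U Z μ ↔ u ∈ U ∧ ∀ g ∈ Z, ρ g u = μ g • u := Iff.rfl

theorem simEig_le (ρ : P →* Module.End k M) (U : Submodule k M) (Z : Set P) (μ : P → k) :
    simEig ρ U Z μ ≤ U := fun _ hu => hu.1

theorem tw_pow {ρ : P →* Module.End k M} {σ : MulAut P} {S : Module.End k M}
    (hS : ∀ g, S * ρ g = ρ (σ g) * S) (l : ℕ) (g : P) :
    S ^ l * ρ g = ρ ((σ ^ l) g) * S ^ l := by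
  induction l generalizing g with
  | zero => simp
  | succ l ih =>
    rw [pow_succ', mul_assoc, ih, ← mul_assoc, hS, mul_assoc, pow_succ' σ, MulAut.mul_apply]

theorem tw_apply {ρ : P →* Module.End k M} {φ : MulAut P} {T : Module.End k M}
    (hT : ∀ g, T * ρ g = ρ (φ g) * T) (g : P) (u : M) : T (ρ g u) = ρ (φ g) (T u) := by
  have := LinearMap.congr_fun (hT g) u
  simpa using this

theorem pow_mem_of_mem {T : Module.End k M} {U : Submodule k M} (hTU : ∀ u ∈ U, T u ∈ U)
    (l : ℕ) : ∀ u ∈ U, (T ^ l) u ∈ U := by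
  induction l with
  | zero => intro u hu; simpa using hu
  | succ l ih =>
    intro u hu
    rw [pow_succ', Module.End.mul_apply]
    exact hTU _ (ih u hu)

theorem injective_of_pow_eq_one {T : Module.End k M} {m : ℕ} (hm : 0 < m) (hTm : T ^ m = 1) :
    Function.Injective T := by
  obtain ⟨m', rfl⟩ : ∃ m', m = m' + 1 := ⟨m - 1, by omega⟩
  intro a b hab
  have h1 : (T ^ (m' + 1)) a = (T ^ (m' + 1)) b := by
    rw [pow_succ, Module.End.mul_apply, Module.End.mul_apply, hab]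
  rwa [hTm, Module.End.one_apply, Module.End.one_apply] at h1

/-- the commuting set is stable under the inverse of the twisting automorphism. -/
theorem commSet_inv_stable {ρ : P →* Module.End k M} {φ : MulAut P} {T : Module.End k M}
    (hT : ∀ g, T * ρ g = ρ (φ g) * T) (hTinj : Function.Injective T) {U : Submodule k M}
    (hTU : ∀ u ∈ U, T u ∈ U) {g : P} (hg : g ∈ commSet ρ U) : φ⁻¹ g ∈ commSet ρ U := by
  intro h u hu
  apply hTinj
  rw [tw_apply hT, tw_apply hT, MulAut.apply_inv_self, tw_apply hT, tw_apply hT,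
    MulAut.apply_inv_self]
  exact hg (φ h) (T u) (hTU u hu)

theorem commSet_inv_pow_stable {ρ : P →* Module.End k M} {φ : MulAut P} {T : Module.End k M}
    (hT : ∀ g, T * ρ g = ρ (φ g) * T) (hTinj : Function.Injective T) {U : Submodule k M}
    (hTU : ∀ u ∈ U, T u ∈ U) (l : ℕ) {g : P} (hg : g ∈ commSet ρ U) :
    (φ⁻¹ ^ l) g ∈ commSet ρ U := by
  induction l with
  | zero => simpa using hg
  | succ l ih =>
    rw [pow_succ', MulAut.mul_apply]
    exact commSet_inv_stable hT hTinj hTU ih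

/-- translating a simultaneous eigenvector. -/
theorem translate_eig {ρ : P →* Module.End k M} {φ : MulAut P} {T : Module.End k M}
    (hT : ∀ g, T * ρ g = ρ (φ g) * T) {U : Submodule k M} {Z : Set P} {μ : P → k}
    (l : ℕ) (hZ : ∀ g ∈ Z, (φ⁻¹ ^ l) g ∈ Z) {u : M} (hu : u ∈ simEig ρ U Z μ) {g : P}
    (hg : g ∈ Z) : ρ g ((T ^ l) u) = μ ((φ⁻¹ ^ l) g) • (T ^ l) u := by
  have h1 : (φ ^ l) ((φ⁻¹ ^ l) g) = g := by
    rw [← MulAut.mul_apply, inv_pow, mul_inv_cancel, MulAut.one_apply]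
  have h2 := tw_apply (tw_pow hT l) ((φ⁻¹ ^ l) g) u
  rw [h1] at h2
  rw [← h2, hu.2 _ (hZ g hg), map_smul]


/-- a valid pair. -/
structure Valid (ρ : P →* Module.End k M) (σ : MulAut P) (S : Module.End k M) (p n : ℕ)
    (U : Submodule k M) (i : ℕ) : Prop where
  ne : U ≠ ⊥
  le : i ≤ n
  inv : ∀ g, ∀ u ∈ U, ρ g u ∈ U
  invS : ∀ u ∈ U, (S ^ (p ^ i)) u ∈ U
  orb : ∀ v ∈ U, (S ^ (p ^ i)) v = v → v ≠ 0 → ∃ w, w ≠ 0 ∧ S w = w
  nt : ∃ x, ∃ u ∈ U, ρ (x⁻¹ * (σ ^ (p ^ (n - 1))) x) u ≠ u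

/-- the commuting elements act by scalars. -/
def ScalarCenter (ρ : P →* Module.End k M) (U : Submodule k M) : Prop :=
  ∀ g ∈ commSet ρ U, ∃ c : k, ∀ u ∈ U, ρ g u = c • u

section Step

variable [IsAlgClosed k] [FiniteDimensional k M] [Finite P]
  {ρ : P →* Module.End k M} {σ : MulAut P} {S : Module.End k M} {p n : ℕ}

theorem Valid.step (hp : p.Prime) (hS : ∀ g, S * ρ g = ρ (σ g) * S) (hSn : S ^ (p ^ n) = 1)
    (hσn : σ ^ (p ^ n) = 1) (hPk : (Nat.card P : k) ≠ 0) {U : Submodule k M} {i : ℕ}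
    (hV : Valid ρ σ S p n U i) (hns : ¬ ScalarCenter ρ U) :
    ∃ U' i', Valid ρ σ S p n U' i' ∧ U' < U := by
  classical
  obtain ⟨x, u₀, hu₀U, hu₀⟩ := hV.nt
  set y : P := x⁻¹ * (σ ^ (p ^ (n - 1))) x with hy
  -- an eigenvalue different from one
  let A : Module.End k U := (ρ y).restrict (hV.inv y)
  have hApow : ∀ (m : ℕ) (u : U), (((A ^ m) u : U) : M) = (ρ y ^ m) (u : M) := by
    intro m
    induction m with
    | zero => intro u; rfl
    | succ m ih =>
      intro u
      rw [pow_succ', Module.End.mul_apply, pow_succ', Module.End.mul_apply, ← ih]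
      rfl
  have hAN : A ^ (Nat.card P) = 1 := by
    apply LinearMap.ext
    intro u
    apply Subtype.ext
    rw [hApow, ← map_pow, pow_card_eq_one', map_one]
    rfl
  have hA1 : A ≠ 1 := by
    intro h
    apply hu₀
    have := congrArg Subtype.val (LinearMap.congr_fun h ⟨u₀, hu₀U⟩)
    exact this
  obtain ⟨ω, hω1, hω⟩ := exists_eigenvalue_ne_one A hPk hAN hA1
  obtain ⟨u₁, hu₁, hu₁0⟩ := (Submodule.ne_bot_iff _).mp hω
  have hu₁e : ρ y (u₁ : M) = ω • (u₁ : M) :=
    congrArg Subtype.val (Module.End.mem_eigenspace_iff.mp hu₁)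
  let W : Submodule k M := U ⊓ Module.End.eigenspace (ρ y) ω
  have hW : W ≠ ⊥ := by
    rw [Submodule.ne_bot_iff]
    exact ⟨u₁, ⟨u₁.2, Module.End.mem_eigenspace_iff.mpr hu₁e⟩, fun h => hu₁0 (Subtype.ext h)⟩
  let C : Set (Module.End k M) := {f | ∃ g ∈ commSet ρ U, f = ρ g}
  have hCW : ∀ f ∈ C, ∀ w ∈ W, f w ∈ W := by
    rintro f ⟨g, hg, rfl⟩ w hw
    refine ⟨hV.inv g w hw.1, ?_⟩
    show ρ g w ∈ Module.End.eigenspace (ρ y) ω
    rw [Module.End.mem_eigenspace_iff, ← hg y w hw.1, Module.End.mem_eigenspace_iff.mp hw.2,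
      map_smul]
  have hcomm : ∀ f ∈ C, ∀ f' ∈ C, ∀ w ∈ W, f (f' w) = f' (f w) := by
    rintro f ⟨g, hg, rfl⟩ f' ⟨g', _, rfl⟩ w hw
    exact hg g' w hw.1
  obtain ⟨v, hvW, hv0, hveig⟩ := exists_simultaneous_eigenvector W hW C hCW hcomm
  have hveig' : ∀ g, g ∈ commSet ρ U → ∃ c : k, ρ g v = c • v := fun g hg =>
    hveig (ρ g) ⟨g, hg, rfl⟩
  let μ : P → k := fun g => if h : g ∈ commSet ρ U then Classical.choose (hveig' g h) else 0
  have hμ : ∀ g ∈ commSet ρ U, ρ g v = μ g • v := by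
    intro g hg
    show ρ g v = (if h : g ∈ commSet ρ U then Classical.choose (hveig' g h) else 0) • v
    rw [dif_pos hg]
    exact Classical.choose_spec (hveig' g hg)
  have hμ0 : ∀ g, g ∉ commSet ρ U → μ g = 0 := by
    intro g hg
    show (if h : g ∈ commSet ρ U then Classical.choose (hveig' g h) else 0) = 0
    rw [dif_neg hg]
  set U' : Submodule k M := simEig ρ U (commSet ρ U) μ with hU'
  have hvU' : v ∈ U' := ⟨hvW.1, hμ⟩
  -- the twisting data at level `i`
  set φ : MulAut P := σ ^ (p ^ i) with hφ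
  set T : Module.End k M := S ^ (p ^ i) with hTdef
  have hT : ∀ g, T * ρ g = ρ (φ g) * T := tw_pow hS (p ^ i)
  have hpm : p ^ i * p ^ (n - i) = p ^ n := by
    rw [← pow_add, Nat.add_sub_cancel' hV.le]
  have hTm : T ^ (p ^ (n - i)) = 1 := by rw [hTdef, ← pow_mul, hpm, hSn]
  have hφm : φ ^ (p ^ (n - i)) = 1 := by rw [hφ, ← pow_mul, hpm, hσn]
  have hmpos : 0 < p ^ (n - i) := pow_pos hp.pos _
  have hTinj : Function.Injective T := injective_of_pow_eq_one hmpos hTm
  have hZinv : ∀ l : ℕ, ∀ g ∈ commSet ρ U, (φ⁻¹ ^ l) g ∈ commSet ρ U := fun l g hg =>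
    commSet_inv_pow_stable hT hTinj hV.invS l hg
  have hZfwd : ∀ l : ℕ, ∀ g, (φ⁻¹ ^ l) g ∈ commSet ρ U → g ∈ commSet ρ U := by
    intro l g hg
    -- `φ ^ l = (φ⁻¹) ^ (l * (m - 1))`
    have h1 : (φ⁻¹ ^ (l * (p ^ (n - i) - 1))) ((φ⁻¹ ^ l) g) = g := by
      rw [← MulAut.mul_apply, ← pow_add]
      have h2 : l * (p ^ (n - i) - 1) + l = l * p ^ (n - i) := by
        obtain ⟨m', hm'⟩ : ∃ m', p ^ (n - i) = m' + 1 := ⟨p ^ (n - i) - 1, by omega⟩
        rw [hm', Nat.add_sub_cancel]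
        ring
      rw [h2, mul_comm, pow_mul, inv_pow, hφm, inv_one, one_pow, MulAut.one_apply]
    rw [← h1]
    exact hZinv _ _ hg
  -- the orbit of `μ`
  let F : (P → k) → (P → k) := fun χ g => χ (φ⁻¹ g)
  have hF : ∀ (l : ℕ) (χ : P → k) (g : P), F^[l] χ g = χ ((φ⁻¹ ^ l) g) := by
    intro l
    induction l with
    | zero => intro χ g; simp
    | succ l ih =>
      intro χ g
      rw [Function.iterate_succ_apply, ih, pow_succ', MulAut.mul_apply]
  have hFper : Function.IsPeriodicPt F (p ^ (n - i)) μ := by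
    show F^[p ^ (n - i)] μ = μ
    funext g
    rw [hF, inv_pow, hφm, inv_one, MulAut.one_apply]
  have hLdvd : Function.minimalPeriod F μ ∣ p ^ (n - i) := hFper.minimalPeriod_dvd
  obtain ⟨j', hj'le, hj'⟩ := (Nat.dvd_prime_pow hp).mp hLdvd
  have hFL : F^[p ^ j'] μ = μ := by
    rw [← hj']
    exact Function.iterate_minimalPeriod
  have hTL : T ^ (p ^ j') = S ^ (p ^ (i + j')) := by rw [hTdef, ← pow_mul, ← pow_add]
  -- eigenvector property of the translates
  have htr : ∀ (l : ℕ) (u : M), u ∈ U' → ∀ g ∈ commSet ρ U,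
      ρ g ((T ^ l) u) = F^[l] μ g • (T ^ l) u := by
    intro l u hu g hg
    rw [hF]
    exact translate_eig hT l (hZinv l) hu hg
  have hTlU : ∀ (l : ℕ), ∀ u ∈ U, (T ^ l) u ∈ U := pow_mem_of_mem hV.invS
  refine ⟨U', i + j', ⟨?_, ?_, ?_, ?_, ?_, ?_⟩, ?_⟩
  · rw [Submodule.ne_bot_iff]
    exact ⟨v, hvU', hv0⟩
  · have := hV.le
    omega
  · intro h u hu
    refine ⟨hV.inv h u hu.1, fun g hg => ?_⟩
    rw [hg h u hu.1, hu.2 g hg, map_smul]
  · intro u hu
    rw [← hTL]
    refine ⟨hTlU _ u hu.1, fun g hg => ?_⟩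
    rw [htr _ u hu g hg, hFL]
  · intro v' hv'U hv'fix hv'0
    rw [← hTL] at hv'fix
    set w₀ : M := ∑ l ∈ Finset.range (p ^ j'), (T ^ l) v' with hw₀
    have hw₀fix : T w₀ = w₀ := orbit_sum_fixed T (p ^ j') v' hv'fix
    have hw₀U : w₀ ∈ U := Submodule.sum_mem _ (fun l _ => hTlU l v' hv'U.1)
    have hw₀0 : w₀ ≠ 0 := by
      intro h0
      have key := eq_zero_of_sum_eq_zero (ι := {g : P // g ∈ commSet ρ U}) (α := ℕ)
        (fun g => ρ g.1) (fun l g => F^[l] μ g.1) (fun l => (T ^ l) v') (Finset.range (p ^ j'))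
        (fun l _ g => htr l v' hv'U g.1 g.2)
        (by
          intro a ha b hb hab
          have ha' : a < Function.minimalPeriod F μ := by
            rw [hj']; exact Finset.mem_range.mp ha
          have hb' : b < Function.minimalPeriod F μ := by
            rw [hj']; exact Finset.mem_range.mp hb
          have hne : F^[a] μ ≠ F^[b] μ := fun h =>
            hab ((Function.iterate_eq_iterate_iff_of_lt_minimalPeriod ha' hb').mp h)
          obtain ⟨g, hg⟩ := Function.ne_iff.mp hne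
          have hgZ : g ∈ commSet ρ U := by
            by_contra hgZ
            apply hg
            rw [hF, hF, hμ0 _ (fun h => hgZ (hZfwd a g h)), hμ0 _ (fun h => hgZ (hZfwd b g h))]
          exact ⟨⟨g, hgZ⟩, hg⟩)
        h0 0 (Finset.mem_range.mpr (pow_pos hp.pos _))
      simp only [pow_zero, Module.End.one_apply] at key
      exact hv'0 key
    exact hV.orb w₀ hw₀U hw₀fix hw₀0
  · refine ⟨x, v, hvU', ?_⟩
    rw [← hy, Module.End.mem_eigenspace_iff.mp hvW.2]
    intro h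
    have h1 : (ω - 1) • v = 0 := by rw [sub_smul, one_smul, h, sub_self]
    rcases smul_eq_zero.mp h1 with h2 | h2
    · exact hω1 (sub_eq_zero.mp h2)
    · exact hv0 h2
  · refine lt_of_le_of_ne (simEig_le _ _ _ _) ?_
    intro hUU
    apply hns
    intro g hg
    refine ⟨μ g, fun u hu => ?_⟩
    have : u ∈ U' := hUU ▸ hu
    exact this.2 g hg

/-- every valid pair contains a valid pair with scalar centre. -/
theorem Valid.exists_scalar (hp : p.Prime) (hS : ∀ g, S * ρ g = ρ (σ g) * S)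
    (hSn : S ^ (p ^ n) = 1) (hσn : σ ^ (p ^ n) = 1) (hPk : (Nat.card P : k) ≠ 0) :
    ∀ (d : ℕ) (U : Submodule k M) (i : ℕ), finrank k U = d → Valid ρ σ S p n U i →
      ∃ U' i', Valid ρ σ S p n U' i' ∧ ScalarCenter ρ U' := by
  intro d
  induction d using Nat.strong_induction_on with
  | _ d ih =>
    intro U i hd hV
    by_cases hsc : ScalarCenter ρ U
    · exact ⟨U, i, hV, hsc⟩
    · obtain ⟨U', i', hV', hlt⟩ := hV.step hp hS hSn hσn hPk hsc
      exact ih _ (hd ▸ Submodule.finrank_lt_finrank_of_lt hlt) U' i' rfl hV'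

end Step

end Cfsg.Agent.Lib.Helper23.Gross
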