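import Mathlib
import Cfsg.Agent.Lib.Helper23.GrossValid
import Cfsg.Agent.Lib.Helper23.GrossOrbit
import Cfsg.Agent.Lib.Helper23.GrossCrit
import Cfsg.Agent.Lib.Helper18.FpfBasic

/-!
# Helper23 library: the Heisenberg step of the Shult–Gross theorem

A valid pair with scalar centre and no fixed vectors forces the exceptional configuration:
`q = 2`, the radical `Z₁` has index `(2 ^ d) ^ 2` and `2 ^ d + 1 = p ^ (n - i)`.
-/

set_option autoImplicit false

namespace Cfsg.Agent.Lib.Helper23.Gross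

open Module Cfsg.Agent.Lib.Helper10.XRep Cfsg.Agent.Lib.Helper18.FpfFour
open scoped commutatorElement

universe u v w

variable {k : Type v} [Field k] [IsAlgClosed k] {P : Type u} [Group P] [Finite P]
  {M : Type w} [AddCommGroup M] [Module k M] [FiniteDimensional k M]
  {ρ : P →* Module.End k M} {σ : MulAut P} {S : Module.End k M} {p n q : ℕ}

theorem heis_data (hp : p.Prime) (hp2 : p ≠ 2) (hq : q.Prime) (hpq : p ≠ q)
    (hC : Crit p n q σ) (hS : ∀ g, S * ρ g = ρ (σ g) * S) (hSn : S ^ (p ^ n) = 1)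
    (hqk : (q : k) ≠ 0) (hpk : (p : k) ≠ 0)
    {U : Submodule k M} {i : ℕ} (hV : Valid ρ σ S p n U i) (hsc : ScalarCenter ρ U) (hi : i < n)
    (hno : ¬ ∃ w, w ≠ 0 ∧ S w = w) :
    q = 2 ∧ ∃ (Z₁ : Subgroup P) (lam : P → k) (d : ℕ),
      (∀ z, (σ ^ (p ^ (n - 1))) z = z → z ∈ Z₁) ∧ Z₁ ≠ ⊤ ∧
      (∀ x ∈ Z₁, (σ ^ (p ^ i)) x ∈ Z₁) ∧
      (∀ z z', (σ ^ (p ^ (n - 1))) z = z → (σ ^ (p ^ (n - 1))) z' = z' →
        lam (z * z') = lam z * lam z') ∧
      (∀ z, (σ ^ (p ^ (n - 1))) z = z → lam ((σ ^ (p ^ i)) z) = lam z) ∧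
      (∀ x, x ∈ Z₁ ↔ ∀ y, lam ⁅x, y⁆ = 1) ∧ Z₁.index = (2 ^ d) ^ 2 ∧
      2 ^ d + 1 = p ^ (n - i) := by
  classical
  haveI : Fact q.Prime := ⟨hq⟩
  set τ : MulAut P := σ ^ (p ^ (n - 1)) with hτ
  set φ : MulAut P := σ ^ (p ^ i) with hφ
  set T : Module.End k M := S ^ (p ^ i) with hTdef
  have hT : ∀ g, T * ρ g = ρ (φ g) * T := tw_pow hS (p ^ i)
  have hpm : p ^ i * p ^ (n - i) = p ^ n := by
    rw [← pow_add, Nat.add_sub_cancel' hV.le]
  have hTm : T ^ (p ^ (n - i)) = 1 := by rw [hTdef, ← pow_mul, hpm, hSn]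
  have hφm : φ ^ (p ^ (n - i)) = 1 := by rw [hφ, ← pow_mul, hpm, hC.pow]
  have hmpos : 0 < p ^ (n - i) := pow_pos hp.pos _
  have hTinj : Function.Injective T := injective_of_pow_eq_one hmpos hTm
  have hτφ : τ = φ ^ (p ^ (n - 1 - i)) := by
    rw [hτ, hφ, ← pow_mul, ← pow_add]
    congr 2
    omega
  have hτσ : ∀ (l : ℕ) (x : P), τ ((σ ^ l) x) = (σ ^ l) (τ x) := by
    intro l x
    rw [hτ, ← MulAut.mul_apply, ← MulAut.mul_apply, ← pow_add, ← pow_add, add_comm]
  -- no fixed vectors of `T` in `U`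
  have hnoT : ∀ u ∈ U, T u = u → u = 0 := by
    intro u hu hfix
    by_contra h0
    exact hno (hV.orb u hu hfix h0)
  -- surjectivity of `T` on `U`
  have hsurj : ∀ u ∈ U, ∃ u' ∈ U, T u' = u := by
    intro u hu
    let TU : Module.End k U := T.restrict hV.invS
    have hTUinj : Function.Injective TU := by
      intro a b hab
      apply Subtype.ext
      exact hTinj (congrArg Subtype.val hab)
    obtain ⟨u', hu'⟩ := LinearMap.surjective_of_injective hTUinj ⟨u, hu⟩
    exact ⟨u', u'.2, congrArg Subtype.val hu'⟩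
  obtain ⟨u₁, hu₁U, hu₁0⟩ := (Submodule.ne_bot_iff _).mp hV.ne
  -- the restricted representation
  obtain ⟨ρU, hρU⟩ : ∃ ρU : P →* Module.End k U, ∀ g (u : U), ((ρU g u : U) : M) = ρ g u :=
    ⟨resRep ρ U hV.inv, fun g u => rfl⟩
  have hker : ∀ g, g ∈ ρU.ker ↔ ∀ u ∈ U, ρ g u = u := by
    intro g
    rw [MonoidHom.mem_ker]
    constructor
    · intro h u hu
      have := congrArg Subtype.val (LinearMap.congr_fun h ⟨u, hu⟩)
      rw [hρU] at this
      exact this
    · intro h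
      apply LinearMap.ext
      intro u
      apply Subtype.ext
      rw [hρU, h u u.2]
      rfl
  have hKφ : ∀ g ∈ ρU.ker, φ g ∈ ρU.ker := by
    intro g hg
    rw [hker] at hg ⊢
    intro u hu
    obtain ⟨u', hu'U, rfl⟩ := hsurj u hu
    rw [← tw_apply hT, hg u' hu'U]
  let φq : MulAut (P ⧸ ρU.ker) := quotAut φ ρU.ker hKφ
  have hφq : ∀ x : P, φq (x : P ⧸ ρU.ker) = ((φ x : P) : P ⧸ ρU.ker) := quotAut_mk φ ρU.ker hKφ
  have hφqpow : ∀ (l : ℕ) (x : P), φq^[l] (x : P ⧸ ρU.ker) = (((φ ^ l) x : P) : P ⧸ ρU.ker) := by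
    intro l
    induction l with
    | zero => intro x; simp
    | succ l ih =>
      intro x
      rw [Function.iterate_succ_apply', ih, hφq, pow_succ', MulAut.mul_apply]
  haveI : Fintype (P ⧸ ρU.ker) := Fintype.ofFinite _
  obtain ⟨ρq, hlift⟩ : ∃ ρq : P ⧸ ρU.ker →* Module.End k U,
      ∀ x : P, ρq (x : P ⧸ ρU.ker) = ρU x :=
    ⟨QuotientGroup.lift ρU.ker ρU le_rfl, fun x => QuotientGroup.lift_mk _ _ x⟩
  have hinj : Function.Injective ρq := by
    intro a b hab
    obtain ⟨x, rfl⟩ := QuotientGroup.mk_surjective a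
    obtain ⟨y, rfl⟩ := QuotientGroup.mk_surjective b
    rw [hlift, hlift] at hab
    rw [QuotientGroup.eq, MonoidHom.mem_ker, map_mul, ← hab, ← map_mul, inv_mul_cancel, map_one]
  -- central elements of the quotient
  have hcen_comm : ∀ g : P, (g : P ⧸ ρU.ker) ∈ Subgroup.center (P ⧸ ρU.ker) →
      g ∈ commSet ρ U := by
    intro g hg h u hu
    have h1 := Subgroup.mem_center_iff.mp hg (h : P ⧸ ρU.ker)
    have h2 : ρU (h * g) = ρU (g * h) := by
      rw [← hlift, ← hlift, QuotientGroup.mk_mul, QuotientGroup.mk_mul, h1]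
    have h3 := congrArg Subtype.val (LinearMap.congr_fun h2 ⟨u, hu⟩)
    rw [hρU, hρU, map_mul, map_mul] at h3
    exact h3.symm
  have hcen_iff : ∀ x : P, (x : P ⧸ ρU.ker) ∈ Subgroup.center (P ⧸ ρU.ker) ↔
      ∀ y, ⁅x, y⁆ ∈ ρU.ker := by
    intro x
    rw [Subgroup.mem_center_iff]
    constructor
    · intro h y
      rw [← QuotientGroup.eq_one_iff, commutatorElement_def]
      have h1 := h (y : P ⧸ ρU.ker)
      simp only [QuotientGroup.mk_mul, QuotientGroup.mk_inv]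
      rw [← h1]
      group
    · intro h g
      obtain ⟨y, rfl⟩ := QuotientGroup.mk_surjective g
      have h1 := (QuotientGroup.eq_one_iff _).mpr (h y)
      rw [commutatorElement_def] at h1
      simp only [QuotientGroup.mk_mul, QuotientGroup.mk_inv] at h1
      calc (y : P ⧸ ρU.ker) * x = ((x : P ⧸ ρU.ker) * y * (x : P ⧸ ρU.ker)⁻¹ * (y : P ⧸ ρU.ker)⁻¹)⁻¹
            * (x * y) := by group
        _ = x * y := by rw [h1, inv_one, one_mul]
  have hfixcen : ∀ z : P, τ z = z → (z : P ⧸ ρU.ker) ∈ Subgroup.center (P ⧸ ρU.ker) := by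
    intro z hz
    rw [Subgroup.mem_center_iff]
    intro g
    obtain ⟨y, rfl⟩ := QuotientGroup.mk_surjective g
    rw [← QuotientGroup.mk_mul, ← QuotientGroup.mk_mul, hC.central z hz y]
  -- the Heisenberg structure
  have hcardQ : (Fintype.card (P ⧸ ρU.ker) : k) ≠ 0 := by
    have hQ : IsPGroup q (P ⧸ ρU.ker) := hC.hq.to_quotient _
    obtain ⟨e, he⟩ := IsPGroup.iff_card.mp hQ
    rw [← Nat.card_eq_fintype_card, he, Nat.cast_pow]
    exact pow_ne_zero _ hqk
  have H : Heis (ρq) (Subgroup.center (P ⧸ ρU.ker)) := by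
    refine ⟨fun z hz g => Subgroup.mem_center_iff.mp hz g, ?_, ?_, ?_, hcardQ⟩
    · intro g h
      obtain ⟨x, rfl⟩ := QuotientGroup.mk_surjective g
      obtain ⟨y, rfl⟩ := QuotientGroup.mk_surjective h
      have h1 : ⁅(x : P ⧸ ρU.ker), (y : P ⧸ ρU.ker)⁆ = ((⁅x, y⁆ : P) : P ⧸ ρU.ker) :=
        (map_commutatorElement (QuotientGroup.mk' ρU.ker) x y).symm
      rw [h1]
      exact hfixcen _ (hC.comm x y)
    · intro z hz
      obtain ⟨g, rfl⟩ := QuotientGroup.mk_surjective z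
      obtain ⟨c, hc⟩ := hsc g (hcen_comm g hz)
      refine ⟨c, ?_⟩
      apply LinearMap.ext
      intro u
      apply Subtype.ext
      rw [hlift, hρU, hc u u.2]
      rfl
    · intro g hg
      have h1 : ∃ h : P ⧸ ρU.ker, h * g ≠ g * h := by
        by_contra hcon
        push Not at hcon
        exact hg (Subgroup.mem_center_iff.mpr hcon)
      obtain ⟨h, hh⟩ := h1
      refine ⟨h, ?_⟩
      intro h2
      have h3 : ⁅h, g⁆ = 1 := hinj (by rw [h2, map_one])
      apply hh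
      rw [commutatorElement_def] at h3
      calc h * g = (h * g * h⁻¹ * g⁻¹) * (g * h) := by group
        _ = g * h := by rw [h3, one_mul]
  haveI : Nontrivial U := Submodule.nontrivial_iff_ne_bot.mpr hV.ne
  -- the hypotheses of the core theorem
  have hφZ : ∀ z ∈ Subgroup.center (P ⧸ ρU.ker), φq z = z := by
    intro z hz
    obtain ⟨g, rfl⟩ := QuotientGroup.mk_surjective z
    obtain ⟨c, hc⟩ := hsc g (hcen_comm g hz)
    rw [hφq]
    apply hinj
    rw [hlift, hlift]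
    apply LinearMap.ext
    intro u
    apply Subtype.ext
    rw [hρU, hρU]
    obtain ⟨u', hu'U, hu'⟩ := hsurj u u.2
    rw [← hu', ← tw_apply hT, hc u' hu'U, map_smul, hc _ (hV.invS u' hu'U)]
  have hφr : ∀ g, φq^[p ^ (n - i)] g = g := by
    intro g
    obtain ⟨x, rfl⟩ := QuotientGroup.mk_surjective g
    rw [hφqpow, hφm, MulAut.one_apply]
  -- the radical
  set Z₁ : Subgroup P := (Subgroup.center (P ⧸ ρU.ker)).comap (QuotientGroup.mk' ρU.ker) with hZ₁
  have hZ₁mem : ∀ x, x ∈ Z₁ ↔ (x : P ⧸ ρU.ker) ∈ Subgroup.center (P ⧸ ρU.ker) := fun x => Iff.rfl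
  have hZ₁φ : ∀ x ∈ Z₁, φ x ∈ Z₁ := by
    intro x hx
    rw [hZ₁mem] at hx ⊢
    rw [← hφq, hφZ _ hx]
    exact hx
  have hZ₁φl : ∀ (l : ℕ), ∀ x ∈ Z₁, (φ ^ l) x ∈ Z₁ := by
    intro l
    induction l with
    | zero => intro x hx; simpa using hx
    | succ l ih =>
      intro x hx
      rw [pow_succ', MulAut.mul_apply]
      exact hZ₁φ _ (ih x hx)
  have hfpf : ∀ l, 0 < l → l < p ^ (n - i) → ∀ g : P ⧸ ρU.ker,
      g⁻¹ * φq^[l] g ∈ Subgroup.center (P ⧸ ρU.ker) → g ∈ Subgroup.center (P ⧸ ρU.ker) := by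
    intro l hl0 hlm g hg
    obtain ⟨x, rfl⟩ := QuotientGroup.mk_surjective g
    rw [hφqpow, ← QuotientGroup.mk_inv, ← QuotientGroup.mk_mul, ← hZ₁mem] at hg
    rw [← hZ₁mem]
    have hφl : φ ^ l = σ ^ (p ^ i * l) := by rw [hφ, pow_mul]
    rw [hφl] at hg
    refine hC.mem_of_inv_mul_mem hp hq hpq Z₁ (fun z hz => (hZ₁mem z).mpr (hfixcen z hz))
      (k := p ^ i * l) (Nat.mul_pos (pow_pos hp.pos _) hl0) ?_ ?_ hg
    · rw [← hpm]
      exact Nat.mul_lt_mul_of_pos_left hlm (pow_pos hp.pos _)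
    · intro y hy
      rw [← hφl]
      exact hZ₁φl l y hy
  have hTUpow : ∀ (m : ℕ) (u : U), ((((T.restrict hV.invS) ^ m) u : U) : M) = (T ^ m) (u : M) := by
    intro m
    induction m with
    | zero => intro u; rfl
    | succ m ih =>
      intro u
      rw [pow_succ', Module.End.mul_apply, pow_succ', Module.End.mul_apply, ← ih]
      rfl
  have hTUr : (T.restrict hV.invS) ^ (p ^ (n - i)) = 1 := by
    apply LinearMap.ext
    intro u
    apply Subtype.ext
    rw [hTUpow, hTm]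
    rfl
  have hTUtw : ∀ g : P ⧸ ρU.ker, (T.restrict hV.invS) * ρq g
      = ρq (φq g) * (T.restrict hV.invS) := by
    intro g
    obtain ⟨x, rfl⟩ := QuotientGroup.mk_surjective g
    rw [hφq, hlift, hlift]
    apply LinearMap.ext
    intro u
    apply Subtype.ext
    show T ((ρU x u : U) : M) = ((ρU (φ x) ((T.restrict hV.invS) u) : U) : M)
    rw [hρU, hρU]
    exact tw_apply hT x u
  have hmk : ((p ^ (n - i) : ℕ) : k) ≠ 0 := by
    rw [Nat.cast_pow]
    exact pow_ne_zero _ hpk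
  have hfixU : ∀ u : U, (T.restrict hV.invS) u = u → u = 0 := by
    intro u hu
    apply Subtype.ext
    exact hnoT u u.2 (congrArg Subtype.val hu)
  obtain ⟨n₀, t, hidx1, hidx2, hidx3⟩ := core_pp H φq hmpos hφZ hφr hfpf (T.restrict hV.invS)
    hTUr hTUtw hmk hfixU
  -- the centre is proper
  have hcen_ne : Subgroup.center (P ⧸ ρU.ker) ≠ ⊤ := by
    intro htop
    obtain ⟨x, u, hu, hxu⟩ := hV.nt
    apply hxu
    have h1 : ∀ (l : ℕ) (y : P), (((φ ^ l) y : P) : P ⧸ ρU.ker) = (y : P ⧸ ρU.ker) := by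
      intro l
      induction l with
      | zero => intro y; simp
      | succ l ih =>
        intro y
        rw [pow_succ', MulAut.mul_apply, ← hφq, ih]
        exact hφZ _ (htop ▸ Subgroup.mem_top _)
    have h2 : x⁻¹ * τ x ∈ ρU.ker := by
      rw [← QuotientGroup.eq, hτφ, h1]
    exact (hker _).mp h2 u hu
  have hidx_ne : (Subgroup.center (P ⧸ ρU.ker)).index ≠ 1 := fun h =>
    hcen_ne (Subgroup.index_eq_one.mp h)
  have hn₀ : n₀ + 1 = p ^ (n - i) := by
    apply core_arith hp hp2 (Nat.sub_pos_of_lt hi) (hidx1 ▸ hidx2) hidx3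
    rw [← hidx1]
    exact hidx_ne
  -- the index is a power of `q`
  obtain ⟨E, hE⟩ := IsPGroup.iff_card.mp hC.hq
  have hdvd : (Subgroup.center (P ⧸ ρU.ker)).index ∣ q ^ E := by
    rw [← hE]
    exact (Subgroup.index_dvd_card _).trans (Subgroup.card_quotient_dvd_card _)
  have hn₀dvd : n₀ ∣ q ^ E := (Dvd.intro n₀ hidx1.symm).trans hdvd
  obtain ⟨d, -, hd⟩ := (Nat.dvd_prime_pow hq).mp hn₀dvd
  have hp3 : 3 ≤ p ^ (n - i) := by
    have h3 : 3 ≤ p := by
      have := hp.two_le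
      omega
    calc 3 ≤ p := h3
      _ = p ^ 1 := (pow_one p).symm
      _ ≤ p ^ (n - i) := Nat.pow_le_pow_right hp.pos (Nat.sub_pos_of_lt hi)
  have hd0 : d ≠ 0 := by
    rintro rfl
    rw [pow_zero] at hd
    omega
  have hq2 : q = 2 := by
    have hodd : Odd (p ^ (n - i)) := (hp.odd_of_ne_two hp2).pow
    have heven : Even n₀ := by
      rcases Nat.even_or_odd n₀ with h | h
      · exact h
      · exfalso
        have : Even (n₀ + 1) := h.add_one
        rw [hn₀] at this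
        exact (Nat.not_even_iff_odd.mpr hodd) this
    rw [hd] at heven
    exact hq.even_iff.mp ((Nat.even_pow.mp heven).1)
  refine ⟨hq2, Z₁, ?_⟩
  -- the character of the fixed points
  have hfixcomm : ∀ z, τ z = z → z ∈ commSet ρ U := fun z hz =>
    hcen_comm z (hfixcen z hz)
  let lam : P → k := fun z => if h : τ z = z then Classical.choose (hsc z (hfixcomm z h)) else 0
  have hlam : ∀ z, τ z = z → ∀ u ∈ U, ρ z u = lam z • u := by
    intro z hz
    show ∀ u ∈ U, ρ z u = (if h : τ z = z then Classical.choose (hsc z (hfixcomm z h)) else 0) • u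
    rw [dif_pos hz]
    exact Classical.choose_spec (hsc z (hfixcomm z hz))
  have hcancel : ∀ {u : M} {a b : k}, u ≠ 0 → a • u = b • u → a = b := by
    intro u a b hu hab
    have h1 : (a - b) • u = 0 := by rw [sub_smul, hab, sub_self]
    rcases smul_eq_zero.mp h1 with h | h
    · exact sub_eq_zero.mp h
    · exact absurd h hu
  have hker_lam : ∀ z, τ z = z → (z ∈ ρU.ker ↔ lam z = 1) := by
    intro z hz
    rw [hker]
    constructor
    · intro h
      apply hcancel hu₁0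
      rw [← hlam z hz u₁ hu₁U, h u₁ hu₁U, one_smul]
    · intro h u hu
      rw [hlam z hz u hu, h, one_smul]
  refine ⟨lam, d, fun z hz => (hZ₁mem z).mpr (hfixcen z hz), ?_, hZ₁φ, ?_, ?_, ?_, ?_, ?_⟩
  · intro htop
    apply hcen_ne
    rw [eq_top_iff]
    intro g _
    obtain ⟨x, rfl⟩ := QuotientGroup.mk_surjective g
    exact (hZ₁mem x).mp (htop ▸ Subgroup.mem_top x)
  · intro z z' hz hz'
    have hzz' : τ (z * z') = z * z' := by rw [map_mul, hz, hz']
    apply hcancel hu₁0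
    rw [← hlam _ hzz' u₁ hu₁U, map_mul, Module.End.mul_apply, hlam z' hz' u₁ hu₁U, map_smul,
      hlam z hz u₁ hu₁U, smul_smul, mul_comm]
  · intro z hz
    have hφz : τ (φ z) = φ z := by
      rw [hφ, hτσ, hz]
    obtain ⟨u', hu'U, hu'⟩ := hsurj u₁ hu₁U
    apply hcancel hu₁0
    rw [← hlam _ hφz u₁ hu₁U, ← hu', ← tw_apply hT, hlam z hz u' hu'U, map_smul]
  · intro x
    rw [hZ₁mem, hcen_iff]
    constructor
    · intro h y
      exact (hker_lam _ (hC.comm x y)).mp (h y)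
    · intro h y
      exact (hker_lam _ (hC.comm x y)).mpr (h y)
  · rw [hZ₁, Subgroup.index_comap_of_surjective _ (QuotientGroup.mk'_surjective _), hidx1, hd,
      hq2, sq]
  · rw [← hn₀, hd, hq2]

end Cfsg.Agent.Lib.Helper23.Gross
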