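import Mathlib
import Cfsg.Agent.Lib.Helper23.GrossHeis
import Cfsg.Agent.Lib.Helper23.GrossArith
import Cfsg.Agent.Lib.Helper23.HHAuto

/-!
# Helper23 library: the exceptional case of the Shult–Gross theorem

The exceptional configuration produced by `heis_data` is impossible: the intersection of the
`σ`-translates of the radical is a `σ`-invariant subgroup strictly between the fixed points of `τ`
and the whole group.
-/

set_option autoImplicit false

namespace Cfsg.Agent.Lib.Helper23.Gross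

open Cfsg.Agent.Lib.Helper18.FpfFour
open scoped commutatorElement

universe u v

variable {k : Type v} [Field k] {P : Type u} [Group P] [Finite P] {σ : MulAut P} {p n : ℕ}

theorem exc_false (hp : p.Prime) (hp2 : p ≠ 2) (hC : Crit p n 2 σ) {i : ℕ} (hi : i < n)
    (Z₁ : Subgroup P) (lam : P → k) (d : ℕ)
    (h0 : ∀ z, (σ ^ (p ^ (n - 1))) z = z → z ∈ Z₁) (htop : Z₁ ≠ ⊤)
    (hφ : ∀ x ∈ Z₁, (σ ^ (p ^ i)) x ∈ Z₁)
    (hmul : ∀ z z', (σ ^ (p ^ (n - 1))) z = z → (σ ^ (p ^ (n - 1))) z' = z' →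
      lam (z * z') = lam z * lam z')
    (hlamφ : ∀ z, (σ ^ (p ^ (n - 1))) z = z → lam ((σ ^ (p ^ i)) z) = lam z)
    (hmem : ∀ x, x ∈ Z₁ ↔ ∀ y, lam ⁅x, y⁆ = 1) (hidx : Z₁.index = (2 ^ d) ^ 2)
    (hd : 2 ^ d + 1 = p ^ (n - i)) : False := by
  classical
  set τ : MulAut P := σ ^ (p ^ (n - 1)) with hτ
  have hτσ : ∀ (l : ℕ) (x : P), τ ((σ ^ l) x) = (σ ^ l) (τ x) := by
    intro l x
    rw [hτ, ← MulAut.mul_apply, ← MulAut.mul_apply, ← pow_add, ← pow_add, add_comm]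
  have hfixσ : ∀ (l : ℕ) (z : P), τ z = z → τ ((σ ^ l) z) = (σ ^ l) z := by
    intro l z hz
    rw [hτσ, hz]
  have hfix1 : τ 1 = 1 := map_one τ
  have hlam1 : lam 1 = 1 := by
    have h1 := (hmem 1).mp (Z₁.one_mem) 1
    rwa [commutatorElement_one_right] at h1
  have hlam_ne : ∀ z, τ z = z → lam z ≠ 0 := by
    intro z hz h
    have hz' : τ z⁻¹ = z⁻¹ := by rw [map_inv, hz]
    have h1 := hmul z z⁻¹ hz hz'
    rw [mul_inv_cancel, hlam1, h, zero_mul] at h1
    exact one_ne_zero h1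
  set L : ℕ := p ^ i with hL
  have hLpos : 0 < L := pow_pos hp.pos _
  let Λ : P → k := fun z => ∏ l ∈ Finset.range L, lam ((σ ^ l) z)
  have hΛmul : ∀ z z', τ z = z → τ z' = z' → Λ (z * z') = Λ z * Λ z' := by
    intro z z' hz hz'
    show ∏ l ∈ Finset.range L, lam ((σ ^ l) (z * z')) =
      (∏ l ∈ Finset.range L, lam ((σ ^ l) z)) * ∏ l ∈ Finset.range L, lam ((σ ^ l) z')
    rw [← Finset.prod_mul_distrib]
    apply Finset.prod_congr rfl
    intro l _
    rw [map_mul, hmul _ _ (hfixσ l z hz) (hfixσ l z' hz')]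
  have hΛσ : ∀ z, τ z = z → Λ (σ z) = Λ z := by
    intro z hz
    show ∏ l ∈ Finset.range L, lam ((σ ^ l) (σ z)) = ∏ l ∈ Finset.range L, lam ((σ ^ l) z)
    have h1 : ∀ l, lam ((σ ^ l) (σ z)) = lam ((σ ^ (l + 1)) z) := by
      intro l
      rw [pow_succ, MulAut.mul_apply]
    rw [Finset.prod_congr rfl (fun l _ => h1 l)]
    have h2 := Finset.prod_range_succ' (fun l => lam ((σ ^ l) z)) L
    have h3 := Finset.prod_range_succ (fun l => lam ((σ ^ l) z)) L
    rw [h3] at h2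
    simp only [pow_zero, MulAut.one_apply] at h2
    rw [hlamφ z hz] at h2
    exact (mul_right_cancel₀ (hlam_ne z hz) h2).symm
  have hΛ1 : Λ 1 = 1 := by
    show ∏ l ∈ Finset.range L, lam ((σ ^ l) 1) = 1
    apply Finset.prod_eq_one
    intro l _
    rw [map_one, hlam1]
  -- the fixed points of `τ`
  let Z₀ : Subgroup P := HH.fixedSubgroup τ
  have hZ₀mem : ∀ z, z ∈ Z₀ ↔ τ z = z := fun z => Iff.rfl
  have hZ₀σ : ∀ z ∈ Z₀, σ z ∈ Z₀ := by
    intro z hz
    have := hfixσ 1 z hz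
    rwa [pow_one] at this
  have hΛfix : ∀ z, τ z = z → Λ z = 1 := by
    intro z hz
    have hfpf : ∀ g : Z₀, restrictAut σ Z₀ hZ₀σ g = g → g = 1 := by
      intro g hg
      apply Subtype.ext
      apply hC.fpf
      exact congrArg Subtype.val hg
    obtain ⟨w, hw⟩ := exists_comm_eq (restrictAut σ Z₀ hZ₀σ) hfpf ⟨z, hz⟩
    have hw' : z = (w : P)⁻¹ * σ (w : P) := congrArg Subtype.val hw
    have hwfix : τ (w : P) = w := w.2
    have hwinv : τ (w : P)⁻¹ = (w : P)⁻¹ := by rw [map_inv, hwfix]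
    have hσw : τ (σ (w : P)) = σ (w : P) := hZ₀σ w w.2
    rw [hw', hΛmul _ _ hwinv hσw, hΛσ _ hwfix, ← hΛmul _ _ hwinv hwfix, inv_mul_cancel, hΛ1]
  -- the key implication
  have hkey : ∀ x, (∀ l, 0 < l → l < L → (σ ^ l) x ∈ Z₁) → x ∈ Z₁ := by
    intro x hx
    rw [hmem]
    intro y
    have h1 : Λ ⁅x, y⁆ = 1 := hΛfix _ (hC.comm x y)
    have h2 : Λ ⁅x, y⁆ = lam ⁅x, y⁆ := by
      show ∏ l ∈ Finset.range L, lam ((σ ^ l) ⁅x, y⁆) = lam ⁅x, y⁆
      rw [Finset.prod_eq_single 0]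
      · rw [pow_zero, MulAut.one_apply]
      · intro l hl hl0
        rw [map_commutatorElement]
        exact (hmem _).mp (hx l (Nat.pos_of_ne_zero hl0) (Finset.mem_range.mp hl)) _
      · intro h
        exact absurd (Finset.mem_range.mpr hLpos) h
    rw [← h2, h1]
  -- the intersection of the translates
  let f : Fin (L - 1) → Subgroup P := fun l => Z₁.comap ((σ ^ (l.val + 1) : MulAut P) : P →* P)
  set I' : Subgroup P := ⨅ l, f l with hI'
  have hI'mem : ∀ x, x ∈ I' ↔ ∀ l : Fin (L - 1), (σ ^ (l.val + 1)) x ∈ Z₁ := by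
    intro x
    rw [hI', Subgroup.mem_iInf]
    rfl
  have hI'mem' : ∀ x, x ∈ I' ↔ ∀ l, 0 < l → l < L → (σ ^ l) x ∈ Z₁ := by
    intro x
    rw [hI'mem]
    constructor
    · intro h l hl0 hlL
      have := h ⟨l - 1, by omega⟩
      simp only at this
      rwa [Nat.sub_add_cancel hl0] at this
    · intro h l
      exact h (l.val + 1) (Nat.succ_pos _) (by have := l.2; omega)
  have hI'le : I' ≤ Z₁ := fun x hx => hkey x ((hI'mem' x).mp hx)
  have hI'σ : ∀ x ∈ I', σ x ∈ I' := by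
    intro x hx
    rw [hI'mem']
    intro l hl0 hlL
    rw [← MulAut.mul_apply, ← pow_succ]
    by_cases h : l + 1 < L
    · exact (hI'mem' x).mp hx (l + 1) (Nat.succ_pos _) h
    · have h1 : l + 1 = L := by omega
      rw [h1]
      exact hφ x (hI'le hx)
  have hI'0 : ∀ z, τ z = z → z ∈ I' := by
    intro z hz
    rw [hI'mem']
    intro l _ _
    exact h0 _ (hfixσ l z hz)
  have hI'top : I' ≠ ⊤ := by
    intro h
    apply htop
    rw [eq_top_iff, ← h]
    exact hI'le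
  have hI'fix := hC.irr I' hI'0 hI'σ hI'top
  have hI'eq : I' = Z₀ := le_antisymm (fun x hx => hI'fix x hx) (fun z hz => hI'0 z hz)
  have hidxI : I'.index ≤ ((2 ^ d) ^ 2) ^ (L - 1) := by
    have h1 := Subgroup.index_iInf_le f
    have h2 : ∀ l, (f l).index = (2 ^ d) ^ 2 := by
      intro l
      show (Z₁.comap ((σ ^ (l.val + 1) : MulAut P) : P →* P)).index = _
      rw [Subgroup.index_comap_of_surjective _ (MulEquiv.surjective _), hidx]
    rw [Finset.prod_congr rfl (fun l _ => h2 l), Finset.prod_const, Finset.card_univ,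
      Fintype.card_fin] at h1
    exact h1
  -- the lower bound
  have hZ₀top : Z₀ ≠ ⊤ := by
    intro h
    apply htop
    rw [eq_top_iff, ← h]
    intro z hz
    exact h0 z hz
  have hwd : ∀ a b : P, (QuotientGroup.leftRel Z₀) a b → (QuotientGroup.leftRel Z₀) (σ a) (σ b) := by
    intro a b hab
    rw [QuotientGroup.leftRel_apply] at hab ⊢
    rw [← map_inv, ← map_mul]
    exact hZ₀σ _ hab
  let σq : P ⧸ Z₀ → P ⧸ Z₀ := Quotient.map' σ hwd
  have hσq : ∀ x : P, σq (x : P ⧸ Z₀) = ((σ x : P) : P ⧸ Z₀) := fun x => rfl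
  have hσqk : ∀ (l : ℕ) (x : P), σq^[l] (x : P ⧸ Z₀) = (((σ ^ l) x : P) : P ⧸ Z₀) := by
    intro l
    induction l with
    | zero => intro x; simp
    | succ l ih =>
      intro x
      rw [Function.iterate_succ_apply', ih, hσq, pow_succ', MulAut.mul_apply]
  obtain ⟨t, ht⟩ := card_eq_one_add_mul σq (p ^ n) ((1 : P) : P ⧸ Z₀) (pow_pos hp.pos _)
    (by
      intro b
      obtain ⟨x, rfl⟩ := QuotientGroup.mk_surjective b
      rw [hσqk, hC.pow, MulAut.one_apply])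
    (by rw [hσq, map_one])
    (by
      intro b l hl0 hl hb
      obtain ⟨x, rfl⟩ := QuotientGroup.mk_surjective b
      rw [hσqk] at hb
      have h1 : x⁻¹ * (σ ^ l) x ∈ Z₀ := QuotientGroup.eq.mp hb.symm
      have hσl : ∀ y ∈ Z₀, (σ ^ l) y ∈ Z₀ := fun y hy => hfixσ l y hy
      have h2 : x ∈ Z₀ := hC.mem_of_inv_mul_mem hp Nat.prime_two hp2 Z₀ (fun z hz => hz) hl0 hl
        hσl h1
      apply QuotientGroup.eq.mpr
      rw [mul_one]
      exact Z₀.inv_mem h2)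
  have hidx0 : Z₀.index = 1 + t * p ^ n := by rw [Subgroup.index_eq_card, ht]
  haveI : Fact (2 : ℕ).Prime := ⟨Nat.prime_two⟩
  obtain ⟨E, hE⟩ := IsPGroup.iff_card.mp hC.hq
  have hdvd : Z₀.index ∣ 2 ^ E := hE ▸ Subgroup.index_dvd_card Z₀
  obtain ⟨e, -, he⟩ := (Nat.dvd_prime_pow Nat.prime_two).mp hdvd
  have he0 : 0 < e := by
    rcases Nat.eq_zero_or_pos e with h | h
    · exfalso
      rw [h, pow_zero] at he
      exact hZ₀top (Subgroup.index_eq_one.mp he)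
    · exact h
  have hpdvd : p ^ ((n - i) + i) ∣ 2 ^ e - 1 := by
    rw [Nat.sub_add_cancel hi.le, ← he, hidx0, Nat.add_sub_cancel_left]
    exact Dvd.intro_left t rfl
  have hlow := pow_le_of_pow_dvd_two_pow_sub_one hp hp2 (Nat.sub_pos_of_lt hi) hd he0 hpdvd
  -- the contradiction
  have h1 : Z₀.index ≤ ((2 ^ d) ^ 2) ^ (L - 1) := hI'eq ▸ hidxI
  have h2 : (2 ^ d) ^ 2 = 2 ^ (2 * d) := by rw [← pow_mul, mul_comm]
  rw [h2] at h1
  have hd0 : 0 < d := by
    by_contra h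
    have hd' : d = 0 := by omega
    rw [hd', pow_zero] at hd
    have h3 : 3 ≤ p := by
      have := hp.two_le
      omega
    have h4 : p ^ 1 ≤ p ^ (n - i) := Nat.pow_le_pow_right hp.pos (Nat.sub_pos_of_lt hi)
    rw [pow_one] at h4
    omega
  have h3 : 1 < 2 ^ (2 * d) := Nat.one_lt_two_pow (by omega)
  have h4 : (2 ^ (2 * d)) ^ (L - 1) < (2 ^ (2 * d)) ^ L :=
    Nat.pow_lt_pow_right h3 (by omega)
  rw [he] at h1
  have h5 : (2 ^ (2 * d)) ^ L ≤ 2 ^ e := hlow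
  exact absurd (lt_of_lt_of_le h4 h5) (not_lt.mpr h1)


/-- **The representation-theoretic core of the Shult–Gross theorem.** -/
theorem rt_fixed_vector {M : Type*} [AddCommGroup M] [Module k M] [IsAlgClosed k]
    [FiniteDimensional k M] {q : ℕ} {ρ : P →* Module.End k M} {S : Module.End k M}
    (hp : p.Prime) (hp2 : p ≠ 2) (hq : q.Prime) (hpq : p ≠ q)
    (hC : Crit p n q σ) (hS : ∀ g, S * ρ g = ρ (σ g) * S) (hSn : S ^ (p ^ n) = 1)
    (hqk : (q : k) ≠ 0) (hpk : (p : k) ≠ 0)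
    (hnt : ∃ x u, ρ (x⁻¹ * (σ ^ (p ^ (n - 1))) x) u ≠ u) :
    ∃ w, w ≠ 0 ∧ S w = w := by
  by_contra hno
  haveI : Fact q.Prime := ⟨hq⟩
  obtain ⟨x, u, hxu⟩ := hnt
  have hV0 : Valid ρ σ S p n ⊤ 0 := by
    refine ⟨?_, Nat.zero_le n, fun _ _ _ => Submodule.mem_top, fun _ _ => Submodule.mem_top,
      ?_, ⟨x, u, Submodule.mem_top, hxu⟩⟩
    · rw [Submodule.ne_bot_iff]
      refine ⟨u, Submodule.mem_top, ?_⟩
      rintro rfl
      exact hxu (map_zero _)
    · intro v _ hv hv0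
      rw [pow_zero, pow_one] at hv
      exact ⟨v, hv0, hv⟩
  have hPk : (Nat.card P : k) ≠ 0 := by
    obtain ⟨E, hE⟩ := IsPGroup.iff_card.mp hC.hq
    rw [hE, Nat.cast_pow]
    exact pow_ne_zero _ hqk
  obtain ⟨U, i, hV, hsc⟩ := Valid.exists_scalar hp hS hSn hC.pow hPk _ ⊤ 0 rfl hV0
  by_cases hi : i < n
  · obtain ⟨hq2, Z₁, lam, d, h0, htop, hφ, hmul, hlamφ, hmem, hidx, hd⟩ :=
      heis_data hp hp2 hq hpq hC hS hSn hqk hpk hV hsc hi hno
    subst hq2
    exact exc_false hp hp2 hC hi Z₁ lam d h0 htop hφ hmul hlamφ hmem hidx hd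
  · have hin : i = n := le_antisymm hV.le (not_lt.mp hi)
    obtain ⟨v, hvU, hv0⟩ := (Submodule.ne_bot_iff _).mp hV.ne
    apply hno
    apply hV.orb v hvU _ hv0
    rw [hin, hSn, Module.End.one_apply]

end Cfsg.Agent.Lib.Helper23.Gross
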