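import Mathlib
import Cfsg.Agent.Lib.Helper23.GrossExc
import Cfsg.Agent.Lib.Helper10.XRepBridge

/-!
# Helper23 library: the key module-theoretic lemma of Shult–Gross

`kl`: a `q`-group `Q` acted on by a cyclic group `⟨a⟩` of odd prime power order `p ^ n` without
fixed points, both acting on an elementary abelian `r`-group `W` (with `Q` faithful) such that
`a` has no fixed points on `W`.  Then `a ^ (p ^ (n - 1))` centralises `Q`.
-/

set_option autoImplicit false

namespace Cfsg.Agent.Lib.Helper23.Gross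

open Cfsg.Agent.Lib.Helper10.XRep
open scoped commutatorElement

universe u v

section Crit

variable {P : Type u} [Group P] [Finite P] {p n q : ℕ} {σ : MulAut P}

/-- a minimal configuration is critical. -/
theorem crit_of_min (hp : p.Prime) (hq : q.Prime) (hpq : p ≠ q) (hP : IsPGroup q P)
    (hn : 0 < n) (hpow : σ ^ (p ^ n) = 1) (hfpf : ∀ x, σ x = x → x = 1)
    (hmin : ∀ P₁ : Subgroup P, P₁ ≠ ⊤ → (∀ x ∈ P₁, σ x ∈ P₁) →
      ∀ x ∈ P₁, (σ ^ (p ^ (n - 1))) x = x)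
    (hnt : ∃ x, (σ ^ (p ^ (n - 1))) x ≠ x) : Crit p n q σ := by
  haveI : Fact q.Prime := ⟨hq⟩
  set τ : MulAut P := σ ^ (p ^ (n - 1)) with hτ
  have hτp : τ ^ p = 1 := by
    rw [hτ, ← pow_mul, ← pow_succ, Nat.sub_add_cancel hn, hpow]
  have hτσ : ∀ x, τ (σ x) = σ (τ x) := by
    intro x
    rw [hτ, ← MulAut.mul_apply, ← MulAut.mul_apply, ← pow_succ, ← pow_succ']
  -- order considerations
  have hord : ∀ c : P, c ^ p = 1 → c = 1 := by
    intro c hc
    obtain ⟨j, hj⟩ := hP c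
    have h1 : orderOf c ∣ p := orderOf_dvd_of_pow_eq_one hc
    have h2 : orderOf c ∣ q ^ j := orderOf_dvd_of_pow_eq_one hj
    have hcop : Nat.Coprime p (q ^ j) :=
      Nat.Coprime.pow_right j ((Nat.coprime_primes hp hq).mpr hpq)
    exact orderOf_eq_one_iff.mp (Nat.eq_one_of_dvd_coprimes hcop h1 h2)
  -- commutators are fixed
  obtain ⟨x₀, hx₀⟩ := hnt
  haveI : Nontrivial P := ⟨⟨x₀, 1, by rintro rfl; exact hx₀ (map_one τ)⟩⟩
  haveI : Group.IsNilpotent P := hP.isNilpotent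
  have hcomm_ne : commutator P ≠ ⊤ := (Group.IsSolvable.commutator_lt_top_of_nontrivial P).ne
  have hcommσ : ∀ x ∈ commutator P, σ x ∈ commutator P := by
    intro x hx
    have hchar : (commutator P).Characteristic := by
      rw [commutator_def]; infer_instance
    have h1 := (Subgroup.characteristic_iff_map_eq.mp hchar) σ
    rw [← h1]
    exact Subgroup.mem_map_of_mem _ hx
  have hcomm : ∀ g h : P, τ ⁅g, h⁆ = ⁅g, h⁆ := by
    intro g h
    apply hmin _ hcomm_ne hcommσ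
    rw [commutator_def]
    exact Subgroup.commutator_mem_commutator (Subgroup.mem_top g) (Subgroup.mem_top h)
  -- generation
  set K : Subgroup P := Subgroup.closure {y : P | ∃ x, y = x⁻¹ * τ x} with hK
  have hKσ : ∀ y ∈ K, σ y ∈ K := by
    intro y hy
    induction hy using Subgroup.closure_induction with
    | mem y hy =>
      obtain ⟨x, rfl⟩ := hy
      apply Subgroup.subset_closure
      exact ⟨σ x, by rw [map_mul, map_inv, hτσ]⟩
    | one => rw [map_one]; exact Subgroup.one_mem _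
    | mul x y _ _ hx hy => rw [map_mul]; exact Subgroup.mul_mem _ hx hy
    | inv x _ hx => rw [map_inv]; exact Subgroup.inv_mem _ hx
  have hKtop : K = ⊤ := by
    by_contra hne
    have hKfix := hmin K hne hKσ
    apply hx₀
    have hc : x₀⁻¹ * τ x₀ ∈ K := Subgroup.subset_closure ⟨x₀, rfl⟩
    obtain ⟨c, hcdef⟩ : ∃ c, c = x₀⁻¹ * τ x₀ := ⟨_, rfl⟩
    rw [← hcdef] at hc
    have hτc : τ c = c := hKfix c hc
    have hτx : τ x₀ = x₀ * c := by rw [hcdef, mul_inv_cancel_left]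
    have hk : ∀ j : ℕ, (τ ^ j) x₀ = x₀ * c ^ j := by
      intro j
      induction j with
      | zero => simp
      | succ j ih =>
        rw [pow_succ', MulAut.mul_apply, ih, map_mul, map_pow, hτc, hτx, pow_succ', mul_assoc]
    have hcp : c ^ p = 1 := by
      have h1 := hk p
      rw [hτp, MulAut.one_apply] at h1
      exact mul_eq_left.mp h1.symm
    rw [hτx, hord c hcp, mul_one]
  -- fixed points are central
  have hcentral : ∀ z, τ z = z → ∀ g, g * z = z * g := by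
    intro z hz
    have hgen : ∀ x : P, (τ x * x⁻¹) * z = z * (τ x * x⁻¹) := by
      intro x
      have h1 : τ ⁅x⁻¹, z⁆ = ⁅x⁻¹, z⁆ := hcomm x⁻¹ z
      simp only [commutatorElement_def, map_mul, map_inv, hz, inv_inv] at h1
      have h2 : (τ x)⁻¹ * z * τ x = x⁻¹ * z * x := mul_right_cancel h1
      calc (τ x * x⁻¹) * z = τ x * (x⁻¹ * z * x) * x⁻¹ := by group
        _ = τ x * ((τ x)⁻¹ * z * τ x) * x⁻¹ := by rw [h2]
        _ = z * (τ x * x⁻¹) := by group
    have hK' : K ≤ Subgroup.centralizer {z} := by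
      rw [hK, Subgroup.closure_le]
      rintro y ⟨x, rfl⟩
      rw [SetLike.mem_coe, Subgroup.mem_centralizer_iff]
      intro w hw
      rw [Set.mem_singleton_iff] at hw
      subst hw
      have h1 := hgen x⁻¹
      rw [map_inv, inv_inv] at h1
      -- `(τ x)⁻¹ * x` commutes with `w`, hence so does its inverse `x⁻¹ * τ x`
      have h2 : x⁻¹ * τ x = ((τ x)⁻¹ * x)⁻¹ := by group
      rw [h2]
      calc w * ((τ x)⁻¹ * x)⁻¹ = ((τ x)⁻¹ * x)⁻¹ * (((τ x)⁻¹ * x) * w) * ((τ x)⁻¹ * x)⁻¹ := by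
            group
        _ = ((τ x)⁻¹ * x)⁻¹ * (w * ((τ x)⁻¹ * x)) * ((τ x)⁻¹ * x)⁻¹ := by rw [h1]
        _ = ((τ x)⁻¹ * x)⁻¹ * w := by group
    intro g
    have hg : g ∈ Subgroup.centralizer {z} := hK' (hKtop ▸ Subgroup.mem_top g)
    exact (Subgroup.mem_centralizer_iff.mp hg z rfl).symm
  exact ⟨hP, hn, hpow, hfpf, hcentral, hcomm, fun I _ hIσ hItop => hmin I hItop hIσ⟩

end Crit


section KL

variable {L : Type u} [Group L] [Finite L]

/-- conjugation by `y` on a `y`-invariant subgroup. -/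
noncomputable def conjAut (X : Subgroup L) (y : L) (hy : ∀ x ∈ X, y * x * y⁻¹ ∈ X) : MulAut X :=
  MulEquiv.ofBijective
    ({ toFun := fun x => ⟨y * x * y⁻¹, hy x x.2⟩
       map_one' := Subtype.ext (by simp)
       map_mul' := fun a b => Subtype.ext (by simp [mul_assoc]) } : X →* X)
    (Finite.injective_iff_bijective.mp (by
      intro a b hab
      have h1 := congrArg Subtype.val hab
      apply Subtype.ext
      simpa using h1))

theorem conjAut_apply (X : Subgroup L) (y : L) (hy : ∀ x ∈ X, y * x * y⁻¹ ∈ X) (x : X) :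
    ((conjAut X y hy x : X) : L) = y * x * y⁻¹ := rfl

theorem conjAut_pow_apply (X : Subgroup L) (y : L) (hy : ∀ x ∈ X, y * x * y⁻¹ ∈ X) (j : ℕ)
    (x : X) : (((conjAut X y hy) ^ j) x : L) = y ^ j * x * (y ^ j)⁻¹ := by
  induction j generalizing x with
  | zero => simp
  | succ j ih =>
    rw [pow_succ', MulAut.mul_apply, conjAut_apply, ih, pow_succ']
    group

/-- **The key lemma.** -/
theorem kl {W : Type v} [Group W] [Finite W] {r : ℕ} (hr : r.Prime)
    (hWc : ∀ x y : W, x * y = y * x) (hWr : ∀ x : W, x ^ r = 1) (ψ : L →* MulAut W)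
    {p q n : ℕ} (hp : p.Prime) (hp2 : p ≠ 2) (hq : q.Prime) (hpq : p ≠ q) (hqr : q ≠ r)
    (hpr : p ≠ r) (Q : Subgroup L) (hQ : IsPGroup q Q) (hψQ : ∀ g ∈ Q, ψ g = 1 → g = 1)
    (a : L) (haQ : ∀ g ∈ Q, a * g * a⁻¹ ∈ Q) (hn : 0 < n) (han : a ^ (p ^ n) = 1)
    (hfpfQ : ∀ g ∈ Q, a * g * a⁻¹ = g → g = 1) (hfpfW : ∀ w : W, ψ a w = w → w = 1) :
    ∀ g ∈ Q, a ^ (p ^ (n - 1)) * g * (a ^ (p ^ (n - 1)))⁻¹ = g := by
  classical
  by_contra hcon
  push Not at hcon
  set t : L := a ^ (p ^ (n - 1)) with ht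
  let 𝒮 : Set (Subgroup L) := {P | P ≤ Q ∧ (∀ g ∈ P, a * g * a⁻¹ ∈ P) ∧
    ∃ g ∈ P, t * g * t⁻¹ ≠ g}
  have hne : ∃ k : ℕ, ∃ P ∈ 𝒮, Nat.card P = k := ⟨_, Q, ⟨le_refl _, haQ, hcon⟩, rfl⟩
  obtain ⟨P, hPS, hPk⟩ := Nat.find_spec hne
  have hPmin : ∀ P' ∈ 𝒮, Nat.card P ≤ Nat.card P' := by
    intro P' hP'
    rw [hPk]
    exact Nat.find_min' hne ⟨P', hP', rfl⟩
  obtain ⟨hPQ, hPa, x₀, hx₀P, hx₀⟩ := hPS
  set σ : MulAut P := conjAut P a hPa with hσ
  have hσpow : ∀ (j : ℕ) (x : P), (((σ ^ j) x : P) : L) = a ^ j * x * (a ^ j)⁻¹ :=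
    conjAut_pow_apply P a hPa
  have hC : Crit p n q σ := by
    apply crit_of_min hp hq hpq (hQ.to_le hPQ) hn
    · ext x
      rw [hσpow, han, inv_one, mul_one, one_mul, MulAut.one_apply]
    · intro x hx
      apply Subtype.ext
      apply hfpfQ x (hPQ x.2)
      exact congrArg Subtype.val hx
    · intro P₁ hP₁top hP₁σ x hx
      by_contra hmoved
      have hP₁S : P₁.map P.subtype ∈ 𝒮 := by
        refine ⟨(Subgroup.map_subtype_le P₁).trans hPQ, ?_, ?_⟩
        · rintro _ ⟨g, hg, rfl⟩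
          exact ⟨σ g, hP₁σ g hg, rfl⟩
        · refine ⟨x, ⟨x, hx, rfl⟩, ?_⟩
          intro h
          apply hmoved
          apply Subtype.ext
          rw [hσpow]
          exact h
      have h1 := hPmin _ hP₁S
      have h2 : Nat.card (P₁.map P.subtype) = Nat.card P₁ :=
        Nat.card_congr (P₁.equivMapOfInjective P.subtype P.subtype_injective).toEquiv.symm
      rw [h2] at h1
      have h3 : Nat.card P₁ < Nat.card P := by
        have h4 : P₁.index ≠ 1 := fun h => hP₁top (Subgroup.index_eq_one.mp h)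
        have h5 : P₁.index ≠ 0 := Subgroup.index_ne_zero_of_finite
        have h6 := Subgroup.card_mul_index P₁
        have h7 : 0 < Nat.card P₁ := Nat.card_pos
        have h8 : 2 ≤ P₁.index := by omega
        nlinarith
      omega
    · refine ⟨⟨x₀, hx₀P⟩, ?_⟩
      intro h
      apply hx₀
      have := congrArg Subtype.val h
      rw [hσpow] at this
      exact this
  obtain ⟨E, iF, iA, iC, m, ρ, h1, h2, -⟩ := exists_rep hr hWc hWr ψ
  have hqE : (q : E) ≠ 0 := by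
    intro h
    have h3 := (CharP.cast_eq_zero_iff E r q).mp h
    exact hqr ((Nat.prime_dvd_prime_iff_eq hr hq).mp h3).symm
  have hpE : (p : E) ≠ 0 := by
    intro h
    have h3 := (CharP.cast_eq_zero_iff E r p).mp h
    exact hpr ((Nat.prime_dvd_prime_iff_eq hr hp).mp h3).symm
  have hS : ∀ g : P, ρ a * (ρ.comp P.subtype) g = (ρ.comp P.subtype) (σ g) * ρ a := by
    intro g
    show ρ a * ρ (g : L) = ρ ((σ g : P) : L) * ρ a
    rw [← map_mul, ← map_mul, hσ, conjAut_apply, inv_mul_cancel_right]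
  have hSn : ρ a ^ (p ^ n) = 1 := by rw [← map_pow, han, map_one]
  have hnt : ∃ (x : P) (u : Fin m → E),
      (ρ.comp P.subtype) (x⁻¹ * (σ ^ (p ^ (n - 1))) x) u ≠ u := by
    by_contra hcon'
    push Not at hcon'
    apply hx₀
    have h3 : ρ (((⟨x₀, hx₀P⟩ : P)⁻¹ * (σ ^ (p ^ (n - 1))) ⟨x₀, hx₀P⟩ : P) : L) = 1 := by
      apply LinearMap.ext
      intro u
      exact hcon' ⟨x₀, hx₀P⟩ u
    have h4 := h1 _ h3
    have h5 := hψQ _ (hPQ (SetLike.coe_mem _)) h4
    rw [Subgroup.coe_mul, Subgroup.coe_inv, hσpow] at h5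
    have h6 : t * x₀ * t⁻¹ = x₀ * (x₀⁻¹ * (t * x₀ * t⁻¹)) := by group
    rw [h6]
    show x₀ * (x₀⁻¹ * (a ^ p ^ (n - 1) * x₀ * (a ^ p ^ (n - 1))⁻¹)) = x₀
    rw [h5, mul_one]
  obtain ⟨w, hw0, hw⟩ := rt_fixed_vector (k := E) (ρ := ρ.comp P.subtype) (S := ρ a) hp hp2 hq
    hpq hC hS hSn hqE hpE hnt
  obtain ⟨m', hm'1, hm'⟩ := h2 a ⟨w, hw0, hw⟩
  exact hm'1 (hfpfW m' hm')

end KL

end Cfsg.Agent.Lib.Helper23.Gross
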