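import Mathlib
import Cfsg.Agent.Lib.Helper23.GrossKL
import Cfsg.Agent.Lib.Helper1.Fitting
import Cfsg.Agent.Lib.Helper1.Huppert1

/-!
# Helper23 library: the key lemma for the Shult–Gross induction

`X = N ⟨a⟩` with `a` acting on the solvable `p'`-group `N` without fixed points and `a ^ (p ^ n)`
centralising `N`.  If `V ≤ N` is a minimal normal subgroup of `X`, then
`τ = a ^ (p ^ (n - 1))` centralises `N / C_N(V)`.
-/

set_option autoImplicit false

namespace Cfsg.Agent.Lib.Helper23.Gross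

open Cfsg Cfsg.Agent.Lib
open scoped commutatorElement

universe u

/-- an automorphism of `p`-power order of a solvable `p'`-group fixing every `O_q` is trivial. -/
theorem aut_fix_of_fix_pCores {H : Type*} [Group H] [Finite H] [Group.IsSolvable H] {p : ℕ}
    (hp : p.Prime) (hpH : ¬ p ∣ Nat.card H) (θ : MulAut H) {a : ℕ} (hθ : θ ^ (p ^ a) = 1)
    (hfix : ∀ q : ℕ, q.Prime → ∀ x ∈ pCore q H, θ x = x) : ∀ h : H, θ h = h := by
  have hF : ∀ f ∈ fittingSubgroup H, θ f = f := by
    have h1 : fittingSubgroup H ≤ HH.fixedSubgroup θ := by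
      rw [Helper1.fittingSubgroup_eq_iSup_primes]
      exact iSup_le fun q => fun x hx => hfix q q.2 x hx
    exact fun f hf => h1 hf
  intro h
  obtain ⟨c, hc⟩ : ∃ c, c = h⁻¹ * θ h := ⟨_, rfl⟩
  have hcC : c ∈ Subgroup.centralizer (fittingSubgroup H : Set H) := by
    rw [Subgroup.mem_centralizer_iff]
    intro f hf
    have hn := Helper1.fittingSubgroup_normal (G := H)
    have h1 : θ (h * f * h⁻¹) = h * f * h⁻¹ := hF _ (hn.conj_mem f hf h)
    rw [map_mul, map_mul, map_inv, hF f hf] at h1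
    calc f * c = h⁻¹ * (h * f * h⁻¹) * θ h := by rw [hc]; group
      _ = h⁻¹ * (θ h * f * (θ h)⁻¹) * θ h := by rw [h1]
      _ = c * f := by rw [hc]; group
  have hcF : c ∈ fittingSubgroup H := Helper1.centralizer_fittingSubgroup_le hcC
  have hθc : θ c = c := hF c hcF
  have hθh : θ h = h * c := by rw [hc, mul_inv_cancel_left]
  have hk : ∀ j : ℕ, (θ ^ j) h = h * c ^ j := by
    intro j
    induction j with
    | zero => simp
    | succ j ih =>
      rw [pow_succ', MulAut.mul_apply, ih, map_mul, map_pow, hθc, hθh, pow_succ', mul_assoc]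
  have hcp : c ^ (p ^ a) = 1 := by
    have h1 := hk (p ^ a)
    rw [hθ, MulAut.one_apply] at h1
    exact mul_eq_left.mp h1.symm
  have h1 : orderOf c ∣ p ^ a := orderOf_dvd_of_pow_eq_one hcp
  have h2 : orderOf c ∣ Nat.card H := orderOf_dvd_natCard c
  have hcop : Nat.Coprime (p ^ a) (Nat.card H) :=
    Nat.Coprime.pow_left a ((Nat.Prime.coprime_iff_not_dvd hp).mpr hpH)
  have hc1 : c = 1 := orderOf_eq_one_iff.mp (Nat.eq_one_of_dvd_coprimes hcop h1 h2)
  rw [hθh, hc1, mul_one]

variable {X : Type u} [Group X] [Finite X]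

/-- a subgroup stable under conjugation by `N` and `a` is normal in `N ⟨a⟩`. -/
theorem normal_of_gen {N : Subgroup X} {a : X} (hNa : N ⊔ Subgroup.zpowers a = ⊤)
    (B : Subgroup X) (hN : ∀ g ∈ N, ∀ b ∈ B, g * b * g⁻¹ ∈ B) (ha : ∀ b ∈ B, a * b * a⁻¹ ∈ B) :
    B.Normal := by
  have hapow : ∀ (j : ℕ), ∀ b ∈ B, a ^ j * b * (a ^ j)⁻¹ ∈ B := by
    intro j
    induction j with
    | zero => intro b hb; simpa using hb
    | succ j ih =>
      intro b hb
      have h1 : a ^ (j + 1) * b * (a ^ (j + 1))⁻¹ = a * (a ^ j * b * (a ^ j)⁻¹) * a⁻¹ := by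
        rw [pow_succ']; group
      rw [h1]
      exact ha _ (ih b hb)
  have hz : ∀ x ∈ Subgroup.zpowers a, ∀ b ∈ B, x * b * x⁻¹ ∈ B := by
    intro x hx b hb
    obtain ⟨j, rfl⟩ := Subgroup.mem_zpowers_iff.mp hx
    have h1 : a ^ j = a ^ (j % (orderOf a : ℤ)).toNat := by
      have h2 : 0 ≤ j % (orderOf a : ℤ) :=
        Int.emod_nonneg _ (by exact_mod_cast (orderOf_pos a).ne')
      rw [← zpow_natCast, Int.toNat_of_nonneg h2, zpow_mod_orderOf]
    rw [h1]
    exact hapow _ b hb
  have h1 : N ⊔ Subgroup.zpowers a ≤ Subgroup.normalizer (B : Set X) :=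
    sup_le (Helper1.le_normalizer_of_forall_conj_mem hN)
      (Helper1.le_normalizer_of_forall_conj_mem hz)
  rw [hNa] at h1
  exact Subgroup.normalizer_eq_top_iff.mp (eq_top_iff.mpr h1)

/-- a minimal normal abelian subgroup has prime exponent. -/
theorem exists_prime_exponent {V : Subgroup X} [hVn : V.Normal] (hV1 : V ≠ ⊥)
    (hVc : ∀ x ∈ V, ∀ y ∈ V, x * y = y * x)
    (hVmin : ∀ B : Subgroup X, B.Normal → B ≤ V → B = ⊥ ∨ B = V) :
    ∃ r : ℕ, r.Prime ∧ r ∣ Nat.card V ∧ ∀ x ∈ V, x ^ r = 1 := by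
  have hnt : Nontrivial V := (Subgroup.nontrivial_iff_ne_bot V).mpr hV1
  have h1 : Nat.card V ≠ 1 := by
    have := Finite.one_lt_card (α := V)
    omega
  obtain ⟨r, hr, hdvd⟩ := Nat.exists_prime_and_dvd h1
  haveI : Fact r.Prime := ⟨hr⟩
  obtain ⟨x, hx⟩ := exists_prime_orderOf_dvd_card' (G := V) r hdvd
  have hTn : (Helper1.ItoFactor.tors V hVc r).Normal := Helper1.ItoFactor.tors_normal
  have hxT : (x : X) ∈ Helper1.ItoFactor.tors V hVc r := by
    refine ⟨x.2, ?_⟩
    have := pow_orderOf_eq_one x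
    rw [hx] at this
    exact congrArg Subtype.val this
  refine ⟨r, hr, hdvd, ?_⟩
  rcases hVmin _ hTn Helper1.ItoFactor.tors_le with h | h
  · exfalso
    rw [h, Subgroup.mem_bot] at hxT
    have : x = 1 := Subtype.ext hxT
    rw [this, orderOf_one] at hx
    exact hr.one_lt.ne hx
  · intro y hy
    rw [← h] at hy
    exact hy.2


/-- the image of a core of a subgroup is stable under conjugation by elements normalising the
subgroup. -/
theorem pCore_map_conj_mem {L : Type u} [Group L] [Finite L] (H : Subgroup L) (q : ℕ) (y : L)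
    (hy : ∀ g ∈ H, y * g * y⁻¹ ∈ H) :
    ∀ g ∈ (pCore q H).map H.subtype, y * g * y⁻¹ ∈ (pCore q H).map H.subtype := by
  rintro _ ⟨x, hx, rfl⟩
  have hchar : (pCore q H).Characteristic := Helper1.pCore_characteristic q
  have h1 := (Subgroup.characteristic_iff_map_eq.mp hchar) (conjAut H y hy)
  refine ⟨conjAut H y hy x, ?_, rfl⟩
  rw [← h1]
  exact Subgroup.mem_map_of_mem _ hx

/-- **The key lemma.** -/
theorem key_lemma {N V : Subgroup X} [hNn : N.Normal] [hVn : V.Normal] {a : X} {p n : ℕ}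
    (hp : p.Prime) (hp2 : p ≠ 2) (hn : 0 < n)
    (hNa : N ⊔ Subgroup.zpowers a = ⊤) (hsolv : Group.IsSolvable N)
    (hcent : ∀ g ∈ N, a ^ (p ^ n) * g = g * a ^ (p ^ n)) (hpN : ¬ p ∣ Nat.card N)
    (hfix : ∀ g ∈ N, a * g * a⁻¹ = g → g = 1)
    (hVN : V ≤ N) (hV1 : V ≠ ⊥) (hVc : ∀ x ∈ V, ∀ y ∈ V, x * y = y * x)
    (hVmin : ∀ B : Subgroup X, B.Normal → B ≤ V → B = ⊥ ∨ B = V) :
    ∀ g ∈ N, a ^ (p ^ (n - 1)) * g * (a ^ (p ^ (n - 1)))⁻¹ * g⁻¹ ∈
      Subgroup.centralizer (V : Set X) := by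
  classical
  obtain ⟨r, hr, hrdvd, hVr⟩ := exists_prime_exponent hV1 hVc hVmin
  haveI : Fact r.Prime := ⟨hr⟩
  have hpr : p ≠ r := by
    rintro rfl
    exact hpN (hrdvd.trans (Subgroup.card_dvd_of_le hVN))
  -- the action on `V`
  obtain ⟨ψ, hψ⟩ : ∃ ψ : X →* MulAut V, ∀ (x : X) (v : V), ((ψ x v : V) : X) = x * v * x⁻¹ :=
    ⟨MulAut.conjNormal, fun x v => MulAut.conjNormal_apply x v⟩
  have hψ1 : ∀ x, ψ x = 1 ↔ x ∈ Subgroup.centralizer (V : Set X) := by
    intro x
    rw [Subgroup.mem_centralizer_iff]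
    constructor
    · intro h v hv
      have h1 := congrArg Subtype.val (DFunLike.congr_fun h ⟨v, hv⟩)
      rw [hψ, MulAut.one_apply] at h1
      calc v * x = (x * v * x⁻¹) * x := by rw [h1]
        _ = x * v := by group
    · intro h
      ext v
      rw [hψ, MulAut.one_apply, ← h v v.2]
      group
  -- `a ^ (p ^ n)` is central
  have hzc : ∀ x : X, a ^ (p ^ n) * x = x * a ^ (p ^ n) := by
    have h1 : N ⊔ Subgroup.zpowers a ≤ Subgroup.centralizer {a ^ (p ^ n)} := by
      apply sup_le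
      · intro g hg
        rw [Subgroup.mem_centralizer_iff]
        intro y hy
        rw [Set.mem_singleton_iff] at hy
        subst hy
        exact hcent g hg
      · rw [Subgroup.zpowers_le]
        rw [Subgroup.mem_centralizer_iff]
        intro y hy
        rw [Set.mem_singleton_iff] at hy
        subst hy
        rw [← pow_succ, ← pow_succ']
    intro x
    have hx : x ∈ Subgroup.centralizer {a ^ (p ^ n)} := h1 (hNa ▸ Subgroup.mem_top x)
    exact Subgroup.mem_centralizer_iff.mp hx _ rfl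
  have hψz : ψ (a ^ (p ^ n)) = 1 := by
    rw [hψ1, Subgroup.mem_centralizer_iff]
    intro v _
    exact (hzc v).symm
  -- the image of `N`
  set H : Subgroup (MulAut V) := N.map ψ with hH
  have hXH : ∀ x : X, ∀ g ∈ H, ψ x * g * (ψ x)⁻¹ ∈ H := by
    rintro x _ ⟨g, hg, rfl⟩
    exact ⟨x * g * x⁻¹, hNn.conj_mem g hg x, by rw [map_mul, map_mul, map_inv]⟩
  have hân : ψ a ^ (p ^ n) = 1 := by rw [← map_pow]; exact hψz
  have hconjpow : (MulAut.conj a) ^ (p ^ n) = 1 := by
    rw [← map_pow]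
    ext x
    rw [MulAut.conj_apply, MulAut.one_apply, hzc x, mul_inv_cancel_right]
  have hfpfH : ∀ g ∈ H, ψ a * g * (ψ a)⁻¹ = g → g = 1 := by
    rintro _ ⟨g, hg, rfl⟩ h
    rw [← map_inv, ← map_mul, ← map_mul] at h
    have h1 : ψ (g⁻¹ * (a * g * a⁻¹)) = 1 := by rw [map_mul, h, map_inv, inv_mul_cancel]
    rw [hψ1] at h1
    have hC : ∀ x ∈ N ⊓ Subgroup.centralizer (V : Set X),
        (MulAut.conj a) x ∈ N ⊓ Subgroup.centralizer (V : Set X) := by
      intro x hx
      rw [MulAut.conj_apply]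
      haveI : (N ⊓ Subgroup.centralizer (V : Set X)).Normal := Subgroup.normal_inf_normal _ _
      exact Subgroup.Normal.conj_mem inferInstance x hx a
    have hpC : ¬ p ∣ Nat.card (N ⊓ Subgroup.centralizer (V : Set X) : Subgroup X) := fun h =>
      hpN (h.trans (Subgroup.card_dvd_of_le inf_le_left))
    have hx : g⁻¹ * (MulAut.conj a) g ∈ N ⊓ Subgroup.centralizer (V : Set X) := by
      rw [MulAut.conj_apply]
      exact ⟨N.mul_mem (N.inv_mem hg) (hNn.conj_mem g hg a), h1⟩
    obtain ⟨c, hc, hfixc⟩ := exists_fixed_mul hp (MulAut.conj a) hconjpow _ hC hpC hx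
    rw [MulAut.conj_apply] at hfixc
    have h2 : g * c = 1 := hfix _ (N.mul_mem hg hc.1) hfixc
    have h3 : g = c⁻¹ := eq_inv_of_mul_eq_one_left h2
    rw [hψ1, h3]
    exact Subgroup.inv_mem _ hc.2
  have hfpfW : ∀ w : V, (MonoidHom.id (MulAut V)) (ψ a) w = w → w = 1 := by
    intro w hw
    have h1 : a * (w : X) * a⁻¹ = w := by
      rw [← hψ]
      exact congrArg Subtype.val hw
    exact Subtype.ext (hfix w (hVN w.2) h1)
  have hWc : ∀ x y : V, x * y = y * x := fun x y => Subtype.ext (hVc x x.2 y y.2)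
  have hWr : ∀ x : V, x ^ r = 1 := fun x => Subtype.ext (by
    rw [Subgroup.coe_pow, Subgroup.coe_one]
    exact hVr x x.2)
  -- the automorphism induced by `τ`
  have htH : ∀ g ∈ H, ψ a ^ (p ^ (n - 1)) * g * (ψ a ^ (p ^ (n - 1)))⁻¹ ∈ H := by
    intro g hg
    rw [← map_pow]
    exact hXH _ g hg
  set θ : MulAut H := conjAut H (ψ a ^ (p ^ (n - 1))) htH with hθ
  have hθp : θ ^ (p ^ 1) = 1 := by
    apply MulEquiv.ext
    intro x
    apply Subtype.ext
    rw [hθ, conjAut_pow_apply, pow_one, ← pow_mul, ← pow_succ, Nat.sub_add_cancel hn, hân,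
      inv_one, mul_one, one_mul]
    rfl
  haveI : Group.IsSolvable H :=
    haveI := hsolv
    Group.isSolvable_of_surjective (ψ.subgroupMap_surjective N)
  have hpH : ¬ p ∣ Nat.card H := fun h => hpN (h.trans (Subgroup.card_map_dvd N ψ))
  have hfixq : ∀ q : ℕ, q.Prime → ∀ x ∈ pCore q H, θ x = x := by
    intro q hq x hx
    haveI : Fact q.Prime := ⟨hq⟩
    suffices hs : ψ a ^ (p ^ (n - 1)) * (x : MulAut V) * (ψ a ^ (p ^ (n - 1)))⁻¹ = x from
      Subtype.ext (by rw [hθ, conjAut_apply]; exact hs)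
    set Q : Subgroup (MulAut V) := (pCore q H).map H.subtype with hQ
    have hxQ : (x : MulAut V) ∈ Q := ⟨x, hx, rfl⟩
    have hQq : IsPGroup q Q := (Helper1.pCore_isPGroup q).map _
    have hQH : Q ≤ H := by
      rintro _ ⟨y, _, rfl⟩
      exact y.2
    have hXQ : ∀ y : X, ∀ g ∈ Q, ψ y * g * (ψ y)⁻¹ ∈ Q := fun y =>
      pCore_map_conj_mem H q (ψ y) (hXH y)
    by_cases hqp : q = p
    · -- trivial core
      have h1 : (x : MulAut V) = 1 := by
        obtain ⟨j, hj⟩ := (Helper1.pCore_isPGroup (G := H) q) ⟨x, hx⟩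
        have h2 : x ^ q ^ j = 1 := by
          have := congrArg Subtype.val hj
          simpa using this
        have h3 : orderOf x ∣ q ^ j := orderOf_dvd_of_pow_eq_one h2
        have h4 : orderOf x ∣ Nat.card H := orderOf_dvd_natCard x
        have hcop : Nat.Coprime (q ^ j) (Nat.card H) := by
          rw [hqp]
          exact Nat.Coprime.pow_left j ((Nat.Prime.coprime_iff_not_dvd hp).mpr hpH)
        have h5 : x = 1 := orderOf_eq_one_iff.mp (Nat.eq_one_of_dvd_coprimes hcop h3 h4)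
        rw [h5]
        rfl
      rw [h1, mul_one, mul_inv_cancel]
    by_cases hqr : q = r
    · -- `O_r` acts trivially on `V`
      subst hqr
      let F' : Subgroup V :=
        { carrier := {w | ∀ g ∈ Q, g w = w}
          mul_mem' := by
            intro u w hu hw g hg
            rw [map_mul, hu g hg, hw g hg]
          one_mem' := fun g _ => map_one g
          inv_mem' := by
            intro u hu g hg
            rw [map_inv, hu g hg] }
      have hF'n : (F'.map V.subtype).Normal := by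
        refine ⟨?_⟩
        rintro _ ⟨w, hw, rfl⟩ y
        refine ⟨ψ y w, ?_, ?_⟩
        · intro g hg
          have h1 := hXQ y⁻¹ g hg
          rw [map_inv, inv_inv] at h1
          have h2 := hw _ h1
          rw [MulAut.mul_apply, MulAut.mul_apply] at h2
          have h3 := congrArg (ψ y) h2
          rw [MulAut.apply_inv_self] at h3
          exact h3
        · exact hψ y w
      have hF'le : F'.map V.subtype ≤ V := Subgroup.map_subtype_le F'
      have hF'ne : F'.map V.subtype ≠ ⊥ := by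
        have hVp : IsPGroup q V := by
          intro w
          exact ⟨1, by rw [pow_one]; exact hWr w⟩
        have h1 : (1 : V) ∈ MulAction.fixedPoints Q V := by
          intro g
          exact map_one (g : MulAut V)
        obtain ⟨b, hb, hb1⟩ := hQq.exists_fixed_point_of_prime_dvd_card_of_fixed_point V hrdvd h1
        intro hbot
        apply hb1
        have h2 : (b : X) ∈ F'.map V.subtype := ⟨b, fun g hg => hb ⟨g, hg⟩, rfl⟩
        rw [hbot, Subgroup.mem_bot] at h2
        exact (Subtype.ext h2).symm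
      have hF'eq : F'.map V.subtype = V := by
        rcases hVmin _ hF'n hF'le with h | h
        · exact absurd h hF'ne
        · exact h
      have h1 : (x : MulAut V) = 1 := by
        ext w
        have h2 : (w : X) ∈ F'.map V.subtype := by rw [hF'eq]; exact w.2
        obtain ⟨w', hw', hww'⟩ := h2
        have h3 : w' = w := Subtype.ext hww'
        rw [MulAut.one_apply, ← h3, hw' _ hxQ]
      rw [h1, mul_one, mul_inv_cancel]
    · exact kl hr hWc hWr (MonoidHom.id (MulAut V)) hp hp2 hq (Ne.symm hqp) hqr hpr Q hQq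
        (fun g _ h => h) (ψ a) (hXQ a) hn hân (fun g hg => hfpfH g (hQH hg)) hfpfW x hxQ
  have hθ1 := aut_fix_of_fix_pCores hp hpH θ hθp hfixq
  intro g hg
  rw [← hψ1]
  have h1 := congrArg Subtype.val (hθ1 ⟨ψ g, ⟨g, hg, rfl⟩⟩)
  rw [hθ, conjAut_apply] at h1
  rw [map_mul, map_mul, map_mul, map_inv, map_inv, map_pow]
  have h2 : ψ a ^ p ^ (n - 1) * ψ g * (ψ a ^ p ^ (n - 1))⁻¹ = ψ g := h1
  rw [h2, mul_inv_cancel]

end Cfsg.Agent.Lib.Helper23.Gross
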