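import Mathlib
import Cfsg.Agent.Lib.Helper23.GrossKey

/-!
# Helper23 library: the Shult–Gross theorem, the induction

`X = N ⟨a⟩`, `N` a normal solvable `p'`-subgroup, `p` odd, `a ^ (p ^ n)` centralising `N` and `a`
acting without fixed points on `N`.  Then `N` has Fitting height at most `n`, expressed through a
nested lower central series `nest ks N = ⊥` with `ks` of length `n`.
-/

set_option autoImplicit false

namespace Cfsg.Agent.Lib.Helper23.Gross

open Cfsg Cfsg.Agent.Lib
open scoped commutatorElement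

universe u

section Nest

variable {X : Type*} [Group X]

/-- nested lower central series; the head of the list is applied last. -/
def nest : List ℕ → Subgroup X → Subgroup X
  | [], H => H
  | k :: ks, H => (nest ks H).lowerCentralSeries k

@[simp] theorem nest_nil (H : Subgroup X) : nest [] H = H := rfl

@[simp] theorem nest_cons (k : ℕ) (ks : List ℕ) (H : Subgroup X) :
    nest (k :: ks) H = (nest ks H).lowerCentralSeries k := rfl

theorem nest_map {Y : Type*} [Group Y] (f : X →* Y) (ks : List ℕ) (H : Subgroup X) :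
    (nest ks H).map f = nest ks (H.map f) := by
  induction ks with
  | nil => rfl
  | cons k ks ih => rw [nest_cons, nest_cons, Subgroup.map_lowerCentralSeries, ih]

theorem nest_le (ks : List ℕ) (H : Subgroup X) : nest ks H ≤ H := by
  induction ks with
  | nil => exact le_rfl
  | cons k ks ih => exact (Subgroup.lowerCentralSeries_le_self _ k).trans ih

theorem nest_mono (ks : List ℕ) {H H' : Subgroup X} (h : H ≤ H') : nest ks H ≤ nest ks H' := by
  induction ks with
  | nil => exact h
  | cons k ks ih => exact Subgroup.lowerCentralSeries_mono k ih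

theorem nest_bot (ks : List ℕ) : nest ks (⊥ : Subgroup X) = ⊥ :=
  le_bot_iff.mp (nest_le ks ⊥)

theorem nest_normal (ks : List ℕ) (H : Subgroup X) [hH : H.Normal] : (nest ks H).Normal := by
  induction ks with
  | nil => exact hH
  | cons k ks ih =>
    rw [nest_cons]
    infer_instance

theorem nest_combine : ∀ (ks ls : List ℕ), ks.length = ls.length →
    ∃ ms : List ℕ, ms.length = ks.length ∧ ∀ H : Subgroup X, nest ms H ≤ nest ks H ⊓ nest ls H
  | [], [], _ => ⟨[], rfl, fun H => le_inf le_rfl le_rfl⟩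
  | [], _ :: _, h => by simp at h
  | _ :: _, [], h => by simp at h
  | k :: ks, l :: ls, h => by
    obtain ⟨ms, hms, hle⟩ := nest_combine ks ls (by simpa using h)
    refine ⟨max k l :: ms, by simp [hms], fun H => ?_⟩
    rw [nest_cons, nest_cons, nest_cons]
    apply le_inf
    · exact ((nest ms H).lowerCentralSeries_antitone (le_max_left k l)).trans
        (Subgroup.lowerCentralSeries_mono k ((hle H).trans inf_le_left))
    · exact ((nest ms H).lowerCentralSeries_antitone (le_max_right k l)).trans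
        (Subgroup.lowerCentralSeries_mono l ((hle H).trans inf_le_right))

end Nest


section Main

variable {X : Type u} [Group X] [Finite X]

/-- `a ^ (p ^ n)` is central in `N ⟨a⟩` when it centralises `N`. -/
theorem central_of_cent {N : Subgroup X} {a : X} {m : ℕ}
    (hNa : N ⊔ Subgroup.zpowers a = ⊤) (hcent : ∀ g ∈ N, a ^ m * g = g * a ^ m) :
    ∀ x : X, a ^ m * x = x * a ^ m := by
  have h1 : N ⊔ Subgroup.zpowers a ≤ Subgroup.centralizer {a ^ m} := by
    apply sup_le
    · intro g hg
      rw [Subgroup.mem_centralizer_iff]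
      intro y hy
      rw [Set.mem_singleton_iff] at hy
      subst hy
      exact hcent g hg
    · rw [Subgroup.zpowers_le, Subgroup.mem_centralizer_iff]
      intro y hy
      rw [Set.mem_singleton_iff] at hy
      subst hy
      rw [← pow_succ, ← pow_succ']
  intro x
  have hx : x ∈ Subgroup.centralizer {a ^ m} := h1 (hNa ▸ Subgroup.mem_top x)
  exact Subgroup.mem_centralizer_iff.mp hx _ rfl

/-- fixed-point-freeness passes to quotients by normal subgroups inside `N`. -/
theorem fpf_quotient {N : Subgroup X} [hNn : N.Normal] {a : X} {p n : ℕ} (hp : p.Prime)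
    (hNa : N ⊔ Subgroup.zpowers a = ⊤) (hcent : ∀ g ∈ N, a ^ (p ^ n) * g = g * a ^ (p ^ n))
    (hpN : ¬ p ∣ Nat.card N) (hfix : ∀ g ∈ N, a * g * a⁻¹ = g → g = 1)
    (K : Subgroup X) [hKn : K.Normal] (hKN : K ≤ N) :
    ∀ g ∈ N.map (QuotientGroup.mk' K), (QuotientGroup.mk' K a) * g * (QuotientGroup.mk' K a)⁻¹ = g →
      g = 1 := by
  rintro _ ⟨g, hg, rfl⟩ h
  have hzc := central_of_cent hNa hcent
  have hconjpow : (MulAut.conj a) ^ (p ^ n) = 1 := by
    rw [← map_pow]
    ext x
    rw [MulAut.conj_apply, MulAut.one_apply, hzc x, mul_inv_cancel_right]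
  have hK : ∀ x ∈ K, (MulAut.conj a) x ∈ K := by
    intro x hx
    rw [MulAut.conj_apply]
    exact hKn.conj_mem x hx a
  have hpK : ¬ p ∣ Nat.card K := fun h' => hpN (h'.trans (Subgroup.card_dvd_of_le hKN))
  have hx : g⁻¹ * (MulAut.conj a) g ∈ K := by
    rw [MulAut.conj_apply, ← QuotientGroup.ker_mk' K, MonoidHom.mem_ker]
    rw [← map_inv, ← map_mul, ← map_mul] at h
    rw [map_mul, h, map_inv, inv_mul_cancel]
  obtain ⟨c, hc, hfixc⟩ := exists_fixed_mul hp (MulAut.conj a) hconjpow K hK hpK hx
  rw [MulAut.conj_apply] at hfixc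
  have h2 : g * c = 1 := hfix _ (N.mul_mem hg (hKN hc)) hfixc
  have h3 : (QuotientGroup.mk' K) (g * c) = 1 := by rw [h2, map_one]
  rw [map_mul] at h3
  have h4 : (QuotientGroup.mk' K) c = 1 := by
    rw [← MonoidHom.mem_ker, QuotientGroup.ker_mk']
    exact hc
  rw [h4, mul_one] at h3
  exact h3

theorem card_quotient_lt {K : Subgroup X} [K.Normal] (hK : K ≠ ⊥) :
    Nat.card (X ⧸ K) < Nat.card X := by
  rw [← Subgroup.index_eq_card, ← Subgroup.card_mul_index K]
  have h1 : 1 < Nat.card K := K.one_lt_card_iff_ne_bot.mpr hK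
  have h2 : 0 < K.index := Nat.pos_of_ne_zero Subgroup.index_ne_zero_of_finite
  nlinarith

end Main

theorem commutator_lt_of_isSolvable' {X : Type*} [Group X] {V : Subgroup X}
    (hV : Group.IsSolvable V) (hV1 : V ≠ ⊥) : ⁅V, V⁆ < V := by
  haveI := hV
  haveI : Nontrivial V := (Subgroup.nontrivial_iff_ne_bot V).mpr hV1
  have h := Group.IsSolvable.commutator_lt_top_of_nontrivial ↥V
  conv_rhs => rw [← V.range_subtype, MonoidHom.range_eq_map]
  conv_lhs => rw [← V.range_subtype, MonoidHom.range_eq_map]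
  rw [← Subgroup.map_commutator, Subgroup.map_subtype_lt_map_subtype]
  exact h

/-- **The Shult–Gross induction.** -/
theorem gross_aux (p : ℕ) (hp : p.Prime) (hp2 : p ≠ 2) :
    ∀ (c : ℕ) (X : Type u) [Group X] [Finite X] (N : Subgroup X) [N.Normal] (a : X) (n : ℕ),
    Nat.card X = c → N ⊔ Subgroup.zpowers a = ⊤ → Group.IsSolvable N →
    (∀ g ∈ N, a ^ (p ^ n) * g = g * a ^ (p ^ n)) → ¬ p ∣ Nat.card N →
    (∀ g ∈ N, a * g * a⁻¹ = g → g = 1) →
    ∃ ks : List ℕ, ks.length = n ∧ nest ks N = ⊥ := by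
  intro c
  induction c using Nat.strong_induction_on with
  | _ c ih =>
  intro X _ _ N hNn a n hcard hNa hsolv hcent hpN hfix
  by_cases hN1 : N = ⊥
  · exact ⟨List.replicate n 0, List.length_replicate, by rw [hN1, nest_bot]⟩
  have hn : 0 < n := by
    by_contra h0
    have hn0 : n = 0 := by omega
    apply hN1
    rw [eq_bot_iff]
    intro g hg
    rw [Subgroup.mem_bot]
    apply hfix g hg
    have := hcent g hg
    rw [hn0, pow_zero, pow_one] at this
    rw [this, mul_inv_cancel_right]
  obtain ⟨V, hVn, hV1, hVN, hVmin⟩ := Helper1.Huppert.exists_minimal_normal_le N hN1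
  have hVsolv : Group.IsSolvable V :=
    haveI := hsolv
    Group.isSolvable_of_isSolvable_injective (f := Subgroup.inclusion hVN)
      (Subgroup.inclusion_injective hVN)
  have hVc : ∀ x ∈ V, ∀ y ∈ V, x * y = y * x := by
    have hlt := commutator_lt_of_isSolvable' hVsolv hV1
    have h0 : ⁅V, V⁆ = ⊥ := by
      rcases hVmin ⁅V, V⁆ inferInstance hlt.le with h | h
      · exact h
      · exact absurd h hlt.ne
    rw [Subgroup.commutator_eq_bot_iff_le_centralizer] at h0
    intro x hx y hy
    exact (Subgroup.mem_centralizer_iff.mp (h0 hx) y hy).symm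
  -- the quotient by `V`
  have hcardV : Nat.card (X ⧸ V) < c := hcard ▸ card_quotient_lt hV1
  have hπs : Function.Surjective (QuotientGroup.mk' V) := QuotientGroup.mk'_surjective V
  haveI : (N.map (QuotientGroup.mk' V)).Normal := Subgroup.Normal.map hNn _ hπs
  obtain ⟨ks, hks, hksbot⟩ := ih (Nat.card (X ⧸ V)) hcardV (X ⧸ V) (N.map (QuotientGroup.mk' V))
    (QuotientGroup.mk' V a) n rfl
    (by rw [← MonoidHom.map_zpowers, ← Subgroup.map_sup, hNa,
      Subgroup.map_top_of_surjective _ hπs])
    (haveI := hsolv; Group.isSolvable_of_surjective ((QuotientGroup.mk' V).subgroupMap_surjective N))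
    (by
      rintro _ ⟨g, hg, rfl⟩
      rw [← map_pow, ← map_mul, ← map_mul, hcent g hg])
    (fun h => hpN (h.trans (Subgroup.card_map_dvd N _)))
    (fpf_quotient hp hNa hcent hpN hfix V hVN)
  have h1 : nest ks N ≤ V := by
    rw [← nest_map, Subgroup.map_eq_bot_iff, QuotientGroup.ker_mk'] at hksbot
    exact hksbot
  obtain ⟨k, ks₀, rfl⟩ : ∃ k ks₀, ks = k :: ks₀ := by
    cases ks with
    | nil => simp at hks; omega
    | cons k ks₀ => exact ⟨k, ks₀, rfl⟩
  have hks₀ : ks₀.length = n - 1 := by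
    simp at hks
    omega
  -- the key lemma and the quotient by `C_N(V)`
  have hkey := key_lemma hp hp2 hn hNa hsolv hcent hpN hfix hVN hV1 hVc hVmin
  have hVcent : V ≤ Subgroup.centralizer (V : Set X) := by
    intro x hx
    rw [Subgroup.mem_centralizer_iff]
    intro y hy
    exact hVc y hy x hx
  obtain ⟨C, hCdef⟩ : ∃ C : Subgroup X, C = N ⊓ Subgroup.centralizer (V : Set X) := ⟨_, rfl⟩
  haveI hCn : C.Normal := by rw [hCdef]; exact Subgroup.normal_inf_normal _ _
  have hCN : C ≤ N := by rw [hCdef]; exact inf_le_left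
  have hVC : V ≤ C := by rw [hCdef]; exact le_inf hVN hVcent
  have hC1 : C ≠ ⊥ := fun h => hV1 (le_bot_iff.mp (h ▸ hVC))
  have hcardC : Nat.card (X ⧸ C) < c := hcard ▸ card_quotient_lt hC1
  have hπs' : Function.Surjective (QuotientGroup.mk' C) := QuotientGroup.mk'_surjective C
  haveI : (N.map (QuotientGroup.mk' C)).Normal := Subgroup.Normal.map hNn _ hπs'
  have hfixC := fpf_quotient hp hNa hcent hpN hfix C hCN
  obtain ⟨ls, hls, hlsbot⟩ := ih (Nat.card (X ⧸ C)) hcardC (X ⧸ C) (N.map (QuotientGroup.mk' C))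
    (QuotientGroup.mk' C a) (n - 1) rfl
    (by rw [← MonoidHom.map_zpowers, ← Subgroup.map_sup, hNa,
      Subgroup.map_top_of_surjective _ hπs'])
    (haveI := hsolv; Group.isSolvable_of_surjective ((QuotientGroup.mk' C).subgroupMap_surjective N))
    (by
      rintro _ ⟨g, hg, rfl⟩
      rw [← map_pow, ← map_mul, ← map_mul]
      have h2 : a ^ (p ^ (n - 1)) * g * (a ^ (p ^ (n - 1)))⁻¹ * g⁻¹ ∈ C := by
        rw [hCdef]
        refine ⟨?_, hkey g hg⟩
        exact N.mul_mem (hNn.conj_mem g hg _) (N.inv_mem hg)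
      have h3 : a ^ (p ^ (n - 1)) * g =
          (a ^ (p ^ (n - 1)) * g * (a ^ (p ^ (n - 1)))⁻¹ * g⁻¹) * (g * a ^ (p ^ (n - 1))) := by
        group
      rw [h3, map_mul]
      have h4 : (QuotientGroup.mk' C) (a ^ (p ^ (n - 1)) * g * (a ^ (p ^ (n - 1)))⁻¹ * g⁻¹) = 1 := by
        rw [← MonoidHom.mem_ker, QuotientGroup.ker_mk']
        exact h2
      rw [h4, one_mul])
    (fun h => hpN (h.trans (Subgroup.card_map_dvd N _)))
    hfixC
  have h2 : nest ls N ≤ C := by
    rw [← nest_map, Subgroup.map_eq_bot_iff, QuotientGroup.ker_mk'] at hlsbot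
    exact hlsbot
  obtain ⟨ms, hms, hle⟩ := nest_combine (X := X) ks₀ ls (by rw [hks₀, hls])
  refine ⟨(k + 1) :: ms, by simp [hms, hks₀]; omega, ?_⟩
  rw [nest_cons, Subgroup.lowerCentralSeries_succ, eq_bot_iff]
  have h3 : ⁅V, Subgroup.centralizer (V : Set X)⁆ = ⊥ := by
    rw [Subgroup.commutator_eq_bot_iff_le_centralizer, Subgroup.le_centralizer_iff]
  rw [← h3]
  apply Subgroup.commutator_mono
  · have h4 : (nest ms N).lowerCentralSeries k ≤ nest (k :: ks₀) N := by
      rw [nest_cons]
      exact Subgroup.lowerCentralSeries_mono k ((hle N).trans inf_le_left)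
    exact h4.trans h1
  · have h5 : C ≤ Subgroup.centralizer (V : Set X) := by rw [hCdef]; exact inf_le_right
    exact ((hle N).trans inf_le_right).trans (h2.trans h5)

end Cfsg.Agent.Lib.Helper23.Gross
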