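import Mathlib
import Cfsg.Agent.Lib.Helper10.XRepDiag

/-!
# A nilpotent operator whose commutant acts by scalars on its kernel is a single Jordan block

Let `T` be a nilpotent endomorphism of a finite-dimensional space `M`.  If every endomorphism
commuting with `T` acts on `ker T` as a scalar then `dim ker T ≤ 1`; in that case `M` is cyclic,
`T ^ (dim M - 1) ≠ 0` and the commutant of `T` has dimension `dim M`.
-/

set_option autoImplicit false

namespace Cfsg.Agent.Lib.Helper23.HB

open Module
open Cfsg.Agent.Lib.Helper10.XRep (commSub mem_commSub)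

variable {K : Type*} [Field K] {M : Type*} [AddCommGroup M] [Module K M]

/-- the map `u ↦ ∑_{i<e} φ (T^(e-1-i) u) • T^i w`. -/
noncomputable def jmap (T : Module.End K M) (e : ℕ) (φ : Module.Dual K M) (w : M) : Module.End K M :=
  ∑ i ∈ Finset.range e, (LinearMap.toSpanSingleton K M ((T ^ i) w)).comp (φ.comp (T ^ (e - 1 - i)))

theorem jmap_apply (T : Module.End K M) (e : ℕ) (φ : Module.Dual K M) (w u : M) :
    jmap T e φ w u = ∑ i ∈ Finset.range e, φ ((T ^ (e - 1 - i)) u) • (T ^ i) w := by
  simp [jmap, LinearMap.sum_apply, LinearMap.toSpanSingleton_apply]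

theorem jmap_comm (T : Module.End K M) (e : ℕ) (hT : T ^ e = 0) (φ : Module.Dual K M) (w : M) :
    T * jmap T e φ w = jmap T e φ w * T := by
  apply LinearMap.ext
  intro u
  rw [Module.End.mul_apply, Module.End.mul_apply, jmap_apply, jmap_apply, map_sum]
  rcases Nat.eq_zero_or_pos e with he | he
  · subst he
    simp
  obtain ⟨m, rfl⟩ : ∃ m, e = m + 1 := ⟨e - 1, by omega⟩
  have h1 : ∑ i ∈ Finset.range (m + 1), T (φ ((T ^ (m + 1 - 1 - i)) u) • (T ^ i) w)
      = ∑ i ∈ Finset.range m, φ ((T ^ (m - i)) u) • (T ^ (i + 1)) w := by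
    rw [Finset.sum_range_succ]
    have h2 : T (φ ((T ^ (m + 1 - 1 - m)) u) • (T ^ m) w) = 0 := by
      rw [map_smul, ← Module.End.mul_apply, ← pow_succ', hT, LinearMap.zero_apply, smul_zero]
    rw [h2, add_zero]
    apply Finset.sum_congr rfl
    intro i _
    rw [map_smul, ← Module.End.mul_apply, ← pow_succ', Nat.add_sub_cancel]
  have h3 : ∑ i ∈ Finset.range (m + 1), φ ((T ^ (m + 1 - 1 - i)) (T u)) • (T ^ i) w
      = ∑ i ∈ Finset.range m, φ ((T ^ (m - i)) u) • (T ^ (i + 1)) w := by
    rw [Finset.sum_range_succ']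
    have h4 : φ ((T ^ (m + 1 - 1 - 0)) (T u)) • (T ^ 0) w = 0 := by
      rw [← Module.End.mul_apply, ← pow_succ, Nat.add_sub_cancel, Nat.sub_zero, hT,
        LinearMap.zero_apply, map_zero, zero_smul]
    rw [h4, add_zero]
    apply Finset.sum_congr rfl
    intro i hi
    rw [Finset.mem_range] at hi
    rw [← Module.End.mul_apply, ← pow_succ, Nat.add_sub_cancel]
    have h5 : m - (i + 1) + 1 = m - i := by omega
    rw [h5]
  rw [h1, h3]

theorem jmap_apply_ker (T : Module.End K M) (e : ℕ) (he : 1 ≤ e) (φ : Module.Dual K M) (w u : M)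
    (hu : T u = 0) : jmap T e φ w u = φ u • (T ^ (e - 1)) w := by
  rw [jmap_apply]
  rw [Finset.sum_eq_single (e - 1)]
  · rw [Nat.sub_self, pow_zero, Module.End.one_apply]
  · intro i hi hne
    rw [Finset.mem_range] at hi
    obtain ⟨k, hk⟩ : ∃ k, e - 1 - i = k + 1 := ⟨e - 1 - i - 1, by omega⟩
    rw [hk, pow_succ, Module.End.mul_apply, hu, map_zero, map_zero, zero_smul]
  · intro h
    exfalso
    apply h
    rw [Finset.mem_range]
    omega

variable [FiniteDimensional K M]

/-- if the commutant of the nilpotent `T` acts by scalars on `ker T`, then `dim ker T ≤ 1`. -/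
theorem finrank_ker_le_one (T : Module.End K M) (hnil : IsNilpotent T)
    (h : ∀ S : Module.End K M, T * S = S * T → ∃ c : K, ∀ u, T u = 0 → S u = c • u) :
    finrank K (LinearMap.ker T) ≤ 1 := by
  classical
  by_cases hM : Subsingleton M
  · have : finrank K (LinearMap.ker T) = 0 := by
      rw [finrank_eq_zero_iff_of_free]  -- placeholder
      infer_instance
    omega
  rw [not_subsingleton_iff_nontrivial] at hM
  -- the nilpotency index
  have hex : ∃ e, T ^ e = 0 := hnil
  let e := Nat.find hex
  have he0 : T ^ e = 0 := Nat.find_spec hex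
  have he1 : 1 ≤ e := by
    by_contra hcon
    have : e = 0 := by omega
    rw [this, pow_zero] at he0
    exact one_ne_zero he0
  have hem : T ^ (e - 1) ≠ 0 := Nat.find_min hex (by omega)
  obtain ⟨w, hw⟩ : ∃ w, (T ^ (e - 1)) w ≠ 0 := by
    by_contra hcon
    push Not at hcon
    exact hem (LinearMap.ext hcon)
  have hker : LinearMap.ker T ≤ Submodule.span K {(T ^ (e - 1)) w} := by
    intro u hu
    rw [LinearMap.mem_ker] at hu
    by_contra hnot
    have hu0 : u ≠ 0 := by
      rintro rfl
      exact hnot (Submodule.zero_mem _)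
    obtain ⟨φ, hφ⟩ : ∃ φ : Module.Dual K M, φ u ≠ 0 := by
      by_contra hcon
      push Not at hcon
      exact hu0 ((Module.forall_dual_apply_eq_zero_iff K u).mp hcon)
    obtain ⟨c, hc⟩ := h (jmap T e φ w) (jmap_comm T e he0 φ w)
    have h1 := hc u hu
    rw [jmap_apply_ker T e he1 φ w u hu] at h1
    by_cases hc0 : c = 0
    · rw [hc0, zero_smul] at h1
      rcases smul_eq_zero.mp h1 with h2 | h2
      · exact hφ h2
      · exact hw h2
    · apply hnot
      have : u = (c⁻¹ * φ u) • (T ^ (e - 1)) w := by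
        rw [mul_smul, h1, smul_smul, inv_mul_cancel₀ hc0, one_smul]
      rw [this]
      exact Submodule.smul_mem _ _ (Submodule.mem_span_singleton_self _)
  calc finrank K (LinearMap.ker T) ≤ finrank K (Submodule.span K {(T ^ (e - 1)) w}) :=
        Submodule.finrank_mono hker
    _ ≤ 1 := by
        have := finrank_span_le_card (R := K) ({(T ^ (e - 1)) w} : Set M)
        simpa using this


/-- the cyclic vectors `T^i w`, `i < j`. -/
def cycSet (T : Module.End K M) (w : M) (j : ℕ) : Set M :=
  Set.range (fun i : Fin j => (T ^ (i : ℕ)) w)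

omit [FiniteDimensional K M] in
theorem mem_cycSet {T : Module.End K M} {w : M} {j : ℕ} {u : M} :
    u ∈ cycSet T w j ↔ ∃ i, i < j ∧ (T ^ i) w = u := by
  constructor
  · rintro ⟨i, rfl⟩
    exact ⟨i, i.2, rfl⟩
  · rintro ⟨i, hi, rfl⟩
    exact ⟨⟨i, hi⟩, rfl⟩

omit [FiniteDimensional K M] in
theorem cycSet_succ (T : Module.End K M) (w : M) (j : ℕ) :
    cycSet T w (j + 1) = insert ((T ^ j) w) (cycSet T w j) := by
  ext u
  rw [Set.mem_insert_iff, mem_cycSet, mem_cycSet]
  constructor
  · rintro ⟨i, hi, rfl⟩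
    rcases Nat.lt_succ_iff_lt_or_eq.mp hi with h | h
    · exact Or.inr ⟨i, h, rfl⟩
    · exact Or.inl (by rw [h])
  · rintro (rfl | ⟨i, hi, rfl⟩)
    · exact ⟨j, Nat.lt_succ_self j, rfl⟩
    · exact ⟨i, Nat.lt_succ_of_lt hi, rfl⟩

/-- a nilpotent operator with `dim ker ≤ 1` is cyclic. -/
theorem cyclic_of_finrank_ker_le_one [Nontrivial M] (T : Module.End K M) (hnil : IsNilpotent T)
    (hk : finrank K (LinearMap.ker T) ≤ 1) :
    ∃ (e : ℕ) (w : M), 1 ≤ e ∧ T ^ e = 0 ∧ (T ^ (e - 1)) w ≠ 0 ∧
      Submodule.span K (cycSet T w e : Set M) = ⊤ := by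
  classical
  have hex : ∃ e, T ^ e = 0 := hnil
  let e := Nat.find hex
  have he0 : T ^ e = 0 := Nat.find_spec hex
  have he1 : 1 ≤ e := by
    by_contra hcon
    have : e = 0 := by omega
    rw [this, pow_zero] at he0
    exact one_ne_zero he0
  have hem : T ^ (e - 1) ≠ 0 := Nat.find_min hex (by omega)
  obtain ⟨w, hw⟩ : ∃ w, (T ^ (e - 1)) w ≠ 0 := by
    by_contra hcon
    push Not at hcon
    exact hem (LinearMap.ext hcon)
  refine ⟨e, w, he1, he0, hw, ?_⟩
  -- `w` is not in the range of `T`
  have hwR : w ∉ LinearMap.range T := by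
    rintro ⟨w', rfl⟩
    apply hw
    rw [← Module.End.mul_apply, ← pow_succ, Nat.sub_add_cancel he1, he0, LinearMap.zero_apply]
  have htop : Submodule.span K {w} ⊔ LinearMap.range T = ⊤ := by
    apply Submodule.eq_top_of_finrank_eq
    have h1 := LinearMap.finrank_range_add_finrank_ker T
    have h2 : LinearMap.range T < Submodule.span K {w} ⊔ LinearMap.range T := by
      apply lt_of_le_of_ne le_sup_right
      intro heq
      apply hwR
      rw [heq]
      exact le_sup_left (α := Submodule K M) (Submodule.mem_span_singleton_self w)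
    have h3 := Submodule.finrank_lt_finrank_of_lt h2
    have h4 := Submodule.finrank_le (Submodule.span K {w} ⊔ LinearMap.range T)
    omega
  have hstep : ∀ j, Submodule.span K (cycSet T w j : Set M) ⊔ LinearMap.range (T ^ j) = ⊤ := by
    intro j
    induction j with
    | zero =>
      rw [pow_zero, Module.End.one_eq_id, LinearMap.range_id, sup_top_eq]
    | succ j ih =>
      have h1 : LinearMap.range (T ^ j)
          = Submodule.span K {(T ^ j) w} ⊔ LinearMap.range (T ^ (j + 1)) := by
        rw [← Submodule.map_top (T ^ j), ← htop, Submodule.map_sup, Submodule.map_span,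
          Set.image_singleton, ← LinearMap.range_comp, pow_succ]
        rfl
      rw [h1, ← sup_assoc] at ih
      rw [← ih, cycSet_succ, Submodule.span_insert]
      congr 1
      rw [sup_comm]
  have := hstep e
  rwa [he0, LinearMap.range_zero, sup_bot_eq] at this

theorem pow_finrank_sub_one_ne_zero [Nontrivial M] (T : Module.End K M) (hnil : IsNilpotent T)
    (hk : finrank K (LinearMap.ker T) ≤ 1) : T ^ (finrank K M - 1) ≠ 0 := by
  classical
  obtain ⟨e, w, he1, he0, hw, hspan⟩ := cyclic_of_finrank_ker_le_one T hnil hk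
  have hd : finrank K M ≤ e := by
    have h1 : finrank K (Submodule.span K (cycSet T w e : Set M)) ≤ Fintype.card (Fin e) :=
      finrank_range_le_card (R := K) (fun i : Fin e => (T ^ (i : ℕ)) w)
    rw [hspan, finrank_top, Fintype.card_fin] at h1
    exact h1
  intro h0
  apply hw
  have : e - 1 = (finrank K M - 1) + (e - finrank K M) := by
    have := Module.finrank_pos (R := K) (M := M)
    omega
  rw [this, pow_add, h0, zero_mul, LinearMap.zero_apply]

theorem finrank_commSub_of_finrank_ker_le_one [Nontrivial M] (T : Module.End K M)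
    (hnil : IsNilpotent T) (hk : finrank K (LinearMap.ker T) ≤ 1) :
    finrank K (commSub K (Module.End K M) T) = finrank K M := by
  classical
  obtain ⟨e, w, he1, he0, hw, hspan⟩ := cyclic_of_finrank_ker_le_one T hnil hk
  let ev : commSub K (Module.End K M) T →ₗ[K] M :=
    (LinearMap.applyₗ w).comp (commSub K (Module.End K M) T).subtype
  have hev : ∀ S : commSub K (Module.End K M) T, ev S = (S : Module.End K M) w := fun S => rfl
  have hcomm : ∀ (S : Module.End K M), T * S = S * T → ∀ i : ℕ, T ^ i * S = S * T ^ i := by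
    intro S hS i
    induction i with
    | zero => simp
    | succ i ih => rw [pow_succ, mul_assoc, hS, ← mul_assoc, ih, mul_assoc]
  have hinj : Function.Injective ev := by
    rw [injective_iff_map_eq_zero]
    intro S hS
    rw [hev] at hS
    apply Subtype.ext
    show (S : Module.End K M) = 0
    apply LinearMap.ext_on hspan
    intro u hu
    obtain ⟨i, -, rfl⟩ := mem_cycSet.mp hu
    rw [← Module.End.mul_apply, ← hcomm _ (mem_commSub.mp S.2) i, Module.End.mul_apply, hS,
      map_zero, LinearMap.zero_apply]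
  have hsurj : Function.Surjective ev := by
    rw [← LinearMap.range_eq_top, eq_top_iff, ← hspan, Submodule.span_le]
    intro u hu
    obtain ⟨i, -, rfl⟩ := mem_cycSet.mp hu
    have hmem : T ^ i ∈ commSub K (Module.End K M) T := by
      rw [mem_commSub, ← pow_succ', ← pow_succ]
    exact ⟨⟨T ^ i, hmem⟩, rfl⟩
  exact (LinearEquiv.ofBijective ev ⟨hinj, hsurj⟩).finrank_eq

end Cfsg.Agent.Lib.Helper23.HB
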