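import Mathlib
import Cfsg.Agent.Lib.Helper10.XRepOrbit

/-!
# Orbit parametrisation for a map of period `r` all of whose nontrivial orbits are regular

Variant of `Helper10.XRep.exists_orbit_param` / `exists_family` where `r` need not be prime: we
assume instead that no `σ^[k]`, `0 < k < r`, has a fixed point other than `b₀`.
-/

set_option autoImplicit false

namespace Cfsg.Agent.Lib.Helper23.HB

open Cfsg.Agent.Lib.Helper10.XRep (orbMap)

universe u v

section Orbit

variable {B : Type u} [Finite B] (σ : B → B) (r : ℕ) (b₀ : B)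

theorem exists_orbit_paramN (hr : 0 < r) (hσr : ∀ b, σ^[r] b = b) (hb₀ : σ b₀ = b₀)
    (hfree' : ∀ b k, 0 < k → k < r → σ^[k] b = b → b = b₀) :
    ∃ (T₀ : Type u) (_ : Fintype T₀) (rep : T₀ → B), Function.Bijective (orbMap σ r b₀ rep) := by
  classical
  have hper : ∀ b, Function.IsPeriodicPt σ r b := hσr
  have hmul : ∀ m b, σ^[r * m] b = b := fun m b => (hper b).mul_const m
  have hinj : Function.Injective σ := by
    intro a b hab
    have h1 : σ^[r] a = σ^[r] b := by
      obtain ⟨m, hm⟩ : ∃ m, r = m + 1 := ⟨r - 1, (Nat.succ_pred_eq_of_pos hr).symm⟩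
      rw [hm, Function.iterate_succ_apply, Function.iterate_succ_apply, hab]
    rwa [hσr, hσr] at h1
  have hfix : ∀ k, σ^[k] b₀ = b₀ := fun k => Function.iterate_fixed hb₀ k
  have hle : ∀ k, k ≤ r * k := fun k => Nat.le_mul_of_pos_left k hr
  have hback : ∀ k b, σ^[r * k - k] (σ^[k] b) = b := by
    intro k b
    rw [← Function.iterate_add_apply, Nat.sub_add_cancel (hle k), hmul]
  have hb₀' : ∀ k b, σ^[k] b = b₀ → b = b₀ := by
    intro k b hk
    have := hback k b
    rw [hk, hfix] at this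
    exact this.symm
  let S : Setoid B :=
    { r := fun b b' => ∃ k, σ^[k] b = b'
      iseqv :=
        { refl := fun b => ⟨0, rfl⟩
          symm := by
            rintro b b' ⟨k, hk⟩
            exact ⟨r * k - k, by rw [← hk, hback]⟩
          trans := by
            rintro a b c ⟨k, hk⟩ ⟨k', hk'⟩
            exact ⟨k' + k, by rw [Function.iterate_add_apply, hk, hk']⟩ } }
  let T₀ : Type u := {ω : Quotient S // ω ≠ Quotient.mk S b₀}
  have : Finite (Quotient S) := Quotient.finite S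
  haveI : Fintype T₀ := Fintype.ofFinite T₀
  let rep : T₀ → B := fun t => t.1.out
  have hrep : ∀ t : T₀, Quotient.mk S (rep t) = t.1 := fun t => Quotient.out_eq t.1
  have hrep_ne : ∀ t : T₀, rep t ≠ b₀ := by
    intro t h
    apply t.2
    rw [← hrep t, h]
  refine ⟨T₀, inferInstance, rep, ?_, ?_⟩
  · rintro (_ | ⟨t, k⟩) (_ | ⟨t', k'⟩) h
    · rfl
    · exfalso
      have h1 : σ^[k'.val] (rep t') = b₀ := h.symm
      exact hrep_ne t' (hb₀' _ _ h1)
    · exfalso
      have h1 : σ^[k.val] (rep t) = b₀ := h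
      exact hrep_ne t (hb₀' _ _ h1)
    · have h1 : σ^[k.val] (rep t) = σ^[k'.val] (rep t') := h
      have htt : t = t' := by
        apply Subtype.ext
        rw [← hrep t, ← hrep t']
        apply Quotient.sound
        refine ⟨r * k'.val - k'.val + k.val, ?_⟩
        rw [Function.iterate_add_apply, h1, hback]
      subst htt
      have hkk : ∀ a b : ℕ, a ≤ b → b < r → σ^[a] (rep t) = σ^[b] (rep t) → a = b := by
        intro a b hab hbr hh
        by_contra hne
        have h2 : σ^[a] (rep t) = σ^[a] (σ^[b - a] (rep t)) := by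
          rw [← Function.iterate_add_apply, Nat.add_sub_cancel' hab]
          exact hh
        have h3 := (hinj.iterate a) h2
        exact hrep_ne t (hfree' _ (b - a) (by omega) (by omega) h3.symm)
      have hval : k.val = k'.val := by
        rcases Nat.le_total k.val k'.val with hle' | hle'
        · exact hkk _ _ hle' k'.2 h1
        · exact (hkk _ _ hle' k.2 h1.symm).symm
      rw [Fin.ext hval]
  · intro b
    by_cases hb : b = b₀
    · exact ⟨none, hb.symm⟩
    · have hω : Quotient.mk S b ≠ Quotient.mk S b₀ := by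
        intro h
        obtain ⟨k, hk⟩ := Quotient.exact h
        exact hb (hb₀' k b hk)
      let t : T₀ := ⟨Quotient.mk S b, hω⟩
      have h1 : S (rep t) b := Quotient.exact (hrep t)
      obtain ⟨k, hk⟩ := h1
      refine ⟨some (t, ⟨k % r, Nat.mod_lt _ hr⟩), ?_⟩
      show σ^[k % r] (rep t) = b
      rw [(hper _).iterate_mod_apply, hk]

end Orbit

section Family

variable {Q : Type u} [Group Q] [Finite Q]

theorem exists_familyN (r : ℕ) [NeZero r] (Z : Subgroup Q) (φ : Q ≃* Q)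
    (hφZ : ∀ z ∈ Z, φ z = z) (hφr : ∀ g, φ^[r] g = g)
    (hfpf : ∀ k, 0 < k → k < r → ∀ g, g⁻¹ * φ^[k] g ∈ Z → g ∈ Z) :
    ∃ (T₀ : Type u) (_ : Fintype T₀) (g : Option (T₀ × Fin r) → Q),
      g none = 1 ∧ (∀ t k, φ (g (some (t, k))) = g (some (t, k + 1))) ∧
      (∀ j j', (g j')⁻¹ * g j ∈ Z → j = j') ∧ (∀ x : Q, ∃ j, (g j)⁻¹ * x ∈ Z) := by
  classical
  have hr : 0 < r := Nat.pos_of_ne_zero (NeZero.ne r)
  have hwd : ∀ a b : Q, (QuotientGroup.leftRel Z) a b → (QuotientGroup.leftRel Z) (φ a) (φ b) := by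
    intro a b hab
    rw [QuotientGroup.leftRel_apply] at hab ⊢
    rw [← map_inv, ← map_mul, hφZ _ hab]
    exact hab
  let σ : Q ⧸ Z → Q ⧸ Z := Quotient.map' φ hwd
  have hσ : ∀ x : Q, σ (x : Q ⧸ Z) = ((φ x : Q) : Q ⧸ Z) := fun x => rfl
  have hσk : ∀ (k : ℕ) (x : Q), σ^[k] (x : Q ⧸ Z) = ((φ^[k] x : Q) : Q ⧸ Z) := by
    intro k
    induction k with
    | zero => intro x; rfl
    | succ k ih =>
      intro x
      rw [Function.iterate_succ_apply, hσ, ih, Function.iterate_succ_apply]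
  have hσr : ∀ b, σ^[r] b = b := by
    intro b
    obtain ⟨x, rfl⟩ := QuotientGroup.mk_surjective b
    rw [hσk, hφr]
  have hb₀ : σ ((1 : Q) : Q ⧸ Z) = ((1 : Q) : Q ⧸ Z) := by rw [hσ, map_one]
  have hfree : ∀ b k, 0 < k → k < r → σ^[k] b = b → b = ((1 : Q) : Q ⧸ Z) := by
    intro b k hk0 hkr hb
    obtain ⟨x, rfl⟩ := QuotientGroup.mk_surjective b
    rw [hσk] at hb
    have h1 : x⁻¹ * φ^[k] x ∈ Z := QuotientGroup.eq.mp hb.symm
    have h2 := hfpf k hk0 hkr x h1
    apply QuotientGroup.eq.mpr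
    rw [mul_one]
    exact Z.inv_mem h2
  obtain ⟨T₀, hT₀, rep, hbij⟩ := exists_orbit_paramN σ r ((1 : Q) : Q ⧸ Z) hr hσr hb₀ hfree
  let g : Option (T₀ × Fin r) → Q := fun j =>
    match j with
    | none => 1
    | some (t, k) => φ^[k.val] (rep t).out
  have hgΓ : ∀ j, ((g j : Q) : Q ⧸ Z) = orbMap σ r ((1 : Q) : Q ⧸ Z) rep j := by
    rintro (_ | ⟨t, k⟩)
    · rfl
    · show ((φ^[k.val] (rep t).out : Q) : Q ⧸ Z) = σ^[k.val] (rep t)
      rw [← hσk, QuotientGroup.out_eq']
  refine ⟨T₀, hT₀, g, rfl, ?_, ?_, ?_⟩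
  · intro t k
    show φ (φ^[k.val] (rep t).out) = φ^[(k + 1).val] (rep t).out
    rw [← Function.iterate_succ_apply' φ, Fin.val_add]
    have h1 : ((1 : Fin r).val) = 1 % r := Fin.val_one' r
    rw [h1, Nat.add_mod_mod]
    have hper : Function.IsPeriodicPt φ r (rep t).out := hφr _
    rw [hper.iterate_mod_apply]
  · intro j j' h
    apply hbij.1
    rw [← hgΓ, ← hgΓ]
    exact (QuotientGroup.eq.mpr h).symm
  · intro x
    obtain ⟨j, hj⟩ := hbij.2 (x : Q ⧸ Z)
    refine ⟨j, ?_⟩
    rw [← hgΓ] at hj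
    exact QuotientGroup.eq.mp hj

end Family

end Cfsg.Agent.Lib.Helper23.HB
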