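import Cfsg.Agent.Lib.Helper10.XRepCore
import Cfsg.Agent.Lib.Helper23.HBJordan
import Cfsg.Agent.Lib.Helper23.HBOrbit

/-!
# The core count for Hall–Higman Theorem B

Let `ρ` satisfy `Heis ρ Z`, let `φ` be an automorphism of `Q` of `p`-power period `N = p ^ n`
fixing `Z` pointwise such that no nontrivial power of `φ` has a fixed point on `Q / Z`, and let
`τ₁` in the enveloping algebra implement `φ` with `τ₁ ^ N = 1`, in characteristic `p`.
Then `(τ₁ - 1) ^ (N - 1) ≠ 0`, or `(τ₁ - 1) ^ (N - 2) ≠ 0` and `|Q : Z| = (N - 1)²`.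
-/

set_option autoImplicit false

namespace Cfsg.Agent.Lib.Helper23.HB

open Module
open Cfsg.Agent.Lib.Helper10.XRep

universe u v w

open Polynomial in
theorem geom_sum_char_pow {E : Type*} [Field E] {p : ℕ} [Fact p.Prime] [CharP E p] {A : Type*}
    [Ring A] [Algebra E A] (x : A) (n : ℕ) :
    ∑ k ∈ Finset.range (p ^ n), x ^ k = (x - 1) ^ (p ^ n - 1) := by
  have hN : 0 < p ^ n := pow_pos (Fact.out : p.Prime).pos n
  have h1 : (∑ k ∈ Finset.range (p ^ n), (X : E[X]) ^ k) = (X - 1) ^ (p ^ n - 1) := by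
    have h2 : (∑ k ∈ Finset.range (p ^ n), (X : E[X]) ^ k) * (X - 1)
        = (X - 1) ^ (p ^ n - 1) * (X - 1) := by
      rw [geom_sum_mul, ← pow_succ, Nat.sub_add_cancel hN, sub_pow_char_pow, one_pow]
    have h3 : (X - 1 : E[X]) ≠ 0 := X_sub_C_ne_zero (1 : E)
    exact mul_right_cancel₀ h3 h2
  have := congrArg (aeval x) h1
  simpa using this

variable {E : Type v} [Field E] {Q : Type u} [Group Q] [Fintype Q]
  {U : Type w} [AddCommGroup U] [Module E U]
  {ρ : Q →* Module.End E U} {Z : Subgroup Q}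

section Shift

variable {T₀ : Type u} [Fintype T₀] {r : ℕ} [NeZero r]

/-- an element of the span commuting with the intertwiner has shift-invariant coefficients. -/
theorem coeff_invariant [Nontrivial U] (H : Heis ρ Z) (φ : Q ≃* Q)
    (g : Option (T₀ × Fin r) → Q)
    (hg1 : g none = 1) (hgφ : ∀ t k, φ (g (some (t, k))) = g (some (t, k + 1)))
    (hginj : ∀ j j', (g j')⁻¹ * g j ∈ Z → j = j') (hr : 0 < r)
    (τ₁ : Module.End E U) (hτr : τ₁ ^ r = 1) (hτ : ∀ g, ρ (φ g) * τ₁ = τ₁ * ρ g)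
    (c : Option (T₀ × Fin r) → E) (hc : τ₁ * fam ρ g c = fam ρ g c * τ₁) :
    c ∈ invSub E T₀ r := by
  have hΨinj := fam_injective H g hginj
  have hφg : ∀ j, φ (g j) = g (shiftPerm T₀ r j) := by
    rintro (_ | ⟨t, k⟩)
    · rw [shiftPerm_none, hg1, map_one]
    · exact hgφ t k
  have hkey : ∀ c : Option (T₀ × Fin r) → E,
      τ₁ * fam ρ g c = fam ρ g (c ∘ (shiftPerm T₀ r).symm) * τ₁ := by
    intro c
    rw [fam_apply, fam_apply, Finset.mul_sum, Finset.sum_mul,
      ← Equiv.sum_comp (shiftPerm T₀ r)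
        (fun j => ((c ∘ (shiftPerm T₀ r).symm) j • ρ (g j)) * τ₁)]
    apply Finset.sum_congr rfl
    intro j _
    rw [Function.comp_apply, Equiv.symm_apply_apply, mul_smul_comm, smul_mul_assoc, ← hτ, hφg]
  obtain ⟨m, hm⟩ : ∃ m, r = m + 1 := ⟨r - 1, (Nat.succ_pred_eq_of_pos hr).symm⟩
  have hτi1 : τ₁ * τ₁ ^ m = 1 := by rw [← pow_succ', ← hm, hτr]
  have hcancel : ∀ X Y : Module.End E U, X * τ₁ = Y * τ₁ → X = Y := by
    intro X Y hXY
    calc X = X * τ₁ * τ₁ ^ m := by rw [mul_assoc, hτi1, mul_one]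
      _ = Y * τ₁ * τ₁ ^ m := by rw [hXY]
      _ = Y := by rw [mul_assoc, hτi1, mul_one]
  rw [mem_invSub_iff_comp]
  apply hΨinj
  apply hcancel
  rw [← hkey, hc]

omit [Fintype Q] [Fintype T₀] in
/-- the representatives in one orbit are conjugate under the intertwiner. -/
theorem rho_orbit (φ : Q ≃* Q) (g : Option (T₀ × Fin r) → Q)
    (hgφ : ∀ t k, φ (g (some (t, k))) = g (some (t, k + 1)))
    (τ₁ : Module.End E U) (hτ : ∀ g, ρ (φ g) * τ₁ = τ₁ * ρ g) (t : T₀) (k : Fin r) :
    ρ (g (some (t, k))) * τ₁ ^ (k : ℕ) = τ₁ ^ (k : ℕ) * ρ (g (some (t, 0))) := by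
  have h1 : ∀ (n : ℕ) (h : n < r),
      ρ (g (some (t, ⟨n, h⟩))) * τ₁ ^ n = τ₁ ^ n * ρ (g (some (t, 0))) := by
    intro n
    induction n with
    | zero =>
      intro h
      have : (⟨0, h⟩ : Fin r) = 0 := Fin.ext (by rw [Fin.val_zero])
      rw [this, pow_zero, mul_one, one_mul]
    | succ n ih =>
      intro h
      have h2 : (⟨n + 1, h⟩ : Fin r) = ⟨n, Nat.lt_of_succ_lt h⟩ + 1 := by
        apply Fin.ext
        rw [Fin.val_add, Fin.val_one', Nat.add_mod_mod]
        exact (Nat.mod_eq_of_lt h).symm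
      rw [h2, ← hgφ, pow_succ', ← mul_assoc, hτ, mul_assoc, ih, mul_assoc]
  exact h1 k.val k.2

end Shift

/-- **Core count.** -/
theorem coreN [IsAlgClosed E] [FiniteDimensional E U] [Nontrivial U] (H : Heis ρ Z) (φ : Q ≃* Q)
    {p : ℕ} [Fact p.Prime] [CharP E p] (n : ℕ)
    (hφZ : ∀ z ∈ Z, φ z = z) (hφN : ∀ g, φ^[p ^ n] g = g)
    (hfpf : ∀ k, 0 < k → k < p ^ n → ∀ g, g⁻¹ * φ^[k] g ∈ Z → g ∈ Z)
    (τ₁ : Module.End E U) (hτmem : τ₁ ∈ Submodule.span E (Set.range ρ))
    (hτN : τ₁ ^ (p ^ n) = 1) (hτ : ∀ g, ρ (φ g) * τ₁ = τ₁ * ρ g) (hQZ : ∃ g, g ∉ Z) :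
    (τ₁ - 1) ^ (p ^ n - 1) ≠ 0 ∨ ((τ₁ - 1) ^ (p ^ n - 2) ≠ 0 ∧ Z.index = (p ^ n - 1) ^ 2) := by
  classical
  have hNpos : 0 < p ^ n := pow_pos (Fact.out : p.Prime).pos n
  have : NeZero (p ^ n) := ⟨hNpos.ne'⟩
  by_cases hcon : (τ₁ - 1) ^ (p ^ n - 1) ≠ 0
  · exact Or.inl hcon
  right
  rw [not_not] at hcon
  obtain ⟨T₀, hT₀, g, hg1, hgφ, hginj, hgsurj⟩ := exists_familyN (p ^ n) Z φ hφZ hφN hfpf
  have := isSimpleRing_envAlg H
  obtain ⟨d, hd, ⟨e⟩⟩ := IsSimpleRing.exists_algEquiv_matrix_of_isAlgClosed E (envAlg ρ)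
  let e' : envAlg ρ ≃ₐ[E] Module.End E (Fin d → E) := e.trans Matrix.toLinAlgEquiv'
  have hdpos : 0 < d := Nat.pos_of_ne_zero (NeZero.ne d)
  have : Nonempty (Fin d) := ⟨⟨0, hdpos⟩⟩
  have hfr : finrank E (Fin d → E) = d := by rw [finrank_fintype_fun_eq_card, Fintype.card_fin]
  -- the representation on the model space
  let ρ' : Q → envAlg ρ := fun h => ⟨ρ h, rho_mem_envAlg ρ h⟩
  let a : envAlg ρ := ⟨τ₁, (mem_envAlg_iff ρ).mpr hτmem⟩
  let X' : Module.End E (Fin d → E) := e' a
  let T' : Module.End E (Fin d → E) := X' - 1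
  have hT'eq : ∀ m : ℕ, T' ^ m = e' ((a - 1) ^ m) := by
    intro m
    rw [map_pow, map_sub, map_one]
  have hval : ∀ m : ℕ, (((a - 1) ^ m : envAlg ρ) : Module.End E U) = (τ₁ - 1) ^ m := by
    intro m
    rw [Subalgebra.coe_pow, Subalgebra.coe_sub, Subalgebra.coe_one]
  have hT'N : T' ^ (p ^ n - 1) = 0 := by
    rw [hT'eq]
    have : (a - 1) ^ (p ^ n - 1) = 0 := Subtype.ext (by rw [hval, hcon]; rfl)
    rw [this, map_zero]
  have hnil : IsNilpotent T' := ⟨_, hT'N⟩
  have hX'N : X' ^ (p ^ n) = 1 := by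
    show (e' a) ^ (p ^ n) = 1
    rw [← map_pow]
    have : a ^ (p ^ n) = 1 := Subtype.ext (by rw [Subalgebra.coe_pow]; exact hτN)
    rw [this, map_one]
  have hsum0 : ∑ k ∈ Finset.range (p ^ n), X' ^ k = 0 := by
    rw [geom_sum_char_pow (E := E) X' n]
    exact hT'N
  have hfix : ∀ u, T' u = 0 → ∀ k : ℕ, (X' ^ k) u = u := by
    intro u hu k
    have h1 : X' u = u := by
      have : (X' - 1) u = 0 := hu
      rwa [LinearMap.sub_apply, Module.End.one_apply, sub_eq_zero] at this
    induction k with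
    | zero => rfl
    | succ k ih => rw [pow_succ, Module.End.mul_apply, h1, ih]
  -- scalars on the kernel
  have hscal : ∀ S : Module.End E (Fin d → E), T' * S = S * T' →
      ∃ c : E, ∀ u, T' u = 0 → S u = c • u := by
    intro S hS
    have hS' : X' * S = S * X' := by
      have h1 : (X' - 1) * S = S * (X' - 1) := hS
      rw [sub_mul, mul_sub, one_mul, mul_one] at h1
      exact sub_left_injective h1
    let b : envAlg ρ := e'.symm S
    have hb : e' b = S := e'.apply_symm_apply S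
    have hab : a * b = b * a := by
      apply e'.injective
      rw [map_mul, map_mul, hb]
      exact hS'
    have hbmem : (b : Module.End E U) ∈ LinearMap.range (fam ρ g) := by
      rw [range_fam H g hgsurj]
      exact (mem_envAlg_iff ρ).mp b.2
    obtain ⟨c, hc⟩ := hbmem
    have hcomm : τ₁ * fam ρ g c = fam ρ g c * τ₁ := by
      rw [hc]
      exact congrArg Subtype.val hab
    have hcinv := coeff_invariant H φ g hg1 hgφ hginj hNpos τ₁ hτN hτ c hcomm
    refine ⟨c none, ?_⟩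
    intro u hu
    have hbsum : b = ∑ j, c j • ρ' (g j) := by
      apply Subtype.ext
      rw [← hc, fam_apply, AddSubmonoidClass.coe_finsetSum]
      rfl
    have hSsum : S = ∑ j, c j • e' (ρ' (g j)) := by
      rw [← hb, hbsum, map_sum]
      apply Finset.sum_congr rfl
      intro j _
      rw [map_smul]
    have horb : ∀ (t : T₀) (k : Fin (p ^ n)),
        e' (ρ' (g (some (t, k)))) u = (X' ^ (k : ℕ)) (e' (ρ' (g (some (t, 0)))) u) := by
      intro t k
      have h1 := rho_orbit φ g hgφ τ₁ hτ t k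
      have h2 : ρ' (g (some (t, k))) * a ^ (k : ℕ) = a ^ (k : ℕ) * ρ' (g (some (t, 0))) := by
        apply Subtype.ext
        rw [Subalgebra.coe_mul, Subalgebra.coe_mul, Subalgebra.coe_pow]
        exact h1
      have h3 := congrArg e' h2
      rw [map_mul, map_mul, map_pow] at h3
      have h4 := LinearMap.congr_fun h3 u
      rw [Module.End.mul_apply, Module.End.mul_apply, hfix u hu] at h4
      exact h4
    have hone : e' (ρ' (g none)) u = u := by
      have : ρ' (g none) = 1 := Subtype.ext (by show ρ (g none) = 1; rw [hg1, map_one])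
      rw [this, map_one, Module.End.one_apply]
    rw [hSsum, LinearMap.sum_apply, Fintype.sum_option, LinearMap.smul_apply, hone,
      Fintype.sum_prod_type]
    have hzero : ∀ t : T₀, ∑ k : Fin (p ^ n),
        (c (some (t, k)) • e' (ρ' (g (some (t, k))))) u = 0 := by
      intro t
      have h1 : ∀ k : Fin (p ^ n), (c (some (t, k)) • e' (ρ' (g (some (t, k))))) u
          = c (some (t, 0)) • (X' ^ (k : ℕ)) (e' (ρ' (g (some (t, 0)))) u) := by
        intro k
        rw [LinearMap.smul_apply, horb, invSub_const E T₀ (p ^ n) hcinv t k]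
      rw [Finset.sum_congr rfl (fun k _ => h1 k), ← Finset.smul_sum,
        Fin.sum_univ_eq_sum_range (fun k => (X' ^ k) (e' (ρ' (g (some (t, 0)))) u)) (p ^ n),
        ← LinearMap.sum_apply, hsum0, LinearMap.zero_apply, smul_zero]
    rw [Finset.sum_congr rfl (fun t _ => hzero t), Finset.sum_const_zero, add_zero]
  have hker := finrank_ker_le_one T' hnil hscal
  have hpow := pow_finrank_sub_one_ne_zero T' hnil hker
  have hcs := finrank_commSub_of_finrank_ker_le_one T' hnil hker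
  rw [hfr] at hpow hcs
  -- the commutant of `X'` is the commutant of `T'`
  have hcsX : commSub E (Module.End E (Fin d → E)) X' = commSub E (Module.End E (Fin d → E)) T' := by
    ext S
    rw [mem_commSub, mem_commSub]
    show X' * S = S * X' ↔ (X' - 1) * S = S * (X' - 1)
    rw [sub_mul, mul_sub, one_mul, mul_one]
    constructor
    · intro h
      rw [h]
    · intro h
      exact sub_left_injective h
  have hcount1 : 1 + Fintype.card T₀ = d := by
    have h1 := finrank_commSub_envAlg H φ g hg1 hgφ hginj hgsurj hNpos τ₁ hτmem hτN hτ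
    have h2 := finrank_commSub_algEquiv e' a
    rw [← h1]
    refine h2.trans ?_
    show finrank E (commSub E (Module.End E (Fin d → E)) X') = d
    rw [hcsX]
    exact hcs
  have hcount2 : 1 + Fintype.card T₀ * p ^ n = d * d := by
    have h1 := finrank_envAlg H g hginj hgsurj
    rw [LinearEquiv.finrank_eq e.toLinearEquiv, finrank_matrix, finrank_self, mul_one,
      Fintype.card_fin, Fintype.card_option, Fintype.card_prod, Fintype.card_fin] at h1
    omega
  have hidx : Z.index = Fintype.card (Option (T₀ × Fin (p ^ n))) := by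
    rw [← Nat.card_eq_fintype_card]
    symm
    apply Nat.card_eq_of_bijective (fun j => ((g j : Q) : Q ⧸ Z))
    constructor
    · intro j j' hjj
      exact (hginj j' j (QuotientGroup.eq.mp hjj)).symm
    · intro b
      obtain ⟨x, rfl⟩ := QuotientGroup.mk_surjective b
      obtain ⟨j, hj⟩ := hgsurj x
      exact ⟨j, QuotientGroup.eq.mpr hj⟩
  rw [Fintype.card_option, Fintype.card_prod, Fintype.card_fin] at hidx
  have hne1 : Z.index ≠ 1 := by
    intro h
    obtain ⟨x, hx⟩ := hQZ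
    rw [Subgroup.index_eq_one] at h
    exact hx (h ▸ Subgroup.mem_top x)
  set s := Fintype.card T₀ with hs
  have hs0 : s ≠ 0 := by
    intro h0
    apply hne1
    rw [hidx, h0, zero_mul]
  have hN : s + 2 = p ^ n := by
    have h1 : (1 + s) * (1 + s) = 1 + s * p ^ n := by rw [hcount1, hcount2]
    have h2 : s * (s + 2) = s * p ^ n := by nlinarith
    exact Nat.eq_of_mul_eq_mul_left (Nat.pos_of_ne_zero hs0) h2
  have hd' : d = p ^ n - 1 := by omega
  refine ⟨?_, ?_⟩
  · intro h0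
    apply hpow
    rw [hT'eq]
    have h1 : (a - 1) ^ (d - 1) = 0 := by
      apply Subtype.ext
      rw [hval]
      have : d - 1 = p ^ n - 2 := by omega
      rw [this, h0]
      rfl
    rw [h1, map_zero]
  · rw [hidx, ← hd', sq, ← hcount2]
    omega

end Cfsg.Agent.Lib.Helper23.HB
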