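import Cfsg.Agent.Lib.Helper10.XRepMin

/-!
# The minimal configuration for Hall–Higman Theorem B: group-theoretic part

`M` is a finite `q`-group with an automorphism `φ` of period `p ^ n` (`n ≥ 1`, `p ≠ q`);
`ψ = φ^[p ^ (n - 1)]` is nontrivial but fixes pointwise every proper `φ`-invariant subgroup, and
`φ` fixes the centre pointwise.  Then `M` has class at most two, `C_M(ψ) = Z(M)`, and no
nontrivial power of `φ` has a fixed point on `M / Z(M)`.
-/

set_option autoImplicit false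

namespace Cfsg.Agent.Lib.Helper23.HB

open scoped commutatorElement
open Cfsg.Agent.Lib.Helper10.XRep (fpf_mod_center' mulAut_pow_apply)

universe u

variable {M : Type u} [Group M]

theorem iterate_map_mul (φ : M ≃* M) (k : ℕ) (a b : M) : φ^[k] (a * b) = φ^[k] a * φ^[k] b := by
  induction k generalizing a b with
  | zero => rfl
  | succ k ih => rw [Function.iterate_succ_apply, map_mul, ih]; rfl

theorem iterate_map_inv (φ : M ≃* M) (k : ℕ) (a : M) : φ^[k] a⁻¹ = (φ^[k] a)⁻¹ := by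
  induction k generalizing a with
  | zero => rfl
  | succ k ih => rw [Function.iterate_succ_apply, map_inv, ih]; rfl

theorem iterate_comm (φ : M ≃* M) (k : ℕ) (a : M) : φ (φ^[k] a) = φ^[k] (φ a) := by
  rw [← Function.iterate_succ_apply' φ, Function.iterate_succ_apply]

/-- the iterate as a multiplicative equivalence. -/
def iterEquiv (φ : M ≃* M) (k : ℕ) : M ≃* M := ((φ : MulAut M) ^ k : MulAut M)

theorem iterEquiv_apply (φ : M ≃* M) (k : ℕ) (g : M) : iterEquiv φ k g = φ^[k] g :=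
  mulAut_pow_apply φ k g

theorem iterEquiv_iterate (φ : M ≃* M) (k j : ℕ) (g : M) :
    (iterEquiv φ k)^[j] g = φ^[k * j] g := by
  have h : ⇑(iterEquiv φ k) = φ^[k] := funext (iterEquiv_apply φ k)
  rw [h, ← Function.iterate_mul]

section Min

variable [Finite M] {p q n : ℕ}

omit [Finite M] in
/-- in a minimal configuration the group is generated by the commutators with `ψ`. -/
theorem closure_psi_eq_top (hp : p.Prime) (hq : q.Prime) (hqp : q ≠ p) (hM : IsPGroup q M)
    (φ : M ≃* M) (hn : 1 ≤ n) (hφN : ∀ g, φ^[p ^ n] g = g)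
    (hmin : ∀ P : Subgroup M, P ≠ ⊤ → (∀ g ∈ P, φ g ∈ P) → ∀ g ∈ P, φ^[p ^ (n - 1)] g = g)
    (hψ : ∃ g, φ^[p ^ (n - 1)] g ≠ g) :
    Subgroup.closure {y : M | ∃ g, y = g⁻¹ * φ^[p ^ (n - 1)] g} = ⊤ := by
  by_contra hP
  set ψ : M → M := φ^[p ^ (n - 1)] with hψdef
  have hinv : ∀ g ∈ Subgroup.closure {y : M | ∃ g, y = g⁻¹ * ψ g},
      φ g ∈ Subgroup.closure {y : M | ∃ g, y = g⁻¹ * ψ g} := by
    intro g hg
    induction hg using Subgroup.closure_induction with
    | mem y hy =>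
      obtain ⟨g, rfl⟩ := hy
      apply Subgroup.subset_closure
      refine ⟨φ g, ?_⟩
      rw [map_mul, map_inv]
      congr 1
      exact iterate_comm φ _ g
    | one =>
      rw [map_one]
      exact Subgroup.one_mem _
    | mul x y _ _ hx hy =>
      rw [map_mul]
      exact Subgroup.mul_mem _ hx hy
    | inv x _ hx =>
      rw [map_inv]
      exact Subgroup.inv_mem _ hx
  have hfixP := hmin _ hP hinv
  obtain ⟨g, hg⟩ := hψ
  apply hg
  have hcP : g⁻¹ * ψ g ∈ Subgroup.closure {y : M | ∃ g, y = g⁻¹ * ψ g} :=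
    Subgroup.subset_closure ⟨g, rfl⟩
  obtain ⟨c, hc⟩ : ∃ c, c = g⁻¹ * ψ g := ⟨_, rfl⟩
  rw [← hc] at hcP
  have hψc : ψ c = c := hfixP c hcP
  have hψg : ψ g = g * c := by rw [hc, mul_inv_cancel_left]
  have hψmul : ∀ a b, ψ (a * b) = ψ a * ψ b := iterate_map_mul φ _
  have hψpow : ∀ k : ℕ, ψ (c ^ k) = c ^ k := by
    intro k
    induction k with
    | zero =>
      rw [pow_zero]
      show φ^[p ^ (n - 1)] 1 = 1
      exact Function.iterate_fixed (map_one φ) _
    | succ k ih => rw [pow_succ, hψmul, ih, hψc]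
  have hk : ∀ k : ℕ, ψ^[k] g = g * c ^ k := by
    intro k
    induction k with
    | zero => simp
    | succ k ih =>
      rw [Function.iterate_succ_apply', ih, hψmul, hψpow, hψg, pow_succ', mul_assoc]
  have hcp : c ^ p = 1 := by
    have h1 := hk p
    have h2 : ψ^[p] g = g := by
      rw [hψdef, ← Function.iterate_mul, ← pow_succ, Nat.sub_add_cancel hn]
      exact hφN g
    rw [h2] at h1
    exact mul_eq_left.mp h1.symm
  obtain ⟨j, hj⟩ := hM c
  have h1 : orderOf c ∣ p := orderOf_dvd_of_pow_eq_one hcp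
  have h2 : orderOf c ∣ q ^ j := orderOf_dvd_of_pow_eq_one hj
  have hcop : Nat.Coprime p (q ^ j) :=
    Nat.Coprime.pow_right j ((Nat.coprime_primes hp hq).mpr (Ne.symm hqp))
  have h3 : orderOf c = 1 := Nat.eq_one_of_dvd_coprimes hcop h1 h2
  rw [orderOf_eq_one_iff] at h3
  rw [hψg, h3, mul_one]

/-- the structure of a minimal configuration. -/
theorem min_structure (hp : p.Prime) (hq : q.Prime) (hqp : q ≠ p) (hM : IsPGroup q M)
    (φ : M ≃* M) (hn : 1 ≤ n) (hφN : ∀ g, φ^[p ^ n] g = g)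
    (hmin : ∀ P : Subgroup M, P ≠ ⊤ → (∀ g ∈ P, φ g ∈ P) → ∀ g ∈ P, φ^[p ^ (n - 1)] g = g)
    (hψ : ∃ g, φ^[p ^ (n - 1)] g ≠ g)
    (hφZ : ∀ z ∈ Subgroup.center M, φ z = z) :
    (∃ a b : M, a * b ≠ b * a) ∧ (∀ g h : M, ⁅g, h⁆ ∈ Subgroup.center M) ∧
    (∀ k, 0 < k → k < p ^ n → ∀ g, g⁻¹ * φ^[k] g ∈ Subgroup.center M → g ∈ Subgroup.center M) := by
  classical
  have hFq : Fact q.Prime := ⟨hq⟩
  have hcl := closure_psi_eq_top hp hq hqp hM φ hn hφN hmin hψ
  set ψ : M → M := φ^[p ^ (n - 1)] with hψdef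
  have hψmul : ∀ a b, ψ (a * b) = ψ a * ψ b := iterate_map_mul φ _
  have hψinv : ∀ a, ψ a⁻¹ = (ψ a)⁻¹ := iterate_map_inv φ _
  -- nonabelian
  have hnab : ∃ a b : M, a * b ≠ b * a := by
    by_contra hcon
    push Not at hcon
    obtain ⟨g, hg⟩ := hψ
    apply hg
    have hfix : ∀ x : M, φ x = x :=
      fun x => hφZ x (Subgroup.mem_center_iff.mpr (fun y => hcon y x))
    exact Function.iterate_fixed (hfix g) _
  obtain ⟨a, b, hab⟩ := hnab
  refine ⟨⟨a, b, hab⟩, ?_⟩
  have hnt : Nontrivial M := ⟨⟨a * b, b * a, hab⟩⟩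
  have hnil : Group.IsNilpotent M := hM.isNilpotent
  have hDtop : commutator M ≠ ⊤ := (Group.IsSolvable.commutator_lt_top_of_nontrivial M).ne
  have hDinv : ∀ g ∈ commutator M, φ g ∈ commutator M := by
    intro g hg
    have h1 := Subgroup.characteristic_iff_map_eq.mp
      (inferInstance : (commutator M).Characteristic) φ
    rw [← h1]
    exact Subgroup.mem_map_of_mem _ hg
  have hψD : ∀ d ∈ commutator M, ψ d = d := hmin _ hDtop hDinv
  have hcommD : ∀ g h : M, ⁅g, h⁆ ∈ commutator M := by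
    intro g h
    rw [commutator_def]
    exact Subgroup.commutator_mem_commutator (Subgroup.mem_top g) (Subgroup.mem_top h)
  have hCZ : ∀ c, ψ c = c → c ∈ Subgroup.center M := by
    intro c hc
    have h1 : ∀ g : M, c * (g⁻¹ * ψ g) = (g⁻¹ * ψ g) * c := by
      intro g
      have h2 := hψD _ (hcommD c g)
      rw [commutatorElement_def, hψmul, hψmul, hψmul, hψinv, hψinv, hc] at h2
      have h3 : ψ g * c⁻¹ * (ψ g)⁻¹ = g * c⁻¹ * g⁻¹ := by
        calc ψ g * c⁻¹ * (ψ g)⁻¹ = c⁻¹ * (c * ψ g * c⁻¹ * (ψ g)⁻¹) := by group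
          _ = c⁻¹ * (c * g * c⁻¹ * g⁻¹) := congrArg (fun t => c⁻¹ * t) h2
          _ = g * c⁻¹ * g⁻¹ := by group
      have h4 : (g⁻¹ * ψ g) * c⁻¹ = c⁻¹ * (g⁻¹ * ψ g) := by
        calc (g⁻¹ * ψ g) * c⁻¹ = g⁻¹ * (ψ g * c⁻¹ * (ψ g)⁻¹) * ψ g := by group
          _ = g⁻¹ * (g * c⁻¹ * g⁻¹) * ψ g := by rw [h3]
          _ = c⁻¹ * (g⁻¹ * ψ g) := by group
      calc c * (g⁻¹ * ψ g) = c * ((g⁻¹ * ψ g) * c⁻¹) * c := by group
        _ = c * (c⁻¹ * (g⁻¹ * ψ g)) * c := by rw [h4]
        _ = (g⁻¹ * ψ g) * c := by group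
    have h5 : Subgroup.closure {y : M | ∃ g, y = g⁻¹ * ψ g}
        ≤ Subgroup.centralizer ({c} : Set M) := by
      rw [Subgroup.closure_le]
      rintro y ⟨g, rfl⟩
      show g⁻¹ * ψ g ∈ Subgroup.centralizer ({c} : Set M)
      rw [Subgroup.mem_centralizer_iff]
      intro x hx
      rw [Set.mem_singleton_iff] at hx
      rw [hx]
      exact h1 g
    rw [hcl] at h5
    rw [Subgroup.mem_center_iff]
    intro y
    have h6 : y ∈ Subgroup.centralizer ({c} : Set M) := h5 (Subgroup.mem_top y)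
    rw [Subgroup.mem_centralizer_iff] at h6
    exact (h6 c rfl).symm
  have hcomm : ∀ g h : M, ⁅g, h⁆ ∈ Subgroup.center M :=
    fun g h => hCZ _ (hψD _ (hcommD g h))
  refine ⟨hcomm, ?_⟩
  intro k hk0 hkN
  have hNpos : 0 < p ^ n := pow_pos hp.pos n
  have hcop : (p ^ n).Coprime (Nat.card (Subgroup.center M)) := by
    obtain ⟨m, hm⟩ := IsPGroup.iff_card.mp (hM.to_subgroup (Subgroup.center M))
    rw [hm]
    exact Nat.Coprime.pow _ _ ((Nat.coprime_primes hp hq).mpr (Ne.symm hqp))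
  have hper : ∀ g, (iterEquiv φ k)^[p ^ n] g = g := by
    intro g
    rw [iterEquiv_iterate, mul_comm, Function.iterate_mul]
    exact Function.iterate_fixed (hφN g) k
  have hC : ∀ g, iterEquiv φ k g = g → g ∈ Subgroup.center M := by
    intro g hg
    rw [iterEquiv_apply] at hg
    apply hCZ
    -- the minimal period of `g` divides `k` and `p ^ n`
    have h1 : Function.IsPeriodicPt φ k g := hg
    have h2 : Function.IsPeriodicPt φ (p ^ n) g := hφN g
    have h3 : Function.minimalPeriod φ g ∣ k := h1.minimalPeriod_dvd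
    have h4 : Function.minimalPeriod φ g ∣ p ^ n := h2.minimalPeriod_dvd
    obtain ⟨b, hb, hbeq⟩ := (Nat.dvd_prime_pow hp).mp h4
    have hbn : b ≤ n - 1 := by
      by_contra hcon
      have hbn' : b = n := by omega
      rw [hbeq, hbn'] at h3
      have := Nat.le_of_dvd hk0 h3
      omega
    have h5 : Function.minimalPeriod φ g ∣ p ^ (n - 1) := by
      rw [hbeq]
      exact pow_dvd_pow p hbn
    exact (Function.isPeriodicPt_minimalPeriod φ g).trans_dvd h5
  intro g hg
  have := fpf_mod_center' (iterEquiv φ k) hper hcop hC g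
  rw [iterEquiv_apply] at this
  exact this hg

end Min

end Cfsg.Agent.Lib.Helper23.HB
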