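import Cfsg.Agent.Lib.Helper23.HBCore
import Cfsg.Agent.Lib.Helper23.HBFinalA

/-!
# The minimal configuration for Hall–Higman Theorem B: representation part

Transfer between an operator `X` implementing `φ` and the intertwiner `τ₁` inside the enveloping
algebra, and the final case of Theorem B.
-/

set_option autoImplicit false

namespace Cfsg.Agent.Lib.Helper23.HB

open Module
open Cfsg.Agent.Lib.Helper10.XRep
open scoped commutatorElement

universe u v w

open Polynomial in
theorem sub_one_pow_char_pow_alg {E : Type*} [Field E] {p : ℕ} [Fact p.Prime] [CharP E p]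
    {A : Type*} [Ring A] [Algebra E A] (x : A) (n : ℕ) :
    (x - 1) ^ (p ^ n) = x ^ (p ^ n) - 1 := by
  have h1 : ((X : E[X]) - 1) ^ (p ^ n) = X ^ (p ^ n) - 1 := by
    rw [sub_pow_char_pow, one_pow]
  have := congrArg (aeval x) h1
  simpa using this

theorem eq_one_of_pow_char_pow {E : Type*} [Field E] {p : ℕ} [Fact p.Prime] [CharP E p]
    (c : E) (n : ℕ) (hc : c ^ (p ^ n) = 1) : c = 1 := by
  have h1 : (c - 1) ^ (p ^ n) = 0 := by rw [sub_pow_char_pow, one_pow, hc, sub_self]
  exact sub_eq_zero.mp (pow_eq_zero_iff (pow_pos (Fact.out : p.Prime).pos n).ne' |>.mp h1)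

variable {E : Type v} [Field E] {Q : Type u} [Group Q] [Fintype Q]
  {U : Type w} [AddCommGroup U] [Module E U]
  {ρ : Q →* Module.End E U} {Z : Subgroup Q}

omit [Fintype Q] in
theorem span_mul_mem {f g : Module.End E U} (hf : f ∈ Submodule.span E (Set.range ρ))
    (hg : g ∈ Submodule.span E (Set.range ρ)) : f * g ∈ Submodule.span E (Set.range ρ) := by
  rw [← mem_envAlg_iff] at hf hg ⊢
  exact (envAlg ρ).mul_mem hf hg

omit [Fintype Q] in
theorem span_pow_mem {f : Module.End E U} (hf : f ∈ Submodule.span E (Set.range ρ)) (k : ℕ) :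
    f ^ k ∈ Submodule.span E (Set.range ρ) := by
  rw [← mem_envAlg_iff] at hf ⊢
  exact (envAlg ρ).pow_mem hf k

/-- **Transfer.** If `X` implements `φ` and has `p`-power order, then the nilpotency of `X - 1`
bounds that of `τ₁ - 1`. -/
theorem transfer [IsAlgClosed E] [FiniteDimensional E U] [Nontrivial U] (H : Heis ρ Z)
    (φ : Q ≃* Q) {p : ℕ} [Fact p.Prime] [CharP E p] (n : ℕ)
    (X : Module.End E U) (hXN : X ^ (p ^ n) = 1) (hX : ∀ g, X * ρ g = ρ (φ g) * X)
    (τ₁ : Module.End E U) (hτmem : τ₁ ∈ Submodule.span E (Set.range ρ))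
    (hτN : τ₁ ^ (p ^ n) = 1) (hτ : ∀ g, ρ (φ g) * τ₁ = τ₁ * ρ g) :
    ∀ k : ℕ, (X - 1) ^ k = 0 → (τ₁ - 1) ^ k = 0 := by
  classical
  have hNpos : 0 < p ^ n := pow_pos (Fact.out : p.Prime).pos n
  obtain ⟨N', hN'⟩ : ∃ N', p ^ n = N' + 1 := ⟨p ^ n - 1, by omega⟩
  set Xinv : Module.End E U := X ^ N' with hXinv
  set τinv : Module.End E U := τ₁ ^ N' with hτinv
  have hX1 : X * Xinv = 1 := by rw [hXinv, ← pow_succ', ← hN', hXN]
  have hX2 : Xinv * X = 1 := by rw [hXinv, ← pow_succ, ← hN', hXN]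
  have hτ1 : τ₁ * τinv = 1 := by rw [hτinv, ← pow_succ', ← hN', hτN]
  have hτ2 : τinv * τ₁ = 1 := by rw [hτinv, ← pow_succ, ← hN', hτN]
  have hτinvmem : τinv ∈ Submodule.span E (Set.range ρ) := span_pow_mem hτmem N'
  -- conjugation by `X` preserves the span
  have hconj : ∀ f ∈ Submodule.span E (Set.range ρ), X * f * Xinv ∈ Submodule.span E (Set.range ρ) := by
    intro f hf
    induction hf using Submodule.span_induction with
    | mem x hx =>
      obtain ⟨g, rfl⟩ := hx
      rw [hX, mul_assoc, hX1, mul_one]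
      exact Submodule.subset_span ⟨_, rfl⟩
    | zero => rw [mul_zero, zero_mul]; exact Submodule.zero_mem _
    | add x y _ _ hx hy =>
      rw [mul_add, add_mul]
      exact Submodule.add_mem _ hx hy
    | smul c x _ hx =>
      rw [mul_smul_comm, smul_mul_assoc]
      exact Submodule.smul_mem _ _ hx
  -- auxiliary commutation rules
  have hXinvρ : ∀ g, Xinv * ρ g = ρ (φ.symm g) * Xinv := by
    intro g
    have h1 := hX (φ.symm g)
    rw [MulEquiv.apply_symm_apply] at h1
    calc Xinv * ρ g = Xinv * (ρ g * X) * Xinv := by rw [mul_assoc, mul_assoc, hX1, mul_one]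
      _ = Xinv * (X * ρ (φ.symm g)) * Xinv := by rw [h1]
      _ = ρ (φ.symm g) * Xinv := by rw [← mul_assoc, hX2, one_mul]
  have hτsymm : ∀ g, τ₁ * ρ (φ.symm g) = ρ g * τ₁ := by
    intro g
    have h1 := hτ (φ.symm g)
    rw [MulEquiv.apply_symm_apply] at h1
    exact h1.symm
  have hτinvρ : ∀ h, τinv * ρ (φ h) = ρ h * τinv := by
    intro h
    calc τinv * ρ (φ h) = τinv * (ρ (φ h) * τ₁) * τinv := by
          rw [mul_assoc, mul_assoc, hτ1, mul_one]
      _ = τinv * (τ₁ * ρ h) * τinv := by rw [hτ]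
      _ = ρ h * τinv := by rw [← mul_assoc, hτ2, one_mul]
  -- the conjugate intertwiner
  set τ₂ : Module.End E U := X * τ₁ * Xinv with hτ₂def
  have hτ₂mem : τ₂ ∈ Submodule.span E (Set.range ρ) := hconj τ₁ hτmem
  have hτ₂ : ∀ g, ρ (φ g) * τ₂ = τ₂ * ρ g := by
    intro g
    calc ρ (φ g) * τ₂ = (ρ (φ g) * X) * τ₁ * Xinv := by rw [hτ₂def]; simp only [mul_assoc]
      _ = X * (ρ g * τ₁) * Xinv := by rw [← hX]; simp only [mul_assoc]
      _ = X * (τ₁ * ρ (φ.symm g)) * Xinv := by rw [hτsymm]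
      _ = X * τ₁ * (ρ (φ.symm g) * Xinv) := by simp only [mul_assoc]
      _ = X * τ₁ * (Xinv * ρ g) := by rw [hXinvρ]
      _ = τ₂ * ρ g := by rw [hτ₂def]; simp only [mul_assoc]
  -- the quotient is a scalar
  have hzmem : τinv * τ₂ ∈ Submodule.span E (Set.range ρ) := span_mul_mem hτinvmem hτ₂mem
  have hzcomm : ∀ h, ρ h * (τinv * τ₂) = (τinv * τ₂) * ρ h := by
    intro h
    calc ρ h * (τinv * τ₂) = (ρ h * τinv) * τ₂ := (mul_assoc _ _ _).symm
      _ = (τinv * ρ (φ h)) * τ₂ := by rw [hτinvρ]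
      _ = τinv * (ρ (φ h) * τ₂) := mul_assoc _ _ _
      _ = τinv * (τ₂ * ρ h) := by rw [hτ₂]
      _ = (τinv * τ₂) * ρ h := (mul_assoc _ _ _).symm
  obtain ⟨c, hc⟩ := scalar_of_commute H hzmem hzcomm
  have hτ₂eq : τ₂ = c • τ₁ := by
    calc τ₂ = τ₁ * (τinv * τ₂) := by rw [← mul_assoc, hτ1, one_mul]
      _ = c • τ₁ := by rw [hc, mul_smul_comm, mul_one]
  have hconjpow : ∀ (f : Module.End E U) (k : ℕ), (X * f * Xinv) ^ k = X * f ^ k * Xinv := by
    intro f k
    induction k with
    | zero => rw [pow_zero, pow_zero, mul_one, hX1]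
    | succ k ih =>
      rw [pow_succ, ih, pow_succ]
      calc X * f ^ k * Xinv * (X * f * Xinv) = X * f ^ k * (Xinv * X) * f * Xinv := by
            simp only [mul_assoc]
        _ = X * (f ^ k * f) * Xinv := by rw [hX2, mul_one]; simp only [mul_assoc]
  have hτ₂N : τ₂ ^ (p ^ n) = 1 := by rw [hτ₂def, hconjpow, hτN, mul_one, hX1]
  have hcN : c ^ (p ^ n) = 1 := by
    rw [hτ₂eq, smul_pow, hτN] at hτ₂N
    have h1 : (c ^ (p ^ n) - 1) • (1 : Module.End E U) = 0 := by
      rw [sub_smul, one_smul, hτ₂N, sub_self]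
    rcases smul_eq_zero.mp h1 with h2 | h2
    · exact sub_eq_zero.mp h2
    · exact absurd h2 one_ne_zero
  have hc1 : c = 1 := eq_one_of_pow_char_pow c n hcN
  have hXτ : X * τ₁ = τ₁ * X := by
    have h1 : X * τ₁ * Xinv = τ₁ := by rw [← hτ₂def, hτ₂eq, hc1, one_smul]
    calc X * τ₁ = X * τ₁ * Xinv * X := by rw [mul_assoc (X * τ₁), hX2, mul_one]
      _ = τ₁ * X := by rw [h1]
  have hXτc : Commute X τ₁ := hXτ
  -- the unipotent quotient
  set D : Module.End E U := X * τinv with hDdef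
  have hDρ : ∀ g, D * ρ g = ρ g * D := by
    intro g
    have h1 := hτinvρ (φ.symm g)
    rw [MulEquiv.apply_symm_apply] at h1
    have h2 := hX (φ.symm g)
    rw [MulEquiv.apply_symm_apply] at h2
    rw [hDdef, mul_assoc, h1, ← mul_assoc, h2, mul_assoc]
  have hXτinv : Commute X τinv := hXτc.pow_right N'
  have hDX : Commute D X := (Commute.refl X).mul_left hXτinv.symm
  have hDτ : Commute D τ₁ := hXτc.mul_left ((Commute.refl τ₁).pow_left N')
  have hDN : D ^ (p ^ n) = 1 := by
    rw [hDdef, hXτinv.mul_pow, hXN, one_mul, hτinv, ← pow_mul, mul_comm, pow_mul, hτN, one_pow]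
  have hDnil : (D - 1) ^ (p ^ n) = 0 := by
    rw [sub_one_pow_char_pow_alg (E := E), hDN, sub_self]
  have hDspan : ∀ f ∈ Submodule.span E (Set.range ρ), D * f = f * D := by
    intro f hf
    induction hf using Submodule.span_induction with
    | mem x hx =>
      obtain ⟨g, rfl⟩ := hx
      exact hDρ g
    | zero => rw [mul_zero, zero_mul]
    | add x y _ _ hx hy => rw [mul_add, add_mul, hx, hy]
    | smul a x _ hx => rw [mul_smul_comm, smul_mul_assoc, hx]
  -- the fixed space of `D`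
  let W' : Submodule E U := LinearMap.ker (D - 1)
  have hW'mem : ∀ w, w ∈ W' ↔ D w = w := by
    intro w
    show (D - 1) w = 0 ↔ D w = w
    rw [LinearMap.sub_apply, Module.End.one_apply, sub_eq_zero]
  have hW'ne : W' ≠ ⊥ := by
    intro hbot
    have hinj : Function.Injective ⇑(D - 1) := LinearMap.ker_eq_bot.mp hbot
    have hinj' : Function.Injective ⇑((D - 1) ^ (p ^ n)) := by
      rw [Module.End.coe_pow]
      exact hinj.iterate _
    obtain ⟨u, hu⟩ := exists_ne (0 : U)
    apply hu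
    apply hinj'
    rw [hDnil, LinearMap.zero_apply, map_zero]
  have hW'inv : ∀ f : Module.End E U, D * f = f * D → ∀ w ∈ W', f w ∈ W' := by
    intro f hf w hw
    rw [hW'mem] at hw ⊢
    rw [← Module.End.mul_apply, hf, Module.End.mul_apply, hw]
  have hXW' : ∀ w ∈ W', X w = τ₁ w := by
    intro w hw
    have h1 : τ₁ w ∈ W' := hW'inv τ₁ hDτ.eq w hw
    rw [hW'mem] at h1
    calc X w = X ((τinv * τ₁) w) := by rw [hτ2, Module.End.one_apply]
      _ = D (τ₁ w) := by rw [hDdef, Module.End.mul_apply, Module.End.mul_apply]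
      _ = τ₁ w := h1
  have hpowW' : ∀ k : ℕ, ∀ w ∈ W', ((X - 1) ^ k) w = ((τ₁ - 1) ^ k) w := by
    intro k
    induction k with
    | zero => intro w _; rfl
    | succ k ih =>
      intro w hw
      have h1 : (τ₁ - 1) w ∈ W' := by
        apply hW'inv _ _ w hw
        rw [mul_sub, sub_mul, mul_one, one_mul, hDτ.eq]
      rw [pow_succ, Module.End.mul_apply, pow_succ, Module.End.mul_apply]
      have h2 : (X - 1) w = (τ₁ - 1) w := by
        rw [LinearMap.sub_apply, LinearMap.sub_apply, hXW' w hw]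
      rw [h2, ih _ h1]
  -- the annihilator ideal of `W'` in the enveloping algebra
  have hsimple := isSimpleRing_envAlg H
  let I : Ideal (envAlg ρ) :=
    { carrier := {b | ∀ w ∈ W', (b : Module.End E U) w = 0}
      add_mem' := by
        intro x y hx hy w hw
        rw [Subalgebra.coe_add, LinearMap.add_apply, hx w hw, hy w hw, add_zero]
      zero_mem' := by
        intro w _
        rfl
      smul_mem' := by
        intro x y hy w hw
        show ((x * y : envAlg ρ) : Module.End E U) w = 0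
        rw [Subalgebra.coe_mul, Module.End.mul_apply, hy w hw, map_zero] }
  have hI2 : I.IsTwoSided := by
    refine ⟨?_⟩
    intro x y hx w hw
    show ((x * y : envAlg ρ) : Module.End E U) w = 0
    rw [Subalgebra.coe_mul, Module.End.mul_apply]
    apply hx
    exact hW'inv _ (hDspan _ ((mem_envAlg_iff ρ).mp y.2)) w hw
  have hIbot : I = ⊥ := by
    rcases (isSimpleRing_iff_isTwoSided_imp.mp hsimple).2 I hI2 with h | h
    · exact h
    · exfalso
      have h1 : (1 : envAlg ρ) ∈ I := h ▸ Submodule.mem_top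
      obtain ⟨w, hw, hw0⟩ := (Submodule.ne_bot_iff _).mp hW'ne
      apply hw0
      have := h1 w hw
      rwa [Subalgebra.coe_one, Module.End.one_apply] at this
  intro k hk
  let a : envAlg ρ := ⟨τ₁, (mem_envAlg_iff ρ).mpr hτmem⟩
  have haI : (a - 1) ^ k ∈ I := by
    intro w hw
    rw [Subalgebra.coe_pow, Subalgebra.coe_sub, Subalgebra.coe_one]
    show ((τ₁ - 1) ^ k) w = 0
    rw [← hpowW' k w hw, hk, LinearMap.zero_apply]
  rw [hIbot, Ideal.mem_bot] at haI
  have := congrArg Subtype.val haI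
  rwa [Subalgebra.coe_pow, Subalgebra.coe_sub, Subalgebra.coe_one] at this

end Cfsg.Agent.Lib.Helper23.HB
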