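import Cfsg.Agent.Lib.Helper23.HBFinalB

/-!
# The final case of Hall–Higman Theorem B

A finite `q`-group `M`, faithfully represented over an algebraically closed field of
characteristic `p ≠ q` with centre acting by scalars, with an automorphism `φ` implemented by an
operator `X` with `X ^ (p ^ n) = 1`, in a minimal configuration.
-/

set_option autoImplicit false

namespace Cfsg.Agent.Lib.Helper23.HB

open Module
open Cfsg.Agent.Lib.Helper10.XRep
open scoped commutatorElement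

universe u v w

variable {E : Type v} [Field E] {M : Type u} [Group M] {U : Type w} [AddCommGroup U] [Module E U]

/-- powers of an operator implementing `φ` implement the iterates of `φ`. -/
theorem pow_mul_rho (ρ : M →* Module.End E U) (φ : M ≃* M) (X : Module.End E U)
    (hX : ∀ g, X * ρ g = ρ (φ g) * X) (k : ℕ) (g : M) :
    X ^ k * ρ g = ρ (φ^[k] g) * X ^ k := by
  induction k generalizing g with
  | zero => simp
  | succ k ih =>
    rw [pow_succ, mul_assoc, hX, ← mul_assoc, ih, Function.iterate_succ_apply, mul_assoc]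

theorem rho_injective_of_faithful (ρ : M →* Module.End E U) (hρ : ∀ g, ρ g = 1 → g = 1) :
    Function.Injective ρ := by
  intro a b hab
  have h1 : ρ (a * b⁻¹) = 1 := by
    rw [map_mul, hab, ← map_mul, mul_inv_cancel, map_one]
  have h2 := hρ _ h1
  exact mul_inv_eq_one.mp h2

theorem finalCase [IsAlgClosed E] {p : ℕ} [Fact p.Prime] [CharP E p] [Finite M]
    [FiniteDimensional E U] [Nontrivial U]
    (ρ : M →* Module.End E U) (hρ : ∀ g, ρ g = 1 → g = 1)
    {q : ℕ} (hq : q.Prime) (hqp : q ≠ p) (hM : IsPGroup q M)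
    (φ : M ≃* M) {n : ℕ} (hn : 1 ≤ n)
    (X : Module.End E U) (hXN : X ^ (p ^ n) = 1) (hX : ∀ g, X * ρ g = ρ (φ g) * X)
    (hmin : ∀ P : Subgroup M, P ≠ ⊤ → (∀ g ∈ P, φ g ∈ P) → ∀ g ∈ P, φ^[p ^ (n - 1)] g = g)
    (hψ : ∃ g, φ^[p ^ (n - 1)] g ≠ g)
    (hZ : ∀ z ∈ Subgroup.center M, ∃ c : E, ρ z = c • (1 : Module.End E U)) :
    (X - 1) ^ (p ^ n - 1) ≠ 0 ∨
      ((X - 1) ^ (p ^ n - 2) ≠ 0 ∧ (∃ m, 1 ≤ m ∧ p ^ n - 1 = q ^ m) ∧ ∃ a b : M, a * b ≠ b * a) := by
  classical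
  have hp : p.Prime := Fact.out
  have hFq : Fact q.Prime := ⟨hq⟩
  have : Fintype M := Fintype.ofFinite M
  have hNpos : 0 < p ^ n := pow_pos hp.pos n
  have hN1 : 1 < p ^ n := Nat.one_lt_pow (by omega) hp.one_lt
  have hρinj := rho_injective_of_faithful ρ hρ
  obtain ⟨N', hN'⟩ : ∃ N', p ^ n = N' + 1 := ⟨p ^ n - 1, by omega⟩
  have hX1 : X * X ^ N' = 1 := by rw [← pow_succ', ← hN', hXN]
  -- `φ` has period `p ^ n`
  have hφN : ∀ g, φ^[p ^ n] g = g := by
    intro g
    apply hρinj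
    have h1 := pow_mul_rho ρ φ X hX (p ^ n) g
    rw [hXN, one_mul, mul_one] at h1
    exact h1.symm
  -- `φ` fixes the centre
  have hφZ : ∀ z ∈ Subgroup.center M, φ z = z := by
    intro z hz
    obtain ⟨c, hc⟩ := hZ z hz
    apply hρinj
    have h1 := hX z
    rw [hc, mul_smul_comm, mul_one] at h1
    calc ρ (φ z) = ρ (φ z) * X * X ^ N' := by rw [mul_assoc, hX1, mul_one]
      _ = (c • X) * X ^ N' := by rw [← h1]
      _ = c • (1 : Module.End E U) := by rw [smul_mul_assoc, hX1]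
      _ = ρ z := hc.symm
  obtain ⟨⟨a, b, hab⟩, hcomm, hfpf⟩ :=
    min_structure hp hq hqp hM φ hn hφN hmin hψ hφZ
  -- the Heisenberg structure
  have hqE : (q : E) ≠ 0 := by
    intro h0
    have h1 := (CharP.cast_eq_zero_iff E p q).mp h0
    exact hqp ((Nat.prime_dvd_prime_iff_eq hp hq).mp h1).symm
  have hcard : (Fintype.card M : E) ≠ 0 := by
    obtain ⟨m, hm⟩ := IsPGroup.iff_card.mp hM
    rw [← Nat.card_eq_fintype_card, hm, Nat.cast_pow]
    exact pow_ne_zero _ hqE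
  have H : Heis ρ (Subgroup.center M) := by
    refine ⟨fun z hz g => Subgroup.mem_center_iff.mp hz g, hcomm, hZ, ?_, hcard⟩
    intro g hg
    have h1 : ∃ h : M, h * g ≠ g * h := by
      by_contra hcon
      push Not at hcon
      exact hg (Subgroup.mem_center_iff.mpr hcon)
    obtain ⟨h, hh⟩ := h1
    refine ⟨h, ?_⟩
    intro h2
    exact hh (commutatorElement_eq_one_iff_mul_comm.mp (hρ _ h2))
  have hbZ : b ∉ Subgroup.center M := fun h => hab (Subgroup.mem_center_iff.mp h a)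
  obtain ⟨τ₁, hτmem, hτN, hτ⟩ := exists_tau H φ hNpos hφZ hφN (hfpf 1 Nat.one_pos hN1)
  have htr := transfer H φ n X hXN hX τ₁ hτmem hτN hτ
  rcases coreN H φ n hφZ hφN hfpf τ₁ hτmem hτN hτ ⟨b, hbZ⟩ with h | ⟨h1, h2⟩
  · exact Or.inl (fun h0 => h (htr _ h0))
  · right
    refine ⟨fun h0 => h1 (htr _ h0), ?_, ⟨a, b, hab⟩⟩
    obtain ⟨j, hj⟩ := hM.index (Subgroup.center M)
    rw [h2] at hj
    have h3 : (p ^ n - 1) ∣ q ^ j := ⟨p ^ n - 1, by rw [← hj, sq]⟩
    obtain ⟨m, -, hm⟩ := (Nat.dvd_prime_pow hq).mp h3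
    refine ⟨m, ?_, hm⟩
    by_contra hm0
    have hm0' : m = 0 := by omega
    rw [hm0', pow_zero] at hm
    rw [hm, one_pow] at h2
    have h4 : Subgroup.center M = ⊤ := Subgroup.index_eq_one.mp h2
    exact hbZ (h4 ▸ Subgroup.mem_top b)

end Cfsg.Agent.Lib.Helper23.HB
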