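import Cfsg.Agent.Lib.Helper1.CoprimeSylow
import Cfsg.Agent.Lib.Helper24.PSolvDual

/-!
# Hall–Higman Theorem B: the group-theoretic reduction

In a finite `p`-solvable group with `O_p(G) = 1`, an element `x` of order `p ^ n` (`n ≥ 1`)
normalizes a `q`-subgroup (`q ≠ p`) that is not centralized by `x ^ (p ^ (n - 1))`.
-/

set_option autoImplicit false

namespace Cfsg.Agent.Lib.Helper23.HB

open Subgroup
open Cfsg.Agent.Lib.Helper1

theorem exists_invariant_qsubgroup {G : Type*} [Group G] [Finite G] {p : ℕ} [Fact p.Prime]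
    (hsol : Cfsg.IsPSolvable p G) (hOp : Cfsg.pCore p G = ⊥) (x : G) {n : ℕ} (hn : 1 ≤ n)
    (hord : orderOf x = p ^ n) :
    ∃ (q : ℕ) (Q : Subgroup G), q.Prime ∧ q ≠ p ∧ IsPGroup q Q ∧
      x ∈ normalizer (Q : Set G) ∧
      ∃ g ∈ Q, x ^ (p ^ (n - 1)) * g * (x ^ (p ^ (n - 1)))⁻¹ ≠ g := by
  classical
  have hp : p.Prime := Fact.out
  set L : Subgroup G := Cfsg.pPrimeCore p G with hL
  have hLn : L.Normal := Cfsg.H5.pPrimeCore_normal p G
  have hLc : (Nat.card L).Coprime p := Cfsg.H5.coprime_card_pPrimeCore p G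
  have hCL : centralizer (L : Set G) ≤ L :=
    Cfsg.Agent.Lib.Helper24.PSolvDual.centralizer_pPrimeCore_le_of_isPSolvable hsol hOp
  set y : G := x ^ (p ^ (n - 1)) with hydef
  -- `y` has order `p`
  have hyord : orderOf y = p := by
    rw [hydef, orderOf_pow' x (pow_pos hp.pos _).ne', hord, Nat.gcd_eq_right (pow_dvd_pow p (by omega))]
    have : p ^ n = p ^ (n - 1) * p := by rw [← pow_succ, Nat.sub_add_cancel hn]
    rw [this, Nat.mul_div_cancel_left _ (pow_pos hp.pos _)]
  have hyL : y ∉ L := by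
    intro hy
    have h1 : orderOf y ∣ Nat.card L := by
      have := orderOf_dvd_natCard (⟨y, hy⟩ : L)
      rwa [Subgroup.orderOf_mk] at this
    rw [hyord] at h1
    have := Nat.Coprime.eq_one_of_dvd hLc.symm h1
    exact hp.one_lt.ne' this
  have hyC : y ∉ centralizer (L : Set G) := fun h => hyL (hCL h)
  -- the centralizer of `y` in `L` is proper
  set C' : Subgroup L := (centralizer ({y} : Set G)).subgroupOf L with hC'
  have hC'top : C' ≠ ⊤ := by
    intro htop
    apply hyC
    rw [mem_centralizer_iff]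
    intro l hl
    have h1 : (⟨l, hl⟩ : L) ∈ C' := htop ▸ mem_top _
    rw [hC', mem_subgroupOf, mem_centralizer_iff] at h1
    exact (h1 y rfl).symm
  have hidx : C'.index ≠ 1 := fun h => hC'top (index_eq_one.mp h)
  obtain ⟨q, hq, hqdvd⟩ := Nat.exists_prime_and_dvd hidx
  have hFq : Fact q.Prime := ⟨hq⟩
  have hqp : q ≠ p := by
    rintro rfl
    have h1 : q ∣ Nat.card L := hqdvd.trans (index_dvd_card C')
    exact hq.one_lt.ne' (Nat.Coprime.eq_one_of_dvd hLc.symm h1)
  -- coprime action of `⟨x⟩` on `L`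
  have hact : CoprimeAct (zpowers x) L := by
    refine ⟨?_, ?_, Or.inl inferInstance⟩
    · rw [normalizer_eq_top]
      exact le_top
    · rw [Nat.card_zpowers, hord]
      exact Nat.Coprime.pow_left n hLc.symm
  obtain ⟨P, hP⟩ := hact.exists_invariant_sylow q
  refine ⟨q, (P : Subgroup L).map L.subtype, hq, hqp, ?_, hP (mem_zpowers x), ?_⟩
  · exact P.2.map L.subtype
  · by_contra hcon
    push Not at hcon
    have hle : (P : Subgroup L) ≤ C' := by
      intro l hl
      rw [hC', mem_subgroupOf, mem_centralizer_iff]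
      intro h hh
      rw [Set.mem_singleton_iff] at hh
      rw [hh]
      have h1 := hcon (l : G) (mem_map_of_mem L.subtype hl)
      calc y * (l : G) = y * (l : G) * y⁻¹ * y := by group
        _ = (l : G) * y := by rw [h1]
    have h2 : C'.index ∣ (P : Subgroup L).index := index_dvd_of_le hle
    exact P.not_dvd_index (hqdvd.trans h2)

end Cfsg.Agent.Lib.Helper23.HB
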