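import Cfsg.Agent.Lib.Helper23.HBMin

/-!
# Hall–Higman Theorem B: conclusion predicate and transport to the operator group
-/

set_option autoImplicit false

namespace Cfsg.Agent.Lib.Helper23.HB

universe v w

variable {E : Type v} [Field E] {U : Type w} [AddCommGroup U] [Module E U]

/-- the conclusion of Theorem B for the nilpotent operator `T = x - 1`. -/
def Concl (p q n : ℕ) (T : Module.End E U) (nonab : Prop) : Prop :=
  T ^ (p ^ n - 1) ≠ 0 ∨ (nonab ∧ ∃ n₀ m : ℕ, 1 ≤ n₀ ∧ n₀ ≤ n ∧ 1 ≤ m ∧ p ^ n₀ - 1 = q ^ m ∧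
    T ^ (p ^ (n - n₀) * (p ^ n₀ - 1) - 1) ≠ 0)

theorem Concl.imp {p q n : ℕ} {T : Module.End E U} {A B : Prop} (h : Concl p q n T A)
    (hAB : A → B) : Concl p q n T B := by
  rcases h with h | ⟨hA, h⟩
  · exact Or.inl h
  · exact Or.inr ⟨hAB hA, h⟩

/-- the statement of Theorem B for finite `q`-subgroups of the operator group of `U`. -/
def UnitsForm (E : Type v) [Field E] (p : ℕ) (U : Type w) [AddCommGroup U] [Module E U] : Prop :=
  ∀ (q : ℕ), q.Prime → q ≠ p → ∀ (Q : Subgroup (Module.End E U)ˣ), Finite Q → IsPGroup q Q →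
    ∀ x : (Module.End E U)ˣ, x ∈ Subgroup.normalizer (Q : Set (Module.End E U)ˣ) →
    ∀ n : ℕ, 1 ≤ n → x ^ (p ^ n) = 1 →
    (∃ g ∈ Q, x ^ (p ^ (n - 1)) * g * (x ^ (p ^ (n - 1)))⁻¹ ≠ g) →
    Concl p q n ((x : Module.End E U) - 1) (∃ a ∈ Q, ∃ b ∈ Q, a * b ≠ b * a)

/-- transport: Theorem B for an arbitrary group acting on `U`. -/
theorem gamma_of_units {p : ℕ} (hU : UnitsForm E p U) {Γ : Type*} [Group Γ]
    (ρ : Γ →* Module.End E U) {q : ℕ} (hq : q.Prime) (hqp : q ≠ p) (Q : Subgroup Γ) [Finite Q]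
    (hQ : IsPGroup q Q) (x : Γ) (hx : x ∈ Subgroup.normalizer (Q : Set Γ)) {n : ℕ} (hn : 1 ≤ n)
    (hxN : ρ x ^ (p ^ n) = 1)
    (hy : ∃ g ∈ Q, ρ (x ^ (p ^ (n - 1)) * g * (x ^ (p ^ (n - 1)))⁻¹) ≠ ρ g) :
    Concl p q n (ρ x - 1) (∃ a ∈ Q, ∃ b ∈ Q, ρ (a * b) ≠ ρ (b * a)) := by
  let ρu : Γ →* (Module.End E U)ˣ := ρ.toHomUnits
  have hρu : ∀ g, ((ρu g : (Module.End E U)ˣ) : Module.End E U) = ρ g := fun g => rfl
  have hfin : Finite (Q.map ρu) := by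
    have : (Q.map ρu : Set (Module.End E U)ˣ) = ρu '' (Q : Set Γ) := Subgroup.coe_map ρu Q
    apply Set.Finite.to_subtype
    show (Q.map ρu : Set (Module.End E U)ˣ).Finite
    rw [this]
    exact (Set.toFinite (Q : Set Γ)).image _
  have hpg : IsPGroup q (Q.map ρu) := hQ.map ρu
  have hx' : ρu x ∈ Subgroup.normalizer ((Q.map ρu : Subgroup (Module.End E U)ˣ) : Set _) :=
    Subgroup.le_normalizer_map ρu (Subgroup.mem_map_of_mem ρu hx)
  have hxN' : ρu x ^ (p ^ n) = 1 := by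
    apply Units.ext
    rw [Units.val_pow_eq_pow_val, hρu, hxN, Units.val_one]
  have hy' : ∃ g ∈ Q.map ρu,
      ρu x ^ (p ^ (n - 1)) * g * (ρu x ^ (p ^ (n - 1)))⁻¹ ≠ g := by
    obtain ⟨g, hg, hne⟩ := hy
    refine ⟨ρu g, Subgroup.mem_map_of_mem ρu hg, ?_⟩
    intro h
    apply hne
    rw [← map_pow, ← map_inv, ← map_mul, ← map_mul] at h
    have := congrArg (fun u : (Module.End E U)ˣ => (u : Module.End E U)) h
    exact this
  have hres := hU q hq hqp (Q.map ρu) hfin hpg (ρu x) hx' n hn hxN' hy'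
  rw [hρu] at hres
  apply hres.imp
  rintro ⟨a, ha, b, hb, hab⟩
  obtain ⟨a', ha', rfl⟩ := ha
  obtain ⟨b', hb', rfl⟩ := hb
  refine ⟨a', ha', b', hb', ?_⟩
  intro h
  apply hab
  apply Units.ext
  rw [← map_mul, ← map_mul, hρu, hρu, h]

end Cfsg.Agent.Lib.Helper23.HB
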