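import Cfsg.Agent.Lib.Helper23.HBInd1

/-!
# Hall–Higman Theorem B: stabilizers of subspaces and exponent arithmetic
-/

set_option autoImplicit false

namespace Cfsg.Agent.Lib.Helper23.HB

universe v w

variable {E : Type v} [Field E] {U : Type w} [AddCommGroup U] [Module E U]

/-- the stabilizer of a subspace in the operator group. -/
def stab (U' : Submodule E U) : Subgroup (Module.End E U)ˣ where
  carrier := {h | (∀ w ∈ U', (h : Module.End E U) w ∈ U') ∧
    (∀ w ∈ U', ((h⁻¹ : (Module.End E U)ˣ) : Module.End E U) w ∈ U')}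
  one_mem' := by
    refine ⟨fun w hw => ?_, fun w hw => ?_⟩
    · rw [Units.val_one, Module.End.one_apply]; exact hw
    · rw [inv_one, Units.val_one, Module.End.one_apply]; exact hw
  mul_mem' := by
    rintro a b ⟨ha1, ha2⟩ ⟨hb1, hb2⟩
    refine ⟨fun w hw => ?_, fun w hw => ?_⟩
    · rw [Units.val_mul, Module.End.mul_apply]
      exact ha1 _ (hb1 w hw)
    · rw [mul_inv_rev, Units.val_mul, Module.End.mul_apply]
      exact hb2 _ (ha2 w hw)
  inv_mem' := by
    rintro a ⟨ha1, ha2⟩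
    refine ⟨ha2, ?_⟩
    rw [inv_inv]
    exact ha1

theorem mem_stab {U' : Submodule E U} {h : (Module.End E U)ˣ} :
    h ∈ stab U' ↔ (∀ w ∈ U', (h : Module.End E U) w ∈ U') ∧
      (∀ w ∈ U', ((h⁻¹ : (Module.End E U)ˣ) : Module.End E U) w ∈ U') := Iff.rfl

/-- the action of the stabilizer on the subspace. -/
def stabRep (U' : Submodule E U) : ↥(stab U') →* Module.End E U' where
  toFun h := (h.1 : Module.End E U).restrict h.2.1
  map_one' := by
    apply LinearMap.ext
    intro w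
    apply Subtype.ext
    rfl
  map_mul' a b := by
    apply LinearMap.ext
    intro w
    apply Subtype.ext
    rfl

theorem stabRep_apply (U' : Submodule E U) (h : ↥(stab U')) (w : U') :
    ((stabRep U' h w : U') : U) = ((h : (Module.End E U)ˣ) : Module.End E U) (w : U) := rfl

theorem stabRep_sub_one_pow (U' : Submodule E U) (h : ↥(stab U')) (e : ℕ) (w : U') :
    ((((stabRep U' h - 1) ^ e) w : U') : U)
      = ((((h : (Module.End E U)ˣ) : Module.End E U) - 1) ^ e) (w : U) := by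
  induction e generalizing w with
  | zero => rfl
  | succ e ih =>
    rw [pow_succ, Module.End.mul_apply, ih, pow_succ, Module.End.mul_apply]
    rfl

/-- an element all of whose powers... : a unit of finite order preserving `U'` stabilizes it. -/
theorem mem_stab_of_pow_eq_one {U' : Submodule E U} (z : (Module.End E U)ˣ) {m : ℕ} (hm : 0 < m)
    (hz : z ^ m = 1) (h : ∀ w ∈ U', (z : Module.End E U) w ∈ U') : z ∈ stab U' := by
  refine ⟨h, ?_⟩
  obtain ⟨m', rfl⟩ : ∃ m', m = m' + 1 := ⟨m - 1, by omega⟩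
  have hinv : z⁻¹ = z ^ m' := by
    apply inv_eq_of_mul_eq_one_right
    rw [← pow_succ', hz]
  rw [hinv]
  have hpow : ∀ j : ℕ, ∀ w ∈ U', ((z ^ j : (Module.End E U)ˣ) : Module.End E U) w ∈ U' := by
    intro j
    induction j with
    | zero => intro w hw; rw [pow_zero, Units.val_one, Module.End.one_apply]; exact hw
    | succ j ih =>
      intro w hw
      rw [pow_succ, Units.val_mul, Module.End.mul_apply]
      exact ih _ (h w hw)
  exact hpow m'

theorem exp_arith1 {p k n : ℕ} (hp : 0 < p) (hk : k ≤ n) :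
    p ^ k * (p ^ (n - k) - 1) + p ^ k - 1 = p ^ n - 1 := by
  have h1 : p ^ k * p ^ (n - k) = p ^ n := by rw [← pow_add, Nat.add_sub_cancel' hk]
  have h2 : 0 < p ^ (n - k) := pow_pos hp _
  obtain ⟨A, hA⟩ : ∃ A, p ^ (n - k) = A + 1 := ⟨p ^ (n - k) - 1, by omega⟩
  rw [hA] at h1 ⊢
  rw [Nat.add_sub_cancel, ← h1, Nat.mul_succ]

theorem exp_arith2 {p k n n₀ : ℕ} (hp : 2 ≤ p) (hn₀ : 1 ≤ n₀) (h : n₀ ≤ n - k) (hk : k ≤ n) :
    p ^ k * (p ^ (n - k - n₀) * (p ^ n₀ - 1) - 1) + p ^ k - 1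
      = p ^ (n - n₀) * (p ^ n₀ - 1) - 1 := by
  have h1 : p ^ k * p ^ (n - k - n₀) = p ^ (n - n₀) := by
    rw [← pow_add]
    congr 1
    omega
  have h2 : 0 < p ^ (n - k - n₀) := pow_pos (by omega) _
  have h3 : 2 ≤ p ^ n₀ := by
    calc 2 ≤ p := hp
      _ = p ^ 1 := (pow_one p).symm
      _ ≤ p ^ n₀ := Nat.pow_le_pow_right (by omega) hn₀
  have h4 : 0 < p ^ (n - k - n₀) * (p ^ n₀ - 1) := Nat.mul_pos h2 (by omega)
  obtain ⟨B, hB⟩ : ∃ B, p ^ (n - k - n₀) * (p ^ n₀ - 1) = B + 1 :=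
    ⟨p ^ (n - k - n₀) * (p ^ n₀ - 1) - 1, by omega⟩
  rw [← h1, mul_assoc, hB, Nat.add_sub_cancel, Nat.mul_succ]

end Cfsg.Agent.Lib.Helper23.HB
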