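import Cfsg.Agent.Lib.Helper23.HBInd2

/-!
# Hall–Higman Theorem B: the inductive step
-/

set_option autoImplicit false
set_option maxHeartbeats 800000

namespace Cfsg.Agent.Lib.Helper23.HB

open Module
open Cfsg.Agent.Lib.Helper7.S3W
open Cfsg.Agent.Lib.Helper10.XRep (mem_normalizer_of_conj_mem)

universe v w

variable {E : Type v} [Field E] {U : Type w} [AddCommGroup U] [Module E U]

theorem units_step [IsAlgClosed E] {p : ℕ} [Fact p.Prime] [CharP E p] [FiniteDimensional E U]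
    (IH : ∀ U' : Submodule E U, finrank E U' < finrank E U → UnitsForm E p U') :
    UnitsForm E p U := by
  intro q hq hqp Q hfinQ hQ x hx n hn hxN hy
  classical
  have hp : p.Prime := Fact.out
  have hFq : Fact q.Prime := ⟨hq⟩
  let ρ : (Module.End E U)ˣ →* Module.End E U := Units.coeHom (Module.End E U)
  have hρ : ∀ g : (Module.End E U)ˣ, ρ g = (g : Module.End E U) := fun g => rfl
  set y : (Module.End E U)ˣ := x ^ (p ^ (n - 1)) with hydef
  have hρxN : ρ x ^ (p ^ n) = 1 := by rw [← map_pow, hxN, map_one]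
  -- a minimal configuration
  let S : Set (Subgroup (Module.End E U)ˣ) := {P | P ≤ Q ∧ (∀ g ∈ P, x * g * x⁻¹ ∈ P) ∧
    ∃ g ∈ P, y * g * y⁻¹ ≠ g}
  have hQS : Q ∈ S :=
    ⟨le_refl _, fun g hg => (Subgroup.mem_normalizer_iff.mp hx g).mp hg, hy⟩
  obtain ⟨M₁, hM₁S, hM₁min⟩ :=
    (measure (fun P : Subgroup (Module.End E U)ˣ => Nat.card P)).wf.has_min S ⟨Q, hQS⟩
  obtain ⟨hM₁Q, hM₁x, g₀, hg₀, hg₀y⟩ := hM₁S
  have hfinM₁ : Finite M₁ :=
    Finite.of_injective (Subgroup.inclusion hM₁Q) (Subgroup.inclusion_injective hM₁Q)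
  have hM₁pg : IsPGroup q M₁ := hQ.to_le hM₁Q
  have hxM₁ : x ∈ Subgroup.normalizer (M₁ : Set (Module.End E U)ˣ) :=
    mem_normalizer_of_conj_mem x M₁ hM₁x
  have hminM₁ : ∀ P : Subgroup (Module.End E U)ˣ, P < M₁ → (∀ g ∈ P, x * g * x⁻¹ ∈ P) →
      ∀ g ∈ P, y * g * y⁻¹ = g := by
    intro P hP hPx g hg
    by_contra hne
    apply hM₁min P ⟨hP.le.trans hM₁Q, hPx, g, hg, hne⟩
    show Nat.card P < Nat.card M₁
    apply lt_of_le_of_ne (Subgroup.card_le_of_le hP.le)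
    intro heq
    exact hP.ne (Subgroup.eq_of_le_of_card_ge hP.le heq.ge)
  -- the centre of `M₁`
  let Y : Subgroup (Module.End E U)ˣ := M₁ ⊓ Subgroup.centralizer (M₁ : Set (Module.End E U)ˣ)
  have hYM₁ : Y ≤ M₁ := inf_le_left
  have hYcen : ∀ b ∈ Y, ∀ h ∈ M₁, h * b = b * h := by
    intro b hb h hh
    exact Subgroup.mem_centralizer_iff.mp hb.2 h hh
  have hYcomm : ∀ a ∈ Y, ∀ b ∈ Y, a * b = b * a := fun a ha b hb => hYcen b hb a (hYM₁ ha)
  have hfinY : Finite Y :=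
    Finite.of_injective (Subgroup.inclusion hYM₁) (Subgroup.inclusion_injective hYM₁)
  have hxY : x ∈ Subgroup.normalizer (Y : Set (Module.End E U)ˣ) := by
    apply mem_normalizer_of_conj_mem x Y
    intro z hz
    refine ⟨hM₁x z hz.1, ?_⟩
    show x * z * x⁻¹ ∈ Subgroup.centralizer (M₁ : Set (Module.End E U)ˣ)
    rw [Subgroup.mem_centralizer_iff]
    intro h hh
    have hh' : x⁻¹ * h * x ∈ M₁ := (Subgroup.mem_normalizer_iff''.mp hxM₁ h).mp hh
    have h1 := hYcen z hz _ hh'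
    calc h * (x * z * x⁻¹) = x * ((x⁻¹ * h * x) * z) * x⁻¹ := by group
      _ = x * (z * (x⁻¹ * h * x)) * x⁻¹ := by rw [h1]
      _ = x * z * x⁻¹ * h := by group
  have hqE : (q : E) ≠ 0 := by
    intro h0
    have h1 := (CharP.cast_eq_zero_iff E p q).mp h0
    exact hqp ((Nat.prime_dvd_prime_iff_eq hp hq).mp h1).symm
  have hcardY : (Nat.card Y : E) ≠ 0 := by
    obtain ⟨m, hm⟩ := IsPGroup.iff_card.mp (hM₁pg.to_le hYM₁)
    rw [hm, Nat.cast_pow]
    exact pow_ne_zero _ hqE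
  -- a weight on which `y` acts nontrivially
  have hyg₀ : y * g₀ * y⁻¹ ∈ M₁ := by
    have : y ∈ Subgroup.normalizer (M₁ : Set (Module.End E U)ˣ) := Subgroup.pow_mem _ hxM₁ _
    exact (Subgroup.mem_normalizer_iff.mp this g₀).mp hg₀
  have hne : ρ (y * g₀ * y⁻¹) ≠ ρ g₀ := fun h => hg₀y (Units.ext h)
  obtain ⟨χ, u, hu, hune⟩ : ∃ (χ : ↥Y →* Eˣ) (u : U), u ∈ wt ρ Y χ ∧
      ρ (y * g₀ * y⁻¹) u ≠ ρ g₀ u := by
    by_contra hcon
    push Not at hcon
    exact hne (ext_of_wt ρ Y hYcomm hcardY (fun χ u hu => hcon χ u hu))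
  have hu0 : u ≠ 0 := by
    rintro rfl
    exact hune (by rw [map_zero, map_zero])
  have hntU : Nontrivial U := ⟨⟨u, 0, hu0⟩⟩
  let g : ↥(Subgroup.normalizer (Y : Set (Module.End E U)ˣ)) := ⟨x, hxY⟩
  set D := dualHom E Y g with hD
  have hDN : (D ^ (p ^ n)) χ = χ := by
    have h1 : g ^ (p ^ n) = 1 := Subtype.ext (by rw [Subgroup.coe_pow]; exact hxN)
    rw [hD, ← map_pow, h1, map_one]
    rfl
  obtain ⟨k, hk, hkfix, hkper⟩ := exists_period D χ hp n hDN
  by_cases hkn : k = n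
  · -- a regular orbit
    left
    rw [hkn] at hkper
    intro h0
    have := sub_one_pow_apply_ne_zero_of_regular ρ Y hYcomm g χ n hkper hu hu0
    apply this
    show ((ρ x - 1) ^ (p ^ n - 1)) u = 0
    rw [hρ, h0, LinearMap.zero_apply]
  have hkn' : k < n := lt_of_le_of_ne hk hkn
  -- `M₁` preserves the weight space
  have hM₁wt : ∀ h ∈ M₁, ∀ w ∈ wt ρ Y χ, ρ h w ∈ wt ρ Y χ := by
    intro h hh w hw
    rw [mem_wt] at hw ⊢
    intro b
    rw [← Module.End.mul_apply, ← map_mul, ← hYcen b b.2 h hh, map_mul, Module.End.mul_apply,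
      hw b, map_smul]
  by_cases htop : wt ρ Y χ = ⊤
  · -- a single weight: the minimal step
    have hfaith : ∀ h ∈ M₁, ρ h = 1 → h = 1 := fun h _ hh => Units.ext hh
    have hS : ∀ z ∈ M₁, (∀ h ∈ M₁, h * z = z * h) → y * z * y⁻¹ = z →
        ∃ c : E, ρ z = c • (1 : Module.End E U) := by
      intro z hz hzc _
      have hzY : z ∈ Y := ⟨hz, Subgroup.mem_centralizer_iff.mpr hzc⟩
      refine ⟨((χ ⟨z, hzY⟩ : Eˣ) : E), ?_⟩
      apply LinearMap.ext
      intro w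
      have hw : w ∈ wt ρ Y χ := htop ▸ Submodule.mem_top
      rw [rho_apply_of_mem_wt ρ Y hw hzY, LinearMap.smul_apply, Module.End.one_apply]
    have hres := minStep ρ hq hqp M₁ hM₁pg hfaith x hxM₁ hn hρxN hminM₁ ⟨g₀, hg₀, hg₀y⟩ hS
    rcases hres with h | ⟨h1, ⟨m, hm1, hm⟩, a, ha, b, hb, hab⟩
    · exact Or.inl h
    · refine Or.inr ⟨⟨a, hM₁Q ha, b, hM₁Q hb, hab⟩, n, m, hn, le_refl n, hm1, hm, ?_⟩
      rw [Nat.sub_self, pow_zero, one_mul, Nat.sub_sub]
      exact h1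
  -- a proper weight space: induction
  set U' : Submodule E U := wt ρ Y χ with hU'
  have hlt : finrank E U' < finrank E U := Submodule.finrank_lt htop
  set z : (Module.End E U)ˣ := x ^ (p ^ k) with hzdef
  have hzpow : z ^ (p ^ (n - k)) = 1 := by
    rw [hzdef, ← pow_mul, ← pow_add, Nat.add_sub_cancel' hk, hxN]
  have hzU' : ∀ w ∈ U', (z : Module.End E U) w ∈ U' := by
    intro w hw
    have h1 := map_wt_pow ρ Y g (p ^ k) hw
    rw [hkfix] at h1
    have h2 : ρ (g : (Module.End E U)ˣ) ^ (p ^ k) = (z : Module.End E U) := by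
      rw [← map_pow]
      rfl
    rw [h2] at h1
    exact h1
  have hzSt : z ∈ stab U' :=
    mem_stab_of_pow_eq_one z (pow_pos hp.pos _) hzpow hzU'
  have hM₁St : M₁ ≤ stab U' := by
    intro h hh
    exact ⟨fun w hw => hM₁wt h hh w hw, fun w hw => hM₁wt h⁻¹ (M₁.inv_mem hh) w hw⟩
  let ρ'' : ↥(stab U') →* Module.End E U' := stabRep U'
  let Q'' : Subgroup ↥(stab U') := M₁.subgroupOf (stab U')
  have hfinQ'' : Finite Q'' := by
    let f : Q'' → M₁ := fun h => ⟨((h : ↥(stab U')) : (Module.End E U)ˣ), h.2⟩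
    have hf : Function.Injective f := by
      intro a b hab
      have : ((a : ↥(stab U')) : (Module.End E U)ˣ) = ((b : ↥(stab U')) : (Module.End E U)ˣ) :=
        congrArg (fun t : M₁ => (t : (Module.End E U)ˣ)) hab
      exact Subtype.ext (Subtype.ext this)
    exact Finite.of_injective f hf
  have hQ''pg : IsPGroup q Q'' := hM₁pg.comap_subtype
  let x'' : ↥(stab U') := ⟨z, hzSt⟩
  have hzM₁ : z ∈ Subgroup.normalizer (M₁ : Set (Module.End E U)ˣ) := Subgroup.pow_mem _ hxM₁ _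
  have hx''norm : x'' ∈ Subgroup.normalizer (Q'' : Set ↥(stab U')) := by
    rw [Subgroup.mem_normalizer_iff]
    intro h
    show (h : (Module.End E U)ˣ) ∈ M₁ ↔ ((x'' * h * x''⁻¹ : ↥(stab U')) : (Module.End E U)ˣ) ∈ M₁
    exact Subgroup.mem_normalizer_iff.mp hzM₁ h
  have hnk : 1 ≤ n - k := by omega
  have hx''N : ρ'' x'' ^ (p ^ (n - k)) = 1 := by
    rw [← map_pow]
    have : x'' ^ (p ^ (n - k)) = 1 := Subtype.ext (by rw [Subgroup.coe_pow]; exact hzpow)
    rw [this, map_one]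
  have hzy : z ^ (p ^ (n - k - 1)) = y := by
    rw [hzdef, hydef, ← pow_mul, ← pow_add]
    congr 2
    omega
  have hy'' : ∃ h ∈ Q'', ρ'' (x'' ^ (p ^ (n - k - 1)) * h * (x'' ^ (p ^ (n - k - 1)))⁻¹) ≠ ρ'' h := by
    refine ⟨⟨g₀, hM₁St hg₀⟩, hg₀, ?_⟩
    intro h
    have h1 := LinearMap.congr_fun h ⟨u, hu⟩
    have h2 := congrArg Subtype.val h1
    rw [stabRep_apply, stabRep_apply] at h2
    apply hune
    have h3 : ((x'' ^ (p ^ (n - k - 1)) * (⟨g₀, hM₁St hg₀⟩ : ↥(stab U')) *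
        (x'' ^ (p ^ (n - k - 1)))⁻¹ : ↥(stab U')) : (Module.End E U)ˣ) = y * g₀ * y⁻¹ := by
      rw [Subgroup.coe_mul, Subgroup.coe_mul, Subgroup.coe_inv, Subgroup.coe_pow]
      show z ^ (p ^ (n - k - 1)) * g₀ * (z ^ (p ^ (n - k - 1)))⁻¹ = y * g₀ * y⁻¹
      rw [hzy]
    rw [h3] at h2
    exact h2
  have hIH := gamma_of_units (IH U' hlt) ρ'' hq hqp Q'' hQ''pg x'' hx''norm hnk hx''N hy''
  -- lifting
  have hlift : ∀ e : ℕ, (ρ'' x'' - 1) ^ e ≠ 0 →
      ((x : Module.End E U) - 1) ^ (p ^ k * e + p ^ k - 1) ≠ 0 := by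
    intro e he
    obtain ⟨w, hw⟩ : ∃ w : U', ((ρ'' x'' - 1) ^ e) w ≠ 0 := by
      by_contra hcon
      push Not at hcon
      exact he (LinearMap.ext hcon)
    have hw' : ((((z : Module.End E U)) - 1) ^ e) (w : U) ≠ 0 := by
      intro h0
      apply hw
      apply Subtype.ext
      rw [stabRep_sub_one_pow]
      exact h0
    have h2 : ρ (g : (Module.End E U)ˣ) ^ (p ^ k) = (z : Module.End E U) := by
      rw [← map_pow]
      rfl
    have h3 := lift_ne_zero ρ Y hYcomm g χ k e hkper hkfix w.2 (by rw [h2]; exact hw')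
    intro h0
    apply h3
    show ((ρ x - 1) ^ (p ^ k * e + p ^ k - 1)) (w : U) = 0
    rw [hρ, h0, LinearMap.zero_apply]
  rcases hIH with h | ⟨hnonab, n₀, m, h1, h2, h3, h4, h5⟩
  · left
    have := hlift _ h
    rwa [exp_arith1 hp.pos hk] at this
  · right
    refine ⟨?_, n₀, m, h1, h2.trans (Nat.sub_le n k), h3, h4, ?_⟩
    · obtain ⟨a, ha, b, hb, hab⟩ := hnonab
      refine ⟨a, hM₁Q ha, b, hM₁Q hb, ?_⟩
      intro h
      apply hab
      have : a * b = b * a := Subtype.ext h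
      rw [this]
    · have := hlift _ h5
      rwa [exp_arith2 hp.two_le h1 h2 hk] at this

end Cfsg.Agent.Lib.Helper23.HB
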