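import Cfsg.Agent.Lib.Helper23.HBWt

/-!
# Restriction of an automorphism to an invariant subgroup; periods of weights
-/

set_option autoImplicit false

namespace Cfsg.Agent.Lib.Helper23.HB

open Cfsg.Agent.Lib.Helper7.S3W
open Cfsg.Agent.Lib.Helper10.XRep (mulAut_pow_apply)

section Res

variable {M : Type*} [Group M]

/-- restriction of an automorphism to a finite invariant subgroup. -/
noncomputable def resEquiv (φ : M ≃* M) (M₁ : Subgroup M) [Finite M₁] (h : ∀ g ∈ M₁, φ g ∈ M₁) :
    M₁ ≃* M₁ :=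
  MulEquiv.ofBijective
    ((φ.toMonoidHom.comp M₁.subtype).codRestrict M₁ (fun g => h g g.2))
    (by
      have hinj : Function.Injective
          ((φ.toMonoidHom.comp M₁.subtype).codRestrict M₁ (fun g => h g g.2)) := by
        intro a b hab
        have h1 : φ (a : M) = φ (b : M) := congrArg Subtype.val hab
        exact Subtype.ext (φ.injective h1)
      exact ⟨hinj, Finite.injective_iff_surjective.mp hinj⟩)

theorem coe_resEquiv (φ : M ≃* M) (M₁ : Subgroup M) [Finite M₁] (h : ∀ g ∈ M₁, φ g ∈ M₁)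
    (g : M₁) : ((resEquiv φ M₁ h g : M₁) : M) = φ (g : M) := rfl

theorem coe_resEquiv_iterate (φ : M ≃* M) (M₁ : Subgroup M) [Finite M₁]
    (h : ∀ g ∈ M₁, φ g ∈ M₁) (k : ℕ) (g : M₁) :
    (((resEquiv φ M₁ h)^[k] g : M₁) : M) = φ^[k] (g : M) := by
  induction k generalizing g with
  | zero => rfl
  | succ k ih => rw [Function.iterate_succ_apply, ih, coe_resEquiv, Function.iterate_succ_apply]

end Res

section Period

variable {X : Type*} [Group X] (D : MulAut X) (χ : X) {p : ℕ}

/-- the orbit length of a point under an automorphism of `p`-power order. -/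
theorem exists_period (hp : p.Prime) (n : ℕ) (hN : (D ^ (p ^ n)) χ = χ) :
    ∃ k, k ≤ n ∧ (D ^ (p ^ k)) χ = χ ∧ ∀ i, 0 < i → i < p ^ k → (D ^ i) χ ≠ χ := by
  have hper : Function.IsPeriodicPt D (p ^ n) χ := by
    show D^[p ^ n] χ = χ
    rw [← mulAut_pow_apply]
    exact hN
  have h4 : Function.minimalPeriod D χ ∣ p ^ n := hper.minimalPeriod_dvd
  obtain ⟨k, hk, hkeq⟩ := (Nat.dvd_prime_pow hp).mp h4
  refine ⟨k, hk, ?_, ?_⟩
  · rw [mulAut_pow_apply, ← hkeq]
    exact Function.isPeriodicPt_minimalPeriod D χ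
  · intro i hi0 hik heq
    rw [mulAut_pow_apply] at heq
    have h1 : Function.IsPeriodicPt D i χ := heq
    have h2 := h1.minimalPeriod_le hi0
    omega

/-- if `D ^ (p ^ (n - 1))` moves the point then the orbit is regular. -/
theorem regular_of_moved (hp : p.Prime) (n : ℕ) (hn : 1 ≤ n) (hN : (D ^ (p ^ n)) χ = χ)
    (hmv : (D ^ (p ^ (n - 1))) χ ≠ χ) : ∀ i, 0 < i → i < p ^ n → (D ^ i) χ ≠ χ := by
  obtain ⟨k, hk, hkfix, hkper⟩ := exists_period D χ hp n hN
  have hkn : k = n := by
    by_contra hne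
    have hk' : k ≤ n - 1 := by omega
    apply hmv
    obtain ⟨j, hj⟩ : ∃ j, n - 1 = k + j := ⟨n - 1 - k, by omega⟩
    rw [hj, pow_add, pow_mul]
    have : ∀ m : ℕ, ((D ^ (p ^ k)) ^ m) χ = χ := by
      intro m
      induction m with
      | zero => rfl
      | succ m ih => rw [pow_succ, MulAut.mul_apply, hkfix, ih]
    exact this _
  rw [hkn] at hkper
  exact hkper

end Period

end Cfsg.Agent.Lib.Helper23.HB
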