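import Cfsg.Agent.Lib.Helper10.XRepConj
import Cfsg.Agent.Lib.Helper23.HBFinalC
import Cfsg.Agent.Lib.Helper23.HBRes

/-!
# The minimal step of Hall–Higman Theorem B

`M₁ ≤ Γ` a finite `q`-subgroup on which `ρ` is faithful, normalized by `x` with
`ρ x ^ (p ^ n) = 1`; `y = x ^ (p ^ (n - 1))` does not centralize `M₁` but centralizes every proper
`x`-invariant subgroup; central elements of `M₁` fixed by `y` act as scalars.
-/

set_option autoImplicit false

namespace Cfsg.Agent.Lib.Helper23.HB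

open Cfsg.Agent.Lib.Helper7.S3W
open Cfsg.Agent.Lib.Helper10
open Cfsg.Agent.Lib.Helper10.XRep

variable {E : Type*} [Field E] [IsAlgClosed E] {p : ℕ} [Fact p.Prime] [CharP E p]
  {U : Type*} [AddCommGroup U] [Module E U] [FiniteDimensional E U] [Nontrivial U]
  {Γ : Type*} [Group Γ]

theorem minStep (ρ : Γ →* Module.End E U) {q : ℕ} (hq : q.Prime) (hqp : q ≠ p)
    (M₁ : Subgroup Γ) [Finite M₁] (hM : IsPGroup q M₁)
    (hfaith : ∀ g ∈ M₁, ρ g = 1 → g = 1)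
    (x : Γ) (hx : x ∈ Subgroup.normalizer (M₁ : Set Γ)) {n : ℕ} (hn : 1 ≤ n)
    (hxN : ρ x ^ (p ^ n) = 1)
    (hmin : ∀ P : Subgroup Γ, P < M₁ → (∀ g ∈ P, x * g * x⁻¹ ∈ P) →
      ∀ g ∈ P, x ^ (p ^ (n - 1)) * g * (x ^ (p ^ (n - 1)))⁻¹ = g)
    (hy : ∃ g ∈ M₁, x ^ (p ^ (n - 1)) * g * (x ^ (p ^ (n - 1)))⁻¹ ≠ g)
    (hS : ∀ z ∈ M₁, (∀ g ∈ M₁, g * z = z * g) →
      x ^ (p ^ (n - 1)) * z * (x ^ (p ^ (n - 1)))⁻¹ = z → ∃ c : E, ρ z = c • (1 : Module.End E U)) :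
    (ρ x - 1) ^ (p ^ n - 1) ≠ 0 ∨
      ((ρ x - 1) ^ (p ^ n - 2) ≠ 0 ∧ (∃ m, 1 ≤ m ∧ p ^ n - 1 = q ^ m) ∧
        ∃ a ∈ M₁, ∃ b ∈ M₁, a * b ≠ b * a) := by
  classical
  have hp : p.Prime := Fact.out
  have hFq : Fact q.Prime := ⟨hq⟩
  set y : Γ := x ^ (p ^ (n - 1)) with hydef
  -- faithfulness in the form of injectivity on `M₁`
  have hinjM : ∀ a ∈ M₁, ∀ b ∈ M₁, ρ a = ρ b → a = b := by
    intro a ha b hb hab
    have h1 : ρ (a * b⁻¹) = 1 := by rw [map_mul, hab, ← map_mul, mul_inv_cancel, map_one]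
    exact mul_inv_eq_one.mp (hfaith _ (M₁.mul_mem ha (M₁.inv_mem hb)) h1)
  have hxk : ∀ k : ℕ, x ^ k ∈ Subgroup.normalizer (M₁ : Set Γ) := fun k => Subgroup.pow_mem _ hx k
  have hconjmem : ∀ (k : ℕ) (g : Γ), g ∈ M₁ → x ^ k * g * (x ^ k)⁻¹ ∈ M₁ := by
    intro k g hg
    exact (Subgroup.mem_normalizer_iff.mp (hxk k) g).mp hg
  by_cases hab : ∀ a ∈ M₁, ∀ b ∈ M₁, a * b = b * a
  · -- the abelian case: a regular orbit of weights
    left
    obtain ⟨g₀, hg₀, hg₀y⟩ := hy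
    have hyg₀ : y * g₀ * y⁻¹ ∈ M₁ := hconjmem _ g₀ hg₀
    have hne : ρ (y * g₀ * y⁻¹) ≠ ρ g₀ := fun h => hg₀y (hinjM _ hyg₀ _ hg₀ h)
    have hcardE : (Nat.card M₁ : E) ≠ 0 := by
      obtain ⟨m, hm⟩ := IsPGroup.iff_card.mp hM
      rw [hm, Nat.cast_pow]
      apply pow_ne_zero
      intro h0
      have h1 := (CharP.cast_eq_zero_iff E p q).mp h0
      exact hqp ((Nat.prime_dvd_prime_iff_eq hp hq).mp h1).symm
    obtain ⟨χ, u, hu, hune⟩ : ∃ (χ : ↥M₁ →* Eˣ) (u : U), u ∈ wt ρ M₁ χ ∧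
        ρ (y * g₀ * y⁻¹) u ≠ ρ g₀ u := by
      by_contra hcon
      push Not at hcon
      exact hne (ext_of_wt ρ M₁ hab hcardE (fun χ u hu => hcon χ u hu))
    have hu0 : u ≠ 0 := by
      rintro rfl
      exact hune (by rw [map_zero, map_zero])
    let g : ↥(Subgroup.normalizer (M₁ : Set Γ)) := ⟨x, hx⟩
    set D := dualHom E M₁ g with hD
    -- `D ^ (p ^ n)` fixes `χ`
    have hDN : (D ^ (p ^ n)) χ = χ := by
      rw [hD, ← map_pow]
      ext b
      rw [dualHom_apply]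
      congr 2
      apply Subtype.ext
      rw [cjY_coe]
      have hb' : ((g ^ (p ^ n) : ↥(Subgroup.normalizer (M₁ : Set Γ))) : Γ)⁻¹ * b *
          ((g ^ (p ^ n) : ↥(Subgroup.normalizer (M₁ : Set Γ))) : Γ) ∈ M₁ :=
        (Subgroup.mem_normalizer_iff''.mp (g ^ (p ^ n)).2 b).mp b.2
      apply hinjM _ hb' _ b.2
      rw [Subgroup.coe_pow]
      show ρ ((x ^ (p ^ n))⁻¹ * (b : Γ) * x ^ (p ^ n)) = ρ (b : Γ)
      have h1 : ρ (x ^ (p ^ n) * ((x ^ (p ^ n))⁻¹ * (b : Γ) * x ^ (p ^ n)))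
          = ρ ((b : Γ) * x ^ (p ^ n)) := by
        congr 1
        group
      rw [map_mul, map_mul ρ (b : Γ), map_pow, hxN, one_mul, mul_one] at h1
      exact h1
    have hDmv : (D ^ (p ^ (n - 1))) χ ≠ χ := by
      intro hfix
      have h1 : ((D ^ (p ^ (n - 1)))⁻¹) χ = χ := by
        conv_lhs => rw [← hfix]
        rw [MulAut.inv_apply_self]
      have h2 : D ^ (p ^ (n - 1)) = dualHom E M₁ (g ^ (p ^ (n - 1))) := by rw [hD, map_pow]
      rw [h2] at h1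
      have hgy : ((g ^ (p ^ (n - 1)) : ↥(Subgroup.normalizer (M₁ : Set Γ))) : Γ) = y := by
        rw [Subgroup.coe_pow]
      have h3 := dualHom_inv_apply E M₁ (g ^ (p ^ (n - 1))) χ ⟨g₀, hg₀⟩
        (by rw [hgy]; exact hyg₀)
      rw [h1] at h3
      apply hune
      rw [rho_apply_of_mem_wt ρ M₁ hu hyg₀, rho_apply_of_mem_wt ρ M₁ hu hg₀]
      have h4 : χ ⟨y * g₀ * y⁻¹, hyg₀⟩ = χ ⟨g₀, hg₀⟩ := by
        rw [h3]
        congr 1
      rw [h4]
    have hreg := regular_of_moved D χ hp n hn hDN hDmv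
    intro h0
    have := sub_one_pow_apply_ne_zero_of_regular ρ M₁ hab g χ n hreg hu hu0
    apply this
    show ((ρ x - 1) ^ (p ^ n - 1)) u = 0
    rw [h0, LinearMap.zero_apply]
  · -- the nonabelian case
    push Not at hab
    obtain ⟨a, ha, b, hb, hab⟩ := hab
    let ρM : ↥M₁ →* Module.End E U := ρ.comp M₁.subtype
    have hρM : ∀ g : ↥M₁, ρM g = 1 → g = 1 := by
      intro g hg
      exact Subtype.ext (hfaith g g.2 hg)
    let φ : ↥M₁ ≃* ↥M₁ := FrobAction.conjAut M₁ x hx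
    have hX : ∀ g : ↥M₁, ρ x * ρM g = ρM (φ g) * ρ x := by
      intro g
      show ρ x * ρ (g : Γ) = ρ ((φ g : ↥M₁) : Γ) * ρ x
      rw [conjAut_coe, ← map_mul, ← map_mul, inv_mul_cancel_right]
    have hminM : ∀ P : Subgroup ↥M₁, P ≠ ⊤ → (∀ g ∈ P, φ g ∈ P) →
        ∀ g ∈ P, φ^[p ^ (n - 1)] g = g := by
      intro P hP hPinv g hg
      have hlt : P.map M₁.subtype < M₁ := by
        apply lt_of_le_of_ne (Subgroup.map_subtype_le P)
        intro heq
        apply hP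
        rw [eq_top_iff]
        intro w _
        have hw : (w : Γ) ∈ P.map M₁.subtype := by rw [heq]; exact w.2
        obtain ⟨w', hw', hww⟩ := hw
        have : w' = w := Subtype.ext hww
        rwa [this] at hw'
      have hinv' : ∀ g ∈ P.map M₁.subtype, x * g * x⁻¹ ∈ P.map M₁.subtype := by
        rintro _ ⟨w, hw, rfl⟩
        exact ⟨φ w, hPinv w hw, rfl⟩
      have h1 := hmin _ hlt hinv' (g : Γ) ⟨g, hg, rfl⟩
      apply Subtype.ext
      rw [conjAut_iterate]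
      exact h1
    have hψM : ∃ g : ↥M₁, φ^[p ^ (n - 1)] g ≠ g := by
      obtain ⟨g₀, hg₀, hg₀y⟩ := hy
      refine ⟨⟨g₀, hg₀⟩, ?_⟩
      intro h
      apply hg₀y
      have := congrArg Subtype.val h
      rwa [conjAut_iterate] at this
    have hZM : ∀ z ∈ Subgroup.center ↥M₁, ∃ c : E, ρM z = c • (1 : Module.End E U) := by
      intro z hz
      have hZtop : Subgroup.center ↥M₁ ≠ ⊤ := by
        intro htop
        apply hab
        have hb' : (⟨b, hb⟩ : ↥M₁) ∈ Subgroup.center ↥M₁ := htop ▸ Subgroup.mem_top _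
        have := Subgroup.mem_center_iff.mp hb' ⟨a, ha⟩
        exact congrArg Subtype.val this
      have hZinv : ∀ g ∈ Subgroup.center ↥M₁, φ g ∈ Subgroup.center ↥M₁ := by
        intro g hg
        have h1 := Subgroup.characteristic_iff_map_eq.mp
          (Subgroup.centerCharacteristic (G := ↥M₁)) φ
        rw [← h1]
        exact Subgroup.mem_map_of_mem _ hg
      have hfix := hminM _ hZtop hZinv z hz
      have hfix' : y * (z : Γ) * y⁻¹ = z := by
        have := congrArg Subtype.val hfix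
        rwa [conjAut_iterate] at this
      apply hS z z.2 _ hfix'
      intro g hg
      have := Subgroup.mem_center_iff.mp hz ⟨g, hg⟩
      exact congrArg Subtype.val this
    have hfin := finalCase ρM hρM hq hqp hM φ hn (ρ x) hxN hX hminM hψM hZM
    rcases hfin with h | ⟨h1, h2, a', b', hab'⟩
    · exact Or.inl h
    · refine Or.inr ⟨h1, h2, a', a'.2, b', b'.2, ?_⟩
      intro h
      exact hab' (Subtype.ext h)

end Cfsg.Agent.Lib.Helper23.HB
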