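import Cfsg.Agent.Lib.Helper7.S3WtSpace
import Cfsg.Agent.Lib.Helper23.HBFinalB

/-!
# Weight spaces and a normalizing `p`-element: orbit sums

`Y ≤ Γ` abelian, `g` normalizing `Y`, `χ` a weight of `Y` whose orbit under `g` has length `t`.
The orbit sum `∑_{i<t} g^i u` of a nonzero weight vector is nonzero; consequences for the
nilpotency index of `ρ g - 1` in characteristic `p`.
-/

set_option autoImplicit false

namespace Cfsg.Agent.Lib.Helper23.HB

open Cfsg.Agent.Lib.Helper7.S3W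

variable {E : Type*} [Field E] {U : Type*} [AddCommGroup U] [Module E U]
  {Γ : Type*} [Group Γ] (ρ : Γ →* Module.End E U) (Y : Subgroup Γ)

theorem map_wt_pow (g : ↥(Subgroup.normalizer (Y : Set Γ))) (i : ℕ) {χ : ↥Y →* Eˣ} {u : U}
    (hu : u ∈ wt ρ Y χ) : (ρ (g : Γ) ^ i) u ∈ wt ρ Y ((dualHom E Y g ^ i) χ) := by
  have := map_wt ρ Y (g ^ i) hu
  rwa [map_pow (dualHom E Y), Subgroup.coe_pow, map_pow] at this

theorem pow_apply_ne_zero (g : Γ) (i : ℕ) {u : U} (hu : u ≠ 0) : (ρ g ^ i) u ≠ 0 := by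
  intro h
  apply hu
  apply rho_injective ρ (g ^ i)
  rw [map_pow, h, map_zero]

/-- the orbit sum of a nonzero weight vector is nonzero. -/
theorem sum_pow_apply_ne_zero (hcomm : ∀ a ∈ Y, ∀ b ∈ Y, a * b = b * a)
    (g : ↥(Subgroup.normalizer (Y : Set Γ))) (χ : ↥Y →* Eˣ) (t : ℕ) (ht : 0 < t)
    (hper : ∀ i, 0 < i → i < t → (dualHom E Y g ^ i) χ ≠ χ) {u : U} (hu : u ∈ wt ρ Y χ)
    (hu0 : u ≠ 0) : ∑ i ∈ Finset.range t, (ρ (g : Γ) ^ i) u ≠ 0 := by
  classical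
  set D := dualHom E Y g with hD
  let f : Fin t → (↥Y →* Eˣ) := fun i => (D ^ (i : ℕ)) χ
  have hf : Function.Injective f := by
    have key : ∀ i j : ℕ, i < j → j < t → (D ^ i) χ ≠ (D ^ j) χ := by
      intro i j hij hjt heq
      have h1 : (D ^ j) χ = (D ^ i) ((D ^ (j - i)) χ) := by
        rw [← MulAut.mul_apply, ← pow_add, Nat.add_sub_cancel' hij.le]
      rw [h1] at heq
      have h2 := (D ^ i).injective heq
      exact hper (j - i) (by omega) (by omega) h2.symm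
    intro i j hij
    by_contra hne
    rcases lt_or_gt_of_ne (fun h => hne (Fin.ext h)) with h | h
    · exact key i j h j.2 hij
    · exact key j i h i.2 hij.symm
  have hind : iSupIndep (fun i : Fin t => wt ρ Y (f i)) := (wt_indep ρ Y hcomm).comp hf
  let v : Fin t → U := fun i => (ρ (g : Γ) ^ (i : ℕ)) u
  have hv : ∀ i, v i ∈ wt ρ Y (f i) := fun i => map_wt_pow ρ Y g i hu
  have hv0 : ∀ i, v i ≠ 0 := fun i => pow_apply_ne_zero ρ (g : Γ) i hu0
  have hli : LinearIndependent E v := hind.linearIndependent _ hv hv0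
  intro hsum
  have h1 : ∑ i : Fin t, (fun _ => (1 : E)) i • v i = 0 := by
    simp only [one_smul]
    rw [Fin.sum_univ_eq_sum_range (fun i => (ρ (g : Γ) ^ i) u) t]
    exact hsum
  have h2 := Fintype.linearIndependent_iff.mp hli (fun _ => (1 : E)) h1 ⟨0, ht⟩
  exact one_ne_zero h2

variable {p : ℕ} [Fact p.Prime] [CharP E p]

/-- a regular orbit of weights forces `(ρ g - 1) ^ (p ^ n - 1) ≠ 0`. -/
theorem sub_one_pow_apply_ne_zero_of_regular (hcomm : ∀ a ∈ Y, ∀ b ∈ Y, a * b = b * a)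
    (g : ↥(Subgroup.normalizer (Y : Set Γ))) (χ : ↥Y →* Eˣ) (n : ℕ)
    (hper : ∀ i, 0 < i → i < p ^ n → (dualHom E Y g ^ i) χ ≠ χ) {u : U} (hu : u ∈ wt ρ Y χ)
    (hu0 : u ≠ 0) : ((ρ (g : Γ) - 1) ^ (p ^ n - 1)) u ≠ 0 := by
  rw [← geom_sum_char_pow (E := E), LinearMap.sum_apply]
  exact sum_pow_apply_ne_zero ρ Y hcomm g χ (p ^ n) (pow_pos (Fact.out : p.Prime).pos n) hper hu hu0

/-- lifting from a weight space with orbit length `p ^ k`. -/
theorem lift_ne_zero (hcomm : ∀ a ∈ Y, ∀ b ∈ Y, a * b = b * a)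
    (g : ↥(Subgroup.normalizer (Y : Set Γ))) (χ : ↥Y →* Eˣ) (k e : ℕ)
    (hper : ∀ i, 0 < i → i < p ^ k → (dualHom E Y g ^ i) χ ≠ χ)
    (hfix : (dualHom E Y g ^ (p ^ k)) χ = χ) {u : U} (hu : u ∈ wt ρ Y χ)
    (h : ((ρ (g : Γ) ^ (p ^ k) - 1) ^ e) u ≠ 0) :
    ((ρ (g : Γ) - 1) ^ (p ^ k * e + p ^ k - 1)) u ≠ 0 := by
  have htpos : 0 < p ^ k := pow_pos (Fact.out : p.Prime).pos k
  have hpres : ∀ w ∈ wt ρ Y χ, (ρ (g : Γ) ^ (p ^ k) - 1) w ∈ wt ρ Y χ := by
    intro w hw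
    have h1 := map_wt_pow ρ Y g (p ^ k) hw
    rw [hfix] at h1
    rw [LinearMap.sub_apply, Module.End.one_apply]
    exact Submodule.sub_mem _ h1 hw
  have hpres' : ∀ j : ℕ, ∀ w ∈ wt ρ Y χ, ((ρ (g : Γ) ^ (p ^ k) - 1) ^ j) w ∈ wt ρ Y χ := by
    intro j
    induction j with
    | zero => intro w hw; exact hw
    | succ j ih =>
      intro w hw
      rw [pow_succ, Module.End.mul_apply]
      exact ih _ (hpres w hw)
  have hexp : p ^ k * e + p ^ k - 1 = (p ^ k - 1) + p ^ k * e := by omega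
  rw [hexp, pow_add, pow_mul, sub_one_pow_char_pow_alg (E := E), ← geom_sum_char_pow (E := E),
    Module.End.mul_apply, LinearMap.sum_apply]
  exact sum_pow_apply_ne_zero ρ Y hcomm g χ (p ^ k) htpos hper (hpres' e u hu) h

end Cfsg.Agent.Lib.Helper23.HB
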