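import Mathlib
import Cfsg.Prelude.Def_Local
import Cfsg.Agent.H5.PSolvable
import Cfsg.Agent.Lib.Helper10.PComponent
import Cfsg.Agent.Lib.Helper1.Cores

/-!
# A non-normal abelian Sylow `p`-subgroup of a `p`-solvable group acts nontrivially on `O_{p'}`
-/

set_option autoImplicit false

namespace Cfsg.Agent.Lib.Helper23.HH

open Cfsg

theorem exists_not_commute_pPrimeCore {G : Type*} [Group G] [Finite G] {p : ℕ}
    [hp : Fact p.Prime] (hsolv : IsPSolvable p G) (P : Sylow p G)
    (hab : ∀ a ∈ (P : Subgroup G), ∀ b ∈ (P : Subgroup G), a * b = b * a)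
    (hP : ¬ (P : Subgroup G).Normal) :
    ∃ y ∈ (P : Subgroup G), ∃ x ∈ pPrimeCore p G, y * x * y⁻¹ ≠ x := by
  by_contra hcon
  push Not at hcon
  apply hP
  have hπ := QuotientGroup.mk'_surjective (pPrimeCore p G)
  have hO : pPrimeCore p (G ⧸ pPrimeCore p G) = ⊥ :=
    Cfsg.Agent.Lib.Helper10.pPrimeCore_quotient_eq_bot p
  have hsolq : IsPSolvable p (G ⧸ pPrimeCore p G) := Cfsg.H5.isPSolvable_quotient _ hsolv
  have hC := Cfsg.H5.centralizer_pCore_le_of_isPSolvable hsolq hO
  have h1 : pCore p (G ⧸ pPrimeCore p G) ≤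
      ((P.mapSurjective hπ : Sylow p (G ⧸ pPrimeCore p G)) : Subgroup (G ⧸ pPrimeCore p G)) :=
    Cfsg.Agent.Lib.Helper1.pCore_le_sylow _
  rw [Sylow.coe_mapSurjective] at h1
  have h2 : (P : Subgroup G).map (QuotientGroup.mk' (pPrimeCore p G)) ≤
      Subgroup.centralizer (pCore p (G ⧸ pPrimeCore p G) : Set (G ⧸ pPrimeCore p G)) := by
    rintro _ ⟨a, ha, rfl⟩
    rw [Subgroup.mem_centralizer_iff]
    intro z hz
    obtain ⟨b, hb, rfl⟩ := h1 hz
    rw [← map_mul, ← map_mul, hab a ha b hb]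
  have h3 : (P : Subgroup G).map (QuotientGroup.mk' (pPrimeCore p G)) =
      pCore p (G ⧸ pPrimeCore p G) := le_antisymm (h2.trans hC) h1
  have hNn : (pPrimeCore p G ⊔ (P : Subgroup G)).Normal := by
    rw [← QuotientGroup.comap_map_mk', h3]
    exact Subgroup.Normal.comap (pCore_normal p _) _
  haveI := hNn
  have hF := Sylow.normalizer_sup_eq_top' P
    (le_sup_right : (P : Subgroup G) ≤ pPrimeCore p G ⊔ (P : Subgroup G))
  rw [← Subgroup.normalizer_eq_top_iff, eq_top_iff, ← hF]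
  apply sup_le le_rfl
  apply sup_le
  · refine le_trans ?_ (Subgroup.centralizer_le_normalizer _)
    intro x hx
    rw [Subgroup.mem_centralizer_iff]
    intro y hy
    have h4 := hcon y hy x hx
    calc y * x = y * x * y⁻¹ * y := by group
      _ = x * y := by rw [h4]
  · exact Subgroup.le_normalizer

end Cfsg.Agent.Lib.Helper23.HH
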