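import Mathlib

/-!
# S2134 piece [MAT-U] (for helper22): the centralizer of a transvection in `SL(5, 2)` has at most
`21504 = 2^7 * 168` elements.

A matrix commuting with `1 + E₀₁` has column `0` equal to `M₀₀ e₀` and row `1` equal to `M₁₁ e₁ᵀ`; such a
matrix is determined by seven free entries and its lower right `3 × 3` block, which is invertible.
-/

set_option autoImplicit false

namespace Cfsg.Agent.Lib.Helper22.HeCent

namespace Helper23

open Matrix

/-- the lower right `3 × 3` block -/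
def blk (M : Matrix (Fin 5) (Fin 5) (ZMod 2)) : Matrix (Fin 3) (Fin 3) (ZMod 2) :=
  !![M 2 2, M 2 3, M 2 4; M 3 2, M 3 3, M 3 4; M 4 2, M 4 3, M 4 4]

/-- the shape of a matrix commuting with `E₀₁` -/
structure Shape (M : Matrix (Fin 5) (Fin 5) (ZMod 2)) : Prop where
  c1 : M 1 0 = 0
  c2 : M 2 0 = 0
  c3 : M 3 0 = 0
  c4 : M 4 0 = 0
  r2 : M 1 2 = 0
  r3 : M 1 3 = 0
  r4 : M 1 4 = 0
  d : M 0 0 = M 1 1

theorem shape_of_commute (M : Matrix (Fin 5) (Fin 5) (ZMod 2))
    (h : Commute (Matrix.single (0 : Fin 5) (1 : Fin 5) (1 : ZMod 2)) M) : Shape M where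
  c1 := Matrix.col_eq_zero_of_commute_single h (by decide)
  c2 := Matrix.col_eq_zero_of_commute_single h (by decide)
  c3 := Matrix.col_eq_zero_of_commute_single h (by decide)
  c4 := Matrix.col_eq_zero_of_commute_single h (by decide)
  r2 := Matrix.row_eq_zero_of_commute_single h (by decide)
  r3 := Matrix.row_eq_zero_of_commute_single h (by decide)
  r4 := Matrix.row_eq_zero_of_commute_single h (by decide)
  d := Matrix.diag_eq_of_commute_single h

theorem blk_mul (M N : Matrix (Fin 5) (Fin 5) (ZMod 2)) (hM : Shape M) (hN : Shape N) :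
    blk (M * N) = blk M * blk N := by
  ext i j
  fin_cases i <;> fin_cases j <;>
    simp [blk, Matrix.mul_apply, Fin.sum_univ_five, Fin.sum_univ_three, hM.c2, hM.c3, hM.c4,
      hN.r2, hN.r3, hN.r4]

theorem blk_one : blk 1 = 1 := by decide

theorem corner_mul (M N : Matrix (Fin 5) (Fin 5) (ZMod 2)) (hN : Shape N) :
    (M * N) 0 0 = M 0 0 * N 0 0 := by
  simp [Matrix.mul_apply, Fin.sum_univ_five, hN.c1, hN.c2, hN.c3, hN.c4]

theorem zmod2_eq_one : ∀ x y : ZMod 2, x * y = 1 → x = 1 := by decide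

section main

variable (s : Matrix.SpecialLinearGroup (Fin 5) (ZMod 2))
  (hs : (s : Matrix (Fin 5) (Fin 5) (ZMod 2)) = Matrix.transvection 0 1 1)

include hs in
theorem shape_of_mem (g : Matrix.SpecialLinearGroup (Fin 5) (ZMod 2))
    (hg : g ∈ Subgroup.centralizer ({s} : Set (Matrix.SpecialLinearGroup (Fin 5) (ZMod 2)))) :
    Shape (g : Matrix (Fin 5) (Fin 5) (ZMod 2)) := by
  apply shape_of_commute
  have h1 : s * g = g * s := Subgroup.mem_centralizer_iff.mp hg s (Set.mem_singleton s)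
  have h2 : (s : Matrix (Fin 5) (Fin 5) (ZMod 2)) * (g : Matrix (Fin 5) (Fin 5) (ZMod 2))
      = (g : Matrix (Fin 5) (Fin 5) (ZMod 2)) * (s : Matrix (Fin 5) (Fin 5) (ZMod 2)) := by
    rw [← Matrix.SpecialLinearGroup.coe_mul, ← Matrix.SpecialLinearGroup.coe_mul, h1]
  rw [hs, Matrix.transvection, add_mul, mul_add, one_mul, mul_one] at h2
  exact add_left_cancel h2

theorem coe_mul_inv (g : Matrix.SpecialLinearGroup (Fin 5) (ZMod 2)) :
    (g : Matrix (Fin 5) (Fin 5) (ZMod 2)) * ((g⁻¹ : Matrix.SpecialLinearGroup (Fin 5) (ZMod 2)) :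
      Matrix (Fin 5) (Fin 5) (ZMod 2)) = 1 := by
  rw [← Matrix.SpecialLinearGroup.coe_mul, mul_inv_cancel, Matrix.SpecialLinearGroup.coe_one]

theorem coe_inv_mul (g : Matrix.SpecialLinearGroup (Fin 5) (ZMod 2)) :
    ((g⁻¹ : Matrix.SpecialLinearGroup (Fin 5) (ZMod 2)) : Matrix (Fin 5) (Fin 5) (ZMod 2)) *
      (g : Matrix (Fin 5) (Fin 5) (ZMod 2)) = 1 := by
  rw [← Matrix.SpecialLinearGroup.coe_mul, inv_mul_cancel, Matrix.SpecialLinearGroup.coe_one]

/-- the block as an element of `GL(3, 2)` -/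
def blkUnit (g : Matrix.SpecialLinearGroup (Fin 5) (ZMod 2))
    (h1 : Shape (g : Matrix (Fin 5) (Fin 5) (ZMod 2)))
    (h2 : Shape ((g⁻¹ : Matrix.SpecialLinearGroup (Fin 5) (ZMod 2)) :
      Matrix (Fin 5) (Fin 5) (ZMod 2))) : GL (Fin 3) (ZMod 2) where
  val := blk (g : Matrix (Fin 5) (Fin 5) (ZMod 2))
  inv := blk ((g⁻¹ : Matrix.SpecialLinearGroup (Fin 5) (ZMod 2)) : Matrix (Fin 5) (Fin 5) (ZMod 2))
  val_inv := by rw [← blk_mul _ _ h1 h2, coe_mul_inv, blk_one]
  inv_val := by rw [← blk_mul _ _ h2 h1, coe_inv_mul, blk_one]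

include hs in
theorem corner_eq_one (g : Matrix.SpecialLinearGroup (Fin 5) (ZMod 2))
    (hg : g ∈ Subgroup.centralizer ({s} : Set (Matrix.SpecialLinearGroup (Fin 5) (ZMod 2)))) :
    (g : Matrix (Fin 5) (Fin 5) (ZMod 2)) 0 0 = 1 := by
  have h2 := shape_of_mem s hs g⁻¹ (Subgroup.inv_mem _ hg)
  have h3 := corner_mul (g : Matrix (Fin 5) (Fin 5) (ZMod 2)) _ h2
  rw [coe_mul_inv, Matrix.one_apply_eq] at h3
  exact zmod2_eq_one _ _ h3.symm

/-- the code of an element of the centralizer -/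
def code (g : ↥(Subgroup.centralizer ({s} : Set (Matrix.SpecialLinearGroup (Fin 5) (ZMod 2))))) :
    ZMod 2 × ZMod 2 × ZMod 2 × ZMod 2 × ZMod 2 × ZMod 2 × ZMod 2 × GL (Fin 3) (ZMod 2) :=
  ((g.1 : Matrix (Fin 5) (Fin 5) (ZMod 2)) 0 1, (g.1 : Matrix (Fin 5) (Fin 5) (ZMod 2)) 0 2,
    (g.1 : Matrix (Fin 5) (Fin 5) (ZMod 2)) 0 3, (g.1 : Matrix (Fin 5) (Fin 5) (ZMod 2)) 0 4,
    (g.1 : Matrix (Fin 5) (Fin 5) (ZMod 2)) 2 1, (g.1 : Matrix (Fin 5) (Fin 5) (ZMod 2)) 3 1,
    (g.1 : Matrix (Fin 5) (Fin 5) (ZMod 2)) 4 1,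
    blkUnit g.1 (shape_of_mem s hs g.1 g.2) (shape_of_mem s hs g.1⁻¹ (Subgroup.inv_mem _ g.2)))

theorem code_injective : Function.Injective (code s hs) := by
  intro g g' h
  have hS := shape_of_mem s hs g.1 g.2
  have hS' := shape_of_mem s hs g'.1 g'.2
  have h00 := corner_eq_one s hs g.1 g.2
  have h00' := corner_eq_one s hs g'.1 g'.2
  simp only [code, Prod.mk.injEq] at h
  obtain ⟨e01, e02, e03, e04, e21, e31, e41, eU⟩ := h
  have eB : blk (g.1 : Matrix (Fin 5) (Fin 5) (ZMod 2)) = blk (g'.1 : Matrix (Fin 5) (Fin 5) (ZMod 2)) :=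
    congrArg Units.val eU
  have b := fun i j => congrFun (congrFun eB i) j
  have b00 := b 0 0
  have b01 := b 0 1
  have b02 := b 0 2
  have b10 := b 1 0
  have b11 := b 1 1
  have b12 := b 1 2
  have b20 := b 2 0
  have b21 := b 2 1
  have b22 := b 2 2
  simp [blk] at b00 b01 b02 b10 b11 b12 b20 b21 b22
  apply Subtype.ext
  apply Subtype.ext
  ext i j
  fin_cases i <;> fin_cases j
  · exact h00.trans h00'.symm
  · exact e01
  · exact e02
  · exact e03
  · exact e04
  · exact hS.c1.trans hS'.c1.symm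
  · exact (hS.d.symm.trans h00).trans (hS'.d.symm.trans h00').symm
  · exact hS.r2.trans hS'.r2.symm
  · exact hS.r3.trans hS'.r3.symm
  · exact hS.r4.trans hS'.r4.symm
  · exact hS.c2.trans hS'.c2.symm
  · exact e21
  · exact b00
  · exact b01
  · exact b02
  · exact hS.c3.trans hS'.c3.symm
  · exact e31
  · exact b10
  · exact b11
  · exact b12
  · exact hS.c4.trans hS'.c4.symm
  · exact e41
  · exact b20
  · exact b21
  · exact b22

theorem card_GL32 : Nat.card (GL (Fin 3) (ZMod 2)) = 168 := by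
  rw [Matrix.card_GL_field, ZMod.card, Fin.prod_univ_three]
  norm_num

end main

end Helper23

/-- [MAT-U] the centralizer of a transvection in `SL(5, 2)` has order at most `21504 = 2^7 * 168`. -/
theorem card_centralizer_transvection_le (s : Matrix.SpecialLinearGroup (Fin 5) (ZMod 2))
    (hs : (s : Matrix (Fin 5) (Fin 5) (ZMod 2)) = Matrix.transvection 0 1 1) :
    Nat.card ↥(Subgroup.centralizer ({s} : Set (Matrix.SpecialLinearGroup (Fin 5) (ZMod 2))))
      ≤ 21504 := by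
  have h := Nat.card_le_card_of_injective _ (Helper23.code_injective s hs)
  simp only [Nat.card_prod, Nat.card_zmod, Helper23.card_GL32] at h
  exact h

end Cfsg.Agent.Lib.Helper22.HeCent
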