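import Mathlib

/-!
Commuting involutory automorphisms of a finite group of odd prime power order: existence of an
invariant subgroup of prime order inverted by a given one of them that acts nontrivially.
-/

set_option autoImplicit false

namespace Cfsg.Agent.Lib.Helper23.InvolutionAct

universe u v

section Action

variable {U : Type u} [Group U] {I : Type v} (φ : I → (U →* U))

/-- a subgroup invariant under all the endomorphisms `φ s` -/
def Inv (B : Subgroup U) : Prop := ∀ s : I, ∀ b ∈ B, φ s b ∈ B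

/-- the fixed points of `φ s` -/
def Fix (s : I) : Subgroup U where
  carrier := {x | φ s x = x}
  one_mem' := map_one _
  mul_mem' := by
    intro a b ha hb
    have ha' : φ s a = a := ha
    have hb' : φ s b = b := hb
    change φ s (a * b) = a * b
    rw [map_mul, ha', hb']
  inv_mem' := by
    intro a ha
    have ha' : φ s a = a := ha
    change φ s a⁻¹ = a⁻¹
    rw [map_inv, ha']

theorem mem_Fix {s : I} {x : U} : x ∈ Fix φ s ↔ φ s x = x := Iff.rfl

variable (hφ2 : ∀ s x, φ s (φ s x) = x) (hφc : ∀ s s' x, φ s (φ s' x) = φ s' (φ s x))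

theorem exists_minimal_inv [Finite U] (E₀ : Subgroup U) (hE₀ : Inv φ E₀) (hne : E₀ ≠ ⊥) :
    ∃ N : Subgroup U, N ≤ E₀ ∧ Inv φ N ∧ N ≠ ⊥ ∧
      ∀ N' : Subgroup U, N' ≤ N → Inv φ N' → N' = ⊥ ∨ N' = N := by
  classical
  let T : Set ℕ := {k | ∃ N : Subgroup U, N ≤ E₀ ∧ Inv φ N ∧ N ≠ ⊥ ∧ Nat.card N = k}
  have hT : T.Nonempty := ⟨_, E₀, le_rfl, hE₀, hne, rfl⟩
  obtain ⟨N, hN1, hN2, hN3, hN4⟩ := Nat.sInf_mem hT
  refine ⟨N, hN1, hN2, hN3, ?_⟩
  intro N' hle hinv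
  by_cases h : N' = ⊥
  · exact Or.inl h
  · right
    apply Subgroup.eq_of_le_of_card_ge hle
    rw [hN4]
    exact Nat.sInf_le ⟨N', hle.trans hN1, hinv, h, rfl⟩

include hφ2 hφc in
/-- a minimal invariant abelian subgroup has prime order, and each `φ s` fixes or inverts it -/
theorem minimal_inv_abelian [Finite U] {N : Subgroup U}
    (hNab : ∀ a ∈ N, ∀ b ∈ N, a * b = b * a) (hN : Inv φ N) (hne : N ≠ ⊥)
    (hmin : ∀ N' : Subgroup U, N' ≤ N → Inv φ N' → N' = ⊥ ∨ N' = N) :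
    (∀ s : I, (∀ x ∈ N, φ s x = x) ∨ (∀ x ∈ N, φ s x = x⁻¹)) ∧ (Nat.card N).Prime := by
  have hi : ∀ s : I, (∀ x ∈ N, φ s x = x) ∨ (∀ x ∈ N, φ s x = x⁻¹) := by
    intro s
    have hInv : Inv φ (N ⊓ Fix φ s) := by
      intro s' b hb
      refine ⟨hN s' b hb.1, ?_⟩
      have hb2 : φ s b = b := hb.2
      change φ s (φ s' b) = φ s' b
      rw [hφc, hb2]
    rcases hmin _ inf_le_left hInv with h | h
    · right
      intro x hx
      have hy : x * φ s x ∈ N ⊓ Fix φ s := by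
        refine ⟨N.mul_mem hx (hN s x hx), ?_⟩
        change φ s (x * φ s x) = x * φ s x
        rw [map_mul, hφ2, hNab _ (hN s x hx) _ hx]
      rw [h, Subgroup.mem_bot] at hy
      exact eq_inv_of_mul_eq_one_right hy
    · left
      intro x hx
      have hx' : x ∈ N ⊓ Fix φ s := by rw [h]; exact hx
      exact hx'.2
  refine ⟨hi, ?_⟩
  have hnt : Nontrivial N := (Subgroup.nontrivial_iff_ne_bot N).mpr hne
  have h1 : 1 < Nat.card N := Finite.one_lt_card
  obtain ⟨p, hpdef⟩ : ∃ p, p = (Nat.card N).minFac := ⟨_, rfl⟩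
  have hp : p.Prime := by rw [hpdef]; exact Nat.minFac_prime h1.ne'
  have hpf : Fact p.Prime := ⟨hp⟩
  have hpd : p ∣ Nat.card N := by rw [hpdef]; exact Nat.minFac_dvd _
  obtain ⟨x, hx⟩ := exists_prime_orderOf_dvd_card' p hpd
  have hB : Inv φ (Subgroup.zpowers (x : U)) := by
    intro s b hb
    obtain ⟨k, rfl⟩ := Subgroup.mem_zpowers_iff.mp hb
    rw [map_zpow]
    rcases hi s with h | h
    · rw [h _ x.2]
      exact Subgroup.zpow_mem_zpowers _ k
    · rw [h _ x.2, inv_zpow]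
      exact Subgroup.inv_mem _ (Subgroup.zpow_mem_zpowers _ k)
  have hBle : Subgroup.zpowers (x : U) ≤ N := by
    rw [Subgroup.zpowers_le]; exact x.2
  have hBne : Subgroup.zpowers (x : U) ≠ ⊥ := by
    rw [Ne, Subgroup.zpowers_eq_bot]
    intro h
    have h2 : x = 1 := Subtype.ext h
    rw [h2, orderOf_one] at hx
    exact hp.one_lt.ne hx
  rcases hmin _ hBle hB with h | h
  · exact absurd h hBne
  · rw [← h, Nat.card_zpowers, Subgroup.orderOf_coe, hx]
    exact hp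

include hφ2 hφc in
/-- the abelian case -/
theorem abelian_case [Finite U] {E : Subgroup U} (hEab : ∀ a ∈ E, ∀ b ∈ E, a * b = b * a)
    (hE : Inv φ E) (t : I) (ht : ∃ x ∈ E, φ t x ≠ x) :
    ∃ B : Subgroup U, B ≤ E ∧ (Nat.card B).Prime ∧ Inv φ B ∧
      (∀ s : I, (∀ x ∈ B, φ s x = x) ∨ (∀ x ∈ B, φ s x = x⁻¹)) ∧ ∀ b ∈ B, φ t b = b⁻¹ := by
  obtain ⟨Em, hEm⟩ : ∃ Em : Subgroup U, ∀ x, x ∈ Em ↔ x ∈ E ∧ φ t x = x⁻¹ := by
    have h1 : φ t 1 = (1 : U)⁻¹ := by rw [map_one, inv_one]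
    have h2 : ∀ {a b : U}, (a ∈ E ∧ φ t a = a⁻¹) → (b ∈ E ∧ φ t b = b⁻¹) →
        (a * b ∈ E ∧ φ t (a * b) = (a * b)⁻¹) := by
      rintro a b ⟨ha1, ha2⟩ ⟨hb1, hb2⟩
      refine ⟨E.mul_mem ha1 hb1, ?_⟩
      rw [map_mul, ha2, hb2, mul_inv_rev]
      exact hEab _ (E.inv_mem ha1) _ (E.inv_mem hb1)
    have h3 : ∀ {a : U}, (a ∈ E ∧ φ t a = a⁻¹) → (a⁻¹ ∈ E ∧ φ t a⁻¹ = a⁻¹⁻¹) := by
      rintro a ⟨ha1, ha2⟩
      refine ⟨E.inv_mem ha1, ?_⟩
      rw [map_inv, ha2]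
    exact ⟨{ carrier := {x | x ∈ E ∧ φ t x = x⁻¹}
             one_mem' := ⟨E.one_mem, h1⟩
             mul_mem' := fun ha hb => h2 ha hb
             inv_mem' := fun ha => h3 ha }, fun x => Iff.rfl⟩
  have hEmle : Em ≤ E := fun x hx => ((hEm x).mp hx).1
  have hEmInv : Inv φ Em := by
    intro s b hb
    rw [hEm] at hb ⊢
    refine ⟨hE s b hb.1, ?_⟩
    rw [hφc, hb.2, map_inv]
  have hEmne : Em ≠ ⊥ := by
    obtain ⟨x, hx, hxt⟩ := ht
    intro h
    have hy : x * (φ t x)⁻¹ ∈ Em := by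
      rw [hEm]
      refine ⟨E.mul_mem hx (E.inv_mem (hE t x hx)), ?_⟩
      rw [map_mul, map_inv, hφ2, mul_inv_rev, inv_inv]
    rw [h, Subgroup.mem_bot] at hy
    apply hxt
    have h2 := eq_of_mul_inv_eq_one hy
    exact h2.symm
  obtain ⟨N, hN1, hN2, hN3, hN4⟩ := exists_minimal_inv φ Em hEmInv hEmne
  have hNab : ∀ a ∈ N, ∀ b ∈ N, a * b = b * a :=
    fun a ha b hb => hEab a (hEmle (hN1 ha)) b (hEmle (hN1 hb))
  obtain ⟨hi, hpr⟩ := minimal_inv_abelian φ hφ2 hφc hNab hN2 hN3 hN4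
  exact ⟨N, hN1.trans hEmle, hpr, hN2, hi, fun b hb => ((hEm b).mp (hN1 hb)).2⟩

end Action

section Main

variable {I : Type v}

theorem eq_one_of_mul_self {U : Type u} [Group U] {r : ℕ} (hU : IsPGroup r U) (hr : r.Prime)
    (hr2 : r ≠ 2) {x : U} (h : x * x = 1) : x = 1 := by
  obtain ⟨k, hk⟩ := hU x
  have h1 : orderOf x ∣ r ^ k := orderOf_dvd_of_pow_eq_one hk
  have h2 : orderOf x ∣ 2 := orderOf_dvd_of_pow_eq_one (by rw [pow_two]; exact h)
  have hc : Nat.Coprime 2 (r ^ k) := by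
    apply Nat.Coprime.pow_right
    exact (Nat.coprime_primes Nat.prime_two hr).mpr (Ne.symm hr2)
  have h3 : orderOf x = 1 := Nat.eq_one_of_dvd_coprimes hc h2 h1
  exact orderOf_eq_one_iff.mp h3

/-- Commuting involutory automorphisms `φ s` of a finite `r`-group (`r` odd): if `φ t` is not the
identity, some invariant subgroup of order `r` is inverted by `φ t`, and each `φ s` fixes it
pointwise or inverts it. -/
theorem exists_inverted (r : ℕ) [hr : Fact r.Prime] (hr2 : r ≠ 2) (n : ℕ) :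
    ∀ (U : Type u) [Group U] [Finite U] (φ : I → (U →* U)),
    (∀ s x, φ s (φ s x) = x) → (∀ s s' x, φ s (φ s' x) = φ s' (φ s x)) →
    Nat.card U = n → IsPGroup r U → ∀ t : I, (∃ x : U, φ t x ≠ x) →
    ∃ B : Subgroup U, Nat.card B = r ∧ Inv φ B ∧
      (∀ s : I, (∀ x ∈ B, φ s x = x) ∨ (∀ x ∈ B, φ s x = x⁻¹)) ∧ ∀ b ∈ B, φ t b = b⁻¹ := by
  induction n using Nat.strong_induction_on with
  | _ n ih =>
  intro U _ _ φ hφ2 hφc hn hU t ht
  have hprime : ∀ B : Subgroup U, (Nat.card B).Prime → Nat.card B = r := by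
    intro B hB
    obtain ⟨k, hk⟩ := hU.exists_card_eq
    have h1 : Nat.card B ∣ r ^ k := hk ▸ Subgroup.card_subgroup_dvd_card B
    exact (Nat.prime_dvd_prime_iff_eq hB hr.out).mp (hB.dvd_of_dvd_pow h1)
  have hnt : Nontrivial U := by
    obtain ⟨x, hx⟩ := ht
    refine ⟨⟨x, 1, ?_⟩⟩
    rintro rfl
    exact hx (map_one _)
  have hZab : ∀ a ∈ Subgroup.center U, ∀ b ∈ Subgroup.center U, a * b = b * a :=
    fun a ha b _ => (Subgroup.mem_center_iff.mp ha b).symm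
  have hZInv : Inv φ (Subgroup.center U) := by
    intro s x hx
    rw [Subgroup.mem_center_iff] at hx ⊢
    intro y
    calc y * φ s x = φ s (φ s y) * φ s x := by rw [hφ2]
      _ = φ s (φ s y * x) := by rw [map_mul]
      _ = φ s (x * φ s y) := by rw [hx]
      _ = φ s x * y := by rw [map_mul, hφ2]
  by_cases htZ : ∃ x ∈ Subgroup.center U, φ t x ≠ x
  · obtain ⟨B, -, hB1, hB2, hB3, hB4⟩ := abelian_case φ hφ2 hφc hZab hZInv t htZ
    exact ⟨B, hprime B hB1, hB2, hB3, hB4⟩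
  push Not at htZ
  have hZne : Subgroup.center U ≠ ⊥ := by
    have h1 := hU.center_nontrivial
    exact (Subgroup.nontrivial_iff_ne_bot _).mp h1
  obtain ⟨N, hNZ, hNInv, hNne, hNmin⟩ := exists_minimal_inv φ (Subgroup.center U) hZInv hZne
  have hNab : ∀ a ∈ N, ∀ b ∈ N, a * b = b * a := fun a ha b hb => hZab a (hNZ ha) b (hNZ hb)
  obtain ⟨-, hNpr⟩ := minimal_inv_abelian φ hφ2 hφc hNab hNInv hNne hNmin
  have hNr : Nat.card N = r := hprime N hNpr
  have hNn : N.Normal := by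
    constructor
    intro x hx g
    have h1 := Subgroup.mem_center_iff.mp (hNZ hx) g
    rw [h1, mul_assoc, mul_inv_cancel, mul_one]
    exact hx
  have htN : ∀ x ∈ N, φ t x = x := fun x hx => htZ x (hNZ hx)
  obtain ⟨φ', hφ'⟩ : ∃ φ' : I → ((U ⧸ N) →* (U ⧸ N)),
      ∀ s x, φ' s (QuotientGroup.mk x) = QuotientGroup.mk (φ s x) :=
    ⟨fun s => QuotientGroup.map N N (φ s) (fun x hx => hNInv s x hx), fun s x => rfl⟩
  have hφ'2 : ∀ s q, φ' s (φ' s q) = q := by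
    intro s q
    induction q using QuotientGroup.induction_on with
    | H x => rw [hφ', hφ', hφ2]
  have hφ'c : ∀ s s' q, φ' s (φ' s' q) = φ' s' (φ' s q) := by
    intro s s' q
    induction q using QuotientGroup.induction_on with
    | H x => rw [hφ', hφ', hφ', hφ', hφc]
  have hlt : Nat.card (U ⧸ N) < n := by
    rw [← hn, ← Subgroup.index_eq_card, ← Subgroup.card_mul_index N, hNr]
    have hidx : 0 < N.index := Nat.pos_of_ne_zero Subgroup.index_ne_zero_of_finite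
    nlinarith [hr.out.two_le]
  have hU' : IsPGroup r (U ⧸ N) := hU.to_quotient N
  have ht' : ∃ q : U ⧸ N, φ' t q ≠ q := by
    by_contra hall
    push Not at hall
    obtain ⟨x, hx⟩ := ht
    apply hx
    have h1 := hall (QuotientGroup.mk x)
    rw [hφ', QuotientGroup.eq] at h1
    have h2 := htN _ h1
    rw [map_mul, map_inv, hφ2] at h2
    have h3 : ((φ t x)⁻¹ * x) * ((φ t x)⁻¹ * x) = 1 := by
      nth_rewrite 1 [← h2]
      group
    have h4 := eq_one_of_mul_self hU hr.out hr2 h3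
    exact inv_mul_eq_one.mp h4
  obtain ⟨B', hB'1, hB'2, hB'3, hB'4⟩ := ih _ hlt (U ⧸ N) φ' hφ'2 hφ'c rfl hU' t ht'
  obtain ⟨B₁, hB₁⟩ : ∃ B₁ : Subgroup U, B₁ = B'.comap (QuotientGroup.mk' N) := ⟨_, rfl⟩
  have hmem : ∀ x, x ∈ B₁ ↔ (QuotientGroup.mk x : U ⧸ N) ∈ B' := by
    intro x
    rw [hB₁]
    rfl
  have hB₁Inv : Inv φ B₁ := by
    intro s b hb
    rw [hmem] at hb ⊢
    rw [← hφ']
    exact hB'2 s _ hb
  have hB₁ab : ∀ a ∈ B₁, ∀ b ∈ B₁, a * b = b * a := by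
    have hcyc : IsCyclic B' := isCyclic_of_prime_card hB'1
    obtain ⟨g, hg⟩ := IsCyclic.exists_generator (α := B')
    obtain ⟨g₀, hg₀⟩ := QuotientGroup.mk_surjective (g : U ⧸ N)
    have key : ∀ a ∈ B₁, ∃ (i : ℤ) (z : U), z ∈ Subgroup.center U ∧ a = g₀ ^ i * z := by
      intro a ha
      rw [hmem] at ha
      obtain ⟨i, hi⟩ := Subgroup.mem_zpowers_iff.mp (hg ⟨_, ha⟩)
      have h1 : ((g : U ⧸ N)) ^ i = QuotientGroup.mk a := by
        have h2 := congrArg Subtype.val hi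
        rwa [Subgroup.coe_zpow] at h2
      rw [← hg₀, ← QuotientGroup.mk_zpow, QuotientGroup.eq] at h1
      exact ⟨i, (g₀ ^ i)⁻¹ * a, hNZ h1, by group⟩
    intro a ha b hb
    obtain ⟨i, z, hz, rfl⟩ := key a ha
    obtain ⟨j, w, hw, rfl⟩ := key b hb
    have hz' := Subgroup.mem_center_iff.mp hz
    have hw' := Subgroup.mem_center_iff.mp hw
    have c1 : Commute (g₀ ^ i) (g₀ ^ j) := (Commute.refl g₀).zpow_zpow i j
    have cz : ∀ y, Commute z y := fun y => (hz' y).symm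
    have cw : ∀ y, Commute w y := fun y => (hw' y).symm
    exact (c1.mul_right (cw _).symm).mul_left (cz _)
  have htB₁ : ∃ x ∈ B₁, φ t x ≠ x := by
    have h1 : 1 < Nat.card B' := by rw [hB'1]; exact hr.out.one_lt
    have hnt' : Nontrivial B' := Finite.one_lt_card_iff_nontrivial.mp h1
    obtain ⟨b', hb'⟩ := exists_ne (1 : B')
    obtain ⟨b, hb⟩ := QuotientGroup.mk_surjective (b' : U ⧸ N)
    refine ⟨b, by rw [hmem, hb]; exact b'.2, ?_⟩
    intro hfix
    have h2 := hB'4 _ b'.2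
    rw [← hb, hφ', hfix] at h2
    have h3 : (QuotientGroup.mk b : U ⧸ N) * QuotientGroup.mk b = 1 := by
      nth_rewrite 2 [h2]
      exact mul_inv_cancel _
    have h4 := eq_one_of_mul_self hU' hr.out hr2 h3
    apply hb'
    apply Subtype.ext
    rw [← hb, h4]
    rfl
  obtain ⟨B, -, hB1, hB2, hB3, hB4⟩ := abelian_case φ hφ2 hφc hB₁ab hB₁Inv t htB₁
  exact ⟨B, hprime B hB1, hB2, hB3, hB4⟩

end Main

end Cfsg.Agent.Lib.Helper23.InvolutionAct
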