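import Mathlib

/-!
# Joint eigenspaces of commuting finite-order operators, and an angular box lemma
(towards Jordan's theorem)
-/

namespace Cfsg.Agent.Lib.Helper23.Jordan

section LinAlg

variable {V : Type*} [AddCommGroup V] [Module ℂ V]

/-- An endomorphism of finite order over `ℂ` is semisimple. -/
lemma isSemisimple_of_pow_eq_one (f : Module.End ℂ V) {N : ℕ} (hN : 0 < N) (h : f ^ N = 1) :
    f.IsSemisimple := by
  have hsq : Squarefree (Polynomial.X ^ N - Polynomial.C (1 : ℂ)) :=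
    (Polynomial.separable_X_pow_sub_C (1 : ℂ) (by exact_mod_cast hN.ne') one_ne_zero).squarefree
  apply Module.End.isSemisimple_of_squarefree_aeval_eq_zero hsq
  simp [h]

variable {ι : Type*} (f : ι → Module.End ℂ V)

/-- The joint eigenspace of a family of endomorphisms for a family of eigenvalues. -/
def jointEigenspace (χ : ι → ℂ) : Submodule ℂ V := ⨅ i, (f i).eigenspace (χ i)

lemma mem_jointEigenspace {χ : ι → ℂ} {v : V} :
    v ∈ jointEigenspace f χ ↔ ∀ i, f i v = χ i • v := by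
  simp [jointEigenspace]

lemma jointEigenspace_eq (hss : ∀ i, (f i).IsSemisimple) (χ : ι → ℂ) :
    jointEigenspace f χ = ⨅ i, (f i).maxGenEigenspace (χ i) := by
  unfold jointEigenspace
  refine iInf_congr fun i => ?_
  rw [(hss i).isFinitelySemisimple.maxGenEigenspace_eq_eigenspace]

variable [FiniteDimensional ℂ V]

lemma iSup_jointEigenspace_eq_top (hcomm : ∀ i j, Commute (f i) (f j))
    (hss : ∀ i, (f i).IsSemisimple) :
    ⨆ χ : ι → ℂ, jointEigenspace f χ = ⊤ := by
  have h := Module.End.iSup_iInf_maxGenEigenspace_eq_top_of_iSup_maxGenEigenspace_eq_top_of_commute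
    f (fun i j _ => hcomm i j) (fun i => Module.End.iSup_maxGenEigenspace_eq_top (f i))
  rw [← h]
  exact iSup_congr fun χ => jointEigenspace_eq f hss χ

lemma iSupIndep_jointEigenspace (hcomm : ∀ i j, Commute (f i) (f j))
    (hss : ∀ i, (f i).IsSemisimple) :
    iSupIndep (fun χ : ι → ℂ => jointEigenspace f χ) := by
  have h := Module.End.independent_iInf_maxGenEigenspace_of_forall_mapsTo f
    (fun i j φ => Module.End.mapsTo_maxGenEigenspace_of_comm (hcomm j i) φ)
  have e : (fun χ : ι → ℂ => jointEigenspace f χ) =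
      fun χ : ι → ℂ => ⨅ i, (f i).maxGenEigenspace (χ i) :=
    funext fun χ => jointEigenspace_eq f hss χ
  rw [e]; exact h

/-- Every eigenvalue of a member of the family is the value of a weight with nonzero
joint eigenspace. -/
lemma exists_weight_of_eigenvector (hcomm : ∀ i j, Commute (f i) (f j))
    (hss : ∀ i, (f i).IsSemisimple) (i₀ : ι) {μ : ℂ} {v : V} (hv : v ≠ 0)
    (hμ : f i₀ v = μ • v) :
    ∃ χ : ι → ℂ, jointEigenspace f χ ≠ ⊥ ∧ χ i₀ = μ := by
  by_contra hcon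
  push Not at hcon
  have hle : ∀ χ : ι → ℂ,
      jointEigenspace f χ ≤ ⨆ (ν : ℂ) (_ : ν ≠ μ), (f i₀).eigenspace ν := by
    intro χ
    by_cases hb : jointEigenspace f χ = ⊥
    · rw [hb]; exact bot_le
    · exact le_trans (iInf_le _ i₀) (le_iSup₂_of_le (χ i₀) (hcon χ hb) le_rfl)
  have htop : (⊤ : Submodule ℂ V) ≤ ⨆ (ν : ℂ) (_ : ν ≠ μ), (f i₀).eigenspace ν := by
    rw [← iSup_jointEigenspace_eq_top f hcomm hss]
    exact iSup_le hle
  have hdis := (Module.End.eigenspaces_iSupIndep (f i₀)) μ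
  have hbot : (f i₀).eigenspace μ = ⊥ := disjoint_top.mp (hdis.mono_right htop)
  have hmem : v ∈ (f i₀).eigenspace μ := Module.End.mem_eigenspace_iff.mpr hμ
  rw [hbot, Submodule.mem_bot] at hmem
  exact hv hmem

/-- The number of weights with nonzero joint eigenspace is at most the dimension. -/
lemma card_weights_le (hcomm : ∀ i j, Commute (f i) (f j))
    (hss : ∀ i, (f i).IsSemisimple) :
    Finite {χ : ι → ℂ // jointEigenspace f χ ≠ ⊥} ∧
      Nat.card {χ : ι → ℂ // jointEigenspace f χ ≠ ⊥} ≤ Module.finrank ℂ V := by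
  have hind := iSupIndep_jointEigenspace f hcomm hss
  letI : Fintype {χ : ι → ℂ // jointEigenspace f χ ≠ ⊥} :=
    hind.fintypeNeBotOfFiniteDimensional
  refine ⟨Finite.of_fintype _, ?_⟩
  rw [Nat.card_eq_fintype_card]
  exact hind.subtype_ne_bot_le_finrank

end LinAlg

section Weights

variable {V : Type*} [AddCommGroup V] [Module ℂ V] {H : Type*} [Group H]

/-- A weight with nonzero joint eigenspace of a group representation is multiplicative. -/
lemma weight_mul (f : H →* Module.End ℂ V) {χ : H → ℂ}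
    (hχ : jointEigenspace (fun h => f h) χ ≠ ⊥) (h h' : H) : χ (h * h') = χ h * χ h' := by
  obtain ⟨v, hv, hv0⟩ := (Submodule.ne_bot_iff _).mp hχ
  rw [mem_jointEigenspace] at hv
  have h1 : f (h * h') v = (χ h * χ h') • v := by
    rw [map_mul, Module.End.mul_apply, hv h', map_smul, hv h, smul_smul, mul_comm]
  rw [hv (h * h')] at h1
  exact smul_left_injective ℂ hv0 h1

lemma weight_one (f : H →* Module.End ℂ V) {χ : H → ℂ}
    (hχ : jointEigenspace (fun h => f h) χ ≠ ⊥) : χ 1 = 1 := by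
  obtain ⟨v, hv, hv0⟩ := (Submodule.ne_bot_iff _).mp hχ
  rw [mem_jointEigenspace] at hv
  have h1 := hv 1
  rw [map_one, Module.End.one_apply] at h1
  have h2 : (1 : ℂ) • v = χ 1 • v := by rw [one_smul]; exact h1
  exact (smul_left_injective ℂ hv0 h2).symm

lemma weight_inv_mul (f : H →* Module.End ℂ V) {χ : H → ℂ}
    (hχ : jointEigenspace (fun h => f h) χ ≠ ⊥) (h h' : H) :
    χ (h⁻¹ * h') = (χ h)⁻¹ * χ h' := by
  have h1 : χ h⁻¹ * χ h = 1 := by
    rw [← weight_mul f hχ, inv_mul_cancel, weight_one f hχ]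
  have h0 : χ h ≠ 0 := by
    intro h0; rw [h0, mul_zero] at h1; exact zero_ne_one h1
  rw [weight_mul f hχ, eq_inv_of_mul_eq_one_left h1]

end Weights

section Analytic

open Real

/-- The `30°` sector index of a complex number. -/
noncomputable def boxIndex (w : ℂ) : ℕ := ⌊(π - Complex.arg w) * 6 / π⌋₊

lemma boxIndex_lt (w : ℂ) : boxIndex w < 12 := by
  unfold boxIndex
  have hπ : 0 < π := Real.pi_pos
  have h1 : -π < Complex.arg w := Complex.neg_pi_lt_arg w
  have h2 : Complex.arg w ≤ π := Complex.arg_le_pi w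
  have h0 : 0 ≤ (π - Complex.arg w) * 6 / π := by
    apply div_nonneg _ hπ.le
    nlinarith
  rw [Nat.floor_lt h0, div_lt_iff₀ hπ]
  push_cast
  nlinarith

/-- The constant `√3/2`, as a complex number. -/
noncomputable def c₀ : ℂ := ((Real.sqrt 3 / 2 : ℝ) : ℂ)

lemma norm_exp_sub_c₀_lt {δ : ℝ} (hδ : |δ| * 6 < π) :
    ‖Complex.exp (δ * Complex.I) - c₀‖ < 1 / 2 := by
  have hπ := Real.pi_pos
  have hcos : Real.sqrt 3 / 2 < Real.cos δ := by
    rw [← Real.cos_pi_div_six, ← Real.cos_abs δ]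
    apply Real.cos_lt_cos_of_nonneg_of_le_pi_div_two (abs_nonneg δ) (by linarith) (by linarith)
  have hs2 : Real.sqrt 3 * Real.sqrt 3 = 3 := Real.mul_self_sqrt (by norm_num)
  have hs0 : 0 < Real.sqrt 3 := Real.sqrt_pos.mpr (by norm_num)
  have hre : (Complex.exp (δ * Complex.I) - c₀).re = Real.cos δ - Real.sqrt 3 / 2 := by
    simp [c₀, Complex.exp_ofReal_mul_I_re]
  have him : (Complex.exp (δ * Complex.I) - c₀).im = Real.sin δ := by
    simp [c₀, Complex.exp_ofReal_mul_I_im]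
  have hsq : ‖Complex.exp (δ * Complex.I) - c₀‖ ^ 2 < (1 / 2) ^ 2 := by
    rw [Complex.sq_norm, Complex.normSq_apply, hre, him]
    have := Real.sin_sq_add_cos_sq δ
    nlinarith [mul_pos hs0 (sub_pos.mpr hcos)]
  exact lt_of_pow_lt_pow_left₀ 2 (by norm_num) hsq

/-- Two unit complex numbers in the same `30°` sector have quotient within `1/2` of `√3/2`. -/
lemma norm_inv_mul_sub_lt {w₁ w₂ : ℂ} (h₁ : ‖w₁‖ = 1) (h₂ : ‖w₂‖ = 1)
    (hb : boxIndex w₁ = boxIndex w₂) : ‖w₁⁻¹ * w₂ - c₀‖ < 1 / 2 := by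
  have hπ : 0 < π := Real.pi_pos
  have e1 : Complex.exp (Complex.arg w₁ * Complex.I) = w₁ := by
    have := Complex.norm_mul_exp_arg_mul_I w₁
    rw [h₁] at this; simpa using this
  have e2 : Complex.exp (Complex.arg w₂ * Complex.I) = w₂ := by
    have := Complex.norm_mul_exp_arg_mul_I w₂
    rw [h₂] at this; simpa using this
  have a1 : Complex.arg w₁ ≤ π := Complex.arg_le_pi w₁
  have a2 : Complex.arg w₂ ≤ π := Complex.arg_le_pi w₂
  unfold boxIndex at hb
  generalize Complex.arg w₁ = θ₁ at *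
  generalize Complex.arg w₂ = θ₂ at *
  have ht₁0 : 0 ≤ (π - θ₁) * 6 / π := div_nonneg (by nlinarith) hπ.le
  have ht₂0 : 0 ≤ (π - θ₂) * 6 / π := div_nonneg (by nlinarith) hπ.le
  have l1 : (⌊(π - θ₁) * 6 / π⌋₊ : ℝ) ≤ (π - θ₁) * 6 / π := Nat.floor_le ht₁0
  have l2 : (⌊(π - θ₂) * 6 / π⌋₊ : ℝ) ≤ (π - θ₂) * 6 / π := Nat.floor_le ht₂0
  have u1 : (π - θ₁) * 6 / π < ⌊(π - θ₁) * 6 / π⌋₊ + 1 := Nat.lt_floor_add_one _
  have u2 : (π - θ₂) * 6 / π < ⌊(π - θ₂) * 6 / π⌋₊ + 1 := Nat.lt_floor_add_one _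
  rw [hb] at l1 u1
  have hd : |(π - θ₁) * 6 / π - (π - θ₂) * 6 / π| < 1 := by
    rw [abs_lt]; constructor <;> linarith
  have e : (π - θ₁) * 6 / π - (π - θ₂) * 6 / π = (θ₂ - θ₁) * 6 / π := by ring
  have hd' : |θ₂ - θ₁| * 6 < π := by
    rw [e, abs_div, abs_mul, abs_of_pos hπ, abs_of_pos (by norm_num : (0:ℝ) < 6),
      div_lt_one hπ] at hd
    exact hd
  have e3 : w₁⁻¹ * w₂ = Complex.exp (((θ₂ - θ₁ : ℝ) : ℂ) * Complex.I) := by
    rw [← e1, ← e2, ← Complex.exp_neg, ← Complex.exp_add]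
    congr 1
    push_cast; ring
  rw [e3]
  exact norm_exp_sub_c₀_lt hd'

end Analytic

end Cfsg.Agent.Lib.Helper23.Jordan
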