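import Mathlib

/-!
# Frobenius' commutator argument for unitary operators (towards Jordan's theorem)
-/

namespace Cfsg.Agent.Lib.Helper23.Jordan

open scoped InnerProductSpace NNReal ENNReal

section CStar

variable {A : Type*} [CStarAlgebra A]

/-- A nonzero normal element of a C⋆-algebra has a nonzero point in its spectrum. -/
lemma exists_ne_zero_mem_spectrum (a : A) [IsStarNormal a] (ha : a ≠ 0) :
    ∃ μ ∈ spectrum ℂ a, μ ≠ 0 := by
  by_contra h
  push Not at h
  have h0 : spectralRadius ℂ a = 0 := by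
    unfold spectralRadius
    simp only [ENNReal.iSup_eq_zero, ENNReal.coe_eq_zero, nnnorm_eq_zero]
    intro k hk
    exact h k hk
  rw [IsStarNormal.spectralRadius_eq_nnnorm] at h0
  simp only [ENNReal.coe_eq_zero, nnnorm_eq_zero] at h0
  exact ha h0

/-- Commutator bound: `‖1 - [u,z]‖ ≤ 2 ‖u - c‖ ‖z - 1‖` for unitaries `u`, `z` and a scalar `c`. -/
lemma norm_one_sub_comm_le {u z : A} (hu : u ∈ unitary A) (hz : z ∈ unitary A) (c : ℂ) :
    ‖1 - u * z * star u * star z‖ ≤ 2 * ‖u - algebraMap ℂ A c‖ * ‖z - 1‖ := by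
  have hu' : u * star u = 1 := Unitary.mul_star_self_of_mem hu
  have hz' : z * star z = 1 := Unitary.mul_star_self_of_mem hz
  have h1 : 1 - u * z * star u * star z = (z * u - u * z) * (star u * star z) := by
    have e1 : z * u * (star u * star z) = 1 := by
      rw [mul_assoc, ← mul_assoc u, hu', one_mul, hz']
    rw [sub_mul, e1]
    simp only [mul_assoc]
  set a := algebraMap ℂ A c with ha
  have hcomm : a * z = z * a := Algebra.commutes c z
  have h2 : z * u - u * z = (z - 1) * (u - a) - (u - a) * (z - 1) := by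
    simp only [mul_sub, sub_mul, mul_one, one_mul]
    rw [hcomm]
    abel
  have hm : star u * star z ∈ unitary A := mul_mem (Unitary.star_mem hu) (Unitary.star_mem hz)
  rw [h1, CStarRing.norm_mul_mem_unitary _ hm, h2]
  calc ‖(z - 1) * (u - a) - (u - a) * (z - 1)‖
      ≤ ‖(z - 1) * (u - a)‖ + ‖(u - a) * (z - 1)‖ := norm_sub_le _ _
    _ ≤ ‖z - 1‖ * ‖u - a‖ + ‖u - a‖ * ‖z - 1‖ := add_le_add (norm_mul_le _ _) (norm_mul_le _ _)
    _ = 2 * ‖u - a‖ * ‖z - 1‖ := by ring

end CStar

section Hilbert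

variable {E : Type*} [NormedAddCommGroup E] [InnerProductSpace ℂ E] [FiniteDimensional ℂ E]
  [CompleteSpace E]

/-- In finite dimension, a point of the spectrum of a continuous linear map is an eigenvalue. -/
lemma exists_eigenvector_of_mem_spectrum (T : E →L[ℂ] E) {μ : ℂ} (hμ : μ ∈ spectrum ℂ T) :
    ∃ v : E, v ≠ 0 ∧ T v = μ • v := by
  have h1 : μ ∈ spectrum ℂ (T : E →ₗ[ℂ] E) := by
    have h := AlgEquiv.spectrum_eq (Module.End.toContinuousLinearMap (𝕜 := ℂ) E) (T : E →ₗ[ℂ] E)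
    have h2 : (Module.End.toContinuousLinearMap (𝕜 := ℂ) E) (T : E →ₗ[ℂ] E) = T := by
      ext x; rfl
    rw [h2] at h
    rw [← h]; exact hμ
  obtain ⟨v, hv⟩ := (Module.End.hasEigenvalue_iff_mem_spectrum.mpr h1).exists_hasEigenvector
  exact ⟨v, hv.2, hv.apply_eq_smul⟩

/-- Frobenius' lemma: if the unitary `u` commutes with the commutator `[u, z]` of unitaries and
`‖z - 1‖ < √2`, then `u` and `z` commute (the commutator is `1`). -/
lemma comm_eq_one_of_commute {u z : E →L[ℂ] E} (hu : u ∈ unitary (E →L[ℂ] E))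
    (hz : z ∈ unitary (E →L[ℂ] E)) (hcomm : Commute u (u * z * star u * star z))
    (hn : ‖z - 1‖ < Real.sqrt 2) : u * z * star u * star z = 1 := by
  set c := u * z * star u * star z with hc
  by_contra hne
  have hcu : c ∈ unitary (E →L[ℂ] E) :=
    mul_mem (mul_mem (mul_mem hu hz) (Unitary.star_mem hu)) (Unitary.star_mem hz)
  have hcs1 : star c * c = 1 := Unitary.star_mul_self_of_mem hcu
  have hcs2 : c * star c = 1 := Unitary.mul_star_self_of_mem hcu
  haveI : IsStarNormal (c - 1) := by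
    constructor
    show star (c - 1) * (c - 1) = (c - 1) * star (c - 1)
    rw [star_sub, star_one]
    simp only [mul_sub, sub_mul, mul_one, one_mul, hcs1, hcs2]
    abel
  obtain ⟨μ, hμ, hμ0⟩ := exists_ne_zero_mem_spectrum (c - 1) (sub_ne_zero.mpr hne)
  have hγ : μ + 1 ∈ spectrum ℂ c := by
    rw [spectrum.add_mem_iff]
    have : -(algebraMap ℂ (E →L[ℂ] E)) 1 + c = c - 1 := by
      rw [map_one]; abel
    rw [this]; exact hμ
  set γ := μ + 1 with hγdef
  have hγ1 : γ ≠ 1 := by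
    intro h; apply hμ0; rw [hγdef] at h; linear_combination h
  obtain ⟨w0, hw0, hcw0⟩ := exists_eigenvector_of_mem_spectrum c hγ
  -- the eigenspace of `c`, invariant under `u`
  let Eγ : Submodule ℂ E := LinearMap.ker ((c : E →ₗ[ℂ] E) - γ • LinearMap.id)
  have hmem : ∀ x : E, x ∈ Eγ ↔ c x = γ • x := by
    intro x
    simp only [Eγ, LinearMap.mem_ker, LinearMap.sub_apply, LinearMap.smul_apply,
      LinearMap.id_coe, id_eq, sub_eq_zero, ContinuousLinearMap.coe_coe]
  have hinv : ∀ x ∈ Eγ, (u : E →ₗ[ℂ] E) x ∈ Eγ := by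
    intro x hx
    rw [hmem] at hx ⊢
    have h1 : c (u x) = u (c x) := by
      have := congrArg (fun T : E →L[ℂ] E => T x) hcomm.eq
      simpa [ContinuousLinearMap.mul_apply] using this.symm
    show c (u x) = γ • u x
    rw [h1, hx, map_smul]
  haveI : Nontrivial Eγ := by
    rw [Submodule.nontrivial_iff_ne_bot]
    intro hbot
    have : w0 ∈ Eγ := (hmem w0).mpr hcw0
    rw [hbot, Submodule.mem_bot] at this
    exact hw0 this
  obtain ⟨a, ha⟩ := Module.End.exists_eigenvalue ((u : E →ₗ[ℂ] E).restrict hinv)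
  obtain ⟨v', hv'⟩ := ha.exists_hasEigenvector
  have hv'ne : (v' : E) ≠ 0 := by
    intro h; exact hv'.2 (Subtype.ext h)
  set v : E := (v' : E) with hv
  have huv : u v = a • v := by
    have := congrArg (Subtype.val) hv'.apply_eq_smul
    simpa using this
  have hcv : c v = γ • v := (hmem v).mp v'.2
  have hnv : 0 < ‖v‖ := norm_pos_iff.mpr hv'ne
  -- |a| = 1
  have hna : ‖a‖ = 1 := by
    have h1 : ‖u v‖ = ‖v‖ := ContinuousLinearMap.norm_map_of_mem_unitary hu v
    rw [huv, norm_smul] at h1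
    have : ‖a‖ * ‖v‖ = 1 * ‖v‖ := by rw [h1, one_mul]
    exact mul_right_cancel₀ hnv.ne' this
  have ha0 : a ≠ 0 := by
    intro h; rw [h, norm_zero] at hna; exact zero_ne_one hna
  have hsu : star u v = a⁻¹ • v := by
    have h1 : star u (u v) = v := by
      have h0 : (star u * u) v = v := by
        rw [Unitary.star_mul_self_of_mem hu]; rfl
      exact h0
    rw [huv, map_smul] at h1
    calc star u v = a⁻¹ • (a • star u v) := by
          rw [smul_smul, inv_mul_cancel₀ ha0, one_smul]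
      _ = a⁻¹ • v := by rw [h1]
  -- t = star u * c
  have htc : star u * c = z * star u * star z := by
    rw [hc]
    have : star u * (u * z * star u * star z) = (star u * u) * z * star u * star z := by
      simp only [mul_assoc]
    rw [this, Unitary.star_mul_self_of_mem hu, one_mul]
  have htu : star u * c ∈ unitary (E →L[ℂ] E) := mul_mem (Unitary.star_mem hu) hcu
  set w : E := z v with hw
  have htv : (star u * c) v = (γ * a⁻¹) • v := by
    rw [ContinuousLinearMap.mul_apply, hcv, map_smul, hsu, smul_smul]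
  have htw : (star u * c) w = a⁻¹ • w := by
    rw [htc, hw]
    have h1 : star z (z v) = v := by
      have h0 : (star z * z) v = v := by
        rw [Unitary.star_mul_self_of_mem hz]; rfl
      exact h0
    rw [ContinuousLinearMap.mul_apply, ContinuousLinearMap.mul_apply, h1, hsu, map_smul]
  have hinner : ⟪v, w⟫_ℂ = 0 := by
    have h1 : ⟪(star u * c) v, (star u * c) w⟫_ℂ = ⟪v, w⟫_ℂ :=
      ContinuousLinearMap.inner_map_map_of_mem_unitary htu v w
    rw [htv, htw, inner_smul_left, inner_smul_right] at h1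
    have h2 : (starRingEnd ℂ) a⁻¹ * a⁻¹ = 1 := by
      rw [Complex.conj_mul', norm_inv, hna]; simp
    have h3 : (starRingEnd ℂ) γ * ⟪v, w⟫_ℂ = ⟪v, w⟫_ℂ := by
      rw [map_mul] at h1
      calc (starRingEnd ℂ) γ * ⟪v, w⟫_ℂ
          = (starRingEnd ℂ) γ * (((starRingEnd ℂ) a⁻¹ * a⁻¹) * ⟪v, w⟫_ℂ) := by rw [h2, one_mul]
        _ = (starRingEnd ℂ) γ * (starRingEnd ℂ) a⁻¹ * (a⁻¹ * ⟪v, w⟫_ℂ) := by ring
        _ = ⟪v, w⟫_ℂ := h1
    have h4 : (starRingEnd ℂ) γ ≠ 1 := by
      intro h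
      apply hγ1
      have := congrArg (starRingEnd ℂ) h
      simpa using this
    have h5 : ((starRingEnd ℂ) γ - 1) * ⟪v, w⟫_ℂ = 0 := by
      rw [sub_mul, h3, one_mul, sub_self]
    rcases mul_eq_zero.mp h5 with h | h
    · exact absurd (sub_eq_zero.mp h) h4
    · exact h
  have hnw : ‖w‖ = ‖v‖ := ContinuousLinearMap.norm_map_of_mem_unitary hz v
  have hsq : ‖v - w‖ ^ 2 = 2 * ‖v‖ ^ 2 := by
    rw [@norm_sub_sq ℂ, hinner, hnw]
    simp
    ring
  have hle : ‖v - w‖ ≤ ‖z - 1‖ * ‖v‖ := by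
    have h1 : (z - 1) v = w - v := by
      simp [hw]
    have h2 := (z - 1).le_opNorm v
    rw [h1, norm_sub_rev] at h2
    exact h2
  have hlt : ‖v - w‖ < Real.sqrt 2 * ‖v‖ :=
    lt_of_le_of_lt hle (mul_lt_mul_of_pos_right hn hnv)
  have hsq' : ‖v - w‖ ^ 2 < 2 * ‖v‖ ^ 2 := by
    have h0 : 0 ≤ ‖v - w‖ := norm_nonneg _
    calc ‖v - w‖ ^ 2 < (Real.sqrt 2 * ‖v‖) ^ 2 := by
          apply pow_lt_pow_left₀ hlt h0 (by norm_num)
      _ = 2 * ‖v‖ ^ 2 := by
          rw [mul_pow, Real.sq_sqrt (by norm_num : (0:ℝ) ≤ 2)]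
  rw [hsq] at hsq'
  exact lt_irrefl _ hsq'

end Hilbert

end Cfsg.Agent.Lib.Helper23.Jordan
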