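import Mathlib
import Cfsg.Agent.Lib.Helper23.JordanNorm
import Cfsg.Agent.Lib.Helper23.JordanAbelian

/-!
# Jordan's theorem (Frobenius' form): a finite group of unitary operators on an
`n`-dimensional space has a normal abelian subgroup `A` with `|H : H ∩ A| ≤ 12 ^ n`
for every abelian `H`.
-/

namespace Cfsg.Agent.Lib.Helper23.Jordan

open scoped InnerProductSpace

section CStar

variable {A : Type*} [CStarAlgebra A]

lemma isStarNormal_sub_algebraMap {u : A} (hu : u ∈ unitary A) (c : ℂ) :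
    IsStarNormal (u - algebraMap ℂ A c) := by
  constructor
  show star (u - algebraMap ℂ A c) * (u - algebraMap ℂ A c) =
    (u - algebraMap ℂ A c) * star (u - algebraMap ℂ A c)
  rw [star_sub, ← algebraMap_star_comm]
  have h1 := Unitary.star_mul_self_of_mem hu
  have h2 := Unitary.mul_star_self_of_mem hu
  have h3 : algebraMap ℂ A (star c) * u = u * algebraMap ℂ A (star c) := Algebra.commutes _ _
  have h4 : star u * algebraMap ℂ A c = algebraMap ℂ A c * star u :=
    (Algebra.commutes _ _).symm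
  have h5 : algebraMap ℂ A (star c) * algebraMap ℂ A c =
      algebraMap ℂ A c * algebraMap ℂ A (star c) := Algebra.commutes _ _
  simp only [mul_sub, sub_mul, h1, h2, h3, h4, h5]
  abel

lemma norm_lt_of_forall_spectrum_lt (a : A) [IsStarNormal a] {r : ℝ} (hr : 0 < r)
    (h : ∀ ν ∈ spectrum ℂ a, ‖ν‖ < r) : ‖a‖ < r := by
  by_cases ha : a = 0
  · rw [ha, norm_zero]; exact hr
  obtain ⟨μ, hμ, _⟩ := exists_ne_zero_mem_spectrum a ha
  obtain ⟨k, hk, hk2⟩ :=
    spectrum.exists_nnnorm_eq_spectralRadius_of_nonempty (𝕜 := ℂ) (a := a) ⟨μ, hμ⟩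
  rw [IsStarNormal.spectralRadius_eq_nnnorm] at hk2
  have h1 : ‖k‖₊ = ‖a‖₊ := by exact_mod_cast hk2
  have h2 : ‖k‖ = ‖a‖ := congrArg NNReal.toReal h1
  rw [← h2]; exact h k hk

lemma norm_conj_sub_algebraMap {u : A} (hu : u ∈ unitary A) (x : A) (c : ℂ) :
    ‖u * x * star u - algebraMap ℂ A c‖ = ‖x - algebraMap ℂ A c‖ := by
  have e : u * (x - algebraMap ℂ A c) * star u = u * x * star u - algebraMap ℂ A c := by
    rw [mul_sub, sub_mul, ← Algebra.commutes c u, mul_assoc (algebraMap ℂ A c),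
      Unitary.mul_star_self_of_mem hu, mul_one]
  rw [← e, CStarRing.norm_mul_mem_unitary _ (Unitary.star_mem hu),
    CStarRing.norm_mem_unitary_mul _ hu]

end CStar

section Hilbert

variable {E : Type*} [NormedAddCommGroup E] [InnerProductSpace ℂ E] [FiniteDimensional ℂ E]
  [CompleteSpace E]
variable {G : Type*} [Group G]
variable (T : G →* (E →L[ℂ] E))

/-- The set of group elements whose operator is within `1/2` of the scalar `√3/2`. -/
def nearSet : Set G := {g | ‖T g - algebraMap ℂ (E →L[ℂ] E) c₀‖ < 1 / 2}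

omit [FiniteDimensional ℂ E] in
lemma map_inv_eq_star (hT : ∀ g, T g ∈ unitary (E →L[ℂ] E)) (g : G) :
    T g⁻¹ = star (T g) := by
  have h1 : T g⁻¹ * T g = 1 := by rw [← map_mul, inv_mul_cancel, map_one]
  calc T g⁻¹ = T g⁻¹ * (T g * star (T g)) := by
        rw [Unitary.mul_star_self_of_mem (hT g), mul_one]
    _ = star (T g) := by rw [← mul_assoc, h1, one_mul]

omit [FiniteDimensional ℂ E] in
lemma norm_algebraMap_c₀_sub_one :
    ‖algebraMap ℂ (E →L[ℂ] E) c₀ - 1‖ ≤ 1 - Real.sqrt 3 / 2 := by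
  have h0 : algebraMap ℂ (E →L[ℂ] E) c₀ - 1 = algebraMap ℂ (E →L[ℂ] E) (c₀ - 1) := by
    rw [map_sub, map_one]
  have hs : Real.sqrt 3 < 2 := by
    rw [Real.sqrt_lt' (by norm_num)]; norm_num
  have h1 : c₀ - 1 = ((Real.sqrt 3 / 2 - 1 : ℝ) : ℂ) := by simp [c₀]
  have h2 : ‖c₀ - 1‖ = 1 - Real.sqrt 3 / 2 := by
    rw [h1, Complex.norm_real, Real.norm_eq_abs, abs_of_nonpos (by linarith), neg_sub]
  have h3 : ‖(1 : E →L[ℂ] E)‖ ≤ 1 := ContinuousLinearMap.norm_id_le
  rw [h0, norm_algebraMap, h2]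
  have h4 : 0 ≤ 1 - Real.sqrt 3 / 2 := by linarith
  calc (1 - Real.sqrt 3 / 2) * ‖(1 : E →L[ℂ] E)‖ ≤ (1 - Real.sqrt 3 / 2) * 1 :=
        mul_le_mul_of_nonneg_left h3 h4
    _ = 1 - Real.sqrt 3 / 2 := mul_one _

omit [FiniteDimensional ℂ E] in
lemma norm_sub_one_lt_of_mem_nearSet {y : G} (hy : y ∈ nearSet T) :
    ‖T y - 1‖ < Real.sqrt 2 := by
  have h1 := norm_sub_le_norm_sub_add_norm_sub (T y) (algebraMap ℂ (E →L[ℂ] E) c₀) 1
  have h2 := norm_algebraMap_c₀_sub_one (E := E)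
  have h3 : ‖T y - algebraMap ℂ (E →L[ℂ] E) c₀‖ < 1 / 2 := hy
  have h4 : (1 : ℝ) < Real.sqrt 2 := by
    rw [Real.lt_sqrt (by norm_num)]; norm_num
  have h5 : (1 : ℝ) ≤ Real.sqrt 3 := by
    rw [Real.le_sqrt (by norm_num) (by norm_num)]; norm_num
  linarith

omit [FiniteDimensional ℂ E] in
lemma conj_mem_nearSet (hT : ∀ g, T g ∈ unitary (E →L[ℂ] E)) {x : G} (hx : x ∈ nearSet T)
    (g : G) : g * x * g⁻¹ ∈ nearSet T := by
  show ‖T (g * x * g⁻¹) - algebraMap ℂ (E →L[ℂ] E) c₀‖ < 1 / 2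
  rw [map_mul, map_mul, map_inv_eq_star T hT, norm_conj_sub_algebraMap (hT g)]
  exact hx

/-- Frobenius' argument: elements of `nearSet` commute with every group element whose operator
is within `√2` of the identity. -/
lemma commute_of_mem_nearSet [Finite G] (hT : ∀ g, T g ∈ unitary (E →L[ℂ] E))
    (hinj : Function.Injective T) {x : G} (hx : x ∈ nearSet T) :
    ∀ z : G, ‖T z - 1‖ < Real.sqrt 2 → x * z = z * x := by
  by_contra hcon
  push Not at hcon
  let Bad : Set G := {z | ‖T z - 1‖ < Real.sqrt 2 ∧ x * z ≠ z * x}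
  have hBadne : Bad.Nonempty := hcon
  obtain ⟨z, hzB, hzmin⟩ :=
    Set.exists_min_image Bad (fun z => ‖T z - 1‖) (Set.toFinite Bad) hBadne
  obtain ⟨hz1, hz2⟩ := hzB
  obtain ⟨c, hc⟩ : ∃ c : G, c = x * z * x⁻¹ * z⁻¹ := ⟨_, rfl⟩
  have hTc : T c = T x * T z * star (T x) * star (T z) := by
    rw [hc, map_mul, map_mul, map_mul, map_inv_eq_star T hT, map_inv_eq_star T hT]
  have hdz : 0 < ‖T z - 1‖ := by
    rw [norm_pos_iff, sub_ne_zero]
    intro h
    have hz1' : z = 1 := hinj (by rw [h, map_one])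
    apply hz2; rw [hz1', mul_one, one_mul]
  have hdc : ‖T c - 1‖ < ‖T z - 1‖ := by
    have h1 := norm_one_sub_comm_le (hT x) (hT z) c₀
    rw [← hTc, norm_sub_rev] at h1
    have hx' : ‖T x - algebraMap ℂ (E →L[ℂ] E) c₀‖ < 1 / 2 := hx
    calc ‖T c - 1‖ ≤ 2 * ‖T x - algebraMap ℂ (E →L[ℂ] E) c₀‖ * ‖T z - 1‖ := h1
      _ < 2 * (1 / 2) * ‖T z - 1‖ := by
          apply mul_lt_mul_of_pos_right _ hdz
          linarith
      _ = ‖T z - 1‖ := by ring
  have hcx : x * c = c * x := by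
    by_contra hne
    have hcB : c ∈ Bad := ⟨lt_trans hdc hz1, hne⟩
    exact absurd (hzmin c hcB) (not_le.mpr hdc)
  have hcomm : Commute (T x) (T x * T z * star (T x) * star (T z)) := by
    rw [← hTc]
    show T x * T c = T c * T x
    rw [← map_mul, ← map_mul, hcx]
  have h1 := comm_eq_one_of_commute (hT x) (hT z) hcomm hz1
  rw [← hTc] at h1
  have hc1 : c = 1 := hinj (by rw [h1, map_one])
  apply hz2
  have h2 : x * z = c * (z * x) := by rw [hc]; group
  rw [h2, hc1, one_mul]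

/-- The subgroup generated by `nearSet`. -/
def jordanSubgroup : Subgroup G := Subgroup.closure (nearSet T)

omit [FiniteDimensional ℂ E] in
lemma jordanSubgroup_normal (hT : ∀ g, T g ∈ unitary (E →L[ℂ] E)) :
    (jordanSubgroup T).Normal := by
  constructor
  intro n hn g
  unfold jordanSubgroup at *
  induction hn using Subgroup.closure_induction with
  | mem x hx => exact Subgroup.subset_closure (conj_mem_nearSet T hT hx g)
  | one => simp
  | mul x y _ _ hx hy =>
    have e : g * (x * y) * g⁻¹ = (g * x * g⁻¹) * (g * y * g⁻¹) := by group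
    rw [e]; exact mul_mem hx hy
  | inv x _ hx =>
    have e : g * x⁻¹ * g⁻¹ = (g * x * g⁻¹)⁻¹ := by group
    rw [e]; exact inv_mem hx

lemma jordanSubgroup_comm [Finite G] (hT : ∀ g, T g ∈ unitary (E →L[ℂ] E))
    (hinj : Function.Injective T) :
    ∀ x ∈ jordanSubgroup T, ∀ y ∈ jordanSubgroup T, x * y = y * x := by
  have hS : ∀ x ∈ nearSet T, ∀ y ∈ nearSet T, x * y = y * x := fun x hx y hy =>
    commute_of_mem_nearSet T hT hinj hx y (norm_sub_one_lt_of_mem_nearSet T hy)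
  have h1 : Subgroup.closure (nearSet T) ≤ Subgroup.centralizer (nearSet T) := by
    rw [Subgroup.closure_le]
    intro y hy
    rw [SetLike.mem_coe, Subgroup.mem_centralizer_iff]
    intro h hh
    exact hS h hh y hy
  intro x hx y hy
  have h2 : Subgroup.closure (nearSet T) ≤ Subgroup.centralizer {x} := by
    rw [Subgroup.closure_le]
    intro s hs
    rw [SetLike.mem_coe, Subgroup.mem_centralizer_iff]
    intro h hh
    rw [Set.mem_singleton_iff] at hh
    rw [hh]
    exact ((Subgroup.mem_centralizer_iff.mp (h1 hx)) s hs).symm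
  exact (Subgroup.mem_centralizer_iff.mp (h2 hy)) x (Set.mem_singleton x)

/-- The index bound for abelian subgroups. -/
theorem index_subgroupOf_le [Finite G] (hT : ∀ g, T g ∈ unitary (E →L[ℂ] E))
    (H : Subgroup G) (hH : ∀ x ∈ H, ∀ y ∈ H, x * y = y * x) :
    ((jordanSubgroup T).subgroupOf H).index ≤ 12 ^ Module.finrank ℂ E := by
  classical
  let f : H →* Module.End ℂ E :=
    (ContinuousLinearMap.toLinearMapRingHom (R₁ := ℂ) (M₁ := E) : (E →L[ℂ] E) →* (E →ₗ[ℂ] E)).comp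
      (T.comp H.subtype)
  have hf : ∀ (h : H) (v : E), f h v = T (h : G) v := fun h v => rfl
  have hcomm : ∀ i j : H, Commute ((fun h => f h) i) ((fun h => f h) j) := by
    intro i j
    show f i * f j = f j * f i
    rw [← map_mul, ← map_mul]
    congr 1
    exact Subtype.ext (hH _ i.2 _ j.2)
  have hss : ∀ i : H, ((fun h => f h) i).IsSemisimple := by
    intro i
    apply isSemisimple_of_pow_eq_one (f i) (Nat.card_pos (α := H))
    rw [← map_pow, pow_card_eq_one', map_one]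
  obtain ⟨hfin, hcard⟩ := card_weights_le (fun h => f h) hcomm hss
  haveI := hfin
  have hnorm : ∀ (χ : H → ℂ), jointEigenspace (fun h => f h) χ ≠ ⊥ → ∀ h : H, ‖χ h‖ = 1 := by
    intro χ hχ h
    obtain ⟨v, hv, hv0⟩ := (Submodule.ne_bot_iff _).mp hχ
    rw [mem_jointEigenspace] at hv
    have h1 : ‖T (h : G) v‖ = ‖v‖ := ContinuousLinearMap.norm_map_of_mem_unitary (hT h) v
    have h2 : T (h : G) v = χ h • v := hv h
    rw [h2, norm_smul] at h1
    have hnv : 0 < ‖v‖ := norm_pos_iff.mpr hv0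
    have h3 : ‖χ h‖ * ‖v‖ = 1 * ‖v‖ := by rw [h1, one_mul]
    exact mul_right_cancel₀ hnv.ne' h3
  let b : H → ({χ : H → ℂ // jointEigenspace (fun h => f h) χ ≠ ⊥} → Fin 12) :=
    fun h χ => ⟨boxIndex (χ.1 h), boxIndex_lt _⟩
  have key : ∀ h h' : H, b h = b h' → ((h : G)⁻¹ * (h' : G)) ∈ nearSet T := by
    intro h h' hbb
    obtain ⟨k, hk⟩ : ∃ k : H, k = h⁻¹ * h' := ⟨_, rfl⟩
    have hkG : (k : G) = (h : G)⁻¹ * (h' : G) := by rw [hk]; rfl
    rw [← hkG]
    show ‖T (k : G) - algebraMap ℂ (E →L[ℂ] E) c₀‖ < 1 / 2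
    haveI := isStarNormal_sub_algebraMap (hT (k : G)) c₀
    apply norm_lt_of_forall_spectrum_lt _ (by norm_num)
    intro ν hν
    have hμ : ν + c₀ ∈ spectrum ℂ (T (k : G)) := by
      rw [spectrum.add_mem_iff]
      have e : -(algebraMap ℂ (E →L[ℂ] E)) c₀ + T (k : G) =
          T (k : G) - algebraMap ℂ (E →L[ℂ] E) c₀ := by abel
      rw [e]; exact hν
    obtain ⟨v, hv0, hv⟩ := exists_eigenvector_of_mem_spectrum (T (k : G)) hμ
    obtain ⟨χ, hχ, hχk⟩ :=
      exists_weight_of_eigenvector (fun h => f h) hcomm hss k hv0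
        (show f k v = (ν + c₀) • v from hv)
    have e1 : ν = (χ h)⁻¹ * χ h' - c₀ := by
      rw [← weight_inv_mul f hχ, ← hk, hχk]; ring
    rw [e1]
    apply norm_inv_mul_sub_lt (hnorm χ hχ h) (hnorm χ hχ h')
    have h3 := congrFun hbb ⟨χ, hχ⟩
    exact congrArg Fin.val h3
  have hinj : Function.Injective
      (fun q : H ⧸ ((jordanSubgroup T).subgroupOf H) => b (Quotient.out q)) := by
    intro q q' hqq
    have hmem := key _ _ hqq
    have h1 : (Quotient.out q)⁻¹ * (Quotient.out q') ∈ (jordanSubgroup T).subgroupOf H := by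
      rw [Subgroup.mem_subgroupOf]
      exact Subgroup.subset_closure hmem
    have h2 := QuotientGroup.eq.mpr h1
    rwa [QuotientGroup.out_eq', QuotientGroup.out_eq'] at h2
  calc ((jordanSubgroup T).subgroupOf H).index
      = Nat.card (H ⧸ ((jordanSubgroup T).subgroupOf H)) := rfl
    _ ≤ Nat.card ({χ : H → ℂ // jointEigenspace (fun h => f h) χ ≠ ⊥} → Fin 12) :=
        Nat.card_le_card_of_injective _ hinj
    _ = 12 ^ Nat.card {χ : H → ℂ // jointEigenspace (fun h => f h) χ ≠ ⊥} := by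
        rw [Nat.card_fun, Nat.card_fin]
    _ ≤ 12 ^ Module.finrank ℂ E := Nat.pow_le_pow_right (by norm_num) hcard

/-- Jordan's theorem in Frobenius' form, for finite groups of unitary operators. -/
theorem exists_abelian_normal_index_le [Finite G] (hT : ∀ g, T g ∈ unitary (E →L[ℂ] E))
    (hinj : Function.Injective T) :
    ∃ A : Subgroup G, A.Normal ∧ (∀ x ∈ A, ∀ y ∈ A, x * y = y * x) ∧
      ∀ H : Subgroup G, (∀ x ∈ H, ∀ y ∈ H, x * y = y * x) →
        (A.subgroupOf H).index ≤ 12 ^ Module.finrank ℂ E :=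
  ⟨jordanSubgroup T, jordanSubgroup_normal T hT, jordanSubgroup_comm T hT hinj,
    fun H hH => index_subgroupOf_le T hT H hH⟩

end Hilbert

end Cfsg.Agent.Lib.Helper23.Jordan
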