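import Mathlib

/-!
# Weyl's unitarian trick in matrix form
-/

namespace Cfsg.Agent.Lib.Helper23.Jordan

open scoped MatrixOrder ComplexOrder Matrix

section Unitarize

variable {G : Type*} [Group G] [Finite G] {m : ℕ}

/-- A finite matrix group is conjugate to a unitary one. -/
lemma exists_conj_unitary (R : G →* Matrix (Fin m) (Fin m) ℂ) :
    ∃ B C : Matrix (Fin m) (Fin m) ℂ, B * C = 1 ∧ C * B = 1 ∧
      ∀ g, star (B * R g * C) * (B * R g * C) = 1 := by
  classical
  haveI : Fintype G := Fintype.ofFinite G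
  obtain ⟨M, hM⟩ : ∃ M : Matrix (Fin m) (Fin m) ℂ, M = ∑ h : G, (R h)ᴴ * R h := ⟨_, rfl⟩
  have hMpos : M.PosDef := by
    rw [hM]
    apply Matrix.posDef_sum Finset.univ_nonempty
    intro h _
    apply Matrix.PosDef.conjTranspose_mul_self
    rw [Matrix.mulVec_injective_iff_isUnit]
    exact ⟨⟨R h, R h⁻¹, by rw [← map_mul, mul_inv_cancel, map_one],
      by rw [← map_mul, inv_mul_cancel, map_one]⟩, rfl⟩
  have hkey : ∀ g, (R g)ᴴ * M * R g = M := by
    intro g
    rw [hM, Finset.mul_sum, Finset.sum_mul]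
    apply Fintype.sum_equiv (Equiv.mulRight g)
    intro h
    show (R g)ᴴ * ((R h)ᴴ * R h) * R g = (R (h * g))ᴴ * R (h * g)
    rw [map_mul, Matrix.conjTranspose_mul]
    simp only [Matrix.mul_assoc]
  obtain ⟨B, hB⟩ := CStarAlgebra.nonneg_iff_eq_star_mul_self.mp hMpos.posSemidef.nonneg
  rw [Matrix.star_eq_conjTranspose] at hB
  have hdet : M.det ≠ 0 := (hMpos.det_pos).ne'
  have hBdet : IsUnit B.det := by
    rw [hB, Matrix.det_mul, Matrix.det_conjTranspose] at hdet
    exact isUnit_iff_ne_zero.mpr (right_ne_zero_of_mul hdet)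
  have h1 : B * B⁻¹ = 1 := Matrix.mul_nonsing_inv B hBdet
  have h2 : (B⁻¹)ᴴ * Bᴴ = 1 := by
    rw [← Matrix.conjTranspose_mul, h1, Matrix.conjTranspose_one]
  refine ⟨B, B⁻¹, h1, Matrix.nonsing_inv_mul B hBdet, fun g => ?_⟩
  rw [Matrix.star_eq_conjTranspose, Matrix.conjTranspose_mul, Matrix.conjTranspose_mul]
  calc (B⁻¹)ᴴ * ((R g)ᴴ * Bᴴ) * (B * R g * B⁻¹)
      = (B⁻¹)ᴴ * ((R g)ᴴ * (Bᴴ * B) * R g) * B⁻¹ := by simp only [Matrix.mul_assoc]
    _ = (B⁻¹)ᴴ * (Bᴴ * B) * B⁻¹ := by rw [← hB, hkey g]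
    _ = ((B⁻¹)ᴴ * Bᴴ) * (B * B⁻¹) := by simp only [Matrix.mul_assoc]
    _ = 1 := by rw [h1, h2, Matrix.mul_one]

/-- Weyl's unitarian trick: a representation of a finite group on `Fin m → ℂ` yields a
homomorphism into the unitary operators of `EuclideanSpace ℂ (Fin m)` with the same kernel. -/
theorem exists_unitary_hom (ρ : Representation ℂ G (Fin m → ℂ)) :
    ∃ T : G →* (EuclideanSpace ℂ (Fin m) →L[ℂ] EuclideanSpace ℂ (Fin m)),
      (∀ g, T g ∈ unitary (EuclideanSpace ℂ (Fin m) →L[ℂ] EuclideanSpace ℂ (Fin m))) ∧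
      ∀ g, T g = 1 → ρ g = 1 := by
  classical
  let R : G →* Matrix (Fin m) (Fin m) ℂ :=
    { toFun := fun g => LinearMap.toMatrix' (ρ g)
      map_one' := by rw [map_one]; exact LinearMap.toMatrix'_one
      map_mul' := fun g h => by rw [map_mul]; exact LinearMap.toMatrix'_mul _ _ }
  have hR : ∀ g, R g = LinearMap.toMatrix' (ρ g) := fun g => rfl
  obtain ⟨B, C, hBC, hCB, hU⟩ := exists_conj_unitary R
  let Φ := Matrix.toEuclideanCLM (n := Fin m) (𝕜 := ℂ)
  let T : G →* (EuclideanSpace ℂ (Fin m) →L[ℂ] EuclideanSpace ℂ (Fin m)) :=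
    { toFun := fun g => Φ (B * R g * C)
      map_one' := by
        show Φ (B * R 1 * C) = 1
        rw [map_one R, Matrix.mul_one, hBC, map_one]
      map_mul' := fun g h => by
        show Φ (B * R (g * h) * C) = Φ (B * R g * C) * Φ (B * R h * C)
        rw [← map_mul]
        congr 1
        rw [map_mul]
        calc B * (R g * R h) * C = B * R g * (C * B) * R h * C := by
              rw [hCB, Matrix.mul_one]; simp only [Matrix.mul_assoc]
          _ = B * R g * C * (B * R h * C) := by simp only [Matrix.mul_assoc] }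
  have hT : ∀ g, T g = Φ (B * R g * C) := fun g => rfl
  refine ⟨T, fun g => ?_, fun g hg => ?_⟩
  · have h1 : star (B * R g * C) * (B * R g * C) = 1 := hU g
    have h2 : (B * R g * C) * star (B * R g * C) = 1 := mul_eq_one_comm.mp h1
    rw [hT, Unitary.mem_iff]
    constructor
    · rw [← map_star, ← map_mul, h1, map_one]
    · rw [← map_star, ← map_mul, h2, map_one]
  · rw [hT] at hg
    have h2 : B * R g * C = 1 := Φ.injective (hg.trans (map_one Φ).symm)
    have h3 : R g = 1 := by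
      calc R g = (C * B) * R g * (C * B) := by rw [hCB, Matrix.one_mul, Matrix.mul_one]
        _ = C * (B * R g * C) * B := by simp only [Matrix.mul_assoc]
        _ = 1 := by rw [h2, Matrix.mul_one, hCB]
    rw [hR] at h3
    have h4 : LinearMap.toMatrix' (ρ g) =
        LinearMap.toMatrix' (1 : (Fin m → ℂ) →ₗ[ℂ] (Fin m → ℂ)) := by
      rw [h3]; exact LinearMap.toMatrix'_one.symm
    exact LinearMap.toMatrix'.injective h4

end Unitarize

end Cfsg.Agent.Lib.Helper23.Jordan
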