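import Mathlib
import Cfsg.Agent.Lib.Helper23.JordanMain
import Cfsg.Agent.Lib.Helper23.JordanUnitarize
import Cfsg.Agent.Lib.Helper23.BlichMain
import Cfsg.Agent.Lib.Helper2.Completeness
import Cfsg.Agent.Lib.Helper2.MGroup
import Cfsg.Agent.Lib.Helper2.Linear
import Cfsg.Agent.Lib.Helper2.Induction
import Cfsg.Agent.Lib.Helper25.Kernel

/-!
# The explicit bound in Jordan's theorem: a finite linear group of degree `n` has an abelian
normal subgroup of index at most `n! * 12 ^ (n * (π (n + 1) + 1))`.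
-/

set_option autoImplicit false

namespace Cfsg.Agent.Lib.Helper23.Jordan

open Module Cfsg Cfsg.Agent.Lib.Helper2 Cfsg.Agent.Lib.Helper25

section Arith

/-- For a finite set `S` of primes, the product of the `S`-parts of `F` divides `F`. -/
theorem prod_pow_factorization_dvd (F : ℕ) (S : Finset ℕ) (hS : ∀ p ∈ S, p.Prime) :
    ∏ p ∈ S, p ^ F.factorization p ∣ F := by
  induction S using Finset.induction_on with
  | empty => simp
  | insert q S hq ih =>
    rw [Finset.prod_insert hq]
    apply Nat.Coprime.mul_dvd_of_dvd_of_dvd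
    · rw [Nat.coprime_prod_right_iff]
      intro p hp
      apply Nat.Coprime.pow
      rw [Nat.coprime_primes (hS q (Finset.mem_insert_self q S))
        (hS p (Finset.mem_insert_of_mem hp))]
      rintro rfl; exact hq hp
    · exact Nat.ordProj_dvd F q
    · exact ih (fun p hp => hS p (Finset.mem_insert_of_mem hp))

/-- Bounding a number by bounding its prime-power parts: the parts for the primes `≤ k` one at a
time, and the part made of the primes `> k` all at once. -/
theorem le_of_prime_power_bounds {I F c k : ℕ} (hI : I ≠ 0) (hF : F ≠ 0) (hc : 1 ≤ c)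
    (hsmall : ∀ p : ℕ, p.Prime → p ≤ k → p ∣ I →
      p ^ I.factorization p ≤ c * p ^ F.factorization p)
    (hbig : ∏ p ∈ I.primeFactors.filter (fun p => ¬ p ≤ k), p ^ I.factorization p ≤ c) :
    I ≤ F * c ^ (Nat.primeCounting k + 1) := by
  obtain ⟨S, hSdef⟩ : ∃ S : Finset ℕ, S = I.primeFactors.filter (fun p => p ≤ k) := ⟨_, rfl⟩
  have hSmem : ∀ p ∈ S, p ∈ I.primeFactors ∧ p ≤ k := by
    intro p hp
    rw [hSdef, Finset.mem_filter] at hp
    exact hp
  have hSprime : ∀ p ∈ S, p.Prime := fun p hp => Nat.prime_of_mem_primeFactors (hSmem p hp).1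
  have hsplit : I = (∏ p ∈ S, p ^ I.factorization p) *
      ∏ p ∈ I.primeFactors.filter (fun p => ¬ p ≤ k), p ^ I.factorization p := by
    rw [hSdef, Finset.prod_filter_mul_prod_filter_not]
    exact Nat.prod_primeFactors_pow_factorization hI
  have hScard : S.card ≤ Nat.primeCounting k := by
    unfold Nat.primeCounting Nat.primeCounting'
    rw [Nat.count_eq_card_filter_range]
    apply Finset.card_le_card
    intro p hp
    have h := hSmem p hp
    rw [Finset.mem_filter, Finset.mem_range]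
    exact ⟨by omega, hSprime p hp⟩
  have h1 : ∏ p ∈ S, p ^ I.factorization p ≤ ∏ p ∈ S, c * p ^ F.factorization p := by
    apply Finset.prod_le_prod (fun _ _ => Nat.zero_le _)
    intro p hp
    have h := hSmem p hp
    exact hsmall p (hSprime p hp) h.2 (Nat.dvd_of_mem_primeFactors h.1)
  have h2 : ∏ p ∈ S, c * p ^ F.factorization p = c ^ S.card * ∏ p ∈ S, p ^ F.factorization p := by
    rw [Finset.prod_mul_distrib, Finset.prod_const]
  have h3 : ∏ p ∈ S, p ^ F.factorization p ≤ F :=
    Nat.le_of_dvd (Nat.pos_of_ne_zero hF) (prod_pow_factorization_dvd F S hSprime)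
  have h4 : c ^ S.card ≤ c ^ Nat.primeCounting k := Nat.pow_le_pow_right hc hScard
  have h5 : ∏ p ∈ S, p ^ I.factorization p ≤ c ^ Nat.primeCounting k * F := by
    rw [h2] at h1
    exact le_trans h1 (Nat.mul_le_mul h4 h3)
  calc I = (∏ p ∈ S, p ^ I.factorization p) *
        ∏ p ∈ I.primeFactors.filter (fun p => ¬ p ≤ k), p ^ I.factorization p := hsplit
    _ ≤ (c ^ Nat.primeCounting k * F) * c := Nat.mul_le_mul h5 hbig
    _ = F * c ^ (Nat.primeCounting k + 1) := by rw [pow_succ]; ring

theorem multiset_sum_apply {α : Type*} (m : Multiset (α → ℂ)) (g : α) :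
    m.sum g = (m.map (fun f => f g)).sum := by
  induction m using Multiset.induction_on with
  | empty => simp
  | cons f m ih => simp [ih]

end Arith

section Nilpotent

universe u

variable {P : Type u} [Group P] [Finite P]

theorem normalCore_index_dvd_factorial (H : Subgroup P) :
    H.normalCore.index ∣ H.index.factorial := by
  rw [Subgroup.normalCore_eq_ker, Subgroup.index_ker]
  have h1 := Subgroup.card_subgroup_dvd_card (MulAction.toPermHom P (P ⧸ H)).range
  rw [Nat.card_perm] at h1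
  exact h1

omit [Finite P] in
theorem indFun_commutator_eq [Fintype P] (H : Subgroup P) (lam : H →* ℂˣ) {a b : P}
    (ha : a ∈ H.normalCore) (hb : b ∈ H.normalCore) :
    Cfsg.indFun H (fun h => (lam h : ℂ)) (a * b * a⁻¹ * b⁻¹) =
      Cfsg.indFun H (fun h => (lam h : ℂ)) 1 := by
  rw [indFun_apply, indFun_apply]
  congr 1
  apply Finset.sum_congr rfl
  intro x _
  have ha' : x⁻¹ * a * x ∈ H := by
    have h := (show ∀ c : P, c * a * c⁻¹ ∈ H from ha) x⁻¹
    rwa [inv_inv] at h
  have hb' : x⁻¹ * b * x ∈ H := by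
    have h := (show ∀ c : P, c * b * c⁻¹ ∈ H from hb) x⁻¹
    rwa [inv_inv] at h
  obtain ⟨a', ha'v⟩ : ∃ a' : H, (a' : P) = x⁻¹ * a * x := ⟨⟨_, ha'⟩, rfl⟩
  obtain ⟨b', hb'v⟩ : ∃ b' : H, (b' : P) = x⁻¹ * b * x := ⟨⟨_, hb'⟩, rfl⟩
  have h1 : x⁻¹ * (a * b * a⁻¹ * b⁻¹) * x = ((a' * b' * a'⁻¹ * b'⁻¹ : H) : P) := by
    simp only [Subgroup.coe_mul, Subgroup.coe_inv, ha'v, hb'v]
    group
  have h2 : x⁻¹ * 1 * x = ((1 : H) : P) := by simp
  rw [h1, h2, extendByZero_coe, extendByZero_coe]
  have h3 : lam (a' * b' * a'⁻¹ * b'⁻¹) = lam 1 := by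
    rw [map_mul, map_mul, map_mul, map_inv, map_inv, map_one, mul_comm (lam a') (lam b'),
      mul_inv_cancel_right, mul_inv_cancel]
  rw [h3]

/-- A finite nilpotent linear group of degree `n` has an abelian normal subgroup of index
dividing `n!`. -/
theorem exists_normal_abelian_index_dvd_factorial [Group.IsNilpotent P] {V : Type*}
    [AddCommGroup V] [Module ℂ V] [FiniteDimensional ℂ V] (ρ : Representation ℂ P V)
    (hρ : Function.Injective ρ) :
    ∃ N : Subgroup P, N.Normal ∧ (∀ a ∈ N, ∀ b ∈ N, a * b = b * a) ∧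
      N.index ∣ (finrank ℂ V).factorial := by
  classical
  haveI : Fintype P := Fintype.ofFinite P
  have key : ∀ m : Multiset (Cfsg.IrrCharacter P), ∃ N : Subgroup P, N.Normal ∧
      (∃ d : ℕ, (m.map (fun ψ : Cfsg.IrrCharacter P => (ψ : P → ℂ) 1)).sum = (d : ℂ) ∧
        N.index ∣ d.factorial) ∧
      ∀ ψ ∈ m, ∀ a ∈ N, ∀ b ∈ N, (ψ : P → ℂ) (a * b * a⁻¹ * b⁻¹) = (ψ : P → ℂ) 1 := by
    intro m
    induction m using Multiset.induction_on with
    | empty =>
      refine ⟨⊤, inferInstance, ⟨0, by simp, by simp⟩, ?_⟩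
      intro ψ hψ
      simp at hψ
    | cons ψ m ih =>
      obtain ⟨N, hNn, ⟨d, hd, hNd⟩, hN⟩ := ih
      obtain ⟨H, lam, hψ⟩ := MGroup.isMonomial_of_isNilpotent (ψ : P → ℂ) ψ.2
      haveI := hNn
      refine ⟨N ⊓ H.normalCore, inferInstance, ⟨H.index + d, ?_, ?_⟩, ?_⟩
      · rw [Multiset.map_cons, Multiset.sum_cons, hd, hψ, indFun_apply_one]
        simp
      · have h1 : (N ⊓ H.normalCore).relIndex N * N.index = (N ⊓ H.normalCore).index :=
          Subgroup.relIndex_mul_index inf_le_left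
        rw [Subgroup.inf_relIndex_left] at h1
        rw [← h1]
        have h2 : H.normalCore.relIndex N ∣ H.normalCore.index :=
          Subgroup.relIndex_dvd_index_of_normal _ _
        exact dvd_trans
          (Nat.mul_dvd_mul (dvd_trans h2 (normalCore_index_dvd_factorial H)) hNd)
          (Nat.factorial_mul_factorial_dvd_factorial_add _ _)
      · intro ψ' hψ' a ha b hb
        rw [Subgroup.mem_inf] at ha hb
        rcases Multiset.mem_cons.mp hψ' with h | h
        · rw [h, hψ]
          exact indFun_commutator_eq H lam ha.2 hb.2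
        · exact hN ψ' h a ha.1 b hb.1
  obtain ⟨m, hm⟩ := exists_multiset_irr_of_rep ρ
  obtain ⟨N, hNn, ⟨d, hd, hNd⟩, hN⟩ := key m
  refine ⟨N, hNn, ?_, ?_⟩
  · intro a ha b hb
    have h1 : ρ.character (a * b * a⁻¹ * b⁻¹) = ρ.character 1 := by
      rw [hm, multiset_sum_apply, multiset_sum_apply, Multiset.map_map, Multiset.map_map]
      congr 1
      apply Multiset.map_congr rfl
      intro ψ hψ
      exact hN ψ hψ a ha b hb
    have h2 : ρ (a * b * a⁻¹ * b⁻¹) = 1 := (rep_apply_eq_one_iff ρ _).mpr h1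
    have h3 : a * b * a⁻¹ * b⁻¹ = 1 := hρ (by rw [h2, map_one])
    calc a * b = (a * b * a⁻¹ * b⁻¹) * (b * a) := by group
      _ = b * a := by rw [h3, one_mul]
  · have h1 : ρ.character 1 = (d : ℂ) := by
      rw [hm, multiset_sum_apply, Multiset.map_map]
      exact hd
    rw [Representation.char_one] at h1
    have h2 : finrank ℂ V = d := by exact_mod_cast h1
    rw [h2]; exact hNd

end Nilpotent

section Main

variable {G : Type*} [Group G] [Finite G] {m : ℕ}

/-- **Jordan's theorem with the explicit bound.** -/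
theorem exists_abelian_normal_index_le_explicit (ρ : Representation ℂ G (Fin m → ℂ))
    (hρ : Function.Injective ρ) :
    ∃ A : Subgroup G, A.Normal ∧ (∀ x ∈ A, ∀ y ∈ A, x * y = y * x) ∧
      A.index ≤ m.factorial * 12 ^ (m * (Nat.primeCounting (m + 1) + 1)) := by
  obtain ⟨T, hT, hT1⟩ := exists_unitary_hom ρ
  have hinj : Function.Injective T := by
    intro g h hgh
    have h0 : T (g⁻¹ * h) = 1 := by
      rw [map_mul, ← hgh, ← map_mul, inv_mul_cancel, map_one]
    have h1 := hT1 _ h0
    have h2 : g⁻¹ * h = 1 := hρ (by rw [h1, map_one])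
    exact inv_mul_eq_one.mp h2
  obtain ⟨A, hAn, hAab, hAH⟩ := exists_abelian_normal_index_le T hT hinj
  rw [finrank_euclideanSpace_fin] at hAH
  refine ⟨A, hAn, hAab, ?_⟩
  obtain ⟨H₀, hH₀ab, hH₀card, hH₀idx⟩ := Blich.exists_isBHall ρ hρ
  rw [Module.finrank_fin_fun] at hH₀idx
  have hI : A.index ≠ 0 := Subgroup.index_ne_zero_of_finite
  have hrel : ∀ Q : Subgroup G, A.index ∣ A.relIndex Q * Q.index := by
    intro Q
    have h1 : (A ⊓ Q).relIndex Q * Q.index = (A ⊓ Q).index :=
      Subgroup.relIndex_mul_index inf_le_right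
    have h2 : (A ⊓ Q).relIndex A * A.index = (A ⊓ Q).index :=
      Subgroup.relIndex_mul_index inf_le_left
    rw [Subgroup.inf_relIndex_right] at h1
    rw [h1, ← h2]
    exact dvd_mul_left _ _
  have hpow : (12 ^ m) ^ (Nat.primeCounting (m + 1) + 1) =
      12 ^ (m * (Nat.primeCounting (m + 1) + 1)) := (pow_mul 12 m _).symm
  rw [← hpow]
  apply le_of_prime_power_bounds hI (Nat.factorial_ne_zero m) (Nat.one_le_pow _ _ (by norm_num))
  · intro p hp _ _
    haveI : Fact p.Prime := ⟨hp⟩
    obtain ⟨P⟩ := (inferInstance : Nonempty (Sylow p G))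
    have hPidx : ¬ p ∣ (P : Subgroup G).index := P.not_dvd_index
    have h1 : p ^ A.index.factorization p ∣ A.relIndex P := by
      apply Nat.Coprime.dvd_of_dvd_mul_right
        (Nat.Coprime.pow_left _ ((Nat.Prime.coprime_iff_not_dvd hp).mpr hPidx))
      exact dvd_trans (Nat.ordProj_dvd _ _) (hrel P)
    haveI : Group.IsNilpotent (P : Subgroup G) := P.isPGroup'.isNilpotent
    obtain ⟨N, hNn, hNab, hNidx⟩ :=
      exists_normal_abelian_index_dvd_factorial (P := (P : Subgroup G))
        (MonoidHom.comp ρ (P : Subgroup G).subtype)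
        (by rw [MonoidHom.coe_comp]; exact hρ.comp (Subgroup.subtype_injective _))
    rw [Module.finrank_fin_fun] at hNidx
    obtain ⟨B, hBdef⟩ : ∃ B : Subgroup G, B = N.map (P : Subgroup G).subtype := ⟨_, rfl⟩
    have hBP : B ≤ P := by rw [hBdef]; exact Subgroup.map_subtype_le N
    have hBab : ∀ x ∈ B, ∀ y ∈ B, x * y = y * x := by
      intro x hx y hy
      rw [hBdef] at hx hy
      obtain ⟨a, ha, rfl⟩ := Subgroup.mem_map.mp hx
      obtain ⟨b, hb, rfl⟩ := Subgroup.mem_map.mp hy
      rw [← map_mul, ← map_mul, hNab a ha b hb]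
    have hBrel : B.relIndex P = N.index := by
      rw [hBdef]
      unfold Subgroup.relIndex Subgroup.subgroupOf
      rw [Subgroup.comap_map_eq_self_of_injective (Subgroup.subtype_injective _)]
    have h2 : A.relIndex P ∣ A.relIndex B * B.relIndex P := by
      have e1 : (A ⊓ B).relIndex B * B.relIndex P = (A ⊓ B).relIndex P :=
        Subgroup.relIndex_mul_relIndex _ _ _ inf_le_right hBP
      have e2 : (A ⊓ B).relIndex (A ⊓ P) * (A ⊓ P).relIndex P = (A ⊓ B).relIndex P :=
        Subgroup.relIndex_mul_relIndex _ _ _ (inf_le_inf_left A hBP) inf_le_right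
      rw [Subgroup.inf_relIndex_right] at e1 e2
      rw [e1, ← e2]
      exact dvd_mul_left _ _
    obtain ⟨k, hk⟩ := P.isPGroup'.index N
    have hk2 : k ≤ (m.factorial).factorization p := by
      rw [hk] at hNidx
      exact (hp.pow_dvd_iff_le_factorization (Nat.factorial_ne_zero m)).mp hNidx
    have h3 : A.relIndex B ≤ 12 ^ m := hAH B hBab
    have h4 : A.relIndex B ≠ 0 := (A.subgroupOf B).index_ne_zero_of_finite
    have h5 : B.relIndex P ≠ 0 := by rw [hBrel, hk]; exact pow_ne_zero _ hp.ne_zero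
    calc p ^ A.index.factorization p ≤ A.relIndex B * B.relIndex P :=
          Nat.le_of_dvd (Nat.pos_of_ne_zero (mul_ne_zero h4 h5)) (dvd_trans h1 h2)
      _ ≤ 12 ^ m * p ^ (m.factorial).factorization p := by
        rw [hBrel, hk]
        exact Nat.mul_le_mul h3 (Nat.pow_le_pow_right hp.pos hk2)
  · obtain ⟨S, hSdef⟩ : ∃ S : Finset ℕ,
        S = A.index.primeFactors.filter (fun p => ¬ p ≤ m + 1) := ⟨_, rfl⟩
    rw [← hSdef]
    have hSprime : ∀ p ∈ S, p.Prime := by
      intro p hp
      rw [hSdef, Finset.mem_filter] at hp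
      exact Nat.prime_of_mem_primeFactors hp.1
    have hSbig : ∀ p ∈ S, m + 1 < p := by
      intro p hp
      rw [hSdef, Finset.mem_filter] at hp
      omega
    have h1 : ∏ p ∈ S, p ^ A.index.factorization p ∣ A.index :=
      prod_pow_factorization_dvd A.index S hSprime
    have hcop : Nat.Coprime (∏ p ∈ S, p ^ A.index.factorization p) H₀.index := by
      apply Nat.coprime_of_dvd
      intro q hq hq1 hq2
      rw [Prime.dvd_finsetProd_iff hq.prime] at hq1
      obtain ⟨p, hpS, hqp⟩ := hq1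
      have h2 := (Nat.prime_dvd_prime_iff_eq hq (hSprime p hpS)).mp (hq.dvd_of_dvd_pow hqp)
      have h3 := hSbig p hpS
      have h4 := hH₀idx q hq hq2
      omega
    have h2 : ∏ p ∈ S, p ^ A.index.factorization p ∣ A.relIndex H₀ :=
      hcop.dvd_of_dvd_mul_right (dvd_trans h1 (hrel H₀))
    have h3 : A.relIndex H₀ ≤ 12 ^ m := hAH H₀ hH₀ab
    have h4 : A.relIndex H₀ ≠ 0 := (A.subgroupOf H₀).index_ne_zero_of_finite
    exact le_trans (Nat.le_of_dvd (Nat.pos_of_ne_zero h4) h2) h3

end Main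

end Cfsg.Agent.Lib.Helper23.Jordan
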