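import Mathlib
import Cfsg.Agent.Lib.Helper23.Kazarin
import Cfsg.Agent.Lib.Helper23.ExpSix
import Cfsg.Agent.Lib.Helper1.Fitting
import Cfsg.Agent.Lib.Helper1.Frattini

/-!
# Conjugates of an element with a class of `p`-power size commute modulo `O_p(G)` (helper23)
-/

set_option autoImplicit false

namespace Cfsg.Agent.Lib.Helper23.Kazarin

open Subgroup Cfsg

universe u

/-- If `O_p(K) = 1`, `H` is normal in `K` and `z ∈ H` has a class of `p`-power size, then `z`
centralizes the Fitting subgroup of `H`. -/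
theorem mem_centralizer_fittingSubgroup {K : Type u} [Group K] [Finite K] {p : ℕ} [Fact p.Prime]
    (hO : Cfsg.pCore p K = ⊥) (H : Subgroup K) [hH : H.Normal] (z : K) (hz : z ∈ H) {j : ℕ}
    (hcl : (centralizer ({z} : Set K)).index = p ^ j) :
    (⟨z, hz⟩ : H) ∈ centralizer ((Cfsg.fittingSubgroup H : Subgroup H) : Set H) := by
  have hp : p.Prime := Fact.out
  have key : Cfsg.fittingSubgroup H ≤ centralizer ({(⟨z, hz⟩ : H)} : Set H) := by
    rw [Cfsg.Agent.Lib.Helper1.fittingSubgroup_eq_iSup_primes]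
    apply iSup_le
    intro q
    haveI : Fact (q : ℕ).Prime := ⟨q.2⟩
    set R : Subgroup K := (Cfsg.pCore (q : ℕ) H).map H.subtype with hR
    haveI hchar : (Cfsg.pCore (q : ℕ) H).Characteristic :=
      Cfsg.Agent.Lib.Helper1.pCore_characteristic (q : ℕ)
    have hRn : R.Normal := by
      rw [← Subgroup.normalizer_eq_top_iff]
      apply top_le_iff.mp
      have h1 := Cfsg.Agent.Lib.Helper1.normalizer_le_normalizer_map_of_characteristic H
        (Cfsg.pCore (q : ℕ) H)
      rwa [Subgroup.normalizer_eq_top_iff.mpr hH] at h1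
    have hRq : IsPGroup (q : ℕ) R :=
      (Cfsg.Agent.Lib.Helper1.pCore_isPGroup (G := H) (q : ℕ)).map H.subtype
    have hRle : R ≤ centralizer ({z} : Set K) := by
      by_cases hqp : (q : ℕ) = p
      · have h1 : R ≤ Cfsg.pCore p K := by
          apply Cfsg.Agent.Lib.Helper1.le_pCore hRn
          rw [← hqp]; exact hRq
        rw [hO] at h1
        exact h1.trans bot_le
      · haveI := hRn
        have h1 : (centralizer ({z} : Set K)).relIndex R ∣ p ^ j :=
          hcl ▸ relIndex_dvd_index_of_normal_right (centralizer ({z} : Set K)) R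
        obtain ⟨i, hi⟩ := hRq.exists_card_eq
        have h2 : (centralizer ({z} : Set K)).relIndex R ∣ (q : ℕ) ^ i :=
          hi ▸ Subgroup.relIndex_dvd_card _ _
        have hcop : Nat.Coprime (p ^ j) ((q : ℕ) ^ i) :=
          Nat.Coprime.pow _ _ ((Nat.coprime_primes hp q.2).mpr (Ne.symm hqp))
        have h3 : (centralizer ({z} : Set K)).relIndex R = 1 :=
          Nat.eq_one_of_dvd_coprimes hcop h1 h2
        exact Subgroup.relIndex_eq_one.mp h3
    intro h hh
    have h1 : (h : K) ∈ R := ⟨h, hh, rfl⟩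
    have h2 := hRle h1
    rw [Subgroup.mem_centralizer_singleton_iff] at h2 ⊢
    exact Subtype.ext h2
  rw [Subgroup.mem_centralizer_iff]
  intro h hh
  have := key hh
  rw [Subgroup.mem_centralizer_singleton_iff] at this
  exact this

/-- Two conjugates of an element whose class has `p`-power size commute modulo `O_p(G)`. -/
theorem commutator_conj_mem_pCore {G : Type u} [Group G] [Finite G] (p : ℕ) [Fact p.Prime]
    (x : G) (hx : ∃ a : ℕ, (centralizer ({x} : Set G)).index = p ^ a) (g h : G) :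
    (g * x * g⁻¹) * (h * x * h⁻¹) * (g * x * g⁻¹)⁻¹ * (h * x * h⁻¹)⁻¹ ∈ Cfsg.pCore p G := by
  have hp : p.Prime := Fact.out
  haveI hAn : (Cfsg.pCore p G).Normal := Cfsg.Agent.Lib.Helper1.pCore_normal p
  obtain ⟨a, ha⟩ := hx
  set A := Cfsg.pCore p G with hA
  have hO : Cfsg.pCore p (G ⧸ A) = ⊥ := Cfsg.Agent.Lib.Helper23.ExpSix.pCore_quotient_pCore_eq_bot p
  set y : G ⧸ A := QuotientGroup.mk x with hy
  obtain ⟨j, _, hj⟩ := (Nat.dvd_prime_pow hp).mp (ha ▸ index_centralizer_quotient_dvd A x)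
  set H := normalClosure ({y} : Set (G ⧸ A)) with hH
  haveI hHn : H.Normal := normalClosure_normal
  haveI hHs : Group.IsSolvable H := isSolvable_normalClosure_of_index_prime_pow hp y hj
  have hyH : y ∈ H := subset_normalClosure (Set.mem_singleton y)
  have hmem : ∀ c : G ⧸ A, c * y * c⁻¹ ∈ H := fun c => hHn.conj_mem y hyH c
  have hidx : ∀ c : G ⧸ A, (centralizer ({c * y * c⁻¹} : Set (G ⧸ A))).index = p ^ j := by
    intro c; rw [index_centralizer_conj, hj]
  have c1 := mem_centralizer_fittingSubgroup hO H _ (hmem (QuotientGroup.mk g)) (hidx _)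
  have c2 := mem_centralizer_fittingSubgroup hO H _ (hmem (QuotientGroup.mk h)) (hidx _)
  have c3 := Cfsg.Agent.Lib.Helper1.centralizer_fittingSubgroup_le (G := H) c2
  have hcomm := (Subgroup.mem_centralizer_iff.mp c1) _ c3
  have hcomm' : ((QuotientGroup.mk h : G ⧸ A) * y * (QuotientGroup.mk h : G ⧸ A)⁻¹) *
      ((QuotientGroup.mk g : G ⧸ A) * y * (QuotientGroup.mk g : G ⧸ A)⁻¹) =
      ((QuotientGroup.mk g : G ⧸ A) * y * (QuotientGroup.mk g : G ⧸ A)⁻¹) *
      ((QuotientGroup.mk h : G ⧸ A) * y * (QuotientGroup.mk h : G ⧸ A)⁻¹) :=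
    congrArg Subtype.val hcomm
  rw [← QuotientGroup.eq_one_iff]
  have e : ((((g * x * g⁻¹) * (h * x * h⁻¹) * (g * x * g⁻¹)⁻¹ * (h * x * h⁻¹)⁻¹ : G)) : G ⧸ A)
      = ((QuotientGroup.mk g : G ⧸ A) * y * (QuotientGroup.mk g : G ⧸ A)⁻¹) *
        ((QuotientGroup.mk h : G ⧸ A) * y * (QuotientGroup.mk h : G ⧸ A)⁻¹) *
        ((QuotientGroup.mk g : G ⧸ A) * y * (QuotientGroup.mk g : G ⧸ A)⁻¹)⁻¹ *
        ((QuotientGroup.mk h : G ⧸ A) * y * (QuotientGroup.mk h : G ⧸ A)⁻¹)⁻¹ := by
    simp only [QuotientGroup.mk_mul, QuotientGroup.mk_inv, hy]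
  rw [e, ← hcomm']
  group

end Cfsg.Agent.Lib.Helper23.Kazarin
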