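import Mathlib
import Cfsg.Prelude.Def_KGroupFacts
import Cfsg.Agent.H5.StemTC
import Cfsg.Agent.Lib.Helper7.L34Data

/-!
# S2088 piece [GC] (for helper7): the group presented by `relsCov` is a stem extension of `PSL₃(4)` with
kernel `C₄ × C₄`

`exists_cover_two` takes the Todd–Coxeter bound (`hcardW`) and the permutation model (`hmodel`) as
hypotheses.  Port of helper20's `Sz8E.exists_cover_of`.
-/

set_option autoImplicit false
set_option linter.style.haveILetI false
set_option linter.unusedSectionVars false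
set_option linter.unusedVariables false

namespace Cfsg.Agent.Lib.Helper7.L34

open Cfsg Cfsg.H5.TCk Cfsg.Agent.Lib.Helper10.Weak
open scoped commutatorElement

universe u

namespace Helper23

/-! ### words -/

theorem ev_congr' {Γ : Type*} [Group Γ] (g g' : ℕ → Γ) (t : ℕ) (h : ∀ i < t, g i = g' i)
    (w : List ℕ) (hw : w.all (fun l => decide (l < 2 * t)) = true) : ev g w = ev g' w := by
  induction w with
  | nil => rfl
  | cons l w ih =>
    rw [List.all_cons, Bool.and_eq_true] at hw
    have hl : l < 2 * t := of_decide_eq_true hw.1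
    have hl2 : l / 2 < t := by omega
    simp only [ev]
    rw [ih hw.2]
    congr 1
    unfold gl
    rw [h _ hl2]

theorem ev_cword' {Γ : Type*} [Group Γ] (γ : ℕ → Γ) (r : List ℕ) (i : ℕ) :
    ev γ (Cfsg.H5.StemTC.cword r i) = ev γ r * γ i * (ev γ r)⁻¹ * (γ i)⁻¹ := by
  unfold Cfsg.H5.StemTC.cword
  rw [ev_append, ev_append, ev_append, ev_winv]
  simp only [ev, mul_one, gl_even, gl_odd]

set_option maxRecDepth 100000 in
theorem relsCov_all : ∀ r ∈ relsCov, r.all (fun l => decide (l < 2 * 4)) = true := by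
  decide +kernel

theorem wordKa_all : wordKa.all (fun l => decide (l < 2 * 4)) = true := by decide

theorem wordKb_all : wordKb.all (fun l => decide (l < 2 * 4)) = true := by decide

theorem mem_relsCov_of_rels2 {r : List ℕ} (hr : r ∈ rels2) : r ∈ relsCov := by
  unfold relsCov
  exact List.mem_append_left _ (List.mem_append_left _ hr)

theorem cword_mem (i : Fin 4) :
    Cfsg.H5.StemTC.cword wordKa i.val ∈ relsCov ∧ Cfsg.H5.StemTC.cword wordKb i.val ∈ relsCov := by
  have h : ∀ i : Fin 4, Cfsg.H5.StemTC.cword wordKa i.val ∈ Cfsg.H5.StemTC.cwords [wordKa, wordKb] 4 ∧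
      Cfsg.H5.StemTC.cword wordKb i.val ∈ Cfsg.H5.StemTC.cwords [wordKa, wordKb] 4 := by decide
  unfold relsCov
  exact ⟨List.mem_append_left _ (List.mem_append_right _ (h i).1),
    List.mem_append_left _ (List.mem_append_right _ (h i).2)⟩

theorem pow4_mem : wordKa ++ wordKa ++ wordKa ++ wordKa ∈ relsCov ∧
    wordKb ++ wordKb ++ wordKb ++ wordKb ∈ relsCov := by
  unfold relsCov
  exact ⟨List.mem_append_right _ (by simp), List.mem_append_right _ (by simp)⟩

/-! ### the presented group -/

/-- the free generators as a sequence -/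
def fgen : ℕ → FreeGroup (ULift.{u} (Fin 4)) :=
  fun i => if h : i < 4 then FreeGroup.of (ULift.up ⟨i, h⟩) else 1

/-- the relators as elements of the free group -/
def relSet : Set (FreeGroup (ULift.{u} (Fin 4))) := {x | ∃ r ∈ relsCov, x = ev fgen r}

/-- the group presented by `relsCov` -/
abbrev Cover : Type u := PresentedGroup relSet.{u}

/-- its generators as a sequence -/
def cgen : ℕ → Cover.{u} := fun i => PresentedGroup.mk relSet (fgen i)

theorem cgen_rel (r : List ℕ) (hr : r ∈ relsCov) : ev cgen.{u} r = 1 := by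
  have h1 := Cfsg.H5.StemTC.map_ev (PresentedGroup.mk relSet.{u}) fgen r
  have h2 : ev cgen.{u} r = PresentedGroup.mk relSet.{u} (ev fgen r) := h1.symm
  rw [h2]
  exact PresentedGroup.one_of_mem ⟨r, hr, rfl⟩

theorem closure_cgen :
    Subgroup.closure (Set.range fun i : Fin 4 => cgen.{u} i.val) = ⊤ := by
  rw [← PresentedGroup.closure_range_of relSet.{u}]
  congr 1
  ext x
  constructor
  · rintro ⟨i, rfl⟩
    refine ⟨ULift.up i, ?_⟩
    show PresentedGroup.of (ULift.up i) = PresentedGroup.mk relSet (fgen i.val)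
    unfold fgen
    rw [dif_pos i.2]
    rfl
  · rintro ⟨j, rfl⟩
    refine ⟨j.down, ?_⟩
    show PresentedGroup.mk relSet (fgen j.down.val) = PresentedGroup.of j
    unfold fgen
    rw [dif_pos j.down.2]
    rfl

/-- the universal property -/
theorem exists_hom {H : Type*} [Group H] (h : ℕ → H) (hrel : ∀ r ∈ relsCov, ev h r = 1) :
    ∃ ψ : Cover.{u} →* H, ∀ w : List ℕ, w.all (fun l => decide (l < 2 * 4)) = true →
      ψ (ev cgen w) = ev h w := by
  have hlift : ∀ i < 4, FreeGroup.lift (fun j : ULift.{u} (Fin 4) => h j.down.val) (fgen i) = h i := by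
    intro i hi
    unfold fgen
    rw [dif_pos hi, FreeGroup.lift_apply_of]
  have hr : ∀ x ∈ relSet.{u}, FreeGroup.lift (fun j : ULift.{u} (Fin 4) => h j.down.val) x = 1 := by
    rintro x ⟨r, hr, rfl⟩
    rw [Cfsg.H5.StemTC.map_ev, ev_congr' _ h 4 hlift r (relsCov_all r hr)]
    exact hrel r hr
  refine ⟨PresentedGroup.toGroup hr, fun w hw => ?_⟩
  rw [Cfsg.H5.StemTC.map_ev]
  apply ev_congr' _ h 4 _ w hw
  intro i hi
  show PresentedGroup.toGroup hr (PresentedGroup.mk relSet (fgen i)) = h i
  unfold fgen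
  rw [dif_pos hi]
  exact PresentedGroup.toGroup.of hr

/-! ### group-theoretic lemmas -/

theorem mem_center_of_gens {Γ : Type*} [Group Γ] (S : Set Γ) (hS : Subgroup.closure S = ⊤) (c : Γ)
    (hc : ∀ s ∈ S, s * c = c * s) : c ∈ Subgroup.center Γ := by
  rw [Subgroup.mem_center_iff]
  intro g
  have hg : g ∈ Subgroup.closure S := by rw [hS]; exact Subgroup.mem_top g
  induction hg using Subgroup.closure_induction with
  | mem x hx => exact hc x hx
  | one => simp
  | mul x y _ _ hx hy => rw [mul_assoc, hy, ← mul_assoc, hx, mul_assoc]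
  | inv x _ hx =>
    have := congrArg (fun z => x⁻¹ * z * x⁻¹) hx
    simpa [mul_assoc] using this.symm

/-- a generator that is a commutator: `u x u⁻¹ = x ^ 2` -/
theorem mem_commutator_of_conj_sq {Γ : Type*} [Group Γ] (U x : Γ)
    (h : U * x * U⁻¹ * (x⁻¹) ^ 2 = 1) : x ∈ commutator Γ := by
  have h1 : x = ⁅U, x⁆ := by
    rw [commutatorElement_def]
    have h2 : U * x * U⁻¹ = x ^ 2 := by
      have := mul_eq_one_iff_eq_inv.mp h
      rw [this, ← inv_pow, inv_inv]
    rw [h2, pow_two, mul_assoc, mul_inv_cancel, mul_one]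
  rw [h1, commutator_def]
  exact Subgroup.commutator_mem_commutator (Subgroup.mem_top _) (Subgroup.mem_top _)

/-- the powers of an element of order dividing four, indexed by `ZMod 4` -/
theorem pow_val_add {Γ : Type*} [Group Γ] (k : Γ) (hk : k ^ 4 = 1) (a b : ZMod 4) :
    k ^ (a + b).val = k ^ a.val * k ^ b.val := by
  rw [ZMod.val_add, ← pow_add, pow_eq_pow_mod (a.val + b.val) hk]

end Helper23

open Helper23 in
/-- [GC] the cover `4² · L₃(4)`: the group presented by `relsCov` is a stem extension of `G` with kernel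
`⟨k_a, k_b⟩ ≅ C₄ × C₄`. -/
theorem exists_cover_two
    (hcardW : ∀ {Δ : Type u} [Group Δ] (δ : ℕ → Δ), (∀ r ∈ rels2, ev δ r = 1) →
      Subgroup.closure (Set.range fun i : Fin 4 => δ i.val) = ⊤ → Finite Δ ∧ Nat.card Δ ≤ 322560)
    (hmodel : ∃ m : ℕ → Equiv.Perm (Fin 960), (∀ r ∈ relsCov, ev m r = 1) ∧
      ∀ i j i' j' : Fin 4, ev m wordKa ^ i.val * ev m wordKb ^ j.val =
        ev m wordKa ^ i'.val * ev m wordKb ^ j'.val → i = i' ∧ j = j')
    {G : Type u} [Group G] (g : ℕ → G) (hcard : Nat.card G = 20160)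
    (hgen : Subgroup.closure (Set.range fun i : Fin 4 => g i.val) = ⊤)
    (hrel : ∀ r ∈ relsCov, ev g r = 1) (hk : ev g wordKa = 1 ∧ ev g wordKb = 1) :
    ∃ (Γ : Type u) (_ : Group Γ) (_ : Finite Γ) (σ : Γ →* G), IsStemExtension σ ∧
      Nonempty (σ.ker ≃* Multiplicative (ZMod 4 × ZMod 4)) := by
  classical
  -- the two central elements
  obtain ⟨ka, hkadef⟩ : ∃ ka : Cover.{u}, ka = ev cgen wordKa := ⟨_, rfl⟩
  obtain ⟨kb, hkbdef⟩ : ∃ kb : Cover.{u}, kb = ev cgen wordKb := ⟨_, rfl⟩
  have hka4 : ka ^ 4 = 1 := by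
    have h := cgen_rel.{u} _ pow4_mem.1
    rw [ev_append, ev_append, ev_append, ← hkadef] at h
    rw [show ka ^ 4 = ka * ka * ka * ka by simp only [pow_succ, pow_zero, one_mul]]
    exact h
  have hkb4 : kb ^ 4 = 1 := by
    have h := cgen_rel.{u} _ pow4_mem.2
    rw [ev_append, ev_append, ev_append, ← hkbdef] at h
    rw [show kb ^ 4 = kb * kb * kb * kb by simp only [pow_succ, pow_zero, one_mul]]
    exact h
  have hcomm1 : ∀ i : Fin 4, cgen.{u} i.val * ka = ka * cgen i.val := by
    intro i
    have h := cgen_rel.{u} _ (cword_mem i).1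
    rw [ev_cword', ← hkadef] at h
    have h' : ka * cgen i.val * ka⁻¹ = cgen i.val := by
      rw [mul_inv_eq_one] at h
      exact h
    have := congrArg (· * ka) h'
    simpa [mul_assoc] using this.symm
  have hcomm2 : ∀ i : Fin 4, cgen.{u} i.val * kb = kb * cgen i.val := by
    intro i
    have h := cgen_rel.{u} _ (cword_mem i).2
    rw [ev_cword', ← hkbdef] at h
    have h' : kb * cgen i.val * kb⁻¹ = cgen i.val := by
      rw [mul_inv_eq_one] at h
      exact h
    have := congrArg (· * kb) h'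
    simpa [mul_assoc] using this.symm
  have hcena : ka ∈ Subgroup.center Cover.{u} :=
    mem_center_of_gens _ closure_cgen ka (by rintro _ ⟨i, rfl⟩; exact hcomm1 i)
  have hcenb : kb ∈ Subgroup.center Cover.{u} :=
    mem_center_of_gens _ closure_cgen kb (by rintro _ ⟨i, rfl⟩; exact hcomm2 i)
  -- the homomorphism onto `G`
  obtain ⟨φ, hφ⟩ := exists_hom.{u} g hrel
  have hφgen : ∀ i : Fin 4, φ (cgen i.val) = g i.val := by
    intro i
    have := hφ [2 * i.val] (by fin_cases i <;> decide)
    simpa [ev, gl_even] using this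
  have hφsurj : Function.Surjective φ := by
    rw [← MonoidHom.range_eq_top, eq_top_iff, ← hgen, Subgroup.closure_le]
    rintro _ ⟨i, rfl⟩
    exact ⟨cgen i.val, hφgen i⟩
  have hφka : φ ka = 1 := by rw [hkadef, hφ _ wordKa_all]; exact hk.1
  have hφkb : φ kb = 1 := by rw [hkbdef, hφ _ wordKb_all]; exact hk.2
  -- the order of the cover
  obtain ⟨hfin, hcardC⟩ := hcardW (Δ := Cover.{u}) cgen
    (fun r hr => cgen_rel r (mem_relsCov_of_rels2 hr)) closure_cgen
  have hcardker : Nat.card Cover.{u} = Nat.card G * Nat.card φ.ker := by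
    rw [Subgroup.card_eq_card_quotient_mul_card_subgroup φ.ker,
      Nat.card_congr (QuotientGroup.quotientKerEquivOfSurjective φ hφsurj).toEquiv]
  have hkerle : Nat.card φ.ker ≤ 16 := by
    rw [hcard] at hcardker
    have h3 : 20160 * Nat.card φ.ker ≤ 20160 * 16 := by
      rw [← hcardker]; exact hcardC
    exact Nat.le_of_mul_le_mul_left h3 (by norm_num)
  -- the map from `C₄ × C₄`
  obtain ⟨m, hmrel, hminj⟩ := hmodel
  obtain ⟨ψ, hψ⟩ := exists_hom.{u} m hmrel
  have hψka : ψ ka = ev m wordKa := by rw [hkadef, hψ _ wordKa_all]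
  have hψkb : ψ kb = ev m wordKb := by rw [hkbdef, hψ _ wordKb_all]
  have hab : ka * kb = kb * ka := Subgroup.mem_center_iff.mp hcenb ka
  have hmemker : ∀ x : Multiplicative (ZMod 4 × ZMod 4),
      ka ^ (Multiplicative.toAdd x).1.val * kb ^ (Multiplicative.toAdd x).2.val ∈ φ.ker := by
    intro x
    rw [MonoidHom.mem_ker, map_mul, map_pow, map_pow, hφka, hφkb, one_pow, one_pow, one_mul]
  let f : Multiplicative (ZMod 4 × ZMod 4) →* φ.ker := MonoidHom.mk'
    (fun x => ⟨ka ^ (Multiplicative.toAdd x).1.val * kb ^ (Multiplicative.toAdd x).2.val, hmemker x⟩)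
    (by
      intro x y
      apply Subtype.ext
      show ka ^ ((Multiplicative.toAdd x).1 + (Multiplicative.toAdd y).1).val *
          kb ^ ((Multiplicative.toAdd x).2 + (Multiplicative.toAdd y).2).val =
        ka ^ (Multiplicative.toAdd x).1.val * kb ^ (Multiplicative.toAdd x).2.val *
          (ka ^ (Multiplicative.toAdd y).1.val * kb ^ (Multiplicative.toAdd y).2.val)
      rw [pow_val_add ka hka4, pow_val_add kb hkb4]
      have hc : Commute (kb ^ (Multiplicative.toAdd x).2.val) (ka ^ (Multiplicative.toAdd y).1.val) :=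
        ((show Commute kb ka from hab.symm).pow_pow _ _)
      calc ka ^ (Multiplicative.toAdd x).1.val * ka ^ (Multiplicative.toAdd y).1.val *
            (kb ^ (Multiplicative.toAdd x).2.val * kb ^ (Multiplicative.toAdd y).2.val)
          = ka ^ (Multiplicative.toAdd x).1.val * (ka ^ (Multiplicative.toAdd y).1.val *
            kb ^ (Multiplicative.toAdd x).2.val) * kb ^ (Multiplicative.toAdd y).2.val := by
            simp only [mul_assoc]
        _ = ka ^ (Multiplicative.toAdd x).1.val * (kb ^ (Multiplicative.toAdd x).2.val *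
            ka ^ (Multiplicative.toAdd y).1.val) * kb ^ (Multiplicative.toAdd y).2.val := by
            rw [hc.eq]
        _ = _ := by simp only [mul_assoc])
  have hfinj : Function.Injective f := by
    intro x y hxy
    have h1 : ka ^ (Multiplicative.toAdd x).1.val * kb ^ (Multiplicative.toAdd x).2.val =
        ka ^ (Multiplicative.toAdd y).1.val * kb ^ (Multiplicative.toAdd y).2.val :=
      congrArg Subtype.val hxy
    have h2 := congrArg ψ h1
    rw [map_mul, map_mul, map_pow, map_pow, map_pow, map_pow, hψka, hψkb] at h2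
    have h3 := hminj ⟨(Multiplicative.toAdd x).1.val, ZMod.val_lt _⟩
      ⟨(Multiplicative.toAdd x).2.val, ZMod.val_lt _⟩
      ⟨(Multiplicative.toAdd y).1.val, ZMod.val_lt _⟩
      ⟨(Multiplicative.toAdd y).2.val, ZMod.val_lt _⟩ h2
    have h4 : (Multiplicative.toAdd x).1 = (Multiplicative.toAdd y).1 :=
      ZMod.val_injective 4 (Fin.mk.inj_iff.mp h3.1)
    have h5 : (Multiplicative.toAdd x).2 = (Multiplicative.toAdd y).2 :=
      ZMod.val_injective 4 (Fin.mk.inj_iff.mp h3.2)
    exact Multiplicative.toAdd.injective (Prod.ext h4 h5)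
  have hcard16 : Nat.card (Multiplicative (ZMod 4 × ZMod 4)) = 16 := by
    rw [Nat.card_eq_fintype_card, Fintype.card_multiplicative, Fintype.card_prod, ZMod.card]
  haveI : Finite φ.ker := inferInstance
  have hfbij : Function.Bijective f :=
    hfinj.bijective_of_nat_card_le (by rw [hcard16]; exact hkerle)
  -- centrality
  have hkercen : φ.ker ≤ Subgroup.center Cover.{u} := by
    intro z hz
    obtain ⟨x, hx⟩ := hfbij.2 ⟨z, hz⟩
    have hz' : z = ka ^ (Multiplicative.toAdd x).1.val * kb ^ (Multiplicative.toAdd x).2.val :=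
      (congrArg Subtype.val hx).symm
    rw [hz']
    exact Subgroup.mul_mem _ (Subgroup.pow_mem _ hcena _) (Subgroup.pow_mem _ hcenb _)
  -- perfectness
  have hperf : commutator Cover.{u} = ⊤ := by
    rw [eq_top_iff, ← closure_cgen, Subgroup.closure_le]
    have h0 : cgen.{u} 0 ∈ commutator Cover.{u} := by
      have h := cgen_rel.{u} _ (mem_relsCov_of_rels2 perf0)
      rw [Helper1.ev_conjRel] at h
      exact mem_commutator_of_conj_sq _ _ h
    have h1 : cgen.{u} 1 ∈ commutator Cover.{u} := by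
      have h := cgen_rel.{u} _ (mem_relsCov_of_rels2 perf1)
      rw [Helper1.ev_conjRel] at h
      exact mem_commutator_of_conj_sq _ _ h
    have h2 : cgen.{u} 2 ∈ commutator Cover.{u} := by
      have h := cgen_rel.{u} _ (mem_relsCov_of_rels2 perf2)
      rw [Helper1.ev_conjRel] at h
      exact mem_commutator_of_conj_sq _ _ h
    have h3 : cgen.{u} 3 ∈ commutator Cover.{u} := by
      have h := cgen_rel.{u} _ (mem_relsCov_of_rels2 perf3)
      rw [Helper1.ev_conjRel, pow_one] at h
      -- `U t U⁻¹ s⁻¹ = 1`, so `t = U⁻¹ s U`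
      have h' : cgen.{u} 3 = (ev cgen.{u} [6, 5, 7, 1])⁻¹ * cgen 2 * ((ev cgen.{u} [6, 5, 7, 1])⁻¹)⁻¹ := by
        have h4 := mul_eq_one_iff_eq_inv.mp h
        rw [inv_inv] at h4
        rw [← h4]; group
      rw [h']
      exact (inferInstance : (commutator Cover.{u}).Normal).conj_mem _ h2 _
    rintro _ ⟨i, rfl⟩
    fin_cases i
    · exact h0
    · exact h1
    · exact h2
    · exact h3
  refine ⟨Cover.{u}, inferInstance, hfin, φ, ⟨hφsurj, hkercen, ?_⟩,
    ⟨(MulEquiv.ofBijective f hfbij).symm⟩⟩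
  rw [hperf]; exact le_top

end Cfsg.Agent.Lib.Helper7.L34
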