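import Mathlib

/-!
# S2036 piece E (for helper6): the involution trick

Central extension `σ : Γ →* G` with kernel of exponent `2`; `t` an involution of `G` such that all seven
nontrivial "products" of commuting `a, b, c` are conjugate to `t`.  Then every lift of `t` squares to `1`.
-/

set_option autoImplicit false

namespace Cfsg.Agent.Lib.Helper6.M22Mult

namespace Helper23

variable {Γ G : Type*} [Group Γ] [Group G]

/-- if `B A = A B k` with `k` central then `(A B)² = A² B² k` -/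
theorem sq_mul_of_comm (A B k : Γ) (hk : k ∈ Subgroup.center Γ)
    (h : B * A = A * B * k) : (A * B) ^ 2 = A ^ 2 * B ^ 2 * k := by
  have hkB : k * B = B * k := (Subgroup.mem_center_iff.mp hk B).symm
  calc (A * B) ^ 2 = A * (B * A) * B := by rw [pow_two]; group
    _ = A * (A * B * k) * B := by rw [h]
    _ = A * A * B * (k * B) := by group
    _ = A * A * B * (B * k) := by rw [hkB]
    _ = A ^ 2 * B ^ 2 * k := by rw [pow_two, pow_two]; group

/-- the square of a lift of a conjugate of `t` equals the square of a lift of `t` -/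
theorem sq_lift_conj (σ : Γ →* G) (hsurj : Function.Surjective σ)
    (hcen : σ.ker ≤ Subgroup.center Γ) (hexp : ∀ z ∈ σ.ker, z ^ 2 = 1) (t : G) (ht : t ^ 2 = 1)
    (x : Γ) (hx : σ x = t) (u : G) (hu : ∃ g : G, g * t * g⁻¹ = u) (U : Γ) (hU : σ U = u) :
    U ^ 2 = x ^ 2 := by
  obtain ⟨g, hg⟩ := hu
  obtain ⟨γ, hγ⟩ := hsurj g
  have hz : (γ * x * γ⁻¹)⁻¹ * U ∈ σ.ker := by
    rw [MonoidHom.mem_ker, map_mul, map_inv, hU, map_mul, map_mul, map_inv, hx, hγ, hg,
      inv_mul_cancel]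
  have hzc := hcen hz
  have hz2 := hexp _ hz
  have hx2c : x ^ 2 ∈ Subgroup.center Γ :=
    hcen (by rw [MonoidHom.mem_ker, map_pow, hx, ht])
  have hU' : U = γ * x * γ⁻¹ * ((γ * x * γ⁻¹)⁻¹ * U) := by group
  have hcomm : Commute (γ * x * γ⁻¹) ((γ * x * γ⁻¹)⁻¹ * U) :=
    Subgroup.mem_center_iff.mp hzc _
  rw [hU', hcomm.mul_pow, hz2, mul_one]
  have h3 : (γ * x * γ⁻¹) ^ 2 = γ * x ^ 2 * γ⁻¹ := by rw [pow_two, pow_two]; group
  rw [h3, Subgroup.mem_center_iff.mp hx2c γ, mul_assoc, mul_inv_cancel, mul_one]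

/-- two lifts of commuting conjugates of `t` whose product is a conjugate of `t` commute up to `κ` -/
theorem comm_eq (σ : Γ →* G) (hcen : σ.ker ≤ Subgroup.center Γ) (A B κ : Γ) (hκ2 : κ * κ = 1)
    (eA : A ^ 2 = κ) (eB : B ^ 2 = κ) (eAB : (A * B) ^ 2 = κ) (hcomm : σ (B * A) = σ (A * B)) :
    B * A = A * B * κ := by
  have hk : (A * B)⁻¹ * (B * A) ∈ σ.ker := by
    rw [MonoidHom.mem_ker, map_mul, map_inv, hcomm, inv_mul_cancel]
  have hkc := hcen hk
  have h1 : B * A = A * B * ((A * B)⁻¹ * (B * A)) := by group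
  have h2 := sq_mul_of_comm A B _ hkc h1
  rw [eAB, eA, eB, hκ2, one_mul] at h2
  rw [h2]
  exact h1

end Helper23

/-- E: central extension with kernel of exponent 2; `t` an involution of `G` all of whose seven
"products" in an elementary abelian `⟨a,b,c⟩` are conjugate to `t`.  Then every lift of `t` is an
involution (or trivial). -/
theorem sq_eq_one_of_klein8 {Γ G : Type*} [Group Γ] [Group G] (σ : Γ →* G)
    (hsurj : Function.Surjective σ) (hcen : σ.ker ≤ Subgroup.center Γ)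
    (hexp : ∀ z ∈ σ.ker, z ^ 2 = 1) (t a b c : G) (ht : t ^ 2 = 1)
    (hab : a * b = b * a) (hac : a * c = c * a) (hbc : b * c = c * b)
    (h1 : ∃ g : G, g * t * g⁻¹ = a) (h2 : ∃ g : G, g * t * g⁻¹ = b) (h3 : ∃ g : G, g * t * g⁻¹ = c)
    (h4 : ∃ g : G, g * t * g⁻¹ = a * b) (h5 : ∃ g : G, g * t * g⁻¹ = a * c)
    (h6 : ∃ g : G, g * t * g⁻¹ = b * c) (h7 : ∃ g : G, g * t * g⁻¹ = a * b * c)
    (x : Γ) (hx : σ x = t) : x ^ 2 = 1 := by
  obtain ⟨A, hA⟩ := hsurj a
  obtain ⟨B, hB⟩ := hsurj b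
  obtain ⟨C, hC⟩ := hsurj c
  have key := fun u hu U hU => Helper23.sq_lift_conj σ hsurj hcen hexp t ht x hx u hu U hU
  have hκker : x ^ 2 ∈ σ.ker := by rw [MonoidHom.mem_ker, map_pow, hx, ht]
  have hκc : x ^ 2 ∈ Subgroup.center Γ := hcen hκker
  have hκ2 : x ^ 2 * x ^ 2 = 1 := by rw [← pow_two]; exact hexp _ hκker
  have eA : A ^ 2 = x ^ 2 := key a h1 A hA
  have eB : B ^ 2 = x ^ 2 := key b h2 B hB
  have eC : C ^ 2 = x ^ 2 := key c h3 C hC
  have eAB : (A * B) ^ 2 = x ^ 2 := key (a * b) h4 (A * B) (by rw [map_mul, hA, hB])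
  have eAC : (A * C) ^ 2 = x ^ 2 := key (a * c) h5 (A * C) (by rw [map_mul, hA, hC])
  have eBC : (B * C) ^ 2 = x ^ 2 := key (b * c) h6 (B * C) (by rw [map_mul, hB, hC])
  have eABC : (A * B * C) ^ 2 = x ^ 2 :=
    key (a * b * c) h7 (A * B * C) (by rw [map_mul, map_mul, hA, hB, hC])
  have cAB : B * A = A * B * x ^ 2 :=
    Helper23.comm_eq σ hcen A B (x ^ 2) hκ2 eA eB eAB (by rw [map_mul, map_mul, hA, hB, hab])
  have cAC : C * A = A * C * x ^ 2 :=
    Helper23.comm_eq σ hcen A C (x ^ 2) hκ2 eA eC eAC (by rw [map_mul, map_mul, hA, hC, hac])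
  have hκC : x ^ 2 * C = C * x ^ 2 := (Subgroup.mem_center_iff.mp hκc C).symm
  have cABC : (B * C) * A = A * (B * C) * (x ^ 2 * x ^ 2) := by
    calc B * C * A = B * (C * A) := by group
      _ = B * (A * C * x ^ 2) := by rw [cAC]
      _ = (B * A) * C * x ^ 2 := by group
      _ = A * B * x ^ 2 * C * x ^ 2 := by rw [cAB]
      _ = A * B * (x ^ 2 * C) * x ^ 2 := by group
      _ = A * B * (C * x ^ 2) * x ^ 2 := by rw [hκC]
      _ = A * (B * C) * (x ^ 2 * x ^ 2) := by group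
  have h := Helper23.sq_mul_of_comm A (B * C) (x ^ 2 * x ^ 2)
    (by rw [hκ2]; exact Subgroup.one_mem _) cABC
  have e : A * (B * C) = A * B * C := (mul_assoc A B C).symm
  rw [e, eABC, eA, eBC, hκ2, mul_one] at h
  exact h

end Cfsg.Agent.Lib.Helper6.M22Mult
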