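import Cfsg.Agent.Lib.Helper18.ONM.Conj

/-!
S2052-[EX], [PERF] (helper23 for helper18; SPARE - the architect's own `ONM/EX.lean` is the one in use, so the two
main theorems here live in the sub-namespace `Helper23X`): the weak group `PO` is perfect, and, given its order bound and a
homomorphism which does not kill `R5`, the projection `PO → P` is a stem extension of the O'Nan group with
kernel cyclic of order three.
-/

set_option autoImplicit false
set_option maxRecDepth 100000
set_option linter.unusedVariables false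
set_option linter.unusedSimpArgs false

namespace Cfsg.Agent.Lib.Helper18.ONM

open Cfsg Cfsg.Agent.Helper4.TC

namespace Helper23X

theorem dec0 : dec 0 = (Cfsg.Spor.ON.Gen.g, true) := rfl
theorem dec1 : dec 1 = (Cfsg.Spor.ON.Gen.g, false) := rfl
theorem dec2 : dec 2 = (Cfsg.Spor.ON.Gen.a, true) := rfl
theorem dec3 : dec 3 = (Cfsg.Spor.ON.Gen.a, false) := rfl
theorem dec4 : dec 4 = (Cfsg.Spor.ON.Gen.b, true) := rfl
theorem dec5 : dec 5 = (Cfsg.Spor.ON.Gen.b, false) := rfl
theorem dec6 : dec 6 = (Cfsg.Spor.ON.Gen.c, true) := rfl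
theorem dec7 : dec 7 = (Cfsg.Spor.ON.Gen.c, false) := rfl
theorem dec8 : dec 8 = (Cfsg.Spor.ON.Gen.d, true) := rfl
theorem dec9 : dec 9 = (Cfsg.Spor.ON.Gen.d, false) := rfl
theorem dec10 : dec 10 = (Cfsg.Spor.ON.Gen.e, true) := rfl
theorem dec11 : dec 11 = (Cfsg.Spor.ON.Gen.e, false) := rfl
theorem dec12 : dec 12 = (Cfsg.Spor.ON.Gen.f, true) := rfl
theorem dec13 : dec 13 = (Cfsg.Spor.ON.Gen.f, false) := rfl

/-! ### the relators of `PO` -/

theorem relO_one (b : List ℕ) (hb : b ∈ relO) :
    evc (PresentedGroup.of (rels := RO)) dec b = 1 := by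
  rw [evc_of]
  exact PresentedGroup.one_of_mem (mem_relSet _ b hb)

/-! ### additive evaluation in a commutative group -/

/-- the additive value of a code word -/
def sumc {M : Type*} [AddCommGroup M] (z : Gen → M) (b : List ℕ) : M :=
  (b.map fun c => if (dec c).2 then z (dec c).1 else - z (dec c).1).sum

theorem ofMul_evc {Q : Type*} [CommGroup Q] (f : Gen → Q) (b : List ℕ) :
    Additive.ofMul (evc f dec b) = sumc (fun x => Additive.ofMul (f x)) b := by
  induction b with
  | nil => simp [evc, ev, sumc]
  | cons c u ih =>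
    rw [evc_cons, ofMul_mul, ih]
    simp only [sumc, List.map_cons, List.sum_cons]
    rw [add_comm]
    congr 1

/-! ### `PO` is perfect -/

/-- a tuple in an additive commutative group satisfying (additively) the relators of `exactO` vanishes -/
theorem tuple_eq_zero {M : Type*} [AddCommGroup M] (z : Gen → M) (h : ∀ b ∈ exactO, sumc z b = 0) :
    ∀ x, z x = 0 := by
  have Sa : 2 • z .a = 0 := by
    have := h [2, 2] (by decide)
    simp only [sumc, List.map_cons, List.map_nil, List.sum_cons, List.sum_nil, dec0, dec1, dec2, dec3, dec4, dec5, dec6, dec7, dec8, dec9, dec10, dec11, dec12, dec13, if_true, Bool.false_eq_true, if_false] at this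
    rw [← this]; abel
  have Sb : 2 • z .b = 0 := by
    have := h [4, 4] (by decide)
    simp only [sumc, List.map_cons, List.map_nil, List.sum_cons, List.sum_nil, dec0, dec1, dec2, dec3, dec4, dec5, dec6, dec7, dec8, dec9, dec10, dec11, dec12, dec13, if_true, Bool.false_eq_true, if_false] at this
    rw [← this]; abel
  have Sc : 2 • z .c = 0 := by
    have := h [6, 6] (by decide)
    simp only [sumc, List.map_cons, List.map_nil, List.sum_cons, List.sum_nil, dec0, dec1, dec2, dec3, dec4, dec5, dec6, dec7, dec8, dec9, dec10, dec11, dec12, dec13, if_true, Bool.false_eq_true, if_false] at this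
    rw [← this]; abel
  have Sd : 2 • z .d = 0 := by
    have := h [8, 8] (by decide)
    simp only [sumc, List.map_cons, List.map_nil, List.sum_cons, List.sum_nil, dec0, dec1, dec2, dec3, dec4, dec5, dec6, dec7, dec8, dec9, dec10, dec11, dec12, dec13, if_true, Bool.false_eq_true, if_false] at this
    rw [← this]; abel
  have Se : 2 • z .e = 0 := by
    have := h [10, 10] (by decide)
    simp only [sumc, List.map_cons, List.map_nil, List.sum_cons, List.sum_nil, dec0, dec1, dec2, dec3, dec4, dec5, dec6, dec7, dec8, dec9, dec10, dec11, dec12, dec13, if_true, Bool.false_eq_true, if_false] at this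
    rw [← this]; abel
  have Sf : 2 • z .f = 0 := by
    have := h [12, 12] (by decide)
    simp only [sumc, List.map_cons, List.map_nil, List.sum_cons, List.sum_nil, dec0, dec1, dec2, dec3, dec4, dec5, dec6, dec7, dec8, dec9, dec10, dec11, dec12, dec13, if_true, Bool.false_eq_true, if_false] at this
    rw [← this]; abel
  have Bab : 3 • z .a + 3 • z .b = 0 := by
    have := h [4, 2, 4, 2, 4, 2] (by decide)
    simp only [sumc, List.map_cons, List.map_nil, List.sum_cons, List.sum_nil, dec0, dec1, dec2, dec3, dec4, dec5, dec6, dec7, dec8, dec9, dec10, dec11, dec12, dec13, if_true, Bool.false_eq_true, if_false] at this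
    rw [← this]; abel
  have Bbc : 3 • z .b + 3 • z .c = 0 := by
    have := h [6, 4, 6, 4, 6, 4] (by decide)
    simp only [sumc, List.map_cons, List.map_nil, List.sum_cons, List.sum_nil, dec0, dec1, dec2, dec3, dec4, dec5, dec6, dec7, dec8, dec9, dec10, dec11, dec12, dec13, if_true, Bool.false_eq_true, if_false] at this
    rw [← this]; abel
  have Bde : 3 • z .d + 3 • z .e = 0 := by
    have := h [10, 8, 10, 8, 10, 8] (by decide)
    simp only [sumc, List.map_cons, List.map_nil, List.sum_cons, List.sum_nil, dec0, dec1, dec2, dec3, dec4, dec5, dec6, dec7, dec8, dec9, dec10, dec11, dec12, dec13, if_true, Bool.false_eq_true, if_false] at this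
    rw [← this]; abel
  have Bef : 3 • z .e + 3 • z .f = 0 := by
    have := h [12, 10, 12, 10, 12, 10] (by decide)
    simp only [sumc, List.map_cons, List.map_nil, List.sum_cons, List.sum_nil, dec0, dec1, dec2, dec3, dec4, dec5, dec6, dec7, dec8, dec9, dec10, dec11, dec12, dec13, if_true, Bool.false_eq_true, if_false] at this
    rw [← this]; abel
  have R1 : z .a + z .f - 2 • z .g = 0 := by
    have := h r1 (by decide)
    simp only [r1, sumc, List.map_cons, List.map_nil, List.sum_cons, List.sum_nil, dec0, dec1, dec2, dec3, dec4, dec5, dec6, dec7, dec8, dec9, dec10, dec11, dec12, dec13, if_true, Bool.false_eq_true, if_false] at this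
    rw [← this]; abel
  have N1 : 4 • z .c + 4 • z .g - z .a = 0 := by
    have := h n1 (by decide)
    simp only [n1, sumc, List.map_cons, List.map_nil, List.sum_cons, List.sum_nil, dec0, dec1, dec2, dec3, dec4, dec5, dec6, dec7, dec8, dec9, dec10, dec11, dec12, dec13, if_true, Bool.false_eq_true, if_false] at this
    rw [← this]; abel
  have N2 : z .c + 2 • z .d + z .g = 0 := by
    have := h n2 (by decide)
    simp only [n2, sumc, List.map_cons, List.map_nil, List.sum_cons, List.sum_nil, dec0, dec1, dec2, dec3, dec4, dec5, dec6, dec7, dec8, dec9, dec10, dec11, dec12, dec13, if_true, Bool.false_eq_true, if_false] at this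
    have e : z .c + 2 • z .d + z .g = -(0 : M) := by
      rw [← this]; abel
    rw [e, neg_zero]
  have ha : z .a = 0 := by
    have e : z .a = -(4 • z .c + 4 • z .g - z .a) + 2 • (2 • z .c) + 2 • z .a + 2 • z .f
        - 2 • (z .a + z .f - 2 • z .g) := by abel
    rw [e, N1, Sc, Sa, Sf, R1]; simp
  have hb : z .b = 0 := by
    have e : z .b = (3 • z .a + 3 • z .b) - 3 • z .a - 2 • z .b := by abel
    rw [e, Bab, ha, Sb]; simp
  have hc : z .c = 0 := by
    have e : z .c = (3 • z .b + 3 • z .c) - 3 • z .b - 2 • z .c := by abel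
    rw [e, Bbc, hb, Sc]; simp
  have hg : z .g = 0 := by
    have e : z .g = (z .c + 2 • z .d + z .g) - z .c - 2 • z .d := by abel
    rw [e, N2, hc, Sd]; simp
  have hf : z .f = 0 := by
    have e : z .f = (z .a + z .f - 2 • z .g) - z .a + 2 • z .g := by abel
    rw [e, R1, ha, hg]; simp
  have he : z .e = 0 := by
    have e : z .e = (3 • z .e + 3 • z .f) - 3 • z .f - 2 • z .e := by abel
    rw [e, Bef, hf, Se]; simp
  have hd : z .d = 0 := by
    have e : z .d = (3 • z .d + 3 • z .e) - 3 • z .e - 2 • z .d := by abel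
    rw [e, Bde, he, Sd]; simp
  intro x
  cases x
  · exact hg
  · exact ha
  · exact hb
  · exact hc
  · exact hd
  · exact he
  · exact hf

end Helper23X

/-- [PERF] the weak group `PO` is perfect -/
theorem Helper23X.perfect_PO : commutator PO = ⊤ := by
  have hz : ∀ x, Additive.ofMul (Abelianization.of (PresentedGroup.of (rels := RO) x)) = 0 := by
    apply Helper23X.tuple_eq_zero
    intro b hb
    rw [← Helper23X.ofMul_evc, ← Schur.map_evc,
      Helper23X.relO_one b (List.mem_append_left _ hb), map_one]
    rfl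
  rw [eq_top_iff, ← PresentedGroup.closure_range_of RO, Subgroup.closure_le]
  rintro _ ⟨x, rfl⟩
  rw [SetLike.mem_coe, ← Abelianization.ker_of, MonoidHom.mem_ker]
  exact hz x

namespace Helper23X

/-! ### the projection onto `P` -/

theorem exists_tau (hP : RelPOK) (hE : ExtraOK) :
    ∃ τ : PO →* P, ∀ x, τ (PresentedGroup.of x) = PresentedGroup.of x :=
  Schur.exists_hom_weak0 ONCod.coding (⊥ : Subgroup P) bot_le (PresentedGroup.of (rels := RP))
    exactO centO gensL
    (fun b hb => by
      unfold exactO at hb
      rcases List.mem_append.mp hb with h | h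
      · exact hP b (List.mem_append_left _ h)
      · simp only [List.mem_cons, List.not_mem_nil, or_false] at h
        rcases h with rfl | rfl | rfl | rfl | rfl | rfl
        · exact hP _ (by decide)
        · exact hP _ (by decide)
        · exact hP _ (by decide)
        · exact hP _ (by decide)
        · exact hE.1
        · exact hE.2)
    (fun ρ hρ => by
      rw [Subgroup.mem_bot]
      unfold centO at hρ
      simp only [List.mem_cons, List.not_mem_nil, or_false] at hρ
      rcases hρ with rfl | rfl | rfl
      · exact hP _ (by decide)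
      · exact hP _ (by decide)
      · exact hP _ (by decide))

/-- a commutator word which is trivial: the two elements commute -/
theorem commute_of_comm_word {Q : Type*} [Group Q] (f : Gen → Q) (x ρ : List ℕ)
    (h : evc f dec (invW x ++ invW ρ ++ x ++ ρ) = 1) :
    evc f dec ρ * evc f dec x = evc f dec x * evc f dec ρ := by
  rw [evc_append, evc_append, evc_append, evc_invW f ONCod.coding,
    evc_invW f ONCod.coding] at h
  have h2 : evc f dec ρ * evc f dec x * (evc f dec ρ)⁻¹ * (evc f dec x)⁻¹ = 1 := by
    rw [← h]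
    group
  calc evc f dec ρ * evc f dec x
      = (evc f dec ρ * evc f dec x * (evc f dec ρ)⁻¹ * (evc f dec x)⁻¹) *
          (evc f dec x * evc f dec ρ) := by group
    _ = evc f dec x * evc f dec ρ := by rw [h2, one_mul]

theorem evc_letter {Q : Type*} [Group Q] (f : Gen → Q) (c : ℕ) :
    evc f dec [c] = gl f (dec c) := by
  rw [evc_cons, evc_nil, one_mul]

/-- the words of the generators -/
def gw : Gen → List ℕ
  | .g => [0]
  | .a => [2]
  | .b => [4]
  | .c => [6]
  | .d => [8]
  | .e => [10]
  | .f => [12]

theorem evc_gw {Q : Type*} [Group Q] (f : Gen → Q) (k : Gen) : evc f dec (gw k) = f k := by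
  cases k <;> rw [gw, evc_letter] <;> rfl

theorem gw_mem (k : Gen) : gw k ∈ gensL := by
  cases k <;> decide

theorem comm_word_mem (k : Gen) (ρ : List ℕ) (L : List (List ℕ)) (hρ : ρ ∈ L) :
    invW (gw k) ++ invW ρ ++ gw k ++ ρ ∈ Schur.weakify0 gensL L := by
  unfold Schur.weakify0
  exact List.mem_flatMap.mpr ⟨ρ, hρ, List.mem_map.mpr ⟨gw k, gw_mem k, rfl⟩⟩

theorem center_of_comm (g : PO) (hg : ∀ k, g * PresentedGroup.of k = PresentedGroup.of k * g) :
    g ∈ Subgroup.center PO := by
  have h : (⊤ : Subgroup PO) ≤ Subgroup.centralizer {g} := by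
    rw [← PresentedGroup.closure_range_of RO, Subgroup.closure_le]
    rintro _ ⟨k, rfl⟩
    rw [SetLike.mem_coe, Subgroup.mem_centralizer_iff]
    intro h hh
    rw [Set.mem_singleton_iff.mp hh]
    exact hg k
  rw [Subgroup.mem_center_iff]
  intro x
  have hx := Subgroup.mem_centralizer_iff.mp (h (Subgroup.mem_top x)) g (Set.mem_singleton _)
  exact hx.symm

/-- the value of `R5` is central in `PO` -/
theorem r5_center : PresentedGroup.mk RO (wordF dec R5) ∈ Subgroup.center PO := by
  rw [← evc_of]
  apply center_of_comm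
  intro k
  have h := commute_of_comm_word (PresentedGroup.of (rels := RO)) (gw k) R5
    (relO_one _ (List.mem_append_right _ (comm_word_mem k R5 centO (by decide))))
  rw [evc_gw] at h
  exact h

end Helper23X

/-- [EX] the covering group, from the order bound and a homomorphism not killing `R5` -/
theorem Helper23X.exists_cover_of (hP : RelPOK) (hE : ExtraOK) (hcardP : Nat.card P = 460815505920)
    (hcard : Finite PO ∧ Nat.card PO ≤ 3 * 460815505920)
    (hmodel : ∃ (Δ : Type) (_ : Group Δ) (φ : PO →* Δ),
      φ (PresentedGroup.mk RO (wordF dec R5)) ≠ 1 ∧ φ (PresentedGroup.mk RO (wordF dec R5)) ^ 3 = 1) :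
    ∃ (Γ : Type) (_ : Group Γ) (_ : Finite Γ) (σ : Γ →* P),
      Cfsg.IsStemExtension σ ∧ Nonempty (σ.ker ≃* Multiplicative (ZMod 3)) := by
  haveI : Finite PO := hcard.1
  obtain ⟨τ, hτ⟩ := Helper23X.exists_tau hP hE
  obtain ⟨Δ, _, φ, h1, h3⟩ := hmodel
  set r5 : PO := PresentedGroup.mk RO (wordF dec R5) with hr5
  have hsurj : Function.Surjective τ := by
    rw [← MonoidHom.range_eq_top, eq_top_iff, ← PresentedGroup.closure_range_of RP,
      Subgroup.closure_le]
    rintro _ ⟨k, rfl⟩
    exact ⟨PresentedGroup.of k, hτ k⟩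
  have hcardK : Nat.card τ.ker ≤ 3 := by
    have e1 : Nat.card PO = Nat.card τ.ker * Nat.card P := by
      rw [← Subgroup.card_mul_index τ.ker, Subgroup.index_ker,
        MonoidHom.range_eq_top.mpr hsurj, Subgroup.card_top]
    have e2 := hcard.2
    rw [e1, hcardP] at e2
    omega
  have hker : r5 ∈ τ.ker := by
    rw [MonoidHom.mem_ker, hr5, ← evc_of, Schur.map_evc]
    have h2 : (fun x => τ (PresentedGroup.of x)) = PresentedGroup.of (rels := RP) := funext hτ
    rw [h2]
    exact hP R5 (by decide)
  haveI : Fact (Nat.Prime 3) := ⟨by norm_num⟩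
  have ho : orderOf (φ r5) = 3 := orderOf_eq_prime h3 h1
  have hdvd : 3 ∣ orderOf r5 := by
    rw [← ho]; exact orderOf_map_dvd φ r5
  have hz : Subgroup.zpowers r5 ≤ τ.ker := (Subgroup.zpowers_le).mpr hker
  have hcz : Nat.card (Subgroup.zpowers r5) = orderOf r5 := Nat.card_zpowers r5
  have hle : orderOf r5 ≤ Nat.card τ.ker := by
    rw [← hcz]; exact Subgroup.card_le_of_le hz
  have hpos : 0 < orderOf r5 := orderOf_pos r5
  have ho3 : orderOf r5 = 3 := by
    obtain ⟨k, hk⟩ := hdvd
    have : k = 1 := by nlinarith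
    rw [hk, this]
  have hK3 : Nat.card τ.ker = 3 := by omega
  have heq : Subgroup.zpowers r5 = τ.ker := by
    apply Subgroup.eq_of_le_of_card_ge hz
    rw [hcz, ho3, hK3]
  have hcen : τ.ker ≤ Subgroup.center PO := by
    rw [← heq, Subgroup.zpowers_le]
    exact Helper23X.r5_center
  have hcomm : τ.ker ≤ commutator PO := by
    rw [Helper23X.perfect_PO]; exact le_top
  have hc3 : Nat.card (Multiplicative (ZMod 3)) = 3 := by
    rw [Nat.card_eq_fintype_card]; rfl
  exact ⟨PO, inferInstance, inferInstance, τ, ⟨hsurj, hcen, hcomm⟩, ⟨mulEquivOfPrimeCardEq hK3 hc3⟩⟩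

end Cfsg.Agent.Lib.Helper18.ONM
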