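import Mathlib
import Cfsg.Agent.Lib.Helper22.PElt
import Cfsg.Agent.Lib.Helper23.SylowCount

/-!
# `p`-elements of `p'`-class size and abelian Sylow `p`-subgroups (helper23 library)

`CP p G`: every `p`-element of `G` has class size prime to `p`.  The property passes to normal
subgroups and quotients.  If `CP p G` holds and `N ⊴ G` is such that the Sylow `p`-subgroups of
`N` and of `G ⧸ N` are abelian, then so are those of `G` (`sylow_comm_of_normal`): indeed
`P = Z(P) (P ∩ N)`.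
-/

set_option autoImplicit false

namespace Cfsg.Agent.Lib.Helper23.PClassAbelian

open Subgroup

open scoped Pointwise

variable {G : Type*} [Group G]

/-- every `p`-element has class size prime to `p` -/
def CP (p : ℕ) (G : Type*) [Group G] : Prop :=
  ∀ x : G, (∃ k : ℕ, orderOf x = p ^ k) → ¬ p ∣ (centralizer ({x} : Set G)).index

theorem CP.subgroup [Finite G] {p : ℕ} (h : CP p G) (N : Subgroup G) [N.Normal] : CP p N := by
  intro x hx
  obtain ⟨k, hk⟩ := hx
  have hx' : ∃ k : ℕ, orderOf (x : G) = p ^ k := ⟨k, by rw [Subgroup.orderOf_coe]; exact hk⟩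
  have h1 := h x hx'
  have hc : centralizer ({x} : Set N) = (centralizer ({(x : G)} : Set G)).subgroupOf N := by
    ext y
    simp only [mem_centralizer_singleton_iff, mem_subgroupOf, Subtype.ext_iff, Subgroup.coe_mul]
  rw [hc]
  change ¬ p ∣ (centralizer ({(x : G)} : Set G)).relIndex N
  intro hd
  apply h1
  have hn : centralizer ({(x : G)} : Set G) ≤ normalizer (N : Set G) := by
    rw [Subgroup.normalizer_eq_top]; exact le_top
  rw [← Cfsg.Agent.Lib.Helper23.relIndex_sup_of_le_normalizer' hn] at hd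
  exact hd.trans (Subgroup.relIndex_dvd_index_of_le le_sup_right)

/-- every `p`-element of a quotient lifts to a `p`-element. -/
theorem exists_pElt_lift [Finite G] (p : ℕ) [hp : Fact p.Prime] (N : Subgroup G) [N.Normal]
    (y : G ⧸ N) (hy : ∃ k : ℕ, orderOf y = p ^ k) :
    ∃ g : G, (∃ k : ℕ, orderOf g = p ^ k) ∧ (QuotientGroup.mk g : G ⧸ N) = y := by
  obtain ⟨g, rfl⟩ := QuotientGroup.mk_surjective y
  obtain ⟨j, hj⟩ := hy
  obtain ⟨t, u, ht, hu, hg, ⟨k, hk⟩, hup⟩ := Cfsg.Agent.Lib.Helper22.exists_p_decomp p g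
  refine ⟨t, ⟨k, hk⟩, ?_⟩
  have h1 : orderOf (QuotientGroup.mk u : G ⧸ N) ∣ orderOf u :=
    orderOf_map_dvd (QuotientGroup.mk' N) u
  have h2 : orderOf (QuotientGroup.mk u : G ⧸ N) ∣ orderOf (QuotientGroup.mk g : G ⧸ N) := by
    apply orderOf_dvd_of_mem_zpowers
    obtain ⟨z, hz⟩ := Subgroup.mem_zpowers_iff.mp hu
    rw [Subgroup.mem_zpowers_iff]
    exact ⟨z, by rw [← hz]; simp⟩
  have h3 : orderOf (QuotientGroup.mk u : G ⧸ N) = 1 := by
    rw [hj] at h2
    have hc : (orderOf u).Coprime (p ^ j) := Nat.Coprime.pow_right j hup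
    exact Nat.eq_one_of_dvd_coprimes hc h1 h2
  have h4 : (QuotientGroup.mk u : G ⧸ N) = 1 := orderOf_eq_one_iff.mp h3
  rw [hg, QuotientGroup.mk_mul, h4, mul_one]

theorem CP.quotient [Finite G] {p : ℕ} [hp : Fact p.Prime] (h : CP p G) (N : Subgroup G)
    [N.Normal] : CP p (G ⧸ N) := by
  intro y hy
  obtain ⟨g, hg, rfl⟩ := exists_pElt_lift p N y hy
  have h1 := h g hg
  have hle : (centralizer ({g} : Set G)).map (QuotientGroup.mk' N) ≤
      centralizer ({(QuotientGroup.mk g : G ⧸ N)} : Set (G ⧸ N)) := by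
    rintro _ ⟨c, hc, rfl⟩
    have hc' : c ∈ centralizer ({g} : Set G) := hc
    rw [mem_centralizer_singleton_iff] at hc' ⊢
    simp only [QuotientGroup.mk'_apply, ← QuotientGroup.mk_mul, hc']
  intro hd
  apply h1
  exact (hd.trans (Subgroup.index_dvd_of_le hle)).trans
    (Subgroup.index_map_dvd _ (QuotientGroup.mk'_surjective N))

/-- Under `CP`, every `p`-element is central in some Sylow `p`-subgroup. -/
theorem CP.exists_sylow [Finite G] {p : ℕ} [hp : Fact p.Prime] (h : CP p G) (x : G)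
    (hx : ∃ k : ℕ, orderOf x = p ^ k) :
    ∃ Q : Sylow p G, x ∈ Q ∧ ∀ y ∈ Q, y * x = x * y := by
  have h1 := h x hx
  obtain ⟨k, hk⟩ := hx
  set C := centralizer ({x} : Set G) with hC
  have hxC : x ∈ C := by
    rw [hC, mem_centralizer_singleton_iff]
  have hz : IsPGroup p (zpowers (⟨x, hxC⟩ : C)) := by
    apply IsPGroup.of_card (n := k)
    rw [Nat.card_zpowers, ← Subgroup.orderOf_coe]
    exact hk
  obtain ⟨Q₀, hQ₀⟩ := hz.exists_le_sylow
  have hpQ : IsPGroup p ((Q₀ : Subgroup C).map C.subtype) := Q₀.2.map _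
  have hQi : ¬ p ∣ ((Q₀ : Subgroup C).map C.subtype).index := by
    rw [Subgroup.index_map_subtype]
    exact Nat.Prime.not_dvd_mul hp.out Q₀.not_dvd_index h1
  refine ⟨hpQ.toSylow hQi, ?_, ?_⟩
  · change x ∈ (Q₀ : Subgroup C).map C.subtype
    exact ⟨⟨x, hxC⟩, hQ₀ (mem_zpowers _), rfl⟩
  · intro y hy
    have hy' : y ∈ (Q₀ : Subgroup C).map C.subtype := hy
    obtain ⟨c, _, rfl⟩ := hy'
    have hc2 : (c : G) ∈ centralizer ({x} : Set G) := c.2
    rw [mem_centralizer_singleton_iff] at hc2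
    exact hc2

/-- Sylow's theorem inside `M`. -/
theorem exists_conj_le_sylow [Finite G] {p : ℕ} [Fact p.Prime] (P : Sylow p G) (M : Subgroup G)
    (hPM : (P : Subgroup G) ≤ M) (A : Subgroup G) (hAM : A ≤ M) (hA : IsPGroup p A) :
    ∃ m ∈ M, ∀ a ∈ A, m * a * m⁻¹ ∈ P := by
  have hAsub : IsPGroup p (A.subgroupOf M) := hA.comap_subtype
  obtain ⟨Q, hQ⟩ := hAsub.exists_le_sylow
  obtain ⟨m, hm⟩ := MulAction.exists_smul_eq M Q (P.subtype hPM)
  refine ⟨m, m.2, ?_⟩
  intro a ha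
  have h1 : (⟨a, hAM ha⟩ : M) ∈ (Q : Subgroup M) := hQ (by rw [Subgroup.mem_subgroupOf]; exact ha)
  have h2 : m * ⟨a, hAM ha⟩ * m⁻¹ ∈ ((m • Q : Sylow p M) : Subgroup M) := by
    have h3 : ((m • Q : Sylow p M) : Subgroup M) = MulAut.conj m • (Q : Subgroup M) :=
      Sylow.coe_subgroup_smul
    rw [h3, Subgroup.mem_pointwise_smul_iff_inv_smul_mem]
    simpa [MulAut.smul_def, mul_assoc] using h1
  rw [hm, Sylow.coe_subtype, Subgroup.mem_subgroupOf] at h2
  have h5 : (m : G) * a * (m : G)⁻¹ ∈ (P : Subgroup G) := by simpa using h2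
  exact h5

/-- Key step: `P = Z(P) (P ∩ N)`. -/
theorem exists_central_mul [Finite G] {p : ℕ} [hp : Fact p.Prime] (h : CP p G) (N : Subgroup G)
    [N.Normal]
    (hQ : ∀ R : Sylow p (G ⧸ N), ∀ a ∈ R, ∀ b ∈ R, a * b = b * a)
    (P : Sylow p G) (x : G) (hx : x ∈ P) :
    ∃ z ∈ P, (∀ y ∈ P, y * z = z * y) ∧ x⁻¹ * z ∈ N := by
  have hxo : ∃ k : ℕ, orderOf x = p ^ k := by
    obtain ⟨k, hk⟩ := (IsPGroup.iff_orderOf.mp P.2) ⟨x, hx⟩
    exact ⟨k, by rw [← hk, ← Subgroup.orderOf_coe]⟩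
  obtain ⟨Q, hxQ, hQc⟩ := h.exists_sylow x hxo
  have hπ : Function.Surjective (QuotientGroup.mk' N) := QuotientGroup.mk'_surjective N
  set Pb : Sylow p (G ⧸ N) := P.mapSurjective hπ with hPb
  set Qb : Sylow p (G ⧸ N) := Q.mapSurjective hπ with hQb
  set xb : G ⧸ N := QuotientGroup.mk' N x with hxb
  have hxPb : xb ∈ Pb := by
    change xb ∈ (P : Subgroup G).map (QuotientGroup.mk' N)
    exact ⟨x, hx, rfl⟩
  have hxQb : xb ∈ Qb := by
    change xb ∈ (Q : Subgroup G).map (QuotientGroup.mk' N)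
    exact ⟨x, hxQ, rfl⟩
  set Cb := centralizer ({xb} : Set (G ⧸ N)) with hCb
  have hPC : (Pb : Subgroup (G ⧸ N)) ≤ Cb := by
    intro y hy
    rw [hCb, mem_centralizer_singleton_iff]
    exact hQ Pb y hy xb hxPb
  have hQC : (Qb : Subgroup (G ⧸ N)) ≤ Cb := by
    intro y hy
    rw [hCb, mem_centralizer_singleton_iff]
    exact hQ Qb y hy xb hxQb
  obtain ⟨cb, hcb, hcb2⟩ := exists_conj_le_sylow Pb Cb hPC Qb hQC Qb.2
  obtain ⟨c, rfl⟩ := hπ cb
  -- `c Q c⁻¹ ≤ P ⊔ N`
  set M : Subgroup G := (P : Subgroup G) ⊔ N with hM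
  set Qc : Subgroup G := (Q : Subgroup G).map (MulAut.conj c).toMonoidHom with hQcdef
  have hQcM : Qc ≤ M := by
    rintro _ ⟨y, hy, rfl⟩
    have h2 : QuotientGroup.mk' N c * QuotientGroup.mk' N y * (QuotientGroup.mk' N c)⁻¹ ∈ Pb :=
      hcb2 _ ⟨y, hy, rfl⟩
    have h2' : QuotientGroup.mk' N c * QuotientGroup.mk' N y * (QuotientGroup.mk' N c)⁻¹ ∈
        (P : Subgroup G).map (QuotientGroup.mk' N) := h2
    obtain ⟨a, ha, hae⟩ := h2'
    have h3 : QuotientGroup.mk' N a = QuotientGroup.mk' N (c * y * c⁻¹) := by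
      rw [hae, map_mul, map_mul, map_inv]
    have h4 : a⁻¹ * (c * y * c⁻¹) ∈ N := by
      rw [← QuotientGroup.eq]; exact h3
    have h5 : c * y * c⁻¹ = a * (a⁻¹ * (c * y * c⁻¹)) := by group
    simp only [MulEquiv.toMonoidHom_eq_coe, MonoidHom.coe_coe, MulAut.conj_apply]
    rw [h5, hM]
    exact Subgroup.mul_mem_sup ha h4
  have hQcp : IsPGroup p Qc := Q.2.map _
  obtain ⟨m, hmM, hm⟩ := exists_conj_le_sylow P M le_sup_left Qc hQcM hQcp
  obtain ⟨a, ha, n, hn, rfl⟩ : ∃ a ∈ (P : Subgroup G), ∃ n ∈ N, a * n = m := by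
    have : m ∈ ((P : Subgroup G) : Set G) * (N : Set G) := by
      rw [← Subgroup.mul_normal]; exact hmM
    obtain ⟨a, ha, n, hn, e⟩ := Set.mem_mul.mp this
    exact ⟨a, ha, n, hn, e⟩
  -- `g = n c`
  have hg : ∀ y ∈ Q, (n * c) * y * (n * c)⁻¹ ∈ P := by
    intro y hy
    have h2 := hm (c * y * c⁻¹) ⟨y, hy, by simp [MulAut.conj_apply]⟩
    have h3 : (n * c) * y * (n * c)⁻¹ = a⁻¹ * ((a * n) * (c * y * c⁻¹) * (a * n)⁻¹) * a := by group
    rw [h3]
    exact (P : Subgroup G).mul_mem ((P : Subgroup G).mul_mem ((P : Subgroup G).inv_mem ha) h2) ha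
  set g := n * c with hgdef
  -- equality by cardinality
  have hQg : (Q : Subgroup G).map (MulAut.conj g).toMonoidHom = P := by
    apply Subgroup.eq_of_le_of_card_ge
    · rintro _ ⟨y, hy, rfl⟩
      have h5 : g * y * g⁻¹ ∈ (P : Subgroup G) := hg y hy
      simpa [MulAut.conj_apply] using h5
    · rw [Subgroup.card_map_of_injective (MulAut.conj g).injective,
        Sylow.card_eq_multiplicity, Sylow.card_eq_multiplicity]
  refine ⟨g * x * g⁻¹, hg x hxQ, ?_, ?_⟩
  · intro y hy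
    have hy0 : y ∈ (P : Subgroup G) := hy
    rw [← hQg] at hy0
    obtain ⟨y', hy', rfl⟩ := hy0
    simp only [MulEquiv.toMonoidHom_eq_coe, MonoidHom.coe_coe, MulAut.conj_apply]
    have := hQc y' hy'
    calc g * y' * g⁻¹ * (g * x * g⁻¹) = g * (y' * x) * g⁻¹ := by group
      _ = g * (x * y') * g⁻¹ := by rw [this]
      _ = g * x * g⁻¹ * (g * y' * g⁻¹) := by group
  · rw [← QuotientGroup.eq]
    change QuotientGroup.mk' N x = QuotientGroup.mk' N (g * x * g⁻¹)
    have h6 : QuotientGroup.mk' N g = QuotientGroup.mk' N c := by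
      rw [hgdef, map_mul]
      have : QuotientGroup.mk' N n = 1 := by
        rw [QuotientGroup.mk'_apply, QuotientGroup.eq_one_iff]; exact hn
      rw [this, one_mul]
    rw [map_mul, map_mul, map_inv, h6]
    have h7 := hcb
    rw [hCb, mem_centralizer_singleton_iff] at h7
    -- h7 : mk c * xb = xb * mk c
    rw [h7, mul_inv_cancel_right]

/-- If `CP p G` holds and the Sylow `p`-subgroups of `N ⊴ G` and of `G ⧸ N` are abelian, then the
Sylow `p`-subgroups of `G` are abelian. -/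
theorem sylow_comm_of_normal [Finite G] {p : ℕ} [hp : Fact p.Prime] (h : CP p G) (N : Subgroup G)
    [N.Normal]
    (hN : ∀ R : Sylow p N, ∀ a ∈ R, ∀ b ∈ R, a * b = b * a)
    (hQ : ∀ R : Sylow p (G ⧸ N), ∀ a ∈ R, ∀ b ∈ R, a * b = b * a)
    (P : Sylow p G) : ∀ a ∈ P, ∀ b ∈ P, a * b = b * a := by
  intro a ha b hb
  obtain ⟨za, hzaP, hzac, hzaN⟩ := exists_central_mul h N hQ P a ha
  obtain ⟨zb, hzbP, hzbc, hzbN⟩ := exists_central_mul h N hQ P b hb
  -- `sa = za⁻¹ a`, `sb = zb⁻¹ b`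
  set sa := za⁻¹ * a with hsa
  set sb := zb⁻¹ * b with hsb
  have hsaP : sa ∈ P := (P : Subgroup G).mul_mem ((P : Subgroup G).inv_mem hzaP) ha
  have hsbP : sb ∈ P := (P : Subgroup G).mul_mem ((P : Subgroup G).inv_mem hzbP) hb
  have hsaN : sa ∈ N := by
    have : sa = (a⁻¹ * za)⁻¹ := by rw [hsa]; group
    rw [this]; exact N.inv_mem hzaN
  have hsbN : sb ∈ N := by
    have : sb = (b⁻¹ * zb)⁻¹ := by rw [hsb]; group
    rw [this]; exact N.inv_mem hzbN
  have hK : IsPGroup p ((P : Subgroup G).subgroupOf N) := P.2.comap_subtype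
  obtain ⟨R, hR⟩ := hK.exists_le_sylow
  have h1 : (⟨sa, hsaN⟩ : N) ∈ R := hR (by rw [Subgroup.mem_subgroupOf]; exact hsaP)
  have h2 : (⟨sb, hsbN⟩ : N) ∈ R := hR (by rw [Subgroup.mem_subgroupOf]; exact hsbP)
  have h3 := hN R _ h1 _ h2
  have hss : Commute sa sb := by
    have h4 := congrArg (Subtype.val) h3
    have h5 : sa * sb = sb * sa := by simpa using h4
    exact h5
  have c1 : Commute za zb := (hzbc za hzaP)
  have c2 : Commute za sb := (hzac sb hsbP).symm
  have c3 : Commute sa zb := (hzbc sa hsaP)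
  have ea : a = za * sa := by rw [hsa]; group
  have eb : b = zb * sb := by rw [hsb]; group
  have : Commute (za * sa) (zb * sb) :=
    Commute.mul_left (Commute.mul_right c1 c2) (Commute.mul_right c3 hss)
  rw [ea, eb]
  exact this

end Cfsg.Agent.Lib.Helper23.PClassAbelian
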