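import Cfsg.Agent.Lib.Helper23.WrBridge

/-!
# From Theorem B to group-level statements (general `p ^ n`, exceptional case included)

`bridge_lin`: linear form over any field of characteristic `p` (`p` odd).
`bridge`: for an action `ψ : L →* MulAut M` on a finite abelian group of exponent `p`.
-/

set_option autoImplicit false

namespace Cfsg.Agent.Lib.Helper23.PL

open Cfsg.Agent.Lib.Helper23.HB Cfsg.Agent.Lib.Helper23.Wr Module

theorem pow_ne_zero_of_le' {A : Type*} [Ring A] {T : A} {m k : ℕ} (h : T ^ m ≠ 0) (hk : k ≤ m) :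
    T ^ k ≠ 0 := by
  intro h0
  apply h
  have : m = k + (m - k) := by omega
  rw [this, pow_add, h0, zero_mul]

open Polynomial in
theorem sub_one_pow_two_mul {E : Type*} [Field E] {p : ℕ} [Fact p.Prime] [CharP E p] {A : Type*}
    [Ring A] [Algebra E A] (x : A) (n : ℕ) :
    (x - 1) ^ (2 * p ^ n - 1) = (x ^ (p ^ n) - 1) * ∑ k ∈ Finset.range (p ^ n), x ^ k := by
  have hN : 0 < p ^ n := pow_pos (Fact.out : p.Prime).pos n
  rw [geom_sum_char_pow (E := E) (p := p) x n]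
  have h1 : ((X : E[X]) - 1) ^ (2 * p ^ n - 1)
      = (X ^ (p ^ n) - 1) * (X - 1) ^ (p ^ n - 1) := by
    have e : 2 * p ^ n - 1 = p ^ n + (p ^ n - 1) := by omega
    rw [e, pow_add, sub_pow_char_pow, one_pow]
  have := congrArg (aeval x) h1
  simpa using this

theorem q_eq_two_of_exc {p q n₀ m : ℕ} (hp : p.Prime) (hp2 : p ≠ 2) (hq : q.Prime)
    (hn₀ : 1 ≤ n₀) (hm : 1 ≤ m) (h : p ^ n₀ - 1 = q ^ m) : q = 2 := by
  have hodd : Odd p := hp.odd_of_ne_two hp2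
  have hodd' : Odd (p ^ n₀) := hodd.pow
  have h2 : 2 ∣ q ^ m := by
    rw [← h]
    obtain ⟨k, hk⟩ := hodd'
    exact ⟨k, by omega⟩
  have h3 : 2 ∣ q := Nat.Prime.dvd_of_dvd_pow Nat.prime_two h2
  exact ((Nat.prime_dvd_prime_iff_eq Nat.prime_two hq).mp h3).symm

theorem fermat_of_exc {p n₀ m : ℕ} (hp : p.Prime) (h : p ^ n₀ - 1 = 2 ^ m) :
    ∃ k : ℕ, p = 2 ^ k + 1 := by
  have h1 : p - 1 ∣ p ^ n₀ - 1 := by
    have := Nat.sub_dvd_pow_sub_pow p 1 n₀
    rwa [one_pow] at this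
  rw [h] at h1
  obtain ⟨k, _, hk⟩ := (Nat.dvd_prime_pow Nat.prime_two).mp h1
  refine ⟨k, ?_⟩
  have := hp.pos
  omega

theorem exc_exponent_ge {p n n₀ : ℕ} (hp : 3 ≤ p) (hn₀ : 1 ≤ n₀) (hn : n₀ ≤ n) :
    2 * p ^ (n - 1) - 1 ≤ p ^ (n - n₀) * (p ^ n₀ - 1) - 1 := by
  have hP : 0 < p ^ (n - 1) := pow_pos (by omega) _
  have h1 : p ^ (n - n₀) * p ^ n₀ = p ^ n := by rw [← pow_add]; congr 1; omega
  have h2 : p ^ n = p * p ^ (n - 1) := by rw [← pow_succ']; congr 1; omega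
  have h3 : p ^ (n - n₀) ≤ p ^ (n - 1) := Nat.pow_le_pow_right (by omega) (by omega)
  have h4 : p ^ (n - n₀) * (p ^ n₀ - 1) = p ^ n - p ^ (n - n₀) := by
    rw [Nat.mul_sub, h1, mul_one]
  have h5 : 3 * p ^ (n - 1) ≤ p ^ n := by rw [h2]; exact Nat.mul_le_mul_right _ hp
  rw [h4]
  omega

theorem full_exponent_ge {p n : ℕ} (hp : 3 ≤ p) (hn : 1 ≤ n) :
    2 * p ^ (n - 1) - 1 ≤ p ^ n - 1 := by
  have h2 : p ^ n = p * p ^ (n - 1) := by rw [← pow_succ']; congr 1; omega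
  have h5 : 3 * p ^ (n - 1) ≤ p ^ n := by rw [h2]; exact Nat.mul_le_mul_right _ hp
  omega

/-- Theorem B in a convenient form, over any field of characteristic `p` odd. -/
theorem bridge_lin {F : Type*} [Field F] {p : ℕ} [Fact p.Prime] [CharP F p] (hp2 : p ≠ 2)
    {V : Type*} [AddCommGroup V] [Module F V] [FiniteDimensional F V]
    {Γ : Type*} [Group Γ] (ρ : Γ →* Module.End F V) {q : ℕ} (hq : q.Prime) (hqp : q ≠ p)
    (Q : Subgroup Γ) [Finite Q] (hQ : IsPGroup q Q) (x : Γ)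
    (hx : x ∈ Subgroup.normalizer (Q : Set Γ)) {n : ℕ} (hn : 1 ≤ n) (hxp : ρ x ^ (p ^ n) = 1)
    (hy : ∃ g ∈ Q, ρ (x ^ (p ^ (n - 1)) * g * (x ^ (p ^ (n - 1)))⁻¹) ≠ ρ g) :
    ((ρ x - 1) ^ (p ^ n - 1) ≠ 0 ∨
        (q = 2 ∧ (∃ k : ℕ, p = 2 ^ k + 1) ∧ ∃ a ∈ Q, ∃ b ∈ Q, a * b ≠ b * a)) ∧
      (ρ x - 1) ^ (2 * p ^ (n - 1) - 1) ≠ 0 := by
  have hp : p.Prime := Fact.out
  have hp3 : 3 ≤ p := by
    have := hp.two_le
    omega
  let K := AlgebraicClosure F
  have hcharK : CharP K p := charP_of_injective_algebraMap (algebraMap F K).injective p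
  let W := TensorProduct F K V
  let bc : Module.End F V →ₐ[F] Module.End K W := Module.End.baseChangeHom F K V
  have hbcinj : Function.Injective bc := LinearMap.baseChangeHom_injective F V K
  let ρK : Γ →* Module.End K W := (bc : Module.End F V →* Module.End K W).comp ρ
  have hρK : ∀ g, ρK g = bc (ρ g) := fun g => rfl
  have h1 : ρK x ^ (p ^ n) = 1 := by rw [hρK, ← map_pow, hxp, map_one]
  have h2 : ∃ g ∈ Q, ρK (x ^ (p ^ (n - 1)) * g * (x ^ (p ^ (n - 1)))⁻¹) ≠ ρK g := by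
    obtain ⟨g, hg, hne⟩ := hy
    exact ⟨g, hg, fun h => hne (hbcinj h)⟩
  have e : ρK x - 1 = bc (ρ x - 1) := by
    rw [map_sub, map_one]
    rfl
  have hdown : ∀ k : ℕ, (ρK x - 1) ^ k ≠ 0 → (ρ x - 1) ^ k ≠ 0 := by
    intro k hk h0
    apply hk
    rw [e, ← map_pow, h0, map_zero]
  have hres := hallHigmanC (E := K) (p := p) ρK hq hqp Q hQ x hx hn h1 h2
  rcases hres with h | ⟨⟨a, ha, b, hb, hab⟩, n₀, m, hn1, hn2, hm, heq, hne⟩
  · have h' := hdown _ h
    exact ⟨Or.inl h', pow_ne_zero_of_le' h' (full_exponent_ge hp3 hn)⟩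
  · have hq2 : q = 2 := q_eq_two_of_exc hp hp2 hq hn1 hm heq
    refine ⟨Or.inr ⟨hq2, fermat_of_exc hp (hq2 ▸ heq), a, ha, b, hb, fun h => hab (by rw [h])⟩, ?_⟩
    exact pow_ne_zero_of_le' (hdown _ hne) (exc_exponent_ge hp3 hn1 hn2)

section inst

variable {p : ℕ} [Fact p.Prime] {L : Type*} [Group L] {M : Type*} [CommGroup M] [Finite M]
  [Module (ZMod p) (Additive M)] (ψ : L →* MulAut M)

theorem ofMul_list_prod (x : L) (m : M) (N : ℕ) :
    Additive.ofMul (((List.range N).map (fun i => ψ (x ^ i) m)).prod)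
      = (∑ k ∈ Finset.range N,
          (Cfsg.Agent.Lib.Helper10.FrobAction.actEnd (ℓ := p) ψ x) ^ k) (Additive.ofMul m) := by
  induction N with
  | zero => simp
  | succ N ih =>
    rw [List.range_succ, List.map_append, List.prod_append, ofMul_mul, ih,
      Finset.sum_range_succ, LinearMap.add_apply]
    congr 1
    simp only [List.map_cons, List.map_nil, List.prod_cons, List.prod_nil, mul_one]
    rw [← map_pow]
    rfl

theorem bridge_aux (hp2 : p ≠ 2)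
    {q : ℕ} (hq : q.Prime) (hqp : q ≠ p) (Q : Subgroup L) [Finite Q] (hQ : IsPGroup q Q) (x : L)
    (hx : x ∈ Subgroup.normalizer (Q : Set L)) {n : ℕ} (hn : 1 ≤ n) (hxp : ψ x ^ (p ^ n) = 1)
    (hy : ∃ g ∈ Q, ψ (x ^ (p ^ (n - 1)) * g * (x ^ (p ^ (n - 1)))⁻¹) ≠ ψ g) :
    ((∃ m : M, ((List.range (p ^ n)).map (fun i => ψ (x ^ i) m)).prod ≠ 1) ∨
        (q = 2 ∧ (∃ k : ℕ, p = 2 ^ k + 1) ∧ ∃ a ∈ Q, ∃ b ∈ Q, a * b ≠ b * a)) ∧
      ∃ m : M, ψ (x ^ (p ^ (n - 1))) (((List.range (p ^ (n - 1))).map (fun i => ψ (x ^ i) m)).prod)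
        ≠ ((List.range (p ^ (n - 1))).map (fun i => ψ (x ^ i) m)).prod := by
  classical
  have hp : p.Prime := Fact.out
  have hfinV : Finite (Additive M) := Finite.of_equiv M Additive.ofMul
  have hfd : Module.Finite (ZMod p) (Additive M) := Module.Finite.of_finite
  let ρ : L →* Module.End (ZMod p) (Additive M) := Cfsg.Agent.Lib.Helper10.FrobAction.actEnd ψ
  have hρ : ∀ g v, ρ g v = Additive.ofMul (ψ g (Additive.toMul v)) := fun g v => rfl
  have hρinj : ∀ a b, ρ a = ρ b → ψ a = ψ b := by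
    intro a b h
    ext m
    have := LinearMap.congr_fun h (Additive.ofMul m)
    rw [hρ, hρ] at this
    exact congrArg Additive.toMul this
  have hρxp : ρ x ^ (p ^ n) = 1 := by
    rw [← map_pow]
    apply LinearMap.ext
    intro v
    rw [hρ, map_pow, hxp]
    rfl
  have hy' : ∃ g ∈ Q, ρ (x ^ (p ^ (n - 1)) * g * (x ^ (p ^ (n - 1)))⁻¹) ≠ ρ g := by
    obtain ⟨g, hg, hne⟩ := hy
    exact ⟨g, hg, fun h => hne (hρinj _ _ h)⟩
  obtain ⟨hA, hB⟩ := bridge_lin (F := ZMod p) (p := p) hp2 ρ hq hqp Q hQ x hx hn hρxp hy'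
  constructor
  · rcases hA with hA | hA
    · left
      rw [← geom_sum_char_pow (E := ZMod p) (p := p) (ρ x) n] at hA
      obtain ⟨v, hv⟩ : ∃ v, (∑ k ∈ Finset.range (p ^ n), ρ x ^ k) v ≠ 0 := by
        by_contra hcon
        push Not at hcon
        apply hA
        apply LinearMap.ext
        intro v
        rw [hcon v]
        rfl
      refine ⟨Additive.toMul v, fun h => hv ?_⟩
      have := ofMul_list_prod (p := p) ψ x (Additive.toMul v) (p ^ n)
      rw [h] at this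
      exact this.symm
    · right
      exact hA
  · rw [sub_one_pow_two_mul (E := ZMod p) (p := p) (ρ x) (n - 1)] at hB
    obtain ⟨v, hv⟩ : ∃ v, ((ρ x ^ (p ^ (n - 1)) - 1) *
        ∑ k ∈ Finset.range (p ^ (n - 1)), ρ x ^ k) v ≠ 0 := by
      by_contra hcon
      push Not at hcon
      apply hB
      apply LinearMap.ext
      intro v
      rw [hcon v]
      rfl
    refine ⟨Additive.toMul v, fun h => hv ?_⟩
    have h1 := ofMul_list_prod (p := p) ψ x (Additive.toMul v) (p ^ (n - 1))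
    rw [Module.End.mul_apply, LinearMap.sub_apply, Module.End.one_apply, sub_eq_zero]
    have h2 : (∑ k ∈ Finset.range (p ^ (n - 1)), ρ x ^ k) v
        = Additive.ofMul (((List.range (p ^ (n - 1))).map
          (fun i => ψ (x ^ i) (Additive.toMul v))).prod) := h1.symm
    rw [h2, ← map_pow, hρ]
    exact congrArg Additive.ofMul h

end inst

/-- the bridge, without instance arguments. -/
theorem bridge {p : ℕ} [Fact p.Prime] (hp2 : p ≠ 2)
    {L : Type*} [Group L] {M : Type*} [Group M] [Finite M]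
    (hcomm : ∀ a b : M, a * b = b * a) (hexp : ∀ a : M, a ^ p = 1) (ψ : L →* MulAut M)
    {q : ℕ} (hq : q.Prime) (hqp : q ≠ p) (Q : Subgroup L) [Finite Q] (hQ : IsPGroup q Q) (x : L)
    (hx : x ∈ Subgroup.normalizer (Q : Set L)) {n : ℕ} (hn : 1 ≤ n) (hxp : ψ x ^ (p ^ n) = 1)
    (hy : ∃ g ∈ Q, ψ (x ^ (p ^ (n - 1)) * g * (x ^ (p ^ (n - 1)))⁻¹) ≠ ψ g) :
    ((∃ m : M, ((List.range (p ^ n)).map (fun i => ψ (x ^ i) m)).prod ≠ 1) ∨
        (q = 2 ∧ (∃ k : ℕ, p = 2 ^ k + 1) ∧ ∃ a ∈ Q, ∃ b ∈ Q, a * b ≠ b * a)) ∧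
      ∃ m : M, ψ (x ^ (p ^ (n - 1))) (((List.range (p ^ (n - 1))).map (fun i => ψ (x ^ i) m)).prod)
        ≠ ((List.range (p ^ (n - 1))).map (fun i => ψ (x ^ i) m)).prod := by
  let iC : CommGroup M := { (inferInstance : Group M) with mul_comm := hcomm }
  let iM : @Module (ZMod p) (Additive M) _
      (@AddCommGroup.toAddCommMonoid _ (@Additive.addCommGroup _ iC)) :=
    @AddCommGroup.zmodModule p (Additive M) (@Additive.addCommGroup _ iC) (by
      intro x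
      show Additive.ofMul ((Additive.toMul x) ^ p) = 0
      rw [hexp]
      rfl)
  exact @bridge_aux p _ L _ M iC _ iM ψ hp2 q hq hqp Q _ hQ x hx n hn hxp hy

end Cfsg.Agent.Lib.Helper23.PL
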