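import Cfsg.Agent.Lib.Helper23.PLGrp
import Cfsg.Agent.Lib.Helper1.ClassTwo

/-!
# Minimal invariant subgroups not centralized by a coprime normal subgroup

The Hall–Higman reduction: a minimal `W`-invariant `p`-subgroup `S₀` not centralized by the normal
`p'`-subgroup `N` of `W` satisfies `[S₀, N] = S₀`, its proper invariant normal subgroups are central,
and (for odd `p`) it has exponent `p`.
-/

set_option autoImplicit false

namespace Cfsg.Agent.Lib.Helper23.PL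

open scoped commutatorElement
open Subgroup
open Cfsg.Agent.Lib.Helper1 (CoprimeAct)

universe u
variable {G : Type u} [Group G]

theorem commutator_eq_of_minimal [Finite G] {W N S₀ : Subgroup G}
    (hWS : W ≤ normalizer (S₀ : Set G)) (hWN : W ≤ normalizer (N : Set G))
    (hact : CoprimeAct N S₀) (hnc : ¬ N ≤ centralizer (S₀ : Set G))
    (hmin : ∀ S : Subgroup G, S ≤ S₀ → W ≤ normalizer (S : Set G) →
      ¬ N ≤ centralizer (S : Set G) → S₀ ≤ S) :
    ⁅S₀, N⁆ = S₀ := by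
  have hle : ⁅S₀, N⁆ ≤ S₀ := Cfsg.Agent.Lib.Helper1.commutator_le_of_le_normalizer hact.norm
  have hT : W ≤ normalizer ((⁅S₀, N⁆ : Subgroup G) : Set G) :=
    fun t ht => mem_normalizer_commutator (hWS ht) (hWN ht)
  by_cases hc : N ≤ centralizer ((⁅S₀, N⁆ : Subgroup G) : Set G)
  · exfalso
    have h1 : ⁅⁅S₀, N⁆, N⁆ = ⊥ := by
      rw [commutator_eq_bot_iff_le_centralizer, le_centralizer_iff]; exact hc
    rw [hact.commutator_commutator_eq, commutator_eq_bot_iff_le_centralizer,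
      le_centralizer_iff] at h1
    exact hnc h1
  · exact le_antisymm hle (hmin _ hle hT hc)

theorem le_centralizer_of_minimal [Finite G] {W N S₀ : Subgroup G}
    (hWS : W ≤ normalizer (S₀ : Set G)) (hWN : W ≤ normalizer (N : Set G))
    (hact : CoprimeAct N S₀) (hnc : ¬ N ≤ centralizer (S₀ : Set G))
    (hmin : ∀ S : Subgroup G, S ≤ S₀ → W ≤ normalizer (S : Set G) →
      ¬ N ≤ centralizer (S : Set G) → S₀ ≤ S)
    {S : Subgroup G} (hS : S ≤ S₀) (hWS' : W ≤ normalizer (S : Set G))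
    (hS₀S : S₀ ≤ normalizer (S : Set G)) (hne : ¬ S₀ ≤ S) :
    N ≤ centralizer (S : Set G) ∧ S₀ ≤ centralizer (S : Set G) := by
  have hNS : N ≤ centralizer (S : Set G) := by
    by_contra hc
    exact hne (hmin S hS hWS' hc)
  refine ⟨hNS, ?_⟩
  have hcomm_eq := commutator_eq_of_minimal hWS hWN hact hnc hmin
  have h3 : ⁅⁅S₀, N⁆, S⁆ = ⊥ := by
    apply commutator_commutator_eq_bot_of_rotate
    · have h4 : ⁅N, S⁆ = ⊥ := commutator_eq_bot_iff_le_centralizer.mpr hNS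
      rw [h4, commutator_bot_left]
    · have h4 : ⁅S, S₀⁆ ≤ S := Cfsg.Agent.Lib.Helper1.commutator_le_of_le_normalizer hS₀S
      rw [eq_bot_iff]
      calc ⁅⁅S, S₀⁆, N⁆ ≤ ⁅S, N⁆ := commutator_mono h4 le_rfl
        _ = ⊥ := commutator_eq_bot_iff_le_centralizer.mpr (le_centralizer_iff.mp hNS)
  rw [hcomm_eq, commutator_eq_bot_iff_le_centralizer] at h3
  exact h3

/-- the minimal subgroup has exponent `p` (`p` odd). -/
theorem exp_of_minimal [Finite G] {p : ℕ} [Fact p.Prime] (hp2 : p ≠ 2) {W N S₀ : Subgroup G}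
    (hS₀ : IsPGroup p S₀)
    (hWS : W ≤ normalizer (S₀ : Set G)) (hWN : W ≤ normalizer (N : Set G))
    (hact : CoprimeAct N S₀) (hnc : ¬ N ≤ centralizer (S₀ : Set G))
    (hmin : ∀ S : Subgroup G, S ≤ S₀ → W ≤ normalizer (S : Set G) →
      ¬ N ≤ centralizer (S : Set G) → S₀ ≤ S) :
    ∀ s ∈ S₀, s ^ p = 1 := by
  classical
  have hp : p.Prime := Fact.out
  have hp3 : 2 < p := lt_of_le_of_ne hp.two_le (Ne.symm hp2)
  have hcomm_eq := commutator_eq_of_minimal hWS hWN hact hnc hmin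
  have hS₀ne : S₀ ≠ ⊥ := by
    intro hbot
    apply hnc
    rw [hbot]
    intro y _
    rw [mem_centralizer_iff]
    intro w hw
    rw [SetLike.mem_coe, mem_bot] at hw
    rw [hw]; simp
  -- the Frattini subgroup
  have hΦle : (frattini ↥S₀).map S₀.subtype ≤ S₀ := map_subtype_le _
  have hΦnorm := Cfsg.Agent.Lib.Helper1.normalizer_le_normalizer_map_of_characteristic S₀
    (frattini ↥S₀)
  have hΦne : ¬ S₀ ≤ (frattini ↥S₀).map S₀.subtype := by
    intro hle
    haveI : Nontrivial S₀ := (nontrivial_iff_ne_bot S₀).mpr hS₀ne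
    have htop : frattini ↥S₀ = ⊤ := by
      rw [eq_top_iff]
      intro y _
      obtain ⟨y', hy', hyy⟩ := hle y.2
      have : y' = y := Subtype.ext hyy
      rw [← this]; exact hy'
    rcases eq_top_or_exists_le_coatom (⊥ : Subgroup ↥S₀) with h | ⟨M, hM, -⟩
    · exact bot_ne_top h
    · have := frattini_le_coatom hM
      rw [htop] at this
      exact hM.1 (eq_top_iff.mpr this)
  obtain ⟨hNΦ, hSΦ⟩ := le_centralizer_of_minimal hWS hWN hact hnc hmin hΦle
    (hWS.trans hΦnorm) (le_normalizer.trans hΦnorm) hΦne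
  have hcommΦ : ∀ s ∈ S₀, ∀ t ∈ S₀, ⁅s, t⁆ ∈ (frattini ↥S₀).map S₀.subtype := by
    intro s hs t ht
    have h1 : ⁅(⟨s, hs⟩ : ↥S₀), ⟨t, ht⟩⁆ ∈ frattini ↥S₀ :=
      Cfsg.Agent.Lib.Helper1.IsPGroup.commutator_le_frattini hS₀
        (commutator_mem_commutator (mem_top _) (mem_top _))
    exact ⟨_, h1, rfl⟩
  have hpowΦ : ∀ s ∈ S₀, s ^ p ∈ (frattini ↥S₀).map S₀.subtype := by
    intro s hs
    have h1 : (⟨s, hs⟩ : ↥S₀) ^ p ∈ frattini ↥S₀ :=
      Cfsg.Agent.Lib.Helper1.IsPGroup.pow_mem_frattini hS₀ _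
    exact ⟨_, h1, rfl⟩
  -- the `p`-th power map is multiplicative on `S₀`
  have hmulpow : ∀ x ∈ S₀, ∀ y ∈ S₀, (x * y) ^ p = x ^ p * y ^ p := by
    intro x hx y hy
    have hc := hcommΦ y hy x hx
    have hcx : ⁅y, x⁆ * x = x * ⁅y, x⁆ := (mem_centralizer_iff.mp (hSΦ hx) _ hc)
    have hcy : ⁅y, x⁆ * y = y * ⁅y, x⁆ := (mem_centralizer_iff.mp (hSΦ hy) _ hc)
    have hcp : ⁅y, x⁆ ^ p = 1 := by
      rw [← Cfsg.Agent.Lib.Helper1.commutatorElement_pow_left hcy p,
        commutatorElement_eq_one_iff_commute]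
      exact (mem_centralizer_iff.mp (hSΦ hx) _ (hpowΦ y hy))
    rw [Cfsg.Agent.Lib.Helper1.mul_pow_of_commutator_central hcx hcy p]
    obtain ⟨k, hk⟩ := hp.dvd_choose_self (by norm_num : (2 : ℕ) ≠ 0) hp3
    rw [hk, pow_mul, hcp, one_pow, mul_one]
  -- the subgroup of elements of order dividing `p`
  let E : Subgroup G :=
    { carrier := {x | x ∈ S₀ ∧ x ^ p = 1}
      one_mem' := ⟨one_mem _, one_pow p⟩
      mul_mem' := by
        rintro a b ⟨ha, hap⟩ ⟨hb, hbp⟩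
        exact ⟨mul_mem ha hb, by rw [hmulpow a ha b hb, hap, hbp, one_mul]⟩
      inv_mem' := by
        rintro a ⟨ha, hap⟩
        exact ⟨inv_mem ha, by rw [inv_pow, hap, inv_one]⟩ }
  have hE : ⁅S₀, N⁆ ≤ E := by
    rw [commutator_le]
    intro s hs ν hν
    have h1 : ν * s⁻¹ * ν⁻¹ ∈ S₀ := (mem_normalizer_iff.mp (hact.norm hν) _).mp (inv_mem hs)
    have e : ⁅s, ν⁆ = s * (ν * s⁻¹ * ν⁻¹) := by rw [commutatorElement_def]; group
    refine ⟨by rw [e]; exact mul_mem hs h1, ?_⟩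
    rw [e, hmulpow s hs _ h1, conj_pow, inv_pow]
    have h2 : ν * (s ^ p)⁻¹ * ν⁻¹ = (s ^ p)⁻¹ := by
      have h3 := mem_centralizer_iff.mp (hNΦ hν) _ (inv_mem (hpowΦ s hs))
      rw [← h3]; group
    rw [h2, mul_inv_cancel]
  intro s hs
  have : s ∈ E := hE (by rw [hcomm_eq]; exact hs)
  exact this.2

end Cfsg.Agent.Lib.Helper23.PL
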