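import Cfsg.Agent.Lib.Helper23.PLBridge
import Cfsg.Agent.Lib.Helper23.HBGroup
import Cfsg.Agent.Lib.Helper20.HHAbelLen

/-!
# Exceptional elements

Let `R` be a normal `p`-subgroup of `G` such that `G / R` acts faithfully on the Frattini quotient
of `R`, and suppose all `p`-elements of `G` have order dividing `p ^ (n + 1)`.  If a `p`-element
`xb` of `G / R` normalizes a `q`-subgroup `Q` (`q ≠ p`) which is not centralized by
`xb ^ (p ^ n)`, then `q = 2`, `p` is a Fermat prime and `Q` is nonabelian.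
-/

set_option autoImplicit false

namespace Cfsg.Agent.Lib.Helper23.PL

open Cfsg Subgroup Cfsg.Agent.Lib.Helper20.HHAbel

universe u

variable {G : Type u} [Group G] [Finite G] {p : ℕ} [Fact p.Prime]

theorem exceptional_or (hp2 : p ≠ 2) (R : Subgroup G) [R.Normal] (hRp : IsPGroup p R)
    (hker : (frat R).ker ≤ R) (n : ℕ)
    (hexp : ∀ x : G, (∃ j, x ^ p ^ j = 1) → x ^ p ^ (n + 1) = 1)
    (xb : G ⧸ R) (hxb : ∃ j, xb ^ p ^ j = 1) {q : ℕ} (hq : q.Prime) (hqp : q ≠ p)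
    (Q : Subgroup (G ⧸ R)) (hQ : IsPGroup q Q) (hxQ : xb ∈ normalizer (Q : Set (G ⧸ R)))
    (hy : ∃ g ∈ Q, xb ^ (p ^ n) * g * (xb ^ (p ^ n))⁻¹ ≠ g) :
    q = 2 ∧ (∃ k : ℕ, p = 2 ^ k + 1) ∧ ∃ a ∈ Q, ∃ b ∈ Q, a * b ≠ b * a := by
  classical
  have hp : p.Prime := Fact.out
  -- a lift of `xb`, automatically a `p`-element
  obtain ⟨x, rfl⟩ := QuotientGroup.mk'_surjective R xb
  have hxp : ∃ j, x ^ p ^ j = 1 := by
    obtain ⟨j, hj⟩ := hxb
    have h1 : x ^ p ^ j ∈ R := by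
      rw [← map_pow] at hj
      exact (QuotientGroup.eq_one_iff _).mp hj
    obtain ⟨k, hk⟩ := hRp ⟨_, h1⟩
    refine ⟨j + k, ?_⟩
    rw [pow_add, pow_mul]
    simpa using congrArg Subtype.val hk
  have hxk : x ^ p ^ (n + 1) = 1 := hexp x hxp
  -- the Frattini quotient
  have hVcommI : IsMulCommutative (↥R ⧸ frattini ↥R) :=
    (Subgroup.Normal.quotient_commutative_iff_commutator_le).mpr
      (Cfsg.Agent.Lib.Helper1.IsPGroup.commutator_le_frattini hRp)
  have hVcomm : ∀ a b : ↥R ⧸ frattini ↥R, a * b = b * a :=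
    fun a b => hVcommI.is_comm.comm a b
  have hVexp : ∀ a : ↥R ⧸ frattini ↥R, a ^ p = 1 := by
    intro a
    obtain ⟨r, rfl⟩ := QuotientGroup.mk_surjective a
    rw [← QuotientGroup.mk_pow, QuotientGroup.eq_one_iff]
    exact Cfsg.Agent.Lib.Helper1.IsPGroup.pow_mem_frattini hRp r
  have hRker : R ≤ (frat R).ker := by
    intro r hr
    rw [MonoidHom.mem_ker]
    ext v
    obtain ⟨s, rfl⟩ := QuotientGroup.mk_surjective v
    rw [frat_mk, MulAut.one_apply]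
    have e : (MulAut.conjNormal r s : ↥R) = (⟨r, hr⟩ : ↥R) * s * (⟨r, hr⟩ : ↥R)⁻¹ := by
      apply Subtype.ext; simp [MulAut.conjNormal_apply]
    rw [e, QuotientGroup.mk_mul, QuotientGroup.mk_mul, QuotientGroup.mk_inv,
      hVcomm (QuotientGroup.mk ⟨r, hr⟩) (QuotientGroup.mk s), mul_inv_cancel_right]
  obtain ⟨ψb, hψb_mk⟩ : ∃ ψb : G ⧸ R →* MulAut (↥R ⧸ frattini ↥R),
      ∀ g : G, ψb (QuotientGroup.mk' R g) = frat R g :=
    ⟨QuotientGroup.lift R (frat R) hRker, fun g => QuotientGroup.lift_mk R hRker g⟩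
  have hψbinj : Function.Injective ψb := by
    rw [injective_iff_map_eq_one]
    intro a ha
    obtain ⟨g, rfl⟩ := QuotientGroup.mk'_surjective R a
    rw [hψb_mk] at ha
    exact (QuotientGroup.eq_one_iff g).mpr (hker (MonoidHom.mem_ker.mpr ha))
  haveI : Finite Q := inferInstance
  have hbr := bridge hp2 hVcomm hVexp ψb hq hqp Q hQ (QuotientGroup.mk' R x) hxQ
    (Nat.succ_le_succ (Nat.zero_le n))
    (by rw [← map_pow, ← map_pow, hxk, map_one, map_one])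
    (by
      obtain ⟨g, hg, hne⟩ := hy
      refine ⟨g, hg, fun h => hne (hψbinj ?_)⟩
      simpa using h)
  rcases hbr.1 with ⟨m, hm⟩ | h
  · exfalso
    apply hm
    obtain ⟨r, rfl⟩ := QuotientGroup.mk_surjective m
    have hrzp : ∃ j, ((r : G) * x) ^ p ^ j = 1 := by
      have h1 : ((r : G) * x) ^ p ^ (n + 1) ∈ R := by
        rw [← QuotientGroup.eq_one_iff, QuotientGroup.mk_pow, QuotientGroup.mk_mul,
          (QuotientGroup.eq_one_iff (r : G)).mpr r.2, one_mul, ← QuotientGroup.mk_pow, hxk]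
        rfl
      obtain ⟨j, hj⟩ := hRp ⟨_, h1⟩
      refine ⟨n + 1 + j, ?_⟩
      rw [pow_add, pow_mul]
      simpa using congrArg Subtype.val hj
    have hrzk : ((r : G) * x) ^ p ^ (n + 1) = 1 := hexp _ hrzp
    have hP := pow_mul_eq R x r (p ^ (n + 1))
    rw [hrzk, hxk, mul_one] at hP
    have hP' : ((List.range (p ^ (n + 1))).map (fun i => MulAut.conjNormal (x ^ i) r)).prod
        = 1 := by
      apply Subtype.ext; rw [← hP]; rfl
    have hfun : (fun i => ψb ((QuotientGroup.mk' R x) ^ i) (QuotientGroup.mk r)) =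
        (fun i => frat R (x ^ i) (QuotientGroup.mk r)) := by
      funext i
      rw [← map_pow, hψb_mk]
    rw [hfun, mk_list_prod, hP']
    rfl
  · exact h

/-- an exceptional element centralizes, with its `p ^ n`-th power, the invariant `q`-subgroups
for odd `q` and the invariant abelian `2`-subgroups. -/
theorem centralizes_of_exceptional (hp2 : p ≠ 2) (R : Subgroup G) [R.Normal] (hRp : IsPGroup p R)
    (hker : (frat R).ker ≤ R) (n : ℕ)
    (hexp : ∀ x : G, (∃ j, x ^ p ^ j = 1) → x ^ p ^ (n + 1) = 1)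
    (xb : G ⧸ R) (hxb : ∃ j, xb ^ p ^ j = 1) {q : ℕ} (hq : q.Prime) (hqp : q ≠ p)
    (Q : Subgroup (G ⧸ R)) (hQ : IsPGroup q Q) (hxQ : xb ∈ normalizer (Q : Set (G ⧸ R)))
    (hgood : q ≠ 2 ∨ ∀ a ∈ Q, ∀ b ∈ Q, a * b = b * a) :
    ∀ g ∈ Q, xb ^ (p ^ n) * g * (xb ^ (p ^ n))⁻¹ = g := by
  intro g hg
  by_contra hne
  obtain ⟨h2, -, a, ha, b, hb, hab⟩ :=
    exceptional_or hp2 R hRp hker n hexp xb hxb hq hqp Q hQ hxQ ⟨g, hg, hne⟩
  rcases hgood with h | h
  · exact h h2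
  · exact hab (h a ha b hb)

/-- part (A): under the Fermat/abelian Sylow `2` condition the exponent drops modulo `O_p`. -/
theorem pow_mem_pCore_of_cond (hp2 : p ≠ 2) (hsol : IsPSolvable p G) (hO : pPrimeCore p G = ⊥)
    (hcond : (¬ ∃ k : ℕ, p = 2 ^ k + 1) ∨
      ∀ S : Sylow 2 G, ∀ a ∈ (S : Subgroup G), ∀ b ∈ (S : Subgroup G), a * b = b * a)
    (n : ℕ) (hexp : ∀ x : G, (∃ j, x ^ p ^ j = 1) → x ^ p ^ (n + 1) = 1)
    (x : G) (hx : ∃ j, x ^ p ^ j = 1) : x ^ p ^ n ∈ pCore p G := by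
  classical
  by_contra hy
  have hp : p.Prime := Fact.out
  obtain ⟨xb, hxb⟩ : ∃ xb : G ⧸ pCore p G, xb = QuotientGroup.mk' (pCore p G) x := ⟨_, rfl⟩
  have hyb1 : xb ^ p ^ n ≠ 1 := by
    intro h
    apply hy
    rw [hxb, ← map_pow] at h
    exact (QuotientGroup.eq_one_iff _).mp h
  have hxbpow : xb ^ p ^ (n + 1) = 1 := by
    rw [hxb, ← map_pow, hexp x hx, map_one]
  have hord : orderOf xb = p ^ (n + 1) := orderOf_eq_prime_pow hyb1 hxbpow
  have hsolb : IsPSolvable p (G ⧸ pCore p G) := Cfsg.H5.isPSolvable_quotient (pCore p G) hsol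
  obtain ⟨q, Q, hq, hqp, hQ, hxQ, g, hg, hgy⟩ :=
    Cfsg.Agent.Lib.Helper23.HB.exists_invariant_qsubgroup hsolb pCore_quot_eq_bot xb
      (Nat.succ_le_succ (Nat.zero_le n)) hord
  rw [Nat.succ_sub_one] at hgy
  obtain ⟨h2, hfer, a, ha, b, hb, hab⟩ :=
    exceptional_or hp2 (pCore p G) (Cfsg.H5.pCore_isPGroup p G) (frat_ker_le hsol hO) n hexp xb
      ⟨n + 1, hxbpow⟩ hq hqp Q hQ hxQ ⟨g, hg, hgy⟩
  rcases hcond with h | h
  · exact h hfer
  · subst h2
    haveI : Fact (Nat.Prime 2) := ⟨Nat.prime_two⟩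
    exact hab (comm_of_isPGroup_quotient (pCore p G) h Q hQ a ha b hb)

end Cfsg.Agent.Lib.Helper23.PL
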