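import Cfsg.Agent.Lib.Helper23.PLQ
import Cfsg.Agent.Lib.Helper23.PLMin
import Cfsg.Agent.Lib.Helper23.PLRaise

/-!
# The two-step exponent drop: `x ^ p ^ n ∈ O_{p,p',p}(H)`
-/

set_option autoImplicit false

namespace Cfsg.Agent.Lib.Helper23.PL

open scoped commutatorElement Pointwise
open Subgroup Cfsg
open Cfsg.Agent.Lib.Helper1 (CoprimeAct)
open Cfsg.Agent.Lib.Helper20.HHAbel

universe u
variable {G : Type u} [Group G]

/-- a `p'`-element acting trivially on the Frattini quotient of a normal `p`-subgroup centralizes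
it. -/
theorem ker_frat_centralizes [Finite G] {p : ℕ} [Fact p.Prime] (R : Subgroup G) [R.Normal]
    (hRp : IsPGroup p R) {a : G} (ha : a ∈ (frat R).ker) (hcop : (orderOf a).Coprime p) :
    a ∈ centralizer (R : Set G) := by
  have hA : zpowers a ≤ centralizer (R : Set G) := by
    apply Cfsg.Agent.Lib.Helper1.le_centralizer_of_commutator_le_frattini (zpowers a) R
    · rw [Subgroup.normalizer_eq_top]; exact le_top
    · rw [Nat.card_zpowers]
      obtain ⟨j, hj⟩ := (IsPGroup.iff_card).mp (hRp.to_subgroup (frattini ↥R))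
      rw [hj]; exact Nat.Coprime.pow_right j hcop
    · intro b hb k hk
      have hbker : b ∈ (frat R).ker := (zpowers_le.mpr ha) hb
      have h1 : frat R b (QuotientGroup.mk ⟨k, hk⟩) = QuotientGroup.mk ⟨k, hk⟩ := by
        rw [MonoidHom.mem_ker.mp hbker]; rfl
      rw [frat_mk, QuotientGroup.eq_iff_div_mem] at h1
      refine ⟨_, h1, ?_⟩
      simp [MulAut.conjNormal_apply, div_eq_mul_inv]
  exact hA (mem_zpowers a)

/-- Frattini argument: a `q`-subgroup `Qb` of `G ⧸ N` normalized by the image of `x₁` lifts to a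
`q`-subgroup `P` of `G` normalized by an element of `N x₁`. -/
theorem exists_normalizing_lift [Finite G] {q : ℕ} [Fact q.Prime]
    (N : Subgroup G) [N.Normal] (Qb : Subgroup (G ⧸ N)) (hQb : IsPGroup q Qb) (x₁ : G)
    (hy : QuotientGroup.mk' N x₁ ∈ normalizer (Qb : Set (G ⧸ N))) :
    ∃ (P : Subgroup G) (g₁ : G), IsPGroup q P ∧ g₁ ∈ normalizer (P : Set G) ∧
      QuotientGroup.mk' N g₁ = QuotientGroup.mk' N x₁ ∧
      ∀ hb ∈ Qb, ∃ h ∈ P, QuotientGroup.mk' N h = hb := by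
  classical
  obtain ⟨L, hL⟩ : ∃ L : Subgroup G, L = Qb.comap (QuotientGroup.mk' N) := ⟨_, rfl⟩
  have hf : Function.Surjective ((QuotientGroup.mk' N).subgroupComap Qb) :=
    (QuotientGroup.mk' N).subgroupComap_surjective_of_surjective Qb
      (QuotientGroup.mk'_surjective N)
  obtain ⟨Pb, hPb⟩ := (hQb.to_subgroup (⊤ : Subgroup ↥Qb)).exists_le_sylow
  obtain ⟨P', hP'⟩ := Sylow.mapSurjective_surjective hf q Pb
  have hmap : (Pb : Subgroup ↥Qb) =
      (P' : Subgroup ↥(Qb.comap (QuotientGroup.mk' N))).map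
        ((QuotientGroup.mk' N).subgroupComap Qb) := by
    rw [← hP']; rfl
  have hlift : ∀ hb ∈ Qb, ∃ h' ∈ (P' : Subgroup ↥(Qb.comap (QuotientGroup.mk' N))),
      QuotientGroup.mk' N (h' : G) = hb := by
    intro hb hhb
    have h1 : (⟨hb, hhb⟩ : ↥Qb) ∈ (Pb : Subgroup ↥Qb) := hPb (mem_top _)
    rw [hmap] at h1
    obtain ⟨h', hh', hh'e⟩ := h1
    exact ⟨h', hh', congrArg Subtype.val hh'e⟩
  obtain ⟨PG, hPG⟩ : ∃ PG : Subgroup G, PG =
    (P' : Subgroup ↥(Qb.comap (QuotientGroup.mk' N))).map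
      (Qb.comap (QuotientGroup.mk' N)).subtype := ⟨_, rfl⟩
  have hPGle : PG ≤ Qb.comap (QuotientGroup.mk' N) := by rw [hPG]; exact map_subtype_le _
  have hcard : Nat.card PG =
      q ^ (Nat.card ↥(Qb.comap (QuotientGroup.mk' N))).factorization q := by
    rw [hPG]; exact (Cfsg.Agent.Lib.Helper1.SylSet.ofSylow P').2.2
  have hx₁L : x₁ ∈ normalizer ((Qb.comap (QuotientGroup.mk' N) : Subgroup G) : Set G) := by
    apply mem_normalizer_fintype
    intro l hl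
    rw [SetLike.mem_coe, mem_comap] at hl ⊢
    rw [map_mul, map_mul, map_inv]
    exact (mem_normalizer_iff.mp hy _).mp hl
  obtain ⟨l, hl, hlP⟩ := Cfsg.Agent.Lib.Helper1.exists_conj_eq_of_sylSet
    (⟨PG, hPGle, hcard⟩ : Cfsg.Agent.Lib.Helper1.SylSet q (Qb.comap (QuotientGroup.mk' N)))
    ⟨MulAut.conj x₁ • PG, Cfsg.Agent.Lib.Helper1.conj_smul_le_of_mem_normalizer hx₁L hPGle, by
      rw [Cfsg.Agent.Lib.Helper1.card_conj_smul]; exact hcard⟩
  change MulAut.conj l • PG = MulAut.conj x₁ • PG at hlP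
  obtain ⟨h', hh', hh'e⟩ := hlift (QuotientGroup.mk' N l) (mem_comap.mp hl)
  have hh'P : (h' : G) ∈ PG := by rw [hPG]; exact ⟨h', hh', rfl⟩
  have hsN : l * (h' : G)⁻¹ ∈ N := by
    rw [← QuotientGroup.eq_one_iff, ← QuotientGroup.mk'_apply, map_mul, map_inv, hh'e,
      mul_inv_cancel]
  have hfix : MulAut.conj (h' : G) • PG = PG :=
    Cfsg.Agent.Lib.Helper1.conj_smul_eq_self_iff_mem_normalizer.mpr (le_normalizer hh'P)
  have hsP : MulAut.conj (l * (h' : G)⁻¹) • PG = MulAut.conj x₁ • PG := by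
    rw [← hlP]
    conv_lhs => rw [← hfix]
    rw [← mul_smul, ← map_mul, inv_mul_cancel_right]
  refine ⟨PG, (l * (h' : G)⁻¹)⁻¹ * x₁, ?_, ?_, ?_, ?_⟩
  · rw [hPG]; exact P'.2.map _
  · apply Cfsg.Agent.Lib.Helper1.conj_smul_eq_self_iff_mem_normalizer.mp
    rw [map_mul, mul_smul, ← hsP, ← mul_smul, ← map_mul, inv_mul_cancel, map_one, one_smul]
  · have h1 : QuotientGroup.mk' N (l * (h' : G)⁻¹) = 1 := (QuotientGroup.eq_one_iff _).mpr hsN
    rw [map_mul, map_inv, h1, inv_one, one_mul]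
  · intro hb hhb
    obtain ⟨h'', hh'', hh''e⟩ := hlift hb hhb
    exact ⟨(h'' : G), by rw [hPG]; exact ⟨h'', hh'', rfl⟩, hh''e⟩

/-- **Downstairs.** In a `p`-solvable group with `O_{p'} = 1` and `p`-exponent `p ^ (n + 1)`, a
`p`-element `x₁` with `x₁ ^ p ^ n ∉ O_p` gives a subgroup `S₀ ≤ O_p` of exponent `p`, a
`p`-element `g₁` normalizing it and `s ∈ S₀` such that the `p ^ n`-th powers of `g₁` and `s g₁`
do not commute. -/
theorem exists_noncommuting_pows [Finite G] {p : ℕ} [Fact p.Prime] (hp2 : p ≠ 2)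
    (hsol : IsPSolvable p G) (hO : pPrimeCore p G = ⊥) (n : ℕ)
    (hexp : ∀ x : G, (∃ j, x ^ p ^ j = 1) → x ^ p ^ (n + 1) = 1)
    (x₁ : G) (hx₁ : ∃ j, x₁ ^ p ^ j = 1) (hx₁n : x₁ ^ p ^ n ∉ pCore p G) :
    ∃ (S₀ : Subgroup G) (g₁ s : G), S₀ ≤ pCore p G ∧ g₁ ∈ normalizer (S₀ : Set G) ∧
      (∃ j, g₁ ^ p ^ j = 1) ∧ (∀ t ∈ S₀, t ^ p = 1) ∧ s ∈ S₀ ∧
      g₁ ^ p ^ n * (s * g₁) ^ p ^ n ≠ (s * g₁) ^ p ^ n * g₁ ^ p ^ n := by
  classical
  have hp : p.Prime := Fact.out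
  have hS1p : IsPGroup p (pCore p G) := Cfsg.H5.pCore_isPGroup p G
  obtain ⟨y, hy⟩ : ∃ y : G ⧸ pCore p G, y = QuotientGroup.mk' (pCore p G) x₁ := ⟨_, rfl⟩
  have hy1 : y ^ p ^ n ≠ 1 := by
    intro h
    apply hx₁n
    rw [hy, ← map_pow] at h
    exact (QuotientGroup.eq_one_iff _).mp h
  have hyp : y ^ p ^ (n + 1) = 1 := by
    rw [hy, ← map_pow, hexp x₁ hx₁, map_one]
  have hord : orderOf y = p ^ (n + 1) := orderOf_eq_prime_pow hy1 hyp
  have hsolb : IsPSolvable p (G ⧸ pCore p G) := Cfsg.H5.isPSolvable_quotient (pCore p G) hsol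
  obtain ⟨q, Qb, hq, hqp, hQb, hyQ, gh, hgh, hne⟩ :=
    Cfsg.Agent.Lib.Helper23.HB.exists_invariant_qsubgroup hsolb pCore_quot_eq_bot y
      (Nat.succ_le_succ (Nat.zero_le n)) hord
  rw [Nat.succ_sub_one] at hne
  haveI : Fact q.Prime := ⟨hq⟩
  rw [hy] at hyQ
  obtain ⟨P, g₁, hPq, hg₁P, hg₁y, hlift⟩ := exists_normalizing_lift (pCore p G) Qb hQb x₁ hyQ
  rw [← hy] at hg₁y
  -- `g₁` is a `p`-element
  have hg₁p : ∃ j, g₁ ^ p ^ j = 1 := by
    have h1 : g₁ ^ p ^ (n + 1) ∈ pCore p G := by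
      rw [← QuotientGroup.eq_one_iff, ← QuotientGroup.mk'_apply, map_pow, hg₁y, hyp]
    obtain ⟨k, hk⟩ := hS1p ⟨_, h1⟩
    refine ⟨n + 1 + k, ?_⟩
    rw [pow_add, pow_mul]
    simpa using congrArg Subtype.val hk
  have hg₁exp : g₁ ^ p ^ (n + 1) = 1 := hexp g₁ hg₁p
  obtain ⟨h, hhP, hhe⟩ := hlift gh hgh
  -- the commutator `c`
  obtain ⟨c, hc⟩ : ∃ c : G, c = g₁ ^ p ^ n * h * (g₁ ^ p ^ n)⁻¹ * h⁻¹ := ⟨_, rfl⟩
  have ha₁P : g₁ ^ p ^ n ∈ normalizer (P : Set G) := pow_mem hg₁P _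
  have hcP : c ∈ P := by
    rw [hc]
    exact mul_mem ((mem_normalizer_iff.mp ha₁P h).mp hhP) (inv_mem hhP)
  have hcS1 : c ∉ pCore p G := by
    intro hcin
    apply hne
    have h1 : QuotientGroup.mk' (pCore p G) c = 1 := (QuotientGroup.eq_one_iff _).mpr hcin
    rw [hc, map_mul, map_mul, map_mul, map_inv, map_inv, map_pow, hg₁y, hhe] at h1
    calc y ^ p ^ n * gh * (y ^ p ^ n)⁻¹ = (y ^ p ^ n * gh * (y ^ p ^ n)⁻¹ * gh⁻¹) * gh := by group
      _ = gh := by rw [h1, one_mul]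
  have hCS : centralizer ((pCore p G : Subgroup G) : Set G) ≤ pCore p G :=
    Cfsg.H5.centralizer_pCore_le_of_isPSolvable hsol hO
  have hcC : c ∉ centralizer ((pCore p G : Subgroup G) : Set G) := fun hh => hcS1 (hCS hh)
  -- the group `W = P ⟨g₁⟩` and the normal closure of `c`
  obtain ⟨W, hW⟩ : ∃ W : Subgroup G, W = P ⊔ zpowers g₁ := ⟨_, rfl⟩
  have hPW : P ≤ W := by rw [hW]; exact le_sup_left
  have hg₁W : g₁ ∈ W := by rw [hW]; exact mem_sup_right (mem_zpowers g₁)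
  have hWP : W ≤ normalizer (P : Set G) := by
    rw [hW]; exact sup_le le_normalizer (zpowers_le.mpr hg₁P)
  obtain ⟨Nc, hNc⟩ : ∃ Nc : Subgroup G, Nc = closure {z | ∃ w ∈ W, z = w * c * w⁻¹} := ⟨_, rfl⟩
  have hNcP : Nc ≤ P := by
    rw [hNc, closure_le]
    rintro _ ⟨w, hw, rfl⟩
    exact (mem_normalizer_iff.mp (hWP hw) c).mp hcP
  have hWNc : W ≤ normalizer (Nc : Set G) := by
    apply Cfsg.Agent.Lib.Helper1.le_normalizer_of_forall_conj_mem
    intro s hs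
    rw [hNc]
    apply conj_mem_closure_of_forall
    rintro _ ⟨t, ht, rfl⟩
    apply Subgroup.subset_closure
    exact ⟨s * t, mul_mem hs ht, by group⟩
  have hcNc : c ∈ Nc := by
    rw [hNc]
    exact Subgroup.subset_closure ⟨1, one_mem _, by simp⟩
  -- a minimal invariant subgroup not centralized by `Nc`
  have hex : ∃ S : Subgroup G, S ≤ pCore p G ∧ W ≤ normalizer (S : Set G) ∧
      ¬ Nc ≤ centralizer (S : Set G) :=
    ⟨pCore p G, le_rfl, le_normalizer_of_normal, fun hh => hcC (hh hcNc)⟩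
  obtain ⟨S₀, ⟨hS₀S1, hWS₀, hncS₀⟩, hS₀min⟩ := (Set.toFinite {S : Subgroup G |
    S ≤ pCore p G ∧ W ≤ normalizer (S : Set G) ∧ ¬ Nc ≤ centralizer (S : Set G)}).exists_minimal hex
  have hmin : ∀ S : Subgroup G, S ≤ S₀ → W ≤ normalizer (S : Set G) →
      ¬ Nc ≤ centralizer (S : Set G) → S₀ ≤ S :=
    fun S h1 h2 h3 => hS₀min ⟨h1.trans hS₀S1, h2, h3⟩ h1
  have hS₀p : IsPGroup p S₀ := hS1p.to_le hS₀S1
  have hNcq : IsPGroup q Nc := hPq.to_le hNcP
  have hcopNS : (Nat.card Nc).Coprime (Nat.card S₀) := by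
    obtain ⟨a, ha⟩ := IsPGroup.iff_card.mp hNcq
    obtain ⟨b, hb⟩ := IsPGroup.iff_card.mp hS₀p
    rw [ha, hb]
    exact Nat.Coprime.pow a b ((Nat.coprime_primes hq hp).mpr hqp)
  have hact : CoprimeAct Nc S₀ := by
    refine ⟨(hNcP.trans hPW).trans hWS₀, hcopNS, Or.inr ?_⟩
    haveI : Group.IsNilpotent S₀ := hS₀p.isNilpotent
    infer_instance
  have hexpS₀ := exp_of_minimal hp2 hS₀p hWS₀ hWNc hact hncS₀ hmin
  have hcS₀ : c ∉ centralizer (S₀ : Set G) := by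
    intro hcin
    apply hncS₀
    rw [hNc, closure_le]
    rintro _ ⟨w, hw, rfl⟩
    exact conj_mem_centralizer (hWS₀ hw) hcin
  -- the bridge
  have hg₁S₀ : g₁ ∈ normalizer (S₀ : Set G) := hWS₀ hg₁W
  have hR₀p : IsPGroup p ↥(S₀.subgroupOf (normalizer (S₀ : Set G))) :=
    hS₀p.comap_subtype
  have hVcommI : IsMulCommutative (↥(S₀.subgroupOf (normalizer (S₀ : Set G))) ⧸
      frattini ↥(S₀.subgroupOf (normalizer (S₀ : Set G)))) :=
    (Subgroup.Normal.quotient_commutative_iff_commutator_le).mpr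
      (Cfsg.Agent.Lib.Helper1.IsPGroup.commutator_le_frattini hR₀p)
  have hVcomm : ∀ a b : ↥(S₀.subgroupOf (normalizer (S₀ : Set G))) ⧸
      frattini ↥(S₀.subgroupOf (normalizer (S₀ : Set G))), a * b = b * a :=
    fun a b => hVcommI.is_comm.comm a b
  have hVexp : ∀ a : ↥(S₀.subgroupOf (normalizer (S₀ : Set G))) ⧸
      frattini ↥(S₀.subgroupOf (normalizer (S₀ : Set G))), a ^ p = 1 := by
    intro a
    obtain ⟨r, rfl⟩ := QuotientGroup.mk_surjective a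
    rw [← QuotientGroup.mk_pow, QuotientGroup.eq_one_iff]
    exact Cfsg.Agent.Lib.Helper1.IsPGroup.pow_mem_frattini hR₀p r
  have hxQL : (⟨g₁, hg₁S₀⟩ : ↥(normalizer (S₀ : Set G))) ∈
      normalizer ((P.subgroupOf (normalizer (S₀ : Set G)) :
        Subgroup ↥(normalizer (S₀ : Set G))) : Set ↥(normalizer (S₀ : Set G))) := by
    rw [mem_normalizer_iff]
    intro t
    rw [mem_subgroupOf, mem_subgroupOf]
    exact mem_normalizer_iff.mp hg₁P (t : G)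
  have hhN : h ∈ normalizer (S₀ : Set G) := hWS₀ (hPW hhP)
  have hbr := bridge hp2 hVcomm hVexp (frat (S₀.subgroupOf (normalizer (S₀ : Set G)))) hq hqp
    (P.subgroupOf (normalizer (S₀ : Set G))) (hPq.comap_subtype)
    (⟨g₁, hg₁S₀⟩ : ↥(normalizer (S₀ : Set G))) hxQL (Nat.succ_le_succ (Nat.zero_le n))
    (by
      rw [← map_pow]
      have : (⟨g₁, hg₁S₀⟩ : ↥(normalizer (S₀ : Set G))) ^ p ^ (n + 1) = 1 := by
        apply Subtype.ext
        rw [Subgroup.coe_pow]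
        exact hg₁exp
      rw [this, map_one])
    (by
      refine ⟨⟨h, hhN⟩, mem_subgroupOf.mpr hhP, fun heq => ?_⟩
      apply hcS₀
      -- `c` lies in the kernel
      have hck : (⟨c, hWS₀ (hPW hcP)⟩ : ↥(normalizer (S₀ : Set G))) ∈
          (frat (S₀.subgroupOf (normalizer (S₀ : Set G)))).ker := by
        rw [MonoidHom.mem_ker]
        have e : (⟨c, hWS₀ (hPW hcP)⟩ : ↥(normalizer (S₀ : Set G))) =
            ((⟨g₁, hg₁S₀⟩ : ↥(normalizer (S₀ : Set G))) ^ p ^ (n + 1 - 1) * ⟨h, hhN⟩ *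
              ((⟨g₁, hg₁S₀⟩ : ↥(normalizer (S₀ : Set G))) ^ p ^ (n + 1 - 1))⁻¹) *
              (⟨h, hhN⟩ : ↥(normalizer (S₀ : Set G)))⁻¹ := by
          apply Subtype.ext
          rw [Nat.add_sub_cancel]
          simp only [Subgroup.coe_mul, Subgroup.coe_pow, Subgroup.coe_inv]
          exact hc
        rw [e, map_mul, heq, map_inv, mul_inv_cancel]
      have hcop : (orderOf (⟨c, hWS₀ (hPW hcP)⟩ : ↥(normalizer (S₀ : Set G)))).Coprime p := by
        rw [Subgroup.orderOf_mk]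
        obtain ⟨k, hk⟩ := hPq ⟨c, hcP⟩
        have hk' : c ^ q ^ k = 1 := by simpa using congrArg Subtype.val hk
        have h2 : orderOf c ∣ q ^ k := orderOf_dvd_of_pow_eq_one hk'
        exact Nat.Coprime.coprime_dvd_left h2
          (Nat.Coprime.pow_left k ((Nat.coprime_primes hq hp).mpr hqp))
      have hcen := ker_frat_centralizes (S₀.subgroupOf (normalizer (S₀ : Set G))) hR₀p hck hcop
      rw [mem_centralizer_iff]
      intro t ht
      have h3 := mem_centralizer_iff.mp hcen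
        (⟨t, le_normalizer ht⟩ : ↥(normalizer (S₀ : Set G))) (mem_subgroupOf.mpr ht)
      exact congrArg Subtype.val h3)
  obtain ⟨m, hm⟩ := hbr.2
  rw [Nat.succ_sub_one] at hm
  obtain ⟨r, rfl⟩ := QuotientGroup.mk_surjective m
  rw [mk_list_prod, frat_mk] at hm
  have hPM := pow_mul_eq (S₀.subgroupOf (normalizer (S₀ : Set G)))
    (⟨g₁, hg₁S₀⟩ : ↥(normalizer (S₀ : Set G))) r (p ^ n)
  refine ⟨S₀, g₁, ((r : ↥(normalizer (S₀ : Set G))) : G), hS₀S1, hg₁S₀, hg₁p, hexpS₀,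
    mem_subgroupOf.mp r.2, ?_⟩
  intro hcomm
  apply hm
  congr 1
  apply Subtype.ext
  rw [MulAut.conjNormal_apply]
  -- work in the normalizer
  have hcomm' : (⟨g₁, hg₁S₀⟩ : ↥(normalizer (S₀ : Set G))) ^ p ^ n *
      ((r : ↥(normalizer (S₀ : Set G))) * ⟨g₁, hg₁S₀⟩) ^ p ^ n =
      ((r : ↥(normalizer (S₀ : Set G))) * ⟨g₁, hg₁S₀⟩) ^ p ^ n *
        (⟨g₁, hg₁S₀⟩ : ↥(normalizer (S₀ : Set G))) ^ p ^ n := by
    apply Subtype.ext
    simp only [Subgroup.coe_mul, Subgroup.coe_pow]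
    exact hcomm
  rw [hPM] at hcomm'
  generalize (⟨g₁, hg₁S₀⟩ : ↥(normalizer (S₀ : Set G))) ^ p ^ n = z at hcomm' ⊢
  generalize ((((List.range (p ^ n)).map (fun i => MulAut.conjNormal
    ((⟨g₁, hg₁S₀⟩ : ↥(normalizer (S₀ : Set G))) ^ i) r)).prod :
      ↥(S₀.subgroupOf (normalizer (S₀ : Set G)))) : ↥(normalizer (S₀ : Set G))) = μ at hcomm' ⊢
  have h4 : z * μ = μ * z := by
    have := congrArg (fun t => t * z⁻¹) hcomm'
    simpa [mul_assoc] using this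
  rw [h4]; group

/-- the exponent bound for `p`-elements passes to quotients. -/
theorem exp_quotient [Finite G] {p : ℕ} [Fact p.Prime] (N : Subgroup G) [N.Normal] {m : ℕ}
    (hexp : ∀ x : G, (∃ j, x ^ p ^ j = 1) → x ^ p ^ m = 1) :
    ∀ xb : G ⧸ N, (∃ j, xb ^ p ^ j = 1) → xb ^ p ^ m = 1 := by
  intro xb hxb
  obtain ⟨Pb, hPb⟩ := exists_sylow_mem hxb
  obtain ⟨P0, x0, hx0, rfl⟩ := exists_lift_sylow N Pb xb hPb
  have hx0p : ∃ j, x0 ^ p ^ j = 1 := by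
    obtain ⟨k, hk⟩ := P0.2 ⟨x0, hx0⟩
    exact ⟨k, by simpa using congrArg Subtype.val hk⟩
  rw [← map_pow, hexp x0 hx0p, map_one]

/-- **The two-step drop.** In a `p`-solvable group with `O_{p'} = 1` whose `p`-elements have order
dividing `p ^ (n + 1)` (`p` odd), the `p ^ n`-th powers of `p`-elements lie in `O_{p,p',p}`. -/
theorem pow_mem_pPrimePCore_quot [Finite G] {p : ℕ} [Fact p.Prime] (hp2 : p ≠ 2)
    (hsol : IsPSolvable p G) (hO : pPrimeCore p G = ⊥) (n : ℕ)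
    (hexp : ∀ x : G, (∃ j, x ^ p ^ j = 1) → x ^ p ^ (n + 1) = 1)
    (x : G) (hx : ∃ j, x ^ p ^ j = 1) :
    QuotientGroup.mk' (pCore p G) (x ^ p ^ n) ∈ pPrimePCore p (G ⧸ pCore p G) := by
  classical
  by_contra hcon
  have hp : p.Prime := Fact.out
  have hsolb : IsPSolvable p (G ⧸ pCore p G) := Cfsg.H5.isPSolvable_quotient _ hsol
  have hOpb : pCore p (G ⧸ pCore p G) = ⊥ := pCore_quot_eq_bot
  have hexpb := exp_quotient (pCore p G) hexp
  have hKn : (pPrimeCore p (G ⧸ pCore p G)).Normal := Cfsg.H5.pPrimeCore_normal p _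
  have hKcop : (Nat.card (pPrimeCore p (G ⧸ pCore p G))).Coprime p :=
    Cfsg.H5.coprime_card_pPrimeCore p _
  have hsol1 : IsPSolvable p ((G ⧸ pCore p G) ⧸ pPrimeCore p (G ⧸ pCore p G)) :=
    Cfsg.H5.isPSolvable_quotient _ hsolb
  have hO1 : pPrimeCore p ((G ⧸ pCore p G) ⧸ pPrimeCore p (G ⧸ pCore p G)) = ⊥ :=
    Cfsg.Agent.Lib.Helper10.pPrimeCore_quotient_eq_bot p
  have hexp1 := exp_quotient (pPrimeCore p (G ⧸ pCore p G)) hexpb
  obtain ⟨x₁, hx₁⟩ : ∃ x₁ : (G ⧸ pCore p G) ⧸ pPrimeCore p (G ⧸ pCore p G),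
    x₁ = QuotientGroup.mk' (pPrimeCore p (G ⧸ pCore p G)) (QuotientGroup.mk' (pCore p G) x) :=
    ⟨_, rfl⟩
  have hx₁p : ∃ j, x₁ ^ p ^ j = 1 := by
    obtain ⟨j, hj⟩ := hx
    exact ⟨j, by rw [hx₁, ← map_pow, ← map_pow, hj, map_one, map_one]⟩
  have hx₁n : x₁ ^ p ^ n ∉ pCore p ((G ⧸ pCore p G) ⧸ pPrimeCore p (G ⧸ pCore p G)) := by
    intro hh
    apply hcon
    unfold pPrimePCore
    rw [mem_comap, map_pow, map_pow, ← hx₁]
    exact hh
  obtain ⟨S₀, g₁, sb, hS₀S1, hg₁S₀, hg₁p, hS₀exp, hsb, hnc⟩ :=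
    exists_noncommuting_pows hp2 hsol1 hO1 n hexp1 x₁ hx₁p hx₁n
  -- the `p`-group `S₀ ⟨g₁⟩` and a `p`-subgroup of `G ⧸ O_p` mapping onto it
  have hS₀p : IsPGroup p S₀ := (Cfsg.H5.pCore_isPGroup p _).to_le hS₀S1
  have hzp : IsPGroup p (zpowers g₁) := by
    obtain ⟨j, hj⟩ := hg₁p
    have hdvd : orderOf g₁ ∣ p ^ j := orderOf_dvd_of_pow_eq_one hj
    obtain ⟨i, _, hi⟩ := (Nat.dvd_prime_pow hp).mp hdvd
    apply IsPGroup.of_card (n := i)
    rw [Nat.card_zpowers, hi]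
  have hT₁p : IsPGroup p ↥(S₀ ⊔ zpowers g₁) :=
    hS₀p.to_sup_of_normal_left' hzp (zpowers_le.mpr hg₁S₀)
  obtain ⟨Pb, hPb⟩ := hT₁p.exists_le_sylow
  obtain ⟨P0, hP0⟩ := Sylow.mapSurjective_surjective
    (QuotientGroup.mk'_surjective (pPrimeCore p (G ⧸ pCore p G))) p Pb
  have hmap : (Pb : Subgroup ((G ⧸ pCore p G) ⧸ pPrimeCore p (G ⧸ pCore p G))) =
      (P0 : Subgroup (G ⧸ pCore p G)).map
        (QuotientGroup.mk' (pPrimeCore p (G ⧸ pCore p G))) := by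
    rw [← hP0]; rfl
  obtain ⟨T₀, hT₀⟩ : ∃ T₀ : Subgroup (G ⧸ pCore p G), T₀ = (P0 : Subgroup (G ⧸ pCore p G)) ⊓
    (S₀ ⊔ zpowers g₁).comap (QuotientGroup.mk' (pPrimeCore p (G ⧸ pCore p G))) := ⟨_, rfl⟩
  have hT₀p : IsPGroup p T₀ := P0.2.to_le (by rw [hT₀]; exact inf_le_left)
  have hlift : ∀ t₁ ∈ S₀ ⊔ zpowers g₁, ∃ t ∈ T₀,
      QuotientGroup.mk' (pPrimeCore p (G ⧸ pCore p G)) t = t₁ := by
    intro t₁ ht₁
    have h1 : t₁ ∈ (P0 : Subgroup (G ⧸ pCore p G)).map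
        (QuotientGroup.mk' (pPrimeCore p (G ⧸ pCore p G))) := hmap ▸ hPb ht₁
    obtain ⟨t, ht, rfl⟩ := h1
    exact ⟨t, by rw [hT₀]; exact mem_inf.mpr ⟨ht, mem_comap.mpr ht₁⟩, rfl⟩
  have hT₀map : ∀ t ∈ T₀,
      QuotientGroup.mk' (pPrimeCore p (G ⧸ pCore p G)) t ∈ S₀ ⊔ zpowers g₁ := by
    intro t ht
    rw [hT₀] at ht
    exact mem_comap.mp (mem_inf.mp ht).2
  have hTK : ∀ t ∈ T₀, t ∈ pPrimeCore p (G ⧸ pCore p G) → t = 1 := fun t ht htK =>
    Cfsg.H5.eq_one_of_coprime_of_mem_pgroup (Cfsg.H5.coprime_orderOf_of_mem hKcop htK) hT₀p ht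
  -- the lift of `S₀`
  obtain ⟨Ss, hSs⟩ : ∃ Ss : Subgroup (G ⧸ pCore p G), Ss = T₀ ⊓
    S₀.comap (QuotientGroup.mk' (pPrimeCore p (G ⧸ pCore p G))) := ⟨_, rfl⟩
  have hT₁N : S₀ ⊔ zpowers g₁ ≤ normalizer (S₀ : Set _) :=
    sup_le le_normalizer (zpowers_le.mpr hg₁S₀)
  have hTSs : T₀ ≤ normalizer (Ss : Set (G ⧸ pCore p G)) := by
    intro t ht
    rw [hSs]
    apply inf_normalizer_le_normalizer_inf
    refine mem_inf.mpr ⟨le_normalizer ht, ?_⟩
    rw [mem_normalizer_iff]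
    intro w
    rw [mem_comap, mem_comap, map_mul, map_mul, map_inv]
    exact mem_normalizer_iff.mp (hT₁N (hT₀map t ht)) _
  have hSsexp : ∀ t ∈ Ss, t ^ p = 1 := by
    intro t ht
    rw [hSs] at ht
    obtain ⟨htT, htS⟩ := mem_inf.mp ht
    apply hTK _ (pow_mem htT p)
    rw [← QuotientGroup.eq_one_iff, ← QuotientGroup.mk'_apply, map_pow]
    exact hS₀exp _ (mem_comap.mp htS)
  obtain ⟨gb, hgbT, hgb⟩ := hlift g₁ (mem_sup_right (mem_zpowers g₁))
  obtain ⟨s, hsT, hs⟩ := hlift sb (mem_sup_left hsb)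
  have hsSs : s ∈ Ss := by
    rw [hSs]
    exact mem_inf.mpr ⟨hsT, mem_comap.mpr (by rw [hs]; exact hsb)⟩
  have hQ : QData p n (pPrimeCore p (G ⧸ pCore p G)) T₀ :=
    { normal := hKn
      cop := hKcop
      pgroup := hT₀p
      faithful := by
        rw [eq_bot_iff]
        intro t ht
        obtain ⟨htT, htC⟩ := mem_inf.mp ht
        rw [mem_bot]
        exact hTK t htT (Cfsg.H5.centralizer_pPrimeCore_le_of_isPSolvable hsolb hOpb htC)
      exp := by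
        intro t ht
        apply hexpb
        obtain ⟨k, hk⟩ := hT₀p ⟨t, ht⟩
        exact ⟨k, by simpa using congrArg Subtype.val hk⟩
      cent := by
        intro u hu q Q hq hqp hQq huQ hgood
        have hup : ∃ j, u ^ p ^ j = 1 := by
          obtain ⟨k, hk⟩ := hT₀p ⟨u, hu⟩
          exact ⟨k, by simpa using congrArg Subtype.val hk⟩
        exact centralizes_of_exceptional hp2 (pCore p G) (Cfsg.H5.pCore_isPGroup p G)
          (frat_ker_le hsol hO) n hexp u hup hq hqp Q hQq huQ hgood }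
  have hcomm := hQ.commute_pow hp2 hTSs hSsexp hgbT hsSs hsT
  apply hnc
  have h1 := congrArg (QuotientGroup.mk' (pPrimeCore p (G ⧸ pCore p G))) hcomm
  rw [map_mul, map_mul, map_pow, map_pow, map_mul, hgb, hs] at h1
  exact h1

end Cfsg.Agent.Lib.Helper23.PL
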