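import Mathlib
import Cfsg.Agent.Lib.Helper1.Coprime

/-!
# Small group-theoretic lemmas for the Hall–Higman `p`-length bound
-/

set_option autoImplicit false

namespace Cfsg.Agent.Lib.Helper23.PL

open scoped commutatorElement
open Subgroup

variable {X : Type*} [Group X]

/-- if `b ^ p = 1` and a power of `b` lies in `M`, then `b ∈ M` or that power is trivial. -/
theorem mem_or_zpow_eq_one {p : ℕ} (hp : p.Prime) {b : X} (hb : b ^ p = 1) (M : Subgroup X)
    (k : ℤ) (hk : b ^ k ∈ M) : b ∈ M ∨ b ^ k = 1 := by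
  by_cases hdvd : (p : ℤ) ∣ k
  · right
    obtain ⟨t, rfl⟩ := hdvd
    rw [zpow_mul, zpow_natCast, hb, one_zpow]
  · left
    have hcop : IsCoprime k (p : ℤ) := by
      rw [Int.isCoprime_iff_gcd_eq_one, Int.gcd_comm]
      have h1 : ¬ p ∣ k.natAbs := fun h => hdvd (Int.natCast_dvd.mpr h)
      have := (Nat.Prime.coprime_iff_not_dvd hp).mpr h1
      simpa [Int.gcd] using this
    obtain ⟨s, t, hst⟩ := hcop
    have h2 : b = (b ^ k) ^ s * (b ^ (p : ℤ)) ^ t := by
      rw [← zpow_mul, ← zpow_mul, ← zpow_add, mul_comm k s, mul_comm (p : ℤ) t, hst, zpow_one]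
    rw [h2, zpow_natCast, hb, one_zpow, mul_one]
    exact M.zpow_mem hk s

theorem mem_or_pow_eq_one {p : ℕ} (hp : p.Prime) {b : X} (hb : b ^ p = 1) (M : Subgroup X)
    (k : ℕ) (hk : b ^ k ∈ M) : b ∈ M ∨ b ^ k = 1 := by
  have := mem_or_zpow_eq_one hp hb M (k : ℤ) (by rwa [zpow_natCast])
  rwa [zpow_natCast] at this

/-- elements of the closure of a commuting pair. -/
theorem exists_zpow_of_mem_closure_pair {a b e : X} (hab : a * b = b * a)
    (he : e ∈ closure ({a, b} : Set X)) : ∃ m n : ℤ, e = a ^ m * b ^ n := by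
  have hc : Commute a b := hab
  induction he using Subgroup.closure_induction with
  | mem y hy =>
    rcases hy with rfl | hy
    · exact ⟨1, 0, by simp⟩
    · rw [Set.mem_singleton_iff] at hy
      subst hy
      exact ⟨0, 1, by simp⟩
  | one => exact ⟨0, 0, by simp⟩
  | mul y z _ _ hy hz =>
    obtain ⟨m, n, rfl⟩ := hy
    obtain ⟨m', n', rfl⟩ := hz
    refine ⟨m + m', n + n', ?_⟩
    rw [zpow_add, zpow_add]
    have h1 : b ^ n * a ^ m' = a ^ m' * b ^ n := ((hc.zpow_zpow m' n).eq).symm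
    calc a ^ m * b ^ n * (a ^ m' * b ^ n') = a ^ m * (b ^ n * a ^ m') * b ^ n' := by group
      _ = a ^ m * (a ^ m' * b ^ n) * b ^ n' := by rw [h1]
      _ = a ^ m * a ^ m' * (b ^ n * b ^ n') := by group
  | inv y _ hy =>
    obtain ⟨m, n, rfl⟩ := hy
    refine ⟨-m, -n, ?_⟩
    rw [mul_inv_rev, ← zpow_neg, ← zpow_neg]
    exact ((hc.zpow_zpow (-m) (-n)).eq).symm

/-- elements of the join of two commuting subgroups. -/
theorem exists_mul_of_mem_sup {H K : Subgroup X} (hc : ∀ h ∈ H, ∀ k ∈ K, h * k = k * h) {x : X}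
    (hx : x ∈ H ⊔ K) : ∃ h ∈ H, ∃ k ∈ K, x = h * k := by
  rw [sup_eq_closure] at hx
  induction hx using Subgroup.closure_induction with
  | mem y hy =>
    rcases hy with hy | hy
    · exact ⟨y, hy, 1, K.one_mem, by simp⟩
    · exact ⟨1, H.one_mem, y, hy, by simp⟩
  | one => exact ⟨1, H.one_mem, 1, K.one_mem, by simp⟩
  | mul y z _ _ hy hz =>
    obtain ⟨h, hh, k, hk, rfl⟩ := hy
    obtain ⟨h', hh', k', hk', rfl⟩ := hz
    refine ⟨h * h', H.mul_mem hh hh', k * k', K.mul_mem hk hk', ?_⟩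
    have h1 : k * h' = h' * k := (hc h' hh' k hk).symm
    calc h * k * (h' * k') = h * (k * h') * k' := by group
      _ = h * (h' * k) * k' := by rw [h1]
      _ = h * h' * (k * k') := by group
  | inv y _ hy =>
    obtain ⟨h, hh, k, hk, rfl⟩ := hy
    refine ⟨h⁻¹, H.inv_mem hh, k⁻¹, K.inv_mem hk, ?_⟩
    rw [mul_inv_rev]
    exact (hc h⁻¹ (H.inv_mem hh) k⁻¹ (K.inv_mem hk)).symm

/-- an element normalizing two subgroups normalizes their commutator. -/
theorem mem_normalizer_commutator {H₁ H₂ : Subgroup X} {g : X}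
    (h₁ : g ∈ normalizer (H₁ : Set X)) (h₂ : g ∈ normalizer (H₂ : Set X)) :
    g ∈ normalizer ((⁅H₁, H₂⁆ : Subgroup X) : Set X) := by
  have key : normalizer (H₁ : Set X) ⊓ normalizer (H₂ : Set X)
      ≤ normalizer ((⁅H₁, H₂⁆ : Subgroup X) : Set X) := by
    apply Cfsg.Agent.Lib.Helper1.le_normalizer_of_forall_conj_mem
    intro x hx n hn
    obtain ⟨hx1, hx2⟩ := mem_inf.mp hx
    induction hn using Subgroup.closure_induction with
    | mem y hy =>
      obtain ⟨k, hk, a, ha, rfl⟩ := hy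
      have e : x * ⁅k, a⁆ * x⁻¹ = ⁅x * k * x⁻¹, x * a * x⁻¹⁆ := by
        simp only [commutatorElement_def]; group
      rw [e]
      exact commutator_mem_commutator ((mem_normalizer_iff.mp hx1 k).mp hk)
        ((mem_normalizer_iff.mp hx2 a).mp ha)
    | one => simp
    | mul y z _ _ hy hz =>
      have : x * (y * z) * x⁻¹ = (x * y * x⁻¹) * (x * z * x⁻¹) := by group
      rw [this]; exact mul_mem hy hz
    | inv y _ hy =>
      have : x * y⁻¹ * x⁻¹ = (x * y * x⁻¹)⁻¹ := by group
      rw [this]; exact inv_mem hy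
  exact key (mem_inf.mpr ⟨h₁, h₂⟩)

theorem map_conj_eq_of_mem_normalizer {H : Subgroup X} {g : X}
    (h : g ∈ normalizer (H : Set X)) : H.map (MulAut.conj g).toMonoidHom = H := by
  ext x
  rw [mem_map]
  constructor
  · rintro ⟨y, hy, rfl⟩
    exact (mem_normalizer_iff.mp h y).mp hy
  · intro hx
    refine ⟨g⁻¹ * x * g, ?_, ?_⟩
    · have := (mem_normalizer_iff.mp (inv_mem h) x).mp hx
      simpa using this
    · simp [MulAut.conj_apply, mul_assoc]

theorem mem_normalizer_of_map_conj_eq {H : Subgroup X} {g : X}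
    (h : H.map (MulAut.conj g).toMonoidHom = H) : g ∈ normalizer (H : Set X) := by
  have h1 : ∀ y ∈ H, g * y * g⁻¹ ∈ H := by
    intro y hy
    rw [← h]
    exact ⟨y, hy, rfl⟩
  have h2 : ∀ y ∈ H, g⁻¹ * y * g ∈ H := by
    intro y hy
    rw [← h] at hy
    obtain ⟨w, hw, rfl⟩ := hy
    have : g⁻¹ * ((MulAut.conj g).toMonoidHom w) * g = w := by
      simp [MulAut.conj_apply, mul_assoc]
    rw [this]; exact hw
  rw [mem_normalizer_iff]
  intro y
  refine ⟨h1 y, fun hy => ?_⟩
  have := h2 _ hy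
  simpa [mul_assoc] using this

theorem mem_map_conj_iff {H : Subgroup X} {g x : X} :
    x ∈ H.map (MulAut.conj g).toMonoidHom ↔ g⁻¹ * x * g ∈ H := by
  rw [mem_map]
  constructor
  · rintro ⟨y, hy, rfl⟩
    have : g⁻¹ * ((MulAut.conj g).toMonoidHom y) * g = y := by
      simp [MulAut.conj_apply, mul_assoc]
    rw [this]; exact hy
  · intro h
    exact ⟨g⁻¹ * x * g, h, by simp [MulAut.conj_apply, mul_assoc]⟩

/-- the closure of a set of pairwise commuting elements is commutative. -/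
theorem commute_of_mem_closure {S : Set X} (hS : ∀ a ∈ S, ∀ b ∈ S, a * b = b * a) :
    ∀ a ∈ closure S, ∀ b ∈ closure S, a * b = b * a := by
  have h1 : closure S ≤ centralizer S := by
    rw [closure_le]
    intro a ha
    rw [SetLike.mem_coe, mem_centralizer_iff]
    intro b hb
    exact hS b hb a ha
  have h2 : closure S ≤ centralizer ((closure S : Subgroup X) : Set X) := by
    rw [closure_le]
    intro a ha
    rw [SetLike.mem_coe, mem_centralizer_iff]
    intro b hb
    have := mem_centralizer_iff.mp (h1 hb) a ha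
    exact this.symm
  intro a ha b hb
  exact (mem_centralizer_iff.mp (h2 ha) b hb).symm

end Cfsg.Agent.Lib.Helper23.PL
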