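import Cfsg.Agent.Lib.Helper23.PLGrp

/-!
# Subgroups of index `p` in an abelian group of exponent `p`
-/

set_option autoImplicit false

namespace Cfsg.Agent.Lib.Helper23.PL

open scoped commutatorElement
open Subgroup

variable {X : Type*} [Group X] {p : ℕ}

/-- if `B = B₁⟨c⟩` with `c ^ p = 1`, then `B = B₁⟨b⟩` for every `b ∈ B` outside `B₁`. -/
theorem le_sup_zpowers_of_not_mem (hp : p.Prime) {B B₁ : Subgroup X}
    (hBcomm : ∀ a ∈ B, ∀ b ∈ B, a * b = b * a) {c : X} (hc : c ^ p = 1)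
    (hB : B ≤ B₁ ⊔ zpowers c) (hB₁ : B₁ ≤ B) (hcB : c ∈ B) {b : X} (hb : b ∈ B) (hb1 : b ∉ B₁) :
    B ≤ B₁ ⊔ zpowers b := by
  have hcomm : ∀ h ∈ B₁, ∀ k ∈ zpowers c, h * k = k * h := by
    intro h hh k hk
    exact hBcomm h (hB₁ hh) k ((zpowers_le.mpr hcB) hk)
  obtain ⟨β, hβ, c', hc', hbe⟩ := exists_mul_of_mem_sup hcomm (hB hb)
  obtain ⟨k, rfl⟩ := mem_zpowers_iff.mp hc'
  have h1 : c ^ k ∈ B₁ ⊔ zpowers b := by
    have : c ^ k = β⁻¹ * b := by rw [hbe]; group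
    rw [this]
    exact mul_mem (mem_sup_left (inv_mem hβ)) (mem_sup_right (mem_zpowers b))
  rcases mem_or_zpow_eq_one hp hc _ k h1 with h | h
  · exact hB.trans (sup_le le_sup_left (zpowers_le.mpr h))
  · exfalso
    apply hb1
    rw [hbe, h, mul_one]
    exact hβ

/-- a `p`-element normalizing `B` and a subgroup `B₁` of index `p` acts trivially on `B / B₁`. -/
theorem conj_mul_inv_mem_of_normalizer [Fact p.Prime] {B B₁ : Subgroup X}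
    (hBcomm : ∀ a ∈ B, ∀ b ∈ B, a * b = b * a) {c : X} (hc : c ^ p = 1)
    (hB : B ≤ B₁ ⊔ zpowers c) (hB₁ : B₁ ≤ B) (hcB : c ∈ B) (hc1 : c ∉ B₁)
    {z : X} (hz : z ^ p = 1) (hzB : z ∈ normalizer (B : Set X))
    (hzB₁ : z ∈ normalizer (B₁ : Set X)) :
    ∀ b ∈ B, z * b * z⁻¹ * b⁻¹ ∈ B₁ := by
  have hp : p.Prime := Fact.out
  have hcomm : ∀ h ∈ B₁, ∀ k ∈ zpowers c, h * k = k * h := by
    intro h hh k hk
    exact hBcomm h (hB₁ hh) k ((zpowers_le.mpr hcB) hk)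
  -- `z c z⁻¹ = β₁ c ^ k`
  have hzc : z * c * z⁻¹ ∈ B := (mem_normalizer_iff.mp hzB c).mp hcB
  obtain ⟨β₁, hβ₁, c', hc', hzce⟩ := exists_mul_of_mem_sup hcomm (hB hzc)
  obtain ⟨k, rfl⟩ := mem_zpowers_iff.mp hc'
  have hβ₁c : Commute β₁ c := hBcomm β₁ (hB₁ hβ₁) c hcB
  -- iterate
  have hiter : ∀ i : ℕ, ∃ β ∈ B₁, z ^ i * c * (z ^ i)⁻¹ = β * c ^ (k ^ i) := by
    intro i
    induction i with
    | zero => exact ⟨1, one_mem _, by simp⟩
    | succ i ih =>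
      obtain ⟨β, hβ, he⟩ := ih
      refine ⟨(z * β * z⁻¹) * β₁ ^ (k ^ i), ?_, ?_⟩
      · exact mul_mem ((mem_normalizer_iff.mp hzB₁ β).mp hβ) (B₁.zpow_mem hβ₁ _)
      · have e1 : z ^ (i + 1) * c * (z ^ (i + 1))⁻¹ = z * (z ^ i * c * (z ^ i)⁻¹) * z⁻¹ := by
          rw [pow_succ']; group
        rw [e1, he]
        have e2 : z * (β * c ^ (k ^ i)) * z⁻¹ = (z * β * z⁻¹) * (z * c * z⁻¹) ^ (k ^ i) := by
          have : (z * c * z⁻¹) ^ (k ^ i) = z * c ^ (k ^ i) * z⁻¹ := by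
            rw [← MulAut.conj_apply, ← MulAut.conj_apply, map_zpow]
          rw [this]; group
        rw [e2, hzce, (hβ₁c.zpow_right k).mul_zpow, ← zpow_mul, pow_succ, mul_comm (k ^ i) k]
        group
  obtain ⟨βp, hβp, hep⟩ := hiter p
  rw [hz, one_mul, inv_one, mul_one] at hep
  -- `c ^ (k ^ p - 1) ∈ B₁`
  have h1 : c ^ (k ^ p - 1) ∈ B₁ := by
    have : c ^ (k ^ p - 1) = βp⁻¹ := by
      rw [zpow_sub, zpow_one]
      have h2 : c ^ (k ^ p) = βp⁻¹ * c := by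
        conv_rhs => rw [hep]
        group
      rw [h2]; group
    rw [this]; exact inv_mem hβp
  have hc_ne : c ≠ 1 := fun h => hc1 (h ▸ one_mem _)
  have hord : orderOf c = p := orderOf_eq_prime hc hc_ne
  have hk1 : c ^ (k - 1) = 1 := by
    rcases mem_or_zpow_eq_one hp hc _ _ h1 with h | h
    · exact absurd h hc1
    · have h2 : (p : ℤ) ∣ k ^ p - 1 := by
        have h2' : ((orderOf c : ℕ) : ℤ) ∣ k ^ p - 1 := orderOf_dvd_iff_zpow_eq_one.mpr h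
        rwa [hord] at h2'
      have h3 : ((k ^ p - 1 : ℤ) : ZMod p) = 0 := (ZMod.intCast_zmod_eq_zero_iff_dvd _ p).mpr h2
      have h4 : ((k - 1 : ℤ) : ZMod p) = 0 := by
        have : ((k ^ p - 1 : ℤ) : ZMod p) = ((k - 1 : ℤ) : ZMod p) := by
          push_cast
          rw [ZMod.pow_card]
        rw [← this]; exact h3
      have h5 : (p : ℤ) ∣ k - 1 := (ZMod.intCast_zmod_eq_zero_iff_dvd _ p).mp h4
      have h5' : ((orderOf c : ℕ) : ℤ) ∣ k - 1 := by rw [hord]; exact h5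
      exact orderOf_dvd_iff_zpow_eq_one.mp h5'
  have hck : c ^ k = c := by
    have : c ^ k = c ^ (k - 1) * c := by rw [← zpow_add_one]; congr 1; ring
    rw [this, hk1, one_mul]
  rw [hck] at hzce
  -- general element
  intro b hb
  obtain ⟨β, hβ, c', hc', hbe⟩ := exists_mul_of_mem_sup hcomm (hB hb)
  obtain ⟨m, rfl⟩ := mem_zpowers_iff.mp hc'
  have e1 : z * (β * c ^ m) * z⁻¹ = (z * β * z⁻¹) * (z * c * z⁻¹) ^ m := by
    have : (z * c * z⁻¹) ^ m = z * c ^ m * z⁻¹ := by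
      rw [← MulAut.conj_apply, ← MulAut.conj_apply, map_zpow]
    rw [this]; group
  have hzβ : z * β * z⁻¹ ∈ B₁ := (mem_normalizer_iff.mp hzB₁ β).mp hβ
  rw [hbe, e1, hzce, hβ₁c.mul_zpow]
  have hcm : c ^ m ∈ B := B.zpow_mem hcB m
  have e2 : z * β * z⁻¹ * (β₁ ^ m * c ^ m) * (β * c ^ m)⁻¹
      = (z * β * z⁻¹) * β₁ ^ m * β⁻¹ := by
    have hcomm2 : c ^ m * β⁻¹ = β⁻¹ * c ^ m :=
      hBcomm _ hcm _ (inv_mem (hB₁ hβ))
    calc z * β * z⁻¹ * (β₁ ^ m * c ^ m) * (β * c ^ m)⁻¹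
        = z * β * z⁻¹ * β₁ ^ m * (c ^ m * (c ^ m)⁻¹) * β⁻¹ := by group
      _ = (z * β * z⁻¹) * β₁ ^ m * β⁻¹ := by rw [mul_inv_cancel, mul_one]
  rw [e2]
  exact mul_mem (mul_mem hzβ (B₁.zpow_mem hβ₁ m)) (inv_mem hβ)

end Cfsg.Agent.Lib.Helper23.PL
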