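import Cfsg.Agent.Lib.Helper23.PLDown

/-!
# The Hall–Higman bounds `l_p ≤ e` and `l_p ≤ 2 e` for odd `p`
-/

set_option autoImplicit false

namespace Cfsg.Agent.Lib.Helper23.PL

open Cfsg Subgroup
open Cfsg.Agent.Lib.Helper20.PLen Cfsg.Agent.Lib.Helper20.HHAbel

universe u

section

variable {G : Type u} [Group G] [Finite G] {p : ℕ} [Fact p.Prime]

/-- `O_{p',p}(G)` has `p`-length at most one. -/
theorem pLengthLE_one_pPrimePCore : PLengthLE p 1 ↥(pPrimePCore p G) := by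
  obtain ⟨M2, hM2⟩ : ∃ M2 : Subgroup G, M2 = (pCore p (G ⧸ pPrimeCore p G)).comap
    (QuotientGroup.mk' (pPrimeCore p G)) := ⟨_, rfl⟩
  have hM2' : pPrimePCore p G = M2 := by rw [hM2]; rfl
  rw [hM2']
  have hN1M2 : pPrimeCore p G ≤ M2 := by
    rw [hM2]
    intro g hg
    rw [Subgroup.mem_comap]
    have : QuotientGroup.mk' (pPrimeCore p G) g = 1 := (QuotientGroup.eq_one_iff g).mpr hg
    rw [this]; exact one_mem _
  have h0 : PLengthLE p 0 ↥((pPrimeCore p G).subgroupOf M2) := by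
    rw [pLengthLE_zero_iff]
    rw [Nat.card_congr (Subgroup.subgroupOfEquivOfLe hN1M2).toEquiv]
    exact Cfsg.H5.coprime_card_pPrimeCore p G
  have h1 : PLengthLE p 1 (↥M2 ⧸ (pPrimeCore p G).subgroupOf M2) := by
    apply pLengthLE_one_of_isPGroup
    intro y
    obtain ⟨⟨m, hm⟩, rfl⟩ := QuotientGroup.mk_surjective y
    have hm' : QuotientGroup.mk' (pPrimeCore p G) m ∈ pCore p (G ⧸ pPrimeCore p G) := by
      rw [hM2] at hm; exact Subgroup.mem_comap.mp hm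
    obtain ⟨j, hj⟩ := (Cfsg.H5.pCore_isPGroup p (G ⧸ pPrimeCore p G)) ⟨_, hm'⟩
    refine ⟨j, ?_⟩
    rw [← QuotientGroup.mk_pow, QuotientGroup.eq_one_iff, Subgroup.mem_subgroupOf]
    have h2 : (QuotientGroup.mk' (pPrimeCore p G) m) ^ p ^ j = 1 := by
      simpa using congrArg Subtype.val hj
    rw [← map_pow] at h2
    simpa using (QuotientGroup.eq_one_iff _).mp h2
  have := pLengthLE_of_extension ((pPrimeCore p G).subgroupOf M2) h0 h1
  simpa using this

omit [Fact (Nat.Prime p)] in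
theorem cond_quotient (N : Subgroup G) [N.Normal]
    (hcond : (¬ ∃ k : ℕ, p = 2 ^ k + 1) ∨ ∀ S : Sylow 2 G, ∀ a ∈ (S : Subgroup G),
      ∀ b ∈ (S : Subgroup G), a * b = b * a) :
    (¬ ∃ k : ℕ, p = 2 ^ k + 1) ∨ ∀ S : Sylow 2 (G ⧸ N), ∀ a ∈ (S : Subgroup (G ⧸ N)),
      ∀ b ∈ (S : Subgroup (G ⧸ N)), a * b = b * a := by
  rcases hcond with h | h
  · exact Or.inl h
  · haveI : Fact (Nat.Prime 2) := ⟨Nat.prime_two⟩
    exact Or.inr (fun S => comm_of_isPGroup_quotient N h S S.2)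

theorem exists_lift_pElement (N : Subgroup G) [N.Normal] (xb : G ⧸ N)
    (hxb : ∃ j, xb ^ p ^ j = 1) :
    ∃ x : G, (∃ j, x ^ p ^ j = 1) ∧ QuotientGroup.mk' N x = xb := by
  obtain ⟨Pb, hPb⟩ := exists_sylow_mem hxb
  obtain ⟨P0, x0, hx0, rfl⟩ := exists_lift_sylow N Pb xb hPb
  refine ⟨x0, ?_, rfl⟩
  obtain ⟨k, hk⟩ := P0.2 ⟨x0, hx0⟩
  exact ⟨k, by simpa using congrArg Subtype.val hk⟩

end

/-- **Hall–Higman, part (a).** -/
theorem pLengthLE_of_exponent_cond {p : ℕ} [Fact p.Prime] (hp2 : p ≠ 2) (n : ℕ) :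
    ∀ (G : Type u) [Group G] [Finite G], IsPSolvable p G →
    ((¬ ∃ k : ℕ, p = 2 ^ k + 1) ∨ ∀ S : Sylow 2 G, ∀ a ∈ (S : Subgroup G),
      ∀ b ∈ (S : Subgroup G), a * b = b * a) →
    (∀ (P : Sylow p G), ∀ x ∈ (P : Subgroup G), x ^ p ^ n = 1) → PLengthLE p n G := by
  have hp : p.Prime := Fact.out
  induction n with
  | zero =>
    intro G _ _ hsol hab hexp
    rw [pLengthLE_zero_iff]
    apply Nat.Coprime.symm
    rw [Nat.Prime.coprime_iff_not_dvd hp]
    intro hdvd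
    obtain ⟨g, hg⟩ := exists_prime_orderOf_dvd_card' p hdvd
    obtain ⟨P, hP⟩ := exists_sylow_mem (p := p) (x := g)
      ⟨1, by rw [pow_one, ← hg]; exact pow_orderOf_eq_one g⟩
    have h1 := hexp P g hP
    rw [pow_zero, pow_one] at h1
    rw [h1, orderOf_one] at hg
    exact hp.one_lt.ne' hg.symm
  | succ n ih =>
    intro G _ _ hsol hab hexp
    have hsolb : IsPSolvable p (G ⧸ pPrimeCore p G) :=
      Cfsg.H5.isPSolvable_quotient (pPrimeCore p G) hsol
    have hOb : pPrimeCore p (G ⧸ pPrimeCore p G) = ⊥ :=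
      Cfsg.Agent.Lib.Helper10.pPrimeCore_quotient_eq_bot p
    have habb := cond_quotient (pPrimeCore p G) hab
    have hexpb : ∀ xb : G ⧸ pPrimeCore p G, (∃ j, xb ^ p ^ j = 1) → xb ^ p ^ (n + 1) = 1 := by
      intro xb hxb
      obtain ⟨Pb, hPb⟩ := exists_sylow_mem hxb
      obtain ⟨P0, x0, hx0, rfl⟩ := exists_lift_sylow (pPrimeCore p G) Pb xb hPb
      rw [← map_pow, hexp P0 x0 hx0, map_one]
    obtain ⟨M2, hM2⟩ : ∃ M2 : Subgroup G, M2 = (pCore p (G ⧸ pPrimeCore p G)).comap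
      (QuotientGroup.mk' (pPrimeCore p G)) := ⟨_, rfl⟩
    haveI hM2n : M2.Normal := by rw [hM2]; exact Subgroup.Normal.comap inferInstance _
    have hE : ∀ P : Sylow p G, ∀ x ∈ (P : Subgroup G), x ^ p ^ n ∈ M2 := by
      intro P x hxP
      have h1 := pow_mem_pCore_of_cond hp2 hsolb hOb habb n hexpb
        (QuotientGroup.mk' (pPrimeCore p G) x)
        ⟨n + 1, by rw [← map_pow, hexp P x hxP, map_one]⟩
      rw [← map_pow] at h1
      rw [hM2]
      exact Subgroup.mem_comap.mpr h1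
    have hlenM2 : PLengthLE p 1 ↥M2 := by
      have h := pLengthLE_one_pPrimePCore (G := G) (p := p)
      have hM2' : pPrimePCore p G = M2 := by rw [hM2]; rfl
      rw [hM2'] at h
      exact h
    have hlenQ : PLengthLE p n (G ⧸ M2) := by
      apply ih (G ⧸ M2) (Cfsg.H5.isPSolvable_quotient M2 hsol) (cond_quotient M2 hab)
      intro Pb xb hxb
      obtain ⟨P0, x0, hx0, rfl⟩ := exists_lift_sylow M2 Pb xb hxb
      rw [← map_pow]
      exact (QuotientGroup.eq_one_iff _).mpr (hE P0 x0 hx0)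
    have := pLengthLE_of_extension M2 hlenM2 hlenQ
    rwa [Nat.add_comm] at this

/-- **Hall–Higman, part (b).** -/
theorem pLengthLE_two_mul_of_exponent {p : ℕ} [Fact p.Prime] (hp2 : p ≠ 2) (n : ℕ) :
    ∀ (G : Type u) [Group G] [Finite G], IsPSolvable p G →
    (∀ x : G, (∃ j, x ^ p ^ j = 1) → x ^ p ^ n = 1) → PLengthLE p (2 * n) G := by
  have hp : p.Prime := Fact.out
  induction n with
  | zero =>
    intro G _ _ hsol hexp
    rw [Nat.mul_zero, pLengthLE_zero_iff]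
    apply Nat.Coprime.symm
    rw [Nat.Prime.coprime_iff_not_dvd hp]
    intro hdvd
    obtain ⟨g, hg⟩ := exists_prime_orderOf_dvd_card' p hdvd
    have h1 := hexp g ⟨1, by rw [pow_one, ← hg]; exact pow_orderOf_eq_one g⟩
    rw [pow_zero, pow_one] at h1
    rw [h1, orderOf_one] at hg
    exact hp.one_lt.ne' hg.symm
  | succ n ih =>
    intro G _ _ hsol hexp
    -- step 1: `G₁ = G / O_{p'}(G)`
    have h0 : PLengthLE p 0 ↥(pPrimeCore p G) := by
      rw [pLengthLE_zero_iff]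
      exact Cfsg.H5.coprime_card_pPrimeCore p G
    have hsol1 : IsPSolvable p (G ⧸ pPrimeCore p G) :=
      Cfsg.H5.isPSolvable_quotient (pPrimeCore p G) hsol
    have hO1 : pPrimeCore p (G ⧸ pPrimeCore p G) = ⊥ :=
      Cfsg.Agent.Lib.Helper10.pPrimeCore_quotient_eq_bot p
    have hexp1 := exp_quotient (pPrimeCore p G) hexp
    -- step 2: `G₂ = G₁ / O_p(G₁)`
    have h1 : PLengthLE p 1 ↥(pCore p (G ⧸ pPrimeCore p G)) :=
      pLengthLE_one_of_isPGroup (Cfsg.H5.pCore_isPGroup p _)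
    have hsol2 : IsPSolvable p ((G ⧸ pPrimeCore p G) ⧸ pCore p (G ⧸ pPrimeCore p G)) :=
      Cfsg.H5.isPSolvable_quotient _ hsol1
    -- step 3: `G₃ = G₂ / O_{p',p}(G₂)`
    have h2 : PLengthLE p 1
        ↥(pPrimePCore p ((G ⧸ pPrimeCore p G) ⧸ pCore p (G ⧸ pPrimeCore p G))) :=
      pLengthLE_one_pPrimePCore
    haveI hN3 : (pPrimePCore p
        ((G ⧸ pPrimeCore p G) ⧸ pCore p (G ⧸ pPrimeCore p G))).Normal := by
      unfold pPrimePCore
      exact Subgroup.Normal.comap inferInstance _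
    have hsol3 : IsPSolvable p (((G ⧸ pPrimeCore p G) ⧸ pCore p (G ⧸ pPrimeCore p G)) ⧸
        pPrimePCore p ((G ⧸ pPrimeCore p G) ⧸ pCore p (G ⧸ pPrimeCore p G))) :=
      Cfsg.H5.isPSolvable_quotient _ hsol2
    have hexp3 : ∀ zb : ((G ⧸ pPrimeCore p G) ⧸ pCore p (G ⧸ pPrimeCore p G)) ⧸
        pPrimePCore p ((G ⧸ pPrimeCore p G) ⧸ pCore p (G ⧸ pPrimeCore p G)),
        (∃ j, zb ^ p ^ j = 1) → zb ^ p ^ n = 1 := by
      intro zb hzb
      obtain ⟨z2, hz2, rfl⟩ := exists_lift_pElement _ zb hzb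
      obtain ⟨z1, hz1, rfl⟩ := exists_lift_pElement _ z2 hz2
      rw [← map_pow, ← map_pow]
      exact (QuotientGroup.eq_one_iff _).mpr
        (pow_mem_pPrimePCore_quot hp2 hsol1 hO1 n hexp1 z1 hz1)
    have h3 := ih _ hsol3 hexp3
    have h4 := pLengthLE_of_extension _ h2 h3
    have h5 := pLengthLE_of_extension _ h1 h4
    have h6 := pLengthLE_of_extension _ h0 h5
    have e : 0 + (1 + (1 + 2 * n)) = 2 * (n + 1) := by ring
    rw [e] at h6
    exact h6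

end Cfsg.Agent.Lib.Helper23.PL
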