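import Cfsg.Agent.Lib.Helper23.PLQ1
import Cfsg.Agent.Lib.Helper1.CoprimeSylow

/-!
# Powers of a `p`-group acting faithfully on a `p'`-group: commuting `p ^ n`-th powers
-/

set_option autoImplicit false

namespace Cfsg.Agent.Lib.Helper23.PL

open scoped commutatorElement
open Subgroup
open Cfsg.Agent.Lib.Helper1 (CoprimeAct)

universe u
variable {X : Type u} [Group X]

/-- a subgroup containing a Sylow subgroup of `K` for every prime contains `K`. -/
theorem le_of_forall_sylow_le [Finite X] {K M : Subgroup X}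
    (h : ∀ (q : ℕ) [Fact q.Prime], q ∣ Nat.card K →
      ∃ Q : Sylow q K, (Q : Subgroup K).map K.subtype ≤ M) : K ≤ M := by
  have hdvd : Nat.card K ∣ Nat.card ↥(K ⊓ M) := by
    rw [← Nat.factorization_le_iff_dvd Nat.card_pos.ne' Nat.card_pos.ne', Finsupp.le_def]
    intro q
    by_cases hq : q.Prime
    · haveI : Fact q.Prime := ⟨hq⟩
      by_cases hqK : q ∣ Nat.card K
      · obtain ⟨Q, hQ⟩ := h q hqK
        have hQC : (Q : Subgroup K).map K.subtype ≤ K ⊓ M := le_inf (map_subtype_le _) hQ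
        have hcardQ : Nat.card ((Q : Subgroup K).map K.subtype) =
            q ^ (Nat.card K).factorization q := by
          rw [Subgroup.card_map_of_injective K.subtype_injective]
          exact Q.card_eq_multiplicity
        have h1 : q ^ (Nat.card K).factorization q ∣ Nat.card ↥(K ⊓ M) := by
          rw [← hcardQ]; exact Subgroup.card_dvd_of_le hQC
        exact (hq.pow_dvd_iff_le_factorization Nat.card_pos.ne').mp h1
      · rw [Nat.factorization_eq_zero_of_not_dvd hqK]; exact Nat.zero_le _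
    · rw [Nat.factorization_eq_zero_of_not_prime _ hq]; exact Nat.zero_le _
  have hCeq : K ⊓ M = K :=
    Subgroup.eq_of_le_of_card_ge inf_le_left (Nat.le_of_dvd Nat.card_pos hdvd)
  rw [← hCeq]; exact inf_le_right

/-- iterated commutator `[A, T, …, T]`. -/
def iterComm (A T : Subgroup X) : ℕ → Subgroup X
  | 0 => A
  | k + 1 => ⁅iterComm A T k, T⁆

theorem iterComm_le_lowerCentralSeries {A T : Subgroup X} (h : A ≤ T) :
    ∀ k, iterComm A T k ≤ T.lowerCentralSeries k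
  | 0 => h
  | k + 1 => commutator_mono (iterComm_le_lowerCentralSeries h k) le_rfl

theorem iterComm_le {A T : Subgroup X} (hTA : T ≤ normalizer (A : Set X)) :
    ∀ k, iterComm A T k ≤ A ∧ T ≤ normalizer ((iterComm A T k : Subgroup X) : Set X)
  | 0 => ⟨le_rfl, hTA⟩
  | k + 1 => by
    obtain ⟨h1, h2⟩ := iterComm_le hTA k
    refine ⟨?_, ?_⟩
    · exact (Cfsg.Agent.Lib.Helper1.commutator_le_of_le_normalizer h2).trans h1
    · exact Cfsg.Agent.Lib.Helper1.le_normalizer_commutator_right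

/-- in a nilpotent group `T`, an invariant subgroup `A` not contained in `M` has an element
outside `M` whose commutators with `T` lie in `M`. -/
theorem exists_not_mem_commutator_mem {T A M : Subgroup X} (hT : Group.IsNilpotent T)
    (hAT : A ≤ T) (hTA : T ≤ normalizer (A : Set X)) (hAM : ¬ A ≤ M) :
    ∃ x ∈ A, x ∉ M ∧ ∀ t ∈ T, ⁅x, t⁆ ∈ M := by
  classical
  obtain ⟨k, hk⟩ := (isNilpotent_iff_lowerCentralSeries T).mp hT
  have hex : ∃ j, iterComm A T j ≤ M := ⟨k, by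
    have := iterComm_le_lowerCentralSeries hAT k
    rw [hk] at this
    exact this.trans bot_le⟩
  have hj0 : Nat.find hex ≠ 0 := by
    intro h0
    have := Nat.find_spec hex
    rw [h0] at this
    exact hAM this
  obtain ⟨i, hi⟩ := Nat.exists_eq_succ_of_ne_zero hj0
  have hnot : ¬ iterComm A T i ≤ M := Nat.find_min hex (by rw [hi]; exact Nat.lt_succ_self i)
  obtain ⟨x, hx, hxM⟩ := SetLike.not_le_iff_exists.mp hnot
  refine ⟨x, (iterComm_le hTA i).1 hx, hxM, fun t ht => ?_⟩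
  have hle := Nat.find_spec hex
  rw [hi] at hle
  exact hle (commutator_mem_commutator hx ht)

theorem conj_mem_centralizer {H : Subgroup X} {g : X} (hg : g ∈ normalizer (H : Set X))
    {x : X} (hx : x ∈ centralizer (H : Set X)) : g * x * g⁻¹ ∈ centralizer (H : Set X) := by
  rw [mem_centralizer_iff]
  intro h hh
  have h1 : g⁻¹ * h * g ∈ H := by
    have := (mem_normalizer_iff.mp (inv_mem hg) h).mp hh
    simpa using this
  have h2 := mem_centralizer_iff.mp hx _ h1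
  calc h * (g * x * g⁻¹) = g * ((g⁻¹ * h * g) * x) * g⁻¹ := by group
    _ = g * (x * (g⁻¹ * h * g)) * g⁻¹ := by rw [h2]
    _ = g * x * g⁻¹ * h := by group

theorem le_normalizer_centralizer {T H : Subgroup X} (hT : T ≤ normalizer (H : Set X)) :
    T ≤ normalizer ((centralizer (H : Set X) : Subgroup X) : Set X) := by
  apply Cfsg.Agent.Lib.Helper1.le_normalizer_of_forall_conj_mem
  intro t ht x hx
  exact conj_mem_centralizer (hT ht) hx

/-- the subgroup generated by the `m`-th powers of elements of `T₀`. -/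
def powSub (T₀ : Subgroup X) (m : ℕ) : Subgroup X := closure {y | ∃ t ∈ T₀, y = t ^ m}

theorem powSub_le (T₀ : Subgroup X) (m : ℕ) : powSub T₀ m ≤ T₀ := by
  unfold powSub
  rw [closure_le]
  rintro _ ⟨t, ht, rfl⟩
  exact pow_mem ht m

theorem pow_mem_powSub {T₀ : Subgroup X} {t : X} (ht : t ∈ T₀) (m : ℕ) : t ^ m ∈ powSub T₀ m :=
  Subgroup.subset_closure ⟨t, ht, rfl⟩

theorem powSub_le_of_forall {T₀ M : Subgroup X} {m : ℕ} (h : ∀ t ∈ T₀, t ^ m ∈ M) :
    powSub T₀ m ≤ M := by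
  unfold powSub
  rw [closure_le]
  rintro _ ⟨t, ht, rfl⟩
  exact h t ht

theorem le_normalizer_powSub (T₀ : Subgroup X) (m : ℕ) :
    T₀ ≤ normalizer ((powSub T₀ m : Subgroup X) : Set X) := by
  apply Cfsg.Agent.Lib.Helper1.le_normalizer_of_forall_conj_mem
  intro s hs
  unfold powSub
  apply conj_mem_closure_of_forall
  rintro _ ⟨t, ht, rfl⟩
  apply Subgroup.subset_closure
  refine ⟨s * t * s⁻¹, mul_mem (mul_mem hs ht) (inv_mem hs), ?_⟩
  rw [conj_pow]

/-- hypotheses of the core theorem: a `p`-group `T₀` acting faithfully on the normal `p'`-subgroup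
`K`, of exponent dividing `p ^ (n + 1)`, whose `p ^ n`-th powers centralize every invariant
`q`-subgroup that is of odd order or abelian. -/
structure QData (p n : ℕ) (K T₀ : Subgroup X) : Prop where
  normal : K.Normal
  cop : (Nat.card K).Coprime p
  pgroup : IsPGroup p T₀
  faithful : T₀ ⊓ centralizer (K : Set X) = ⊥
  exp : ∀ t ∈ T₀, t ^ p ^ (n + 1) = 1
  cent : ∀ u ∈ T₀, ∀ (q : ℕ) (Q : Subgroup X), q.Prime → q ≠ p → IsPGroup q Q →
    u ∈ normalizer (Q : Set X) → (q ≠ 2 ∨ ∀ a ∈ Q, ∀ b ∈ Q, a * b = b * a) →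
    ∀ g ∈ Q, u ^ p ^ n * g * (u ^ p ^ n)⁻¹ = g

section LemmaQ

variable [Finite X] {p : ℕ} [Fact p.Prime]

/-- **Lemma Q.** -/
theorem QData.le_centralizer_pow (hp2 : p ≠ 2) {n : ℕ} {K T₀ : Subgroup X} (h : QData p n K T₀)
    {u : X} (hu : u ∈ T₀) {B : Subgroup X} (hBD : B ≤ powSub T₀ (p ^ n))
    (hBcomm : ∀ a ∈ B, ∀ b ∈ B, a * b = b * a) (hBexp : ∀ b ∈ B, b ^ p = 1)
    (huB : u ∈ normalizer (B : Set X)) : B ≤ centralizer {u ^ p ^ n} := by
  classical
  have hp : p.Prime := Fact.out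
  haveI := h.normal
  by_contra hcon
  obtain ⟨b₀, hb₀, hb₀z⟩ := SetLike.not_le_iff_exists.mp hcon
  obtain ⟨w₀, hw₀⟩ : ∃ w₀, w₀ = u ^ p ^ n * b₀ * (u ^ p ^ n)⁻¹ * b₀⁻¹ := ⟨_, rfl⟩
  have hw₀1 : w₀ ≠ 1 := by
    intro h1
    apply hb₀z
    rw [mem_centralizer_singleton_iff]
    rw [hw₀] at h1
    calc b₀ * u ^ p ^ n = (u ^ p ^ n * b₀ * (u ^ p ^ n)⁻¹ * b₀⁻¹)⁻¹ * (u ^ p ^ n * b₀) := by group
      _ = u ^ p ^ n * b₀ := by rw [h1, inv_one, one_mul]
  have hDT : powSub T₀ (p ^ n) ≤ T₀ := powSub_le T₀ _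
  have hTD := le_normalizer_powSub T₀ (p ^ n)
  have hzB : u ^ p ^ n ∈ normalizer (B : Set X) := pow_mem huB _
  have hw₀B : w₀ ∈ B := by
    rw [hw₀]
    exact mul_mem ((mem_normalizer_iff.mp hzB b₀).mp hb₀) (inv_mem hb₀)
  have hw₀D : w₀ ∈ powSub T₀ (p ^ n) := hBD hw₀B
  have hw₀T : w₀ ∈ T₀ := hDT hw₀D
  -- `D` centralizes invariant odd or abelian subgroups
  have hPD : ∀ (q : ℕ) (Q : Subgroup X), q.Prime → q ≠ p → IsPGroup q Q →
      T₀ ≤ normalizer (Q : Set X) → (q ≠ 2 ∨ ∀ a ∈ Q, ∀ b ∈ Q, a * b = b * a) →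
      powSub T₀ (p ^ n) ≤ centralizer (Q : Set X) := by
    intro q Q hq hqp hQ hTQ hgood
    apply powSub_le_of_forall
    intro t ht
    rw [mem_centralizer_iff]
    intro g hg
    have h1 := h.cent t ht q Q hq hqp hQ (hTQ ht) hgood g hg
    calc g * t ^ p ^ n = (t ^ p ^ n * g * (t ^ p ^ n)⁻¹) * t ^ p ^ n := by rw [h1]
      _ = t ^ p ^ n * g := by group
  -- the normal closure of `w₀`
  obtain ⟨Nw, hNw⟩ : ∃ Nw : Subgroup X, Nw = closure {y | ∃ t ∈ T₀, y = t * w₀ * t⁻¹} := ⟨_, rfl⟩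
  have hNwD : Nw ≤ powSub T₀ (p ^ n) := by
    rw [hNw, closure_le]
    rintro _ ⟨t, ht, rfl⟩
    exact (mem_normalizer_iff.mp (hTD ht) w₀).mp hw₀D
  have hNwT : Nw ≤ T₀ := hNwD.trans hDT
  have hTNw : T₀ ≤ normalizer (Nw : Set X) := by
    apply Cfsg.Agent.Lib.Helper1.le_normalizer_of_forall_conj_mem
    intro s hs
    rw [hNw]
    apply conj_mem_closure_of_forall
    rintro _ ⟨t, ht, rfl⟩
    apply Subgroup.subset_closure
    exact ⟨s * t, mul_mem hs ht, by group⟩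
  have hw₀Nw : w₀ ∈ Nw := by
    rw [hNw]
    exact Subgroup.subset_closure ⟨1, one_mem _, by simp⟩
  have hTnil : Group.IsNilpotent T₀ := h.pgroup.isNilpotent
  have hTsolv : Group.IsSolvable T₀ := inferInstance
  have hact : CoprimeAct T₀ K := by
    refine ⟨by rw [normalizer_eq_top]; exact le_top, ?_, Or.inl hTsolv⟩
    obtain ⟨k, hk⟩ := IsPGroup.iff_card.mp h.pgroup
    rw [hk]
    exact Nat.Coprime.pow_left k h.cop.symm
  have hex : ∃ Q : Subgroup X, IsPGroup 2 Q ∧ T₀ ≤ normalizer (Q : Set X) ∧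
      ¬ (Nw ≤ centralizer (Q : Set X)) := by
    by_contra hno
    push Not at hno
    have hKw : K ≤ centralizer {w₀} := by
      apply le_of_forall_sylow_le
      intro q hqF hqK
      obtain ⟨Q, hQ⟩ := hact.exists_invariant_sylow q
      refine ⟨Q, ?_⟩
      have hQq : IsPGroup q ((Q : Subgroup K).map K.subtype) := Q.2.map _
      have hqp : q ≠ p := by
        rintro rfl
        exact absurd hqK ((Nat.Prime.coprime_iff_not_dvd hp).mp h.cop.symm)
      by_cases hq2 : q = 2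
      · subst hq2
        have h1 := hno _ hQq hQ
        intro y hy
        rw [mem_centralizer_singleton_iff]
        exact mem_centralizer_iff.mp (h1 hw₀Nw) y hy
      · have h1 := hPD q _ hqF.out hqp hQq hQ (Or.inl hq2)
        intro y hy
        rw [mem_centralizer_singleton_iff]
        exact mem_centralizer_iff.mp (h1 hw₀D) y hy
    have h2 : w₀ ∈ T₀ ⊓ centralizer (K : Set X) := by
      refine mem_inf.mpr ⟨hw₀T, ?_⟩
      rw [mem_centralizer_iff]
      intro k hk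
      exact mem_centralizer_singleton_iff.mp (hKw hk)
    rw [h.faithful, mem_bot] at h2
    exact hw₀1 h2
  obtain ⟨Q₀, ⟨hQ₀2, hTQ₀, hQ₀N⟩, hQ₀min⟩ := (Set.toFinite {Q : Subgroup X | IsPGroup 2 Q ∧
    T₀ ≤ normalizer (Q : Set X) ∧ ¬ (Nw ≤ centralizer (Q : Set X))}).exists_minimal hex
  have hmin : ∀ Q : Subgroup X, Q ≤ Q₀ → T₀ ≤ normalizer (Q : Set X) →
      ¬ (Nw ≤ centralizer (Q : Set X)) → Q₀ ≤ Q :=
    fun Q h1 h2 h3 => hQ₀min ⟨hQ₀2.to_le h1, h2, h3⟩ h1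
  have hcop2 : (Nat.card Q₀).Coprime p := by
    obtain ⟨k, hk⟩ := IsPGroup.iff_card.mp hQ₀2
    rw [hk]
    exact Nat.Coprime.pow_left k ((Nat.coprime_primes Nat.prime_two hp).mpr (Ne.symm hp2))
  have hNwp : IsPGroup p Nw := h.pgroup.to_le hNwT
  have hactN : CoprimeAct Nw Q₀ := by
    refine ⟨hNwT.trans hTQ₀, ?_, Or.inl ?_⟩
    · obtain ⟨k, hk⟩ := IsPGroup.iff_card.mp hNwp
      rw [hk]
      exact Nat.Coprime.pow_left k hcop2.symm
    · haveI : Group.IsNilpotent Nw := hNwp.isNilpotent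
      infer_instance
  -- `[Q₀, Nw] = Q₀`
  have hcomm_eq : ⁅Q₀, Nw⁆ = Q₀ := by
    have hle : ⁅Q₀, Nw⁆ ≤ Q₀ := Cfsg.Agent.Lib.Helper1.commutator_le_of_le_normalizer hactN.norm
    have hT : T₀ ≤ normalizer ((⁅Q₀, Nw⁆ : Subgroup X) : Set X) :=
      fun t ht => mem_normalizer_commutator (hTQ₀ ht) (hTNw ht)
    by_cases hc : Nw ≤ centralizer ((⁅Q₀, Nw⁆ : Subgroup X) : Set X)
    · exfalso
      have h1 : ⁅⁅Q₀, Nw⁆, Nw⁆ = ⊥ := by
        rw [commutator_eq_bot_iff_le_centralizer, le_centralizer_iff]; exact hc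
      rw [hactN.commutator_commutator_eq, commutator_eq_bot_iff_le_centralizer,
        le_centralizer_iff] at h1
      exact hQ₀N h1
    · exact le_antisymm hle (hmin _ hle hT hc)
  -- the derived subgroup
  have hQ'le : ⁅Q₀, Q₀⁆ ≤ Q₀ :=
    Cfsg.Agent.Lib.Helper1.commutator_le_of_le_normalizer le_normalizer
  have hQ₀ne : Q₀ ≠ ⊥ := by
    intro hbot
    apply hQ₀N
    rw [hbot]
    intro y _
    rw [mem_centralizer_iff]
    intro w hw
    rw [SetLike.mem_coe, mem_bot] at hw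
    rw [hw]; simp
  have hQ'not : ¬ Q₀ ≤ ⁅Q₀, Q₀⁆ := by
    intro hle
    haveI : Nontrivial Q₀ := (nontrivial_iff_ne_bot Q₀).mpr hQ₀ne
    haveI : Group.IsNilpotent Q₀ := by
      haveI : Fact (Nat.Prime 2) := ⟨Nat.prime_two⟩
      exact hQ₀2.isNilpotent
    have hlt := Group.IsSolvable.commutator_lt_top_of_nontrivial Q₀
    apply hlt.ne
    rw [eq_top_iff]
    intro y _
    have hy : (y : X) ∈ ⁅Q₀, Q₀⁆ := hle y.2
    rw [← map_subtype_commutator] at hy
    obtain ⟨y', hy', hyy⟩ := hy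
    have : y' = y := Subtype.ext hyy
    rw [← this]; exact hy'
  have hQ'T : T₀ ≤ normalizer ((⁅Q₀, Q₀⁆ : Subgroup X) : Set X) :=
    fun t ht => mem_normalizer_commutator (hTQ₀ ht) (hTQ₀ ht)
  have hNwQ' : Nw ≤ centralizer ((⁅Q₀, Q₀⁆ : Subgroup X) : Set X) := by
    by_contra hc
    exact hQ'not (hmin _ hQ'le hQ'T hc)
  have h3 : ⁅⁅Q₀, Nw⁆, ⁅Q₀, Q₀⁆⁆ = ⊥ := by
    apply commutator_commutator_eq_bot_of_rotate
    · have h4 : ⁅Nw, ⁅Q₀, Q₀⁆⁆ = ⊥ := commutator_eq_bot_iff_le_centralizer.mpr hNwQ'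
      rw [h4, commutator_bot_left]
    · have h4 : ⁅⁅Q₀, Q₀⁆, Q₀⁆ ≤ ⁅Q₀, Q₀⁆ :=
        Cfsg.Agent.Lib.Helper1.commutator_le_of_le_normalizer
          Cfsg.Agent.Lib.Helper1.le_normalizer_commutator_left
      rw [eq_bot_iff]
      calc ⁅⁅⁅Q₀, Q₀⁆, Q₀⁆, Nw⁆ ≤ ⁅⁅Q₀, Q₀⁆, Nw⁆ := commutator_mono h4 le_rfl
        _ = ⊥ := commutator_eq_bot_iff_le_centralizer.mpr (le_centralizer_iff.mp hNwQ')
  rw [hcomm_eq, commutator_eq_bot_iff_le_centralizer] at h3
  have hQ'ab : ∀ a ∈ ⁅Q₀, Q₀⁆, ∀ b ∈ ⁅Q₀, Q₀⁆, a * b = b * a := by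
    intro a ha b hb
    exact (mem_centralizer_iff.mp (h3 (hQ'le ha)) b hb).symm
  have hDQ' : powSub T₀ (p ^ n) ≤ centralizer ((⁅Q₀, Q₀⁆ : Subgroup X) : Set X) :=
    hPD 2 _ Nat.prime_two (Ne.symm hp2) (hQ₀2.to_le hQ'le) hQ'T (Or.inr hQ'ab)
  have hQ1 := comm_mem_centralizer_of_invariant_abelian (Q₀ := Q₀) (B := B) hcop2 hBcomm hBexp
    (hBD.trans (hDT.trans hTQ₀)) (hBD.trans hDQ') (hTQ₀ hu) huB (h.exp u hu)
    (fun A hAQ hAcomm huA => by
      intro a ha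
      rw [mem_centralizer_singleton_iff]
      have h5 := h.cent u hu 2 A Nat.prime_two (Ne.symm hp2) (hQ₀2.to_le hAQ) huA
        (Or.inr hAcomm) a ha
      calc a * u ^ p ^ n = (u ^ p ^ n * a * (u ^ p ^ n)⁻¹) * u ^ p ^ n := by rw [h5]
        _ = u ^ p ^ n * a := by group) b₀ hb₀
  rw [← hw₀] at hQ1
  apply hQ₀N
  rw [hNw, closure_le]
  rintro _ ⟨t, ht, rfl⟩
  rw [SetLike.mem_coe, mem_centralizer_iff]
  intro y hy
  have hy' : t⁻¹ * y * t ∈ Q₀ := by
    have := (mem_normalizer_iff.mp (inv_mem (hTQ₀ ht)) y).mp hy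
    simpa using this
  have h5 := mem_centralizer_iff.mp hQ1 _ hy'
  calc y * (t * w₀ * t⁻¹) = t * ((t⁻¹ * y * t) * w₀) * t⁻¹ := by group
    _ = t * (w₀ * (t⁻¹ * y * t)) * t⁻¹ := by rw [h5]
    _ = t * w₀ * t⁻¹ * y := by group

omit [Finite X] [Fact p.Prime] in
theorem mul_pow_mul_inv_mem {T₀ S : Subgroup X} (hTS : T₀ ≤ normalizer (S : Set X))
    {g s : X} (hg : g ∈ T₀) (hs : s ∈ S) : ∀ k : ℕ, (s * g) ^ k * (g ^ k)⁻¹ ∈ S := by
  intro k
  induction k with
  | zero => simp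
  | succ k ih =>
    have h1 : g ^ k * s * (g ^ k)⁻¹ ∈ S := (mem_normalizer_iff.mp (hTS (pow_mem hg k)) s).mp hs
    have e : (s * g) ^ (k + 1) * (g ^ (k + 1))⁻¹ =
        ((s * g) ^ k * (g ^ k)⁻¹) * (g ^ k * s * (g ^ k)⁻¹) := by
      rw [pow_succ, pow_succ]; group
    rw [e]
    exact mul_mem ih h1

/-- **Core theorem.** In the situation of `QData`, for a normal subgroup `S` of `T₀` of exponent
`p`, the `p ^ n`-th powers of `g` and of `s g` commute (`s ∈ S`). -/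
theorem QData.commute_pow (hp2 : p ≠ 2) {n : ℕ} {K T₀ : Subgroup X} (h : QData p n K T₀)
    {S : Subgroup X} (hTS : T₀ ≤ normalizer (S : Set X))
    (hSexp : ∀ s ∈ S, s ^ p = 1) {g : X} (hg : g ∈ T₀) {s : X} (hs : s ∈ S) (hsT : s ∈ T₀) :
    g ^ p ^ n * (s * g) ^ p ^ n = (s * g) ^ p ^ n * g ^ p ^ n := by
  classical
  have hTD := le_normalizer_powSub T₀ (p ^ n)
  have hTDS : T₀ ≤ normalizer ((powSub T₀ (p ^ n) ⊓ S : Subgroup X) : Set X) :=
    fun t ht => inf_normalizer_le_normalizer_inf (mem_inf.mpr ⟨hTD ht, hTS ht⟩)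
  -- invariant abelian subgroups of `D ⊓ S` centralize `D`
  have hQD : ∀ B : Subgroup X, B ≤ powSub T₀ (p ^ n) ⊓ S →
      (∀ a ∈ B, ∀ b ∈ B, a * b = b * a) → T₀ ≤ normalizer (B : Set X) →
      B ≤ centralizer ((powSub T₀ (p ^ n) : Subgroup X) : Set X) := by
    intro B hB hBcomm hTB
    rw [le_centralizer_iff]
    apply powSub_le_of_forall
    intro t ht
    rw [mem_centralizer_iff]
    intro b hb
    have h1 := h.le_centralizer_pow hp2 ht (hB.trans inf_le_left) hBcomm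
      (fun b hb => hSexp b (hB hb).2) (hTB ht)
    exact mem_centralizer_singleton_iff.mp (h1 hb)
  obtain ⟨M, ⟨hMle, hTM, hMD⟩, hMmax⟩ := (Set.toFinite {M : Subgroup X |
    M ≤ powSub T₀ (p ^ n) ⊓ S ∧ T₀ ≤ normalizer (M : Set X) ∧
      M ≤ centralizer ((powSub T₀ (p ^ n) : Subgroup X) : Set X)}).exists_maximal
    ⟨⊥, bot_le, le_normalizer_of_normal, bot_le⟩
  have hDSM : powSub T₀ (p ^ n) ⊓ S ≤ M := by
    by_contra hnot
    have hTnil : Group.IsNilpotent T₀ := h.pgroup.isNilpotent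
    obtain ⟨x, hx, hxM, hxT⟩ := exists_not_mem_commutator_mem hTnil
      (inf_le_left.trans (powSub_le T₀ _)) hTDS hnot
    have hxD : x ∈ powSub T₀ (p ^ n) := (mem_inf.mp hx).1
    -- `B = M ⟨x⟩`
    have hBeq : M ⊔ zpowers x = closure ((M : Set X) ∪ {x}) := by
      rw [Subgroup.closure_union, closure_eq, ← zpowers_eq_closure]
    have hBle : M ⊔ zpowers x ≤ powSub T₀ (p ^ n) ⊓ S := sup_le hMle (zpowers_le.mpr hx)
    have hBcomm : ∀ a ∈ M ⊔ zpowers x, ∀ b ∈ M ⊔ zpowers x, a * b = b * a := by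
      rw [hBeq]
      apply commute_of_mem_closure
      have hMx : ∀ m ∈ M, m * x = x * m := fun m hm =>
        (mem_centralizer_iff.mp (hMD hm) x hxD).symm
      rintro a (ha | ha) b (hb | hb)
      · exact (mem_centralizer_iff.mp (hMD ha) b (hMle hb).1).symm
      · rw [Set.mem_singleton_iff] at hb
        rw [hb]; exact hMx a ha
      · rw [Set.mem_singleton_iff] at ha
        rw [ha]; exact (hMx b hb).symm
      · rw [Set.mem_singleton_iff] at ha hb
        rw [ha, hb]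
    have hTB : T₀ ≤ normalizer ((M ⊔ zpowers x : Subgroup X) : Set X) := by
      apply Cfsg.Agent.Lib.Helper1.le_normalizer_of_forall_conj_mem
      intro t ht
      rw [hBeq]
      apply conj_mem_closure_of_forall
      rintro y (hy | hy)
      · exact Subgroup.subset_closure (Or.inl ((mem_normalizer_iff.mp (hTM ht) y).mp hy))
      · rw [Set.mem_singleton_iff] at hy
        rw [hy, ← hBeq]
        have h1 : ⁅x, t⁆ ∈ M := hxT t ht
        have e : t * x * t⁻¹ = ⁅x, t⁆⁻¹ * x := by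
          rw [commutatorElement_def]; group
        rw [e]
        exact mul_mem (mem_sup_left (inv_mem h1)) (mem_sup_right (mem_zpowers x))
    have hBD := hQD _ hBle hBcomm hTB
    have := hMmax ⟨hBle, hTB, hBD⟩ le_sup_left
    exact hxM (this (mem_sup_right (mem_zpowers x)))
  -- the element `m = (s g) ^ (p ^ n) (g ^ (p ^ n))⁻¹`
  have hmS : (s * g) ^ p ^ n * (g ^ p ^ n)⁻¹ ∈ S := mul_pow_mul_inv_mem hTS hg hs _
  have hmD : (s * g) ^ p ^ n * (g ^ p ^ n)⁻¹ ∈ powSub T₀ (p ^ n) :=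
    mul_mem (pow_mem_powSub (mul_mem hsT hg) _) (inv_mem (pow_mem_powSub hg _))
  have hmC := hMD (hDSM (mem_inf.mpr ⟨hmD, hmS⟩))
  have h1 := mem_centralizer_iff.mp hmC _ (pow_mem_powSub hg (p ^ n))
  calc g ^ p ^ n * (s * g) ^ p ^ n
      = g ^ p ^ n * ((s * g) ^ p ^ n * (g ^ p ^ n)⁻¹) * g ^ p ^ n := by group
    _ = (s * g) ^ p ^ n * (g ^ p ^ n)⁻¹ * g ^ p ^ n * g ^ p ^ n := by rw [h1]
    _ = (s * g) ^ p ^ n * g ^ p ^ n := by group

end LemmaQ

end Cfsg.Agent.Lib.Helper23.PL
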