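import Cfsg.Agent.Lib.Helper23.PLHyp
import Cfsg.Agent.Lib.Helper12.Generation

/-!
# The key lemma on abelian `p`-groups acting on a `p'`-group with central derived subgroup action
-/

set_option autoImplicit false

namespace Cfsg.Agent.Lib.Helper23.PL

open scoped commutatorElement
open Subgroup
open Cfsg.Agent.Lib.Helper1 (CoprimeAct)

universe u
variable {X : Type u} [Group X]

/-- if `[C, b]` commutes with `b` (coprime action), then `C` commutes with `b`. -/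
theorem le_centralizer_of_commutator_le [Finite X] {p : ℕ} {C : Subgroup X} {b : X}
    (hb : b ^ p = 1) (hbC : b ∈ normalizer (C : Set X)) (hC : (Nat.card C).Coprime p)
    (h : ⁅C, zpowers b⁆ ≤ centralizer {b}) : C ≤ centralizer {b} := by
  have hact : CoprimeAct (zpowers b) C := by
    refine ⟨zpowers_le.mpr hbC, ?_, Or.inl inferInstance⟩
    rw [Nat.card_zpowers]
    exact Nat.Coprime.coprime_dvd_left (orderOf_dvd_of_pow_eq_one hb) hC.symm
  have h1 : ⁅⁅C, zpowers b⁆, zpowers b⁆ = ⊥ := by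
    rw [commutator_eq_bot_iff_le_centralizer]
    intro x hx
    have h2 := mem_centralizer_singleton_iff.mp (h hx)
    rw [mem_centralizer_iff]
    intro y hy
    obtain ⟨k, rfl⟩ := mem_zpowers_iff.mp hy
    have hc : Commute b x := h2.symm
    exact (hc.zpow_left k).eq
  rw [hact.commutator_commutator_eq, commutator_eq_bot_iff_le_centralizer] at h1
  intro c hc
  rw [mem_centralizer_singleton_iff]
  exact (mem_centralizer_iff.mp (h1 hc) b (mem_zpowers b)).symm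

theorem pow_eq_one_or_pow_mem {p : ℕ} (hp : p.Prime) {u : X} {n : ℕ} (hu : u ^ p ^ (n + 1) = 1)
    (M : Subgroup X) (d : ℕ) (hd : u ^ d ∈ M) : u ^ d = 1 ∨ u ^ p ^ n ∈ M := by
  obtain ⟨a, ha, hg⟩ := (Nat.dvd_prime_pow hp).mp (Nat.gcd_dvd_right d (p ^ (n + 1)))
  by_cases han : a = n + 1
  · left
    have h1 : p ^ (n + 1) ∣ d := by
      rw [← han, ← hg]; exact Nat.gcd_dvd_left _ _
    obtain ⟨t, rfl⟩ := h1
    rw [pow_mul, hu, one_pow]
  · right
    have han' : a ≤ n := by omega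
    have h1 : u ^ (p ^ a) ∈ M := by
      have hbez := Nat.gcd_eq_gcd_ab d (p ^ (n + 1))
      rw [hg] at hbez
      have h2 : u ^ ((p ^ a : ℕ) : ℤ) = (u ^ d) ^ (Nat.gcdA d (p ^ (n + 1))) *
          (u ^ (p ^ (n + 1))) ^ (Nat.gcdB d (p ^ (n + 1))) := by
        rw [hbez, zpow_add, zpow_mul, zpow_mul, zpow_natCast, zpow_natCast]
      rw [zpow_natCast, hu, one_zpow, mul_one] at h2
      rw [h2]
      exact M.zpow_mem hd _
    have h3 : u ^ p ^ n = (u ^ p ^ a) ^ (p ^ (n - a)) := by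
      rw [← pow_mul, ← pow_add, Nat.add_sub_cancel' han']
    rw [h3]; exact M.pow_mem h1 _

/-- conjugation moves `C_Q(B')` to `C_Q(g B' g⁻¹)`; elementwise form. -/
theorem conj_mem_inf_centralizer {Q B' : Subgroup X} {g : X} (hgQ : g ∈ normalizer (Q : Set X))
    (hgB : ∀ b ∈ B', g * b * g⁻¹ = b) {x : X} (hx : x ∈ Q ⊓ centralizer (B' : Set X)) :
    g * x * g⁻¹ ∈ Q ⊓ centralizer (B' : Set X) := by
  obtain ⟨hxQ, hxC⟩ := mem_inf.mp hx
  refine mem_inf.mpr ⟨(mem_normalizer_iff.mp hgQ x).mp hxQ, ?_⟩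
  rw [mem_centralizer_iff]
  intro b hb
  have h1 := mem_centralizer_iff.mp hxC b hb
  have h2 := hgB b hb
  calc b * (g * x * g⁻¹) = (g * b * g⁻¹) * (g * x * g⁻¹) := by rw [h2]
    _ = g * (b * x) * g⁻¹ := by group
    _ = g * (x * b) * g⁻¹ := by rw [h1]
    _ = (g * x * g⁻¹) * (g * b * g⁻¹) := by group
    _ = g * x * g⁻¹ * b := by rw [h2]

/-- a maximal subgroup `B₁` of `B` whose centralizer in `Q₀` is not centralized by `bs` has
index `p`, generated together with `bs`. -/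
theorem le_sup_zpowers_of_maximal [Finite X] {p : ℕ} [Fact p.Prime] {Q₀ B B₁ : Subgroup X}
    (hQ₀ : (Nat.card Q₀).Coprime p)
    (hBcomm : ∀ a ∈ B, ∀ b ∈ B, a * b = b * a) (hBexp : ∀ b ∈ B, b ^ p = 1)
    (hBQ : B ≤ normalizer (Q₀ : Set X)) {bs : X} (hbs : bs ∈ B)
    (hB₁ : B₁ ≤ B) (hΨ : ¬ (Q₀ ⊓ centralizer (B₁ : Set X) ≤ centralizer {bs}))
    (hmax : ∀ B' : Subgroup X, B' ≤ B →
      ¬ (Q₀ ⊓ centralizer (B' : Set X) ≤ centralizer {bs}) → B₁ ≤ B' → B' ≤ B₁) :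
    B ≤ B₁ ⊔ zpowers bs := by
  have hp : p.Prime := Fact.out
  have hbs1 : bs ∉ B₁ := by
    intro h
    apply hΨ
    intro x hx
    rw [mem_centralizer_singleton_iff]
    exact (mem_centralizer_iff.mp (mem_inf.mp hx).2 bs h).symm
  by_contra hcon
  obtain ⟨b', hb'B, hb'⟩ := SetLike.not_le_iff_exists.mp hcon
  -- `B` normalizes `C₁`
  have hBC₁ : B ≤ normalizer ((Q₀ ⊓ centralizer (B₁ : Set X) : Subgroup X) : Set X) := by
    apply Cfsg.Agent.Lib.Helper1.le_normalizer_of_forall_conj_mem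
    intro b hb x hx
    exact conj_mem_inf_centralizer (hBQ hb) (fun β hβ => by
      have := hBcomm b hb β (hB₁ hβ)
      rw [this]; group) hx
  have hbsC : bs ∈ normalizer ((Q₀ ⊓ centralizer (B₁ : Set X) : Subgroup X) : Set X) := hBC₁ hbs
  have hK₁C : ⁅Q₀ ⊓ centralizer (B₁ : Set X), zpowers bs⁆ ≤ Q₀ ⊓ centralizer (B₁ : Set X) :=
    Cfsg.Agent.Lib.Helper1.commutator_le_of_le_normalizer (zpowers_le.mpr hbsC)
  have hBz : B ≤ normalizer ((zpowers bs : Subgroup X) : Set X) := by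
    apply Cfsg.Agent.Lib.Helper1.le_normalizer_of_forall_conj_mem
    intro b hb y hy
    have hyB : y ∈ B := (zpowers_le.mpr hbs) hy
    have : b * y * b⁻¹ = y := by rw [hBcomm b hb y hyB]; group
    rw [this]; exact hy
  -- `E`
  have hEB : closure ({bs, b'} : Set X) ≤ B := by
    rw [closure_le]
    rintro y (rfl | rfl)
    · exact hbs
    · exact hb'B
  have hEcomm : ∀ x ∈ closure ({bs, b'} : Set X), ∀ y ∈ closure ({bs, b'} : Set X),
      x * y = y * x := fun x hx y hy => hBcomm x (hEB hx) y (hEB hy)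
  have hEexp : ∀ x ∈ closure ({bs, b'} : Set X), x ^ p = 1 := fun x hx => hBexp x (hEB hx)
  have hEK : closure ({bs, b'} : Set X) ≤ normalizer
      ((⁅Q₀ ⊓ centralizer (B₁ : Set X), zpowers bs⁆ : Subgroup X) : Set X) := by
    intro e he
    exact mem_normalizer_commutator (hBC₁ (hEB he)) (hBz (hEB he))
  have hpK : ¬ p ∣ Nat.card (⁅Q₀ ⊓ centralizer (B₁ : Set X), zpowers bs⁆ : Subgroup X) := by
    intro hdvd
    have h1 : Nat.card (⁅Q₀ ⊓ centralizer (B₁ : Set X), zpowers bs⁆ : Subgroup X) ∣ Nat.card Q₀ :=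
      Subgroup.card_dvd_of_le (hK₁C.trans inf_le_left)
    have := Nat.Coprime.eq_one_of_dvd hQ₀.symm (hdvd.trans h1)
    exact hp.one_lt.ne' this
  have hb'z : b' ∉ zpowers bs := fun h => hb' (mem_sup_right h)
  have hbsne : bs ≠ 1 := fun h => hbs1 (h ▸ one_mem _)
  have hgen := Cfsg.Agent.Lib.Helper12.le_genC_of_noncyclic hEcomm hEexp hEK hpK
    (subset_closure (by simp : b' ∈ ({bs, b'} : Set X)))
    (subset_closure (by simp : bs ∈ ({bs, b'} : Set X))) hb'z hbsne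
  -- each centralizer piece commutes with `bs`
  have hpiece : Cfsg.Agent.Lib.Helper12.genC (closure ({bs, b'} : Set X))
      ⁅Q₀ ⊓ centralizer (B₁ : Set X), zpowers bs⁆ ≤ centralizer {bs} := by
    unfold Cfsg.Agent.Lib.Helper12.genC
    apply iSup_le
    rintro ⟨e, heE, he1⟩
    have heB₁ : e ∉ B₁ := by
      intro heB
      obtain ⟨m, k, hmk⟩ := exists_zpow_of_mem_closure_pair (hBcomm bs hbs b' hb'B) heE
      have h1 : b' ^ k ∈ B₁ ⊔ zpowers bs := by
        have : b' ^ k = (bs ^ m)⁻¹ * e := by rw [hmk]; group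
        rw [this]
        exact mul_mem (inv_mem (mem_sup_right (zpow_mem (mem_zpowers bs) m))) (mem_sup_left heB)
      rcases mem_or_zpow_eq_one hp (hBexp b' hb'B) _ k h1 with h | h
      · exact hb' h
      · rw [h, mul_one] at hmk
        have h2 : bs ^ m ∈ B₁ := hmk ▸ heB
        rcases mem_or_zpow_eq_one hp (hBexp bs hbs) _ m h2 with h' | h'
        · exact hbs1 h'
        · exact he1 (by rw [hmk, h'])
    have hnot : Q₀ ⊓ centralizer ((B₁ ⊔ zpowers e : Subgroup X) : Set X) ≤ centralizer {bs} := by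
      by_contra hΨ'
      have := hmax (B₁ ⊔ zpowers e) (sup_le hB₁ (zpowers_le.mpr (hEB heE))) hΨ' le_sup_left
      exact heB₁ (this (mem_sup_right (mem_zpowers e)))
    refine le_trans ?_ hnot
    intro x hx
    obtain ⟨hxK, hxe⟩ := mem_inf.mp hx
    have hxC := hK₁C hxK
    refine mem_inf.mpr ⟨(mem_inf.mp hxC).1, ?_⟩
    have h1 : B₁ ⊔ zpowers e ≤ centralizer {x} := by
      apply sup_le
      · intro β hβ
        rw [mem_centralizer_singleton_iff]
        exact (mem_centralizer_iff.mp (mem_inf.mp hxC).2 β hβ)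
      · rw [zpowers_le, mem_centralizer_singleton_iff]
        exact (mem_centralizer_singleton_iff.mp hxe).symm
    rw [mem_centralizer_iff]
    intro y hy
    exact (mem_centralizer_singleton_iff.mp (h1 hy))
  have hfinal : Q₀ ⊓ centralizer (B₁ : Set X) ≤ centralizer {bs} :=
    le_centralizer_of_commutator_le (hBexp bs hbs) hbsC
      (Nat.Coprime.coprime_dvd_left (Subgroup.card_dvd_of_le inf_le_left) hQ₀) (hgen.trans hpiece)
  exact hΨ hfinal

theorem le_normalizer_inf_centralizer {Q₀ B B₁ : Subgroup X}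
    (hBcomm : ∀ a ∈ B, ∀ b ∈ B, a * b = b * a) (hBQ : B ≤ normalizer (Q₀ : Set X))
    (hB₁ : B₁ ≤ B) :
    B ≤ normalizer ((Q₀ ⊓ centralizer (B₁ : Set X) : Subgroup X) : Set X) := by
  apply Cfsg.Agent.Lib.Helper1.le_normalizer_of_forall_conj_mem
  intro b hb x hx
  exact conj_mem_inf_centralizer (hBQ hb) (fun β hβ => by
    have := hBcomm b hb β (hB₁ hβ)
    rw [this]; group) hx

theorem conj_mem_closure_of_forall {S : Set X} {g : X}
    (h : ∀ s ∈ S, g * s * g⁻¹ ∈ closure S) : ∀ a ∈ closure S, g * a * g⁻¹ ∈ closure S := by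
  intro a ha
  induction ha using Subgroup.closure_induction with
  | mem y hy => exact h y hy
  | one => simp
  | mul y z _ _ hy hz =>
    have : g * (y * z) * g⁻¹ = (g * y * g⁻¹) * (g * z * g⁻¹) := by group
    rw [this]; exact mul_mem hy hz
  | inv y _ hy =>
    have : g * y⁻¹ * g⁻¹ = (g * y * g⁻¹)⁻¹ := by group
    rw [this]; exact inv_mem hy

/-- distinct conjugates of `B₁`: the corresponding commutator elements commute. -/
theorem commute_conj_of_not_mem_normalizer [Finite X] {p : ℕ} [Fact p.Prime]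
    {Q₀ B B₁ : Subgroup X}
    (hBcomm : ∀ a ∈ B, ∀ b ∈ B, a * b = b * a) (hBexp : ∀ b ∈ B, b ^ p = 1)
    (hBQ : B ≤ normalizer (Q₀ : Set X))
    (hBQ' : B ≤ centralizer ((⁅Q₀, Q₀⁆ : Subgroup X) : Set X))
    {bs : X} (hbs : bs ∈ B) (hB₁ : B₁ ≤ B) (hidx : B ≤ B₁ ⊔ zpowers bs)
    {g : X} (hgQ : g ∈ normalizer (Q₀ : Set X)) (hgB : g ∈ normalizer (B : Set X))
    (hgB₁ : g ∉ normalizer (B₁ : Set X))
    {x : X} (hx : x ∈ ⁅Q₀ ⊓ centralizer (B₁ : Set X), zpowers bs⁆) :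
    x * (g * x * g⁻¹) = (g * x * g⁻¹) * x := by
  have hp : p.Prime := Fact.out
  obtain ⟨β, hβ, hβg⟩ : ∃ β ∈ B₁, g * β * g⁻¹ ∉ B₁ := by
    by_contra hne
    push Not at hne
    exact hgB₁ (mem_normalizer_fintype hne)
  have hbB : g * β * g⁻¹ ∈ B := (mem_normalizer_iff.mp hgB β).mp (hB₁ hβ)
  have hidx' : B ≤ B₁ ⊔ zpowers (g * β * g⁻¹) :=
    le_sup_zpowers_of_not_mem hp hBcomm (hBexp bs hbs) hidx hB₁ hbs hbB hβg
  have hBC₁ := le_normalizer_inf_centralizer hBcomm hBQ hB₁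
  have hK₁C : ⁅Q₀ ⊓ centralizer (B₁ : Set X), zpowers bs⁆ ≤ Q₀ ⊓ centralizer (B₁ : Set X) :=
    Cfsg.Agent.Lib.Helper1.commutator_le_of_le_normalizer (zpowers_le.mpr (hBC₁ hbs))
  have hxC := hK₁C hx
  obtain ⟨hxQ, hxB₁⟩ := mem_inf.mp hxC
  -- `g x g⁻¹ ∈ Q₀ ⊓ C(b)`
  have hgx : g * x * g⁻¹ ∈ Q₀ ⊓ centralizer ({g * β * g⁻¹} : Set X) := by
    refine mem_inf.mpr ⟨(mem_normalizer_iff.mp hgQ x).mp hxQ, ?_⟩
    rw [mem_centralizer_singleton_iff]
    have h1 := mem_centralizer_iff.mp hxB₁ β hβ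
    calc g * x * g⁻¹ * (g * β * g⁻¹) = g * (x * β) * g⁻¹ := by group
      _ = g * (β * x) * g⁻¹ := by rw [h1]
      _ = g * β * g⁻¹ * (g * x * g⁻¹) := by group
  -- monotonicity
  have hmono : ⁅Q₀ ⊓ centralizer (B₁ : Set X), zpowers bs⁆ ≤
      ⁅Q₀ ⊓ centralizer (B₁ : Set X), zpowers (g * β * g⁻¹)⁆ := by
    rw [commutator_le]
    intro c hc y hy
    have hyB : y ∈ B := (zpowers_le.mpr hbs) hy
    have hcomm : ∀ h ∈ B₁, ∀ k ∈ zpowers (g * β * g⁻¹), h * k = k * h := by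
      intro h hh k hk
      exact hBcomm h (hB₁ hh) k ((zpowers_le.mpr hbB) hk)
    obtain ⟨β', hβ', b'', hb'', rfl⟩ := exists_mul_of_mem_sup hcomm (hidx' hyB)
    have hb''B : b'' ∈ B := (zpowers_le.mpr hbB) hb''
    have h1 : ⁅c, b''⁆ ∈ Q₀ ⊓ centralizer (B₁ : Set X) := by
      have h2 : b'' * c⁻¹ * b''⁻¹ ∈ Q₀ ⊓ centralizer (B₁ : Set X) :=
        (mem_normalizer_iff.mp (hBC₁ hb''B) c⁻¹).mp (inv_mem hc)
      have : ⁅c, b''⁆ = c * (b'' * c⁻¹ * b''⁻¹) := by rw [commutatorElement_def]; group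
      rw [this]; exact mul_mem hc h2
    have h3 : β' * ⁅c, b''⁆ = ⁅c, b''⁆ * β' := mem_centralizer_iff.mp (mem_inf.mp h1).2 β' hβ'
    have h4 : β' * c = c * β' := mem_centralizer_iff.mp (mem_inf.mp hc).2 β' hβ'
    have h5 : ⁅c, β' * b''⁆ = ⁅c, b''⁆ := by
      have e1 : ⁅c, β' * b''⁆ = (c * β') * b'' * c⁻¹ * b''⁻¹ * β'⁻¹ := by
        rw [commutatorElement_def]; group
      rw [e1, ← h4]
      have e2 : β' * c * b'' * c⁻¹ * b''⁻¹ * β'⁻¹ = β' * ⁅c, b''⁆ * β'⁻¹ := by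
        rw [commutatorElement_def]; group
      rw [e2, h3]; group
    rw [h5]
    exact commutator_mem_commutator hc hb''
  -- three subgroups
  have h1 : ⁅⁅zpowers (g * β * g⁻¹), Q₀ ⊓ centralizer ({g * β * g⁻¹} : Set X)⁆,
      Q₀ ⊓ centralizer (B₁ : Set X)⁆ = ⊥ := by
    have : ⁅zpowers (g * β * g⁻¹), Q₀ ⊓ centralizer ({g * β * g⁻¹} : Set X)⁆ = ⊥ := by
      rw [commutator_eq_bot_iff_le_centralizer]
      intro y hy
      obtain ⟨k, rfl⟩ := mem_zpowers_iff.mp hy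
      rw [mem_centralizer_iff]
      intro w hw
      have h2 : Commute w (g * β * g⁻¹) :=
        mem_centralizer_singleton_iff.mp (mem_inf.mp hw).2
      exact (h2.zpow_right k).eq
    rw [this, commutator_bot_left]
  have h2 : ⁅⁅Q₀ ⊓ centralizer ({g * β * g⁻¹} : Set X), Q₀ ⊓ centralizer (B₁ : Set X)⁆,
      zpowers (g * β * g⁻¹)⁆ = ⊥ := by
    rw [commutator_eq_bot_iff_le_centralizer]
    refine (commutator_mono inf_le_left inf_le_left).trans ?_
    intro w hw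
    rw [mem_centralizer_iff]
    intro y hy
    have hyB : y ∈ B := (zpowers_le.mpr hbB) hy
    exact (mem_centralizer_iff.mp (hBQ' hyB) w hw).symm
  have h3 := commutator_commutator_eq_bot_of_rotate h1 h2
  rw [commutator_eq_bot_iff_le_centralizer] at h3
  exact (mem_centralizer_iff.mp (h3 (hmono hx)) _ hgx).symm

/-- **Lemma Q1.** Let `B` be abelian of exponent `p` normalizing the `p'`-group `Q₀` and
centralizing `[Q₀, Q₀]`, and let `u` be a `p`-element normalizing both, with `z = u ^ p ^ n` of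
order dividing `p`. If `z` centralizes every `u`-invariant abelian subgroup of `Q₀`, then
`[z, B]` centralizes `Q₀`. -/
theorem comm_mem_centralizer_of_invariant_abelian [Finite X] {p : ℕ} [Fact p.Prime]
    {Q₀ B : Subgroup X} (hQ₀ : (Nat.card Q₀).Coprime p)
    (hBcomm : ∀ a ∈ B, ∀ b ∈ B, a * b = b * a) (hBexp : ∀ b ∈ B, b ^ p = 1)
    (hBQ : B ≤ normalizer (Q₀ : Set X))
    (hBQ' : B ≤ centralizer ((⁅Q₀, Q₀⁆ : Subgroup X) : Set X))
    {u : X} (huQ : u ∈ normalizer (Q₀ : Set X)) (huB : u ∈ normalizer (B : Set X))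
    {n : ℕ} (hu : u ^ p ^ (n + 1) = 1)
    (hP : ∀ A : Subgroup X, A ≤ Q₀ → (∀ a ∈ A, ∀ b ∈ A, a * b = b * a) →
      u ∈ normalizer (A : Set X) → A ≤ centralizer {u ^ p ^ n}) :
    ∀ b₀ ∈ B, u ^ p ^ n * b₀ * (u ^ p ^ n)⁻¹ * b₀⁻¹ ∈ centralizer (Q₀ : Set X) := by
  classical
  have hp : p.Prime := Fact.out
  intro b₀ hb₀
  by_contra hcon
  have hzp : (u ^ p ^ n) ^ p = 1 := by rw [← pow_mul, ← pow_succ]; exact hu
  have hzQ : u ^ p ^ n ∈ normalizer (Q₀ : Set X) := pow_mem huQ _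
  have hzB : u ^ p ^ n ∈ normalizer (B : Set X) := pow_mem huB _
  generalize hz : u ^ p ^ n = z at hzp hzQ hzB hcon hP
  generalize hbs_def : z * b₀ * z⁻¹ * b₀⁻¹ = bs at hcon
  have hbs : bs ∈ B := by
    rw [← hbs_def]
    exact mul_mem ((mem_normalizer_iff.mp hzB b₀).mp hb₀) (inv_mem hb₀)
  have hΨ0 : ¬ (Q₀ ⊓ centralizer (((⊥ : Subgroup X) : Subgroup X) : Set X) ≤ centralizer {bs}) := by
    intro h
    apply hcon
    rw [mem_centralizer_iff]
    intro y hy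
    have h1 : y ∈ Q₀ ⊓ centralizer (((⊥ : Subgroup X) : Subgroup X) : Set X) := by
      refine mem_inf.mpr ⟨hy, ?_⟩
      rw [mem_centralizer_iff]
      intro w hw
      rw [SetLike.mem_coe, mem_bot] at hw
      rw [hw]; simp
    exact mem_centralizer_singleton_iff.mp (h h1)
  obtain ⟨B₁, hB₁S, hB₁max⟩ := (Set.toFinite {B' : Subgroup X | B' ≤ B ∧
    ¬ (Q₀ ⊓ centralizer (B' : Set X) ≤ centralizer {bs})}).exists_maximal ⟨⊥, bot_le, hΨ0⟩
  obtain ⟨hB₁, hΨ⟩ := hB₁S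
  have hmax : ∀ B' : Subgroup X, B' ≤ B →
      ¬ (Q₀ ⊓ centralizer (B' : Set X) ≤ centralizer {bs}) → B₁ ≤ B' → B' ≤ B₁ :=
    fun B' h1 h2 h3 => hB₁max ⟨h1, h2⟩ h3
  have hbs1 : bs ∉ B₁ := by
    intro h
    apply hΨ
    intro x hx
    rw [mem_centralizer_singleton_iff]
    exact (mem_centralizer_iff.mp (mem_inf.mp hx).2 bs h).symm
  have hidx := le_sup_zpowers_of_maximal hQ₀ hBcomm hBexp hBQ hbs hB₁ hΨ hmax
  have hzB₁ : z ∉ normalizer (B₁ : Set X) := by
    intro h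
    apply hbs1
    rw [← hbs_def]
    exact conj_mul_inv_mem_of_normalizer hBcomm (hBexp bs hbs) hidx hB₁ hbs hbs1 hzp hzB h b₀ hb₀
  have hBC₁ := le_normalizer_inf_centralizer hBcomm hBQ hB₁
  have hK₁C : ⁅Q₀ ⊓ centralizer (B₁ : Set X), zpowers bs⁆ ≤ Q₀ ⊓ centralizer (B₁ : Set X) :=
    Cfsg.Agent.Lib.Helper1.commutator_le_of_le_normalizer (zpowers_le.mpr (hBC₁ hbs))
  have hex : ∃ x ∈ ⁅Q₀ ⊓ centralizer (B₁ : Set X), zpowers bs⁆, x * bs ≠ bs * x := by
    by_contra hne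
    push Not at hne
    apply hΨ
    apply le_centralizer_of_commutator_le (hBexp bs hbs) (hBC₁ hbs)
      (Nat.Coprime.coprime_dvd_left (Subgroup.card_dvd_of_le inf_le_left) hQ₀)
    intro x hx
    rw [mem_centralizer_singleton_iff]
    exact hne x hx
  obtain ⟨x, hx, hxbs⟩ := hex
  have hxC := hK₁C hx
  obtain ⟨hxQ, hxB₁⟩ := mem_inf.mp hxC
  have hcd : ∀ d : ℕ, x * (u ^ d * x * (u ^ d)⁻¹) = (u ^ d * x * (u ^ d)⁻¹) * x := by
    intro d
    by_cases hd : u ^ d ∈ normalizer (B₁ : Set X)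
    · rcases pow_eq_one_or_pow_mem hp hu _ d hd with h | h
      · rw [h]; simp
      · rw [hz] at h
        exact absurd h hzB₁
    · exact commute_conj_of_not_mem_normalizer hBcomm hBexp hBQ hBQ' hbs hB₁ hidx
        (pow_mem huQ d) (pow_mem huB d) hd hx
  have key : ∀ i d : ℕ, (u ^ i * x * (u ^ i)⁻¹) * (u ^ (i + d) * x * (u ^ (i + d))⁻¹) =
      (u ^ (i + d) * x * (u ^ (i + d))⁻¹) * (u ^ i * x * (u ^ i)⁻¹) := by
    intro i d
    have h1 := hcd d
    rw [pow_add]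
    calc (u ^ i * x * (u ^ i)⁻¹) * (u ^ i * u ^ d * x * (u ^ i * u ^ d)⁻¹)
        = u ^ i * (x * (u ^ d * x * (u ^ d)⁻¹)) * (u ^ i)⁻¹ := by group
      _ = u ^ i * ((u ^ d * x * (u ^ d)⁻¹) * x) * (u ^ i)⁻¹ := by rw [h1]
      _ = (u ^ i * u ^ d * x * (u ^ i * u ^ d)⁻¹) * (u ^ i * x * (u ^ i)⁻¹) := by group
  have hcij : ∀ i j : ℕ, (u ^ i * x * (u ^ i)⁻¹) * (u ^ j * x * (u ^ j)⁻¹) =
      (u ^ j * x * (u ^ j)⁻¹) * (u ^ i * x * (u ^ i)⁻¹) := by
    intro i j
    rcases le_total i j with h | h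
    · obtain ⟨d, rfl⟩ := Nat.exists_eq_add_of_le h
      exact key i d
    · obtain ⟨d, rfl⟩ := Nat.exists_eq_add_of_le h
      exact (key j d).symm
  -- the abelian `u`-invariant subgroup generated by the conjugates of `x`
  have hAxQ : closure (Set.range fun i : ℕ => u ^ i * x * (u ^ i)⁻¹) ≤ Q₀ := by
    rw [closure_le]
    rintro _ ⟨i, rfl⟩
    exact (mem_normalizer_iff.mp (pow_mem huQ i) x).mp hxQ
  have hAxcomm : ∀ a ∈ closure (Set.range fun i : ℕ => u ^ i * x * (u ^ i)⁻¹),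
      ∀ b ∈ closure (Set.range fun i : ℕ => u ^ i * x * (u ^ i)⁻¹), a * b = b * a := by
    apply commute_of_mem_closure
    rintro _ ⟨i, rfl⟩ _ ⟨j, rfl⟩
    exact hcij i j
  have huAx : u ∈ normalizer
      ((closure (Set.range fun i : ℕ => u ^ i * x * (u ^ i)⁻¹) : Subgroup X) : Set X) := by
    apply mem_normalizer_fintype
    apply conj_mem_closure_of_forall
    rintro _ ⟨i, rfl⟩
    apply Subgroup.subset_closure
    refine ⟨i + 1, ?_⟩
    simp only [pow_succ']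
    group
  have hxz : x ∈ centralizer {z} :=
    hP _ hAxQ hAxcomm huAx (subset_closure ⟨0, by simp⟩)
  have hxz' : x * z = z * x := mem_centralizer_singleton_iff.mp hxz
  -- (viii)
  obtain ⟨β, hβ, hβz⟩ : ∃ β ∈ B₁, z * β * z⁻¹ ∉ B₁ := by
    by_contra hne
    push Not at hne
    exact hzB₁ (mem_normalizer_fintype hne)
  have hbB : z * β * z⁻¹ ∈ B := (mem_normalizer_iff.mp hzB β).mp (hB₁ hβ)
  have hidx' : B ≤ B₁ ⊔ zpowers (z * β * z⁻¹) :=
    le_sup_zpowers_of_not_mem hp hBcomm (hBexp bs hbs) hidx hB₁ hbs hbB hβz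
  have h1 : B₁ ⊔ zpowers (z * β * z⁻¹) ≤ centralizer {x} := by
    apply sup_le
    · intro β' hβ'
      rw [mem_centralizer_singleton_iff]
      exact mem_centralizer_iff.mp hxB₁ β' hβ'
    · rw [zpowers_le, mem_centralizer_singleton_iff]
      have h2 := mem_centralizer_iff.mp hxB₁ β hβ
      calc z * β * z⁻¹ * x = z * β * (z⁻¹ * x * z) * z⁻¹ := by group
        _ = z * β * x * z⁻¹ := by
          have : z⁻¹ * x * z = x := by rw [mul_assoc, hxz']; group
          rw [this]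
        _ = z * (β * x) * z⁻¹ := by group
        _ = z * (x * β) * z⁻¹ := by rw [h2]
        _ = (z * x * z⁻¹) * (z * β * z⁻¹) := by group
        _ = x * (z * β * z⁻¹) := by
          have : z * x * z⁻¹ = x := by rw [← hxz']; group
          rw [this]
  exact hxbs (mem_centralizer_singleton_iff.mp (h1 (hidx' hbs))).symm

end Cfsg.Agent.Lib.Helper23.PL
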