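import Mathlib
import Cfsg.Prelude.Def_Local
import Cfsg.Agent.H5.PSolvable
import Cfsg.Agent.Lib.Helper1.SZ
import Cfsg.Agent.Lib.Helper1.Schmidt
import Cfsg.Agent.Lib.Helper21.Pronormal

/-!
# Groups whose maximal subgroups are `p`-nilpotent or of prime index (helper23)

`Hyp p G`: every maximal subgroup of `G` has a normal `p`-complement or has prime index.
`Sol p G`: `G` is `p`-solvable (in the sense of `Cfsg.IsPSolvable`) or solvable.
`Ch p G`: there is a chain of normal subgroups `A ≤ B ≤ C ≤ D` with `A`, `C/B` of order prime to `p`,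
`B/A`, `D/C` `p`-groups and `G/D` abelian of exponent dividing `p - 1` (all stated elementwise).
Main result: `main : Sol p G → Hyp p G → Ch p G`.
-/

set_option autoImplicit false

namespace Cfsg.Agent.Lib.Helper23.PNilMax

open Cfsg.Agent.Lib.Helper1 Cfsg.Agent.Lib.Helper21
open Pointwise

universe u

variable {G : Type*} [Group G]

/-- `B/A` is a `p`-group, elementwise. -/
def PQ (p : ℕ) (A B : Subgroup G) : Prop := ∀ b ∈ B, ∃ k : ℕ, b ^ (p ^ k) ∈ A

/-- `B/A` is a `p'`-group, elementwise. -/
def PP (p : ℕ) (A B : Subgroup G) : Prop := ∀ b ∈ B, ∃ m : ℕ, m.Coprime p ∧ b ^ m ∈ A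

/-- `G/D` is abelian of exponent dividing `p - 1`. -/
def AB (p : ℕ) (D : Subgroup G) : Prop :=
  (∀ x y : G, x * y * x⁻¹ * y⁻¹ ∈ D) ∧ ∀ x : G, x ^ (p - 1) ∈ D

theorem PQ.comap {H : Type*} [Group H] {p : ℕ} {A B : Subgroup H} (h : PQ p A B) (f : G →* H) :
    PQ p (A.comap f) (B.comap f) := by
  intro b hb
  obtain ⟨k, hk⟩ := h (f b) hb
  exact ⟨k, by rw [Subgroup.mem_comap, map_pow]; exact hk⟩

theorem PP.comap {H : Type*} [Group H] {p : ℕ} {A B : Subgroup H} (h : PP p A B) (f : G →* H) :
    PP p (A.comap f) (B.comap f) := by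
  intro b hb
  obtain ⟨m, hm, hk⟩ := h (f b) hb
  exact ⟨m, hm, by rw [Subgroup.mem_comap, map_pow]; exact hk⟩

theorem AB.comap {H : Type*} [Group H] {p : ℕ} {D : Subgroup H} (h : AB p D) (f : G →* H) :
    AB p (D.comap f) := by
  refine ⟨fun x y => ?_, fun x => ?_⟩
  · rw [Subgroup.mem_comap]
    simp only [map_mul, map_inv]
    exact h.1 (f x) (f y)
  · rw [Subgroup.mem_comap, map_pow]
    exact h.2 (f x)

/-- The chain. -/
def Ch (p : ℕ) (G : Type*) [Group G] : Prop :=
  ∃ A B C D : Subgroup G, A.Normal ∧ B.Normal ∧ C.Normal ∧ D.Normal ∧ A ≤ B ∧ B ≤ C ∧ C ≤ D ∧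
    PP p ⊥ A ∧ PQ p A B ∧ PP p B C ∧ PQ p C D ∧ AB p D

theorem pow_card_of_mem {N : Subgroup G} {x : G} (hx : x ∈ N) : x ^ Nat.card N = 1 := by
  have h := pow_card_eq_one' (G := ↥N) (x := ⟨x, hx⟩)
  exact congrArg Subtype.val h

theorem not_dvd_relIndex_of_PP [Finite G] {p : ℕ} [Fact p.Prime] {B C : Subgroup G} [hB : B.Normal]
    (h : PP p B C) : ¬ p ∣ B.relIndex C := by
  intro hdvd
  haveI : (B.subgroupOf C).Normal := Subgroup.normal_subgroupOf
  have h1 : p ∣ Nat.card (↥C ⧸ B.subgroupOf C) := by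
    rw [← Subgroup.index_eq_card]; exact hdvd
  obtain ⟨q, hq⟩ := exists_prime_orderOf_dvd_card' p h1
  obtain ⟨c, rfl⟩ := QuotientGroup.mk_surjective q
  obtain ⟨m, hm, hcm⟩ := h (c : G) c.2
  have h2 : (QuotientGroup.mk c : ↥C ⧸ B.subgroupOf C) ^ m = 1 := by
    rw [← QuotientGroup.mk_pow, QuotientGroup.eq_one_iff, Subgroup.mem_subgroupOf]
    simpa using hcm
  have h3 : p ∣ m := by rw [← hq]; exact orderOf_dvd_of_pow_eq_one h2
  exact (Nat.Prime.coprime_iff_not_dvd Fact.out).mp hm.symm h3

theorem exists_relIndex_eq_pow_of_PQ [Finite G] {p : ℕ} [Fact p.Prime] {A B : Subgroup G}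
    [hA : A.Normal] (h : PQ p A B) : ∃ k : ℕ, A.relIndex B = p ^ k := by
  haveI : (A.subgroupOf B).Normal := Subgroup.normal_subgroupOf
  have h1 : IsPGroup p (↥B ⧸ A.subgroupOf B) := by
    intro q
    obtain ⟨b, rfl⟩ := QuotientGroup.mk_surjective q
    obtain ⟨k, hk⟩ := h (b : G) b.2
    refine ⟨k, ?_⟩
    rw [← QuotientGroup.mk_pow, QuotientGroup.eq_one_iff, Subgroup.mem_subgroupOf]
    simpa using hk
  obtain ⟨k, hk⟩ := IsPGroup.iff_card.mp h1
  exact ⟨k, by rw [← hk]; exact Subgroup.index_eq_card _⟩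

/-- Every maximal subgroup has a normal `p`-complement or prime index. -/
def Hyp (p : ℕ) (G : Type*) [Group G] : Prop :=
  ∀ M : Subgroup G, IsCoatom M →
    (∃ K : Subgroup ↥M, K.Normal ∧ ¬ p ∣ Nat.card K ∧ ∃ k : ℕ, K.index = p ^ k) ∨ (M.index).Prime

/-- `p`-solvable or solvable. -/
def Sol (p : ℕ) (G : Type*) [Group G] : Prop := Cfsg.IsPSolvable p G ∨ Group.IsSolvable G

theorem Hyp.quotient {p : ℕ} [Fact p.Prime] (h : Hyp p G) (N : Subgroup G) [N.Normal] :
    Hyp p (G ⧸ N) := by
  intro Mb hMb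
  have hM := isCoatom_comap_mk N Mb hMb
  have hsurj := QuotientGroup.mk'_surjective N
  rcases h _ hM with ⟨K, hKn, hKc, k, hk⟩ | hprime
  · left
    obtain ⟨f, hf⟩ : ∃ f : ↥(Mb.comap (QuotientGroup.mk' N)) →* ↥Mb, Function.Surjective f :=
      ⟨(QuotientGroup.mk' N).subgroupComap Mb,
        MonoidHom.subgroupComap_surjective_of_surjective _ _ hsurj⟩
    refine ⟨K.map f, Subgroup.Normal.map hKn f hf, ?_, ?_⟩
    · intro hdvd
      exact hKc (dvd_trans hdvd (Subgroup.card_map_dvd K f))
    · have h1 : (K.map f).index ∣ p ^ k := hk ▸ Subgroup.index_map_dvd K hf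
      obtain ⟨j, _, hj⟩ := (Nat.dvd_prime_pow Fact.out).mp h1
      exact ⟨j, hj⟩
  · right
    rwa [Subgroup.index_comap_of_surjective _ hsurj] at hprime

theorem Sol.quotient {p : ℕ} [Fact p.Prime] (h : Sol p G) (N : Subgroup G) [N.Normal] :
    Sol p (G ⧸ N) := by
  rcases h with h | h
  · exact Or.inl (Cfsg.H5.isPSolvable_quotient N h)
  · exact Or.inr (by haveI := h; infer_instance)

theorem Sol.exists_normal [Finite G] [Nontrivial G] {p : ℕ} [Fact p.Prime] (h : Sol p G) :
    ∃ L : Subgroup G, L.Normal ∧ L ≠ ⊥ ∧ (IsPGroup p L ∨ (Nat.card L).Coprime p) := by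
  rcases h with h | h
  · obtain ⟨L, -, hLn, hLne, hL⟩ :=
      Cfsg.H5.exists_normal_p_or_pPrime_le h ⊤ inferInstance top_ne_bot
    exact ⟨L, hLn, hLne, hL⟩
  · have hsol : Group.IsSolvable (⊤ : Subgroup G) := by haveI := h; infer_instance
    obtain ⟨q, hq, P, hPn, -, hPne, -, hPexp⟩ :=
      exists_normal_elementary_abelian_le (Nat.card (⊤ : Subgroup G)) ⊤ rfl top_ne_bot hsol
    refine ⟨P, hPn, hPne, ?_⟩
    have hPq : IsPGroup q P := by
      intro x
      refine ⟨1, ?_⟩
      rw [pow_one]
      exact Subtype.ext (hPexp x x.2)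
    by_cases hqp : q = p
    · left
      rw [← hqp]; exact hPq
    · right
      haveI : Fact q.Prime := ⟨hq⟩
      obtain ⟨k, hk⟩ := IsPGroup.iff_card.mp hPq
      rw [hk]
      exact Nat.Coprime.pow_left k ((Nat.coprime_primes hq Fact.out).mpr hqp)

theorem normal_of_sup_eq_top {N M S : Subgroup G} (h : N ⊔ M = ⊤)
    (h1 : ∀ x ∈ N, ∀ y ∈ S, x * y * x⁻¹ ∈ S) (h2 : ∀ x ∈ M, ∀ y ∈ S, x * y * x⁻¹ ∈ S) :
    S.Normal := by
  rw [← Subgroup.normalizer_eq_top_iff, eq_top_iff, ← h]
  exact sup_le (le_normalizer_of_forall_conj_mem' h1) (le_normalizer_of_forall_conj_mem' h2)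

/-- Schur–Zassenhaus and the Frattini argument for a normal Hall subgroup `N` of a normal
subgroup `A'`. -/
theorem exists_complement_frattini [Finite G] (N A' : Subgroup G) [hN : N.Normal] [hA : A'.Normal]
    (hNA : N ≤ A') (hcop : (Nat.card N).Coprime (N.relIndex A')) (hsol : Group.IsSolvable N) :
    ∃ A₀ : Subgroup G, A₀ ≤ A' ∧ N ⊓ A₀ = ⊥ ∧ N ⊔ A₀ = A' ∧ Nat.card A₀ = N.relIndex A' ∧
      ∀ g : G, ∃ n ∈ N, n⁻¹ * g ∈ Subgroup.normalizer (A₀ : Set G) := by
  haveI hN₁ : (N.subgroupOf A').Normal := Subgroup.normal_subgroupOf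
  have hcardN₁ : Nat.card (N.subgroupOf A') = Nat.card N :=
    Nat.card_congr (Subgroup.subgroupOfEquivOfLe hNA).toEquiv
  have hcop₁ : (Nat.card (N.subgroupOf A')).Coprime (N.subgroupOf A').index := by
    rw [hcardN₁]; exact hcop
  obtain ⟨A₁, hA₁⟩ := Subgroup.exists_right_complement'_of_coprime hcop₁
  obtain ⟨A₀, hA₀⟩ : ∃ A₀ : Subgroup G, A₀ = A₁.map A'.subtype := ⟨_, rfl⟩
  have hA₀le : A₀ ≤ A' := by rw [hA₀]; exact Subgroup.map_subtype_le _
  have hA₁eq : A₀.subgroupOf A' = A₁ := by
    rw [hA₀]; exact Subgroup.comap_map_eq_self_of_injective A'.subtype_injective A₁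
  have hcardA₀ : Nat.card A₀ = Nat.card A₁ := by
    rw [hA₀]; exact Subgroup.card_map_of_injective A'.subtype_injective
  have hcardA₁ : Nat.card A₁ = N.relIndex A' := hA₁.symm.index_eq_card.symm
  have hsol₁ : Group.IsSolvable (N.subgroupOf A') := by
    haveI := hsol
    exact Group.isSolvable_of_isSolvable_injective
      (f := (Subgroup.subgroupOfEquivOfLe hNA).toMonoidHom) (Subgroup.subgroupOfEquivOfLe hNA).injective
  refine ⟨A₀, hA₀le, ?_, ?_, by rw [hcardA₀, hcardA₁], ?_⟩
  · rw [eq_bot_iff]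
    intro x hx
    rw [Subgroup.mem_inf] at hx
    obtain ⟨hxN, hxA⟩ := hx
    rw [hA₀] at hxA
    obtain ⟨y, hy, rfl⟩ := hxA
    have h1 : y ∈ N.subgroupOf A' ⊓ A₁ := ⟨Subgroup.mem_subgroupOf.mpr hxN, hy⟩
    rw [hA₁.disjoint.eq_bot, Subgroup.mem_bot] at h1
    rw [Subgroup.mem_bot, h1]; rfl
  · have h1 : (N.subgroupOf A').map A'.subtype = N := Subgroup.map_subgroupOf_eq_of_le hNA
    rw [hA₀]
    conv_lhs => rw [← h1]
    rw [← Subgroup.map_sup, hA₁.sup_eq_top, ← MonoidHom.range_eq_map, Subgroup.range_subtype]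
  · intro g
    have hgA₀le : MulAut.conj g • A₀ ≤ A' := by
      rw [conj_smul_le_iff]
      intro h hh
      exact hA.conj_mem h (hA₀le hh) g
    have hcard2 : Nat.card ((MulAut.conj g • A₀).subgroupOf A') = Nat.card A₁ := by
      rw [Nat.card_congr (Subgroup.subgroupOfEquivOfLe hgA₀le).toEquiv, card_conj_smul, hcardA₀]
    have hc2 : Subgroup.IsComplement' (N.subgroupOf A') ((MulAut.conj g • A₀).subgroupOf A') := by
      apply Subgroup.isComplement'_of_coprime
      · rw [hcard2]; exact hA₁.card_mul_card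
      · rw [hcard2, hcardA₁, hcardN₁]; exact hcop
    obtain ⟨a, ha⟩ := sz_conj (N.subgroupOf A') hcop₁ (Or.inl hsol₁) A₁ _ hA₁ hc2
    rw [← hA₁eq] at ha
    have h3 : MulAut.conj (a : G) • A₀ = MulAut.conj g • A₀ :=
      conj_of_conj_subgroupOf hA₀le hgA₀le a ha
    obtain ⟨n₁, hn₁, a₁, ha₁, hna⟩ := IsComplement'.exists_mul_eq hA₁ a
    refine ⟨(n₁ : G), Subgroup.mem_subgroupOf.mp hn₁, ?_⟩
    have ha₁A₀ : (a₁ : G) ∈ A₀ := by rw [hA₀]; exact ⟨a₁, ha₁, rfl⟩
    have h4 : (a : G) = (n₁ : G) * (a₁ : G) := by rw [← hna]; rfl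
    have h5 : MulAut.conj (n₁ : G) • A₀ = MulAut.conj g • A₀ := by
      rw [← h3, h4, map_mul, mul_smul, Subgroup.conj_smul_eq_self_of_mem ha₁A₀]
    have h6 : cj g A₀ = cj (n₁ : G) A₀ := h5.symm
    exact cj_eq_cj_iff.mp h6

/-- For a normal subgroup of prime order `p`, `G / C_G(N)` is abelian of exponent dividing `p - 1`. -/
theorem ab_centralizer_of_card_prime [Finite G] {p : ℕ} [Fact p.Prime] (N : Subgroup G)
    [hN : N.Normal] (hcard : Nat.card N = p) : AB p (Subgroup.centralizer (N : Set G)) := by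
  haveI : IsCyclic ↥N := isCyclic_of_prime_card hcard
  have key : ∀ z : G, (MulAut.conjNormal z : MulAut ↥N) = 1 → z ∈ Subgroup.centralizer (N : Set G) := by
    intro z hz
    rw [Subgroup.mem_centralizer_iff]
    intro h hh
    have h1 : (MulAut.conjNormal z : MulAut ↥N) ⟨h, hh⟩ = ⟨h, hh⟩ := by rw [hz]; rfl
    have h2 := congrArg Subtype.val h1
    rw [MulAut.conjNormal_apply] at h2
    have h3 : z * h * z⁻¹ = h := h2
    calc h * z = (z * h * z⁻¹) * z := by rw [h3]
      _ = z * h := by group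
  refine ⟨fun x y => key _ ?_, fun x => key _ ?_⟩
  · rw [map_mul, map_mul, map_mul, map_inv, map_inv]
    apply (IsCyclic.mulAutMulEquiv ↥N).injective
    rw [map_mul, map_mul, map_mul, map_inv, map_inv, map_one]
    rw [mul_comm ((IsCyclic.mulAutMulEquiv ↥N) (MulAut.conjNormal x)), mul_inv_cancel_right,
      mul_inv_cancel]
  · rw [map_pow]
    have h1 : Nat.card (MulAut ↥N) = p - 1 := by
      rw [IsCyclic.card_mulAut, hcard, Nat.totient_prime Fact.out]
    rw [← h1]
    exact pow_card_eq_one'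

theorem mem_of_subsingleton [Subsingleton G] (x : G) (S : Subgroup G) : x ∈ S := by
  rw [Subsingleton.elim x 1]; exact one_mem S

theorem main_aux (p : ℕ) [Fact p.Prime] : ∀ (n : ℕ) (G : Type u) [Group G] [Finite G],
    Nat.card G = n → Sol p G → Hyp p G → Ch p G := by
  intro n
  induction n using Nat.strong_induction_on with
  | _ n ih =>
  intro G _ _ hn hsol hyp
  have hp : p.Prime := Fact.out
  by_cases h1 : ∃ N : Subgroup G, N.Normal ∧ N ≠ ⊥ ∧ (Nat.card N).Coprime p
  · -- a nontrivial normal `p'`-subgroup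
    obtain ⟨N, hNn, hNne, hNc⟩ := h1
    haveI := hNn
    have hlt : Nat.card (G ⧸ N) < n := hn ▸ card_quotient_lt_of_ne_bot hNne
    obtain ⟨A, B, C, D, hA, hB, hC, hD, hAB, hBC, hCD, c1, c2, c3, c4, c5⟩ :=
      ih _ hlt (G ⧸ N) rfl (hsol.quotient N) (hyp.quotient N)
    refine ⟨A.comap (QuotientGroup.mk' N), B.comap (QuotientGroup.mk' N),
      C.comap (QuotientGroup.mk' N), D.comap (QuotientGroup.mk' N),
      hA.comap _, hB.comap _, hC.comap _, hD.comap _,
      Subgroup.comap_mono hAB, Subgroup.comap_mono hBC, Subgroup.comap_mono hCD, ?_,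
      c2.comap _, c3.comap _, c4.comap _, c5.comap _⟩
    intro a ha
    obtain ⟨m, hm, ham⟩ := c1 _ ha
    rw [Subgroup.mem_bot, ← map_pow] at ham
    have haN : a ^ m ∈ N := (QuotientGroup.eq_one_iff (a ^ m)).mp ham
    refine ⟨m * Nat.card N, Nat.Coprime.mul_left hm hNc, ?_⟩
    rw [Subgroup.mem_bot, pow_mul]
    exact pow_card_of_mem haN
  · push Not at h1
    rcases subsingleton_or_nontrivial G with hss | hnt
    · refine ⟨⊥, ⊥, ⊥, ⊥, inferInstance, inferInstance, inferInstance, inferInstance, le_rfl,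
        le_rfl, le_rfl, ?_, ?_, ?_, ?_, ?_⟩
      · intro b _; exact ⟨1, Nat.coprime_one_left p, mem_of_subsingleton _ _⟩
      · intro b _; exact ⟨0, mem_of_subsingleton _ _⟩
      · intro b _; exact ⟨1, Nat.coprime_one_left p, mem_of_subsingleton _ _⟩
      · intro b _; exact ⟨0, mem_of_subsingleton _ _⟩
      · exact ⟨fun x y => mem_of_subsingleton _ _, fun x => mem_of_subsingleton _ _⟩
    · obtain ⟨L, hLn, hLne, hL⟩ := hsol.exists_normal
      have hLp : IsPGroup p L := by
        rcases hL with h | h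
        · exact h
        · exact absurd h (h1 L hLn hLne)
      obtain ⟨N, hNL, hNmin⟩ := Finite.exists_le_minimal
        (p := fun N : Subgroup G => N.Normal ∧ N ≠ ⊥ ∧ IsPGroup p N) ⟨hLn, hLne, hLp⟩
      obtain ⟨hNn, hNne, hNp⟩ := hNmin.1
      haveI := hNn
      have hmin : ∀ N' : Subgroup G, N'.Normal → N' ≤ N → N' = ⊥ ∨ N' = N := by
        intro N' hN'n hle
        by_cases hb : N' = ⊥
        · exact Or.inl hb
        · exact Or.inr (le_antisymm hle (hNmin.2 ⟨hN'n, hb, hNp.to_le hle⟩ hle))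
      -- `N` is abelian
      have hNab : ∀ x ∈ N, ∀ y ∈ N, x * y = y * x := by
        have hZn : (N ⊓ Subgroup.centralizer (N : Set G)).Normal := inferInstance
        have hZne : N ⊓ Subgroup.centralizer (N : Set G) ≠ ⊥ := by
          haveI : Nontrivial ↥N := (Subgroup.nontrivial_iff_ne_bot N).mpr hNne
          haveI := hNp.center_nontrivial
          obtain ⟨z, hz1⟩ := exists_ne (1 : ↥(Subgroup.center ↥N))
          intro hbot
          apply hz1
          have hzc : ((z : ↥N) : G) ∈ Subgroup.centralizer (N : Set G) := by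
            rw [Subgroup.mem_centralizer_iff]
            intro h hh
            have := Subgroup.mem_center_iff.mp z.2 ⟨h, hh⟩
            exact congrArg Subtype.val this
          have hmem : ((z : ↥N) : G) ∈ N ⊓ Subgroup.centralizer (N : Set G) :=
            ⟨(z : ↥N).2, hzc⟩
          rw [hbot, Subgroup.mem_bot] at hmem
          exact Subtype.ext (Subtype.ext hmem)
        have hZ : N ⊓ Subgroup.centralizer (N : Set G) = N :=
          (hmin _ hZn inf_le_left).resolve_left hZne
        intro x hx y hy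
        have hxc : x ∈ Subgroup.centralizer (N : Set G) := by
          have : x ∈ N ⊓ Subgroup.centralizer (N : Set G) := by rw [hZ]; exact hx
          exact this.2
        exact ((Subgroup.mem_centralizer_iff.mp hxc) y hy).symm
      obtain ⟨a, ha⟩ := IsPGroup.iff_card.mp hNp
      have hlt : Nat.card (G ⧸ N) < n := hn ▸ card_quotient_lt_of_ne_bot hNne
      obtain ⟨Ab, Bb, Cb, Db, hA, hB, hC, hD, hAB, hBC, hCD, c1, c2, c3, c4, c5⟩ :=
        ih _ hlt (G ⧸ N) rfl (hsol.quotient N) (hyp.quotient N)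
      obtain ⟨A', hA'⟩ : ∃ A' : Subgroup G, A' = Ab.comap (QuotientGroup.mk' N) := ⟨_, rfl⟩
      obtain ⟨B', hB'⟩ : ∃ B' : Subgroup G, B' = Bb.comap (QuotientGroup.mk' N) := ⟨_, rfl⟩
      obtain ⟨C', hC'⟩ : ∃ C' : Subgroup G, C' = Cb.comap (QuotientGroup.mk' N) := ⟨_, rfl⟩
      obtain ⟨D', hD'⟩ : ∃ D' : Subgroup G, D' = Db.comap (QuotientGroup.mk' N) := ⟨_, rfl⟩
      have hA'n : A'.Normal := by rw [hA']; exact hA.comap _
      have hB'n : B'.Normal := by rw [hB']; exact hB.comap _
      have hC'n : C'.Normal := by rw [hC']; exact hC.comap _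
      have hD'n : D'.Normal := by rw [hD']; exact hD.comap _
      have hA'B' : A' ≤ B' := by rw [hA', hB']; exact Subgroup.comap_mono hAB
      have hB'C' : B' ≤ C' := by rw [hB', hC']; exact Subgroup.comap_mono hBC
      have hC'D' : C' ≤ D' := by rw [hC', hD']; exact Subgroup.comap_mono hCD
      have hNA' : N ≤ A' := by
        rw [hA']
        intro x hx
        rw [Subgroup.mem_comap]
        have : (QuotientGroup.mk' N) x = 1 := (QuotientGroup.eq_one_iff x).mpr hx
        rw [this]; exact one_mem _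
      have d1 : PP p N A' := by
        intro b hb
        rw [hA'] at hb
        obtain ⟨m, hm, ham⟩ := c1 _ hb
        rw [Subgroup.mem_bot, ← map_pow] at ham
        exact ⟨m, hm, (QuotientGroup.eq_one_iff (b ^ m)).mp ham⟩
      have d2 : PQ p A' B' := by rw [hA', hB']; exact c2.comap _
      have d3 : PP p B' C' := by rw [hB', hC']; exact c3.comap _
      have d4 : PQ p C' D' := by rw [hC', hD']; exact c4.comap _
      have d5 : AB p D' := by rw [hD']; exact c5.comap _
      have hcop : (Nat.card N).Coprime (N.relIndex A') := by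
        rw [ha]
        apply Nat.Coprime.pow_left
        exact (Nat.Prime.coprime_iff_not_dvd hp).mpr (not_dvd_relIndex_of_PP d1)
      have hsolN : Group.IsSolvable N := by
        haveI := hNp.isNilpotent
        infer_instance
      obtain ⟨A₀, hA₀le, hdis, hsup, hcardA₀, hfr⟩ :=
        exists_complement_frattini N A' hNA' hcop hsolN
      have hpowN : ∀ x ∈ N, x ^ (p ^ a) = 1 := by
        intro x hx
        rw [← ha]; exact pow_card_of_mem hx
      by_cases hT : Subgroup.normalizer (A₀ : Set G) = ⊤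
      · -- `A₀` is normal, hence trivial
        have hA₀n : A₀.Normal := Subgroup.normalizer_eq_top_iff.mp hT
        have hA₀bot : A₀ = ⊥ := by
          by_contra hne
          apply h1 A₀ hA₀n hne
          rw [hcardA₀]
          exact ((Nat.Prime.coprime_iff_not_dvd hp).mpr (not_dvd_relIndex_of_PP d1)).symm
        have hA'N : A' = N := by rw [← hsup, hA₀bot, sup_bot_eq]
        refine ⟨⊥, B', C', D', inferInstance, hB'n, hC'n, hD'n, bot_le, hB'C', hC'D', ?_, ?_,
          d3, d4, d5⟩
        · intro b hb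
          exact ⟨1, Nat.coprime_one_left p, by rw [pow_one]; exact hb⟩
        · intro b hb
          obtain ⟨k, hk⟩ := d2 b hb
          rw [hA'N] at hk
          refine ⟨k + a, ?_⟩
          rw [Subgroup.mem_bot, pow_add, pow_mul]
          exact hpowN _ hk
      · obtain ⟨M, hMco, hTM⟩ := (eq_top_or_exists_le_coatom _).resolve_left hT
        have hNM : N ⊔ M = ⊤ := by
          rw [eq_top_iff]
          intro g _
          obtain ⟨n', hn', hg⟩ := hfr g
          have e : g = n' * (n'⁻¹ * g) := by group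
          rw [e]
          exact Subgroup.mul_mem_sup hn' (hTM hg)
        have hNMnormal : (N ⊓ M).Normal := by
          apply normal_of_sup_eq_top hNM
          · intro x hx y hy
            have e : x * y * x⁻¹ = y := by rw [hNab x hx y hy.1]; group
            rw [e]; exact hy
          · intro x hx y hy
            exact ⟨hNn.conj_mem y hy.1 x, M.mul_mem (M.mul_mem hx hy.2) (M.inv_mem hx)⟩
        have hNMbot : N ⊓ M = ⊥ := by
          rcases hmin _ hNMnormal inf_le_left with h | h
          · exact h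
          · exfalso
            apply hMco.1
            rw [eq_top_iff, ← hNM]
            exact sup_le (inf_eq_left.mp h) le_rfl
        rcases hyp M hMco with ⟨K, hKn, hKc, k, hk⟩ | hprime
        · -- `M` has a normal `p`-complement
          have hfs : Function.Surjective ((QuotientGroup.mk' N).comp M.subtype) := by
            intro q
            obtain ⟨g, rfl⟩ := QuotientGroup.mk'_surjective N q
            have hg : g ∈ N ⊔ M := by rw [hNM]; trivial
            rw [← SetLike.mem_coe, Subgroup.normal_mul] at hg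
            obtain ⟨n', hn', m, hm, rfl⟩ := Set.mem_mul.mp hg
            refine ⟨⟨m, hm⟩, ?_⟩
            show (QuotientGroup.mk' N) m = (QuotientGroup.mk' N) (n' * m)
            have h0 : (QuotientGroup.mk' N) n' = 1 := (QuotientGroup.eq_one_iff n').mpr hn'
            rw [map_mul, h0, one_mul]
          obtain ⟨Kb, hKb⟩ : ∃ Kb : Subgroup (G ⧸ N),
            Kb = K.map ((QuotientGroup.mk' N).comp M.subtype) := ⟨_, rfl⟩
          have hKbn : Kb.Normal := by rw [hKb]; exact Subgroup.Normal.map hKn _ hfs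
          have hKbc : (Nat.card Kb).Coprime p := by
            apply Nat.Coprime.symm
            rw [Nat.Prime.coprime_iff_not_dvd hp]
            intro hdvd
            apply hKc
            rw [hKb] at hdvd
            exact dvd_trans hdvd (Subgroup.card_map_dvd K _)
          obtain ⟨j, hj⟩ : ∃ j : ℕ, Kb.index = p ^ j := by
            have h2 : Kb.index ∣ p ^ k := by
              rw [hKb, ← hk]; exact Subgroup.index_map_dvd K hfs
            obtain ⟨j, _, hj⟩ := (Nat.dvd_prime_pow hp).mp h2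
            exact ⟨j, hj⟩
          refine ⟨⊥, N, Kb.comap (QuotientGroup.mk' N), ⊤, inferInstance, hNn, hKbn.comap _,
            inferInstance, bot_le, ?_, le_top, ?_, ?_, ?_, ?_, ?_⟩
          · intro x hx
            rw [Subgroup.mem_comap]
            have : (QuotientGroup.mk' N) x = 1 := (QuotientGroup.eq_one_iff x).mpr hx
            rw [this]; exact one_mem _
          · intro b hb
            exact ⟨1, Nat.coprime_one_left p, by rw [pow_one]; exact hb⟩
          · intro b hb
            exact ⟨a, by rw [Subgroup.mem_bot]; exact hpowN b hb⟩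
          · intro c hc
            rw [Subgroup.mem_comap] at hc
            refine ⟨Nat.card Kb, hKbc, ?_⟩
            have h2 := pow_card_of_mem hc
            rw [← map_pow] at h2
            exact (QuotientGroup.eq_one_iff (c ^ Nat.card Kb)).mp h2
          · intro g _
            refine ⟨j, ?_⟩
            rw [Subgroup.mem_comap, map_pow, ← hj]
            haveI := hKbn
            exact Subgroup.pow_index_mem Kb _
          · exact ⟨fun x y => Subgroup.mem_top _, fun x => Subgroup.mem_top _⟩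
        · -- `M` has prime index
          have hcompl : Subgroup.IsComplement' N M :=
            isComplement'_of_disjoint_of_sup_eq_top (disjoint_iff.mpr hNMbot) hNM
          have hcardN : Nat.card N = M.index := hcompl.index_eq_card.symm
          rw [← hcardN] at hprime
          have hNcp : Nat.card N = p := by
            have ha0 : a ≠ 0 := by
              intro h0
              rw [h0, pow_zero] at ha
              rw [ha] at hprime
              exact Nat.not_prime_one hprime
            have hpd : p ∣ Nat.card N := by rw [ha]; exact dvd_pow_self p ha0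
            exact ((Nat.prime_dvd_prime_iff_eq hp hprime).mp hpd).symm
          have hpowp : ∀ x ∈ N, x ^ p = 1 := by
            intro x hx
            rw [← hNcp]; exact pow_card_of_mem hx
          obtain ⟨Cn, hCn⟩ : ∃ Cn : Subgroup G, Cn = Subgroup.centralizer (N : Set G) := ⟨_, rfl⟩
          have hCnn : Cn.Normal := by rw [hCn]; infer_instance
          have hABn : AB p Cn := by rw [hCn]; exact ab_centralizer_of_card_prime N hNcp
          have hcomm : ∀ x ∈ N, ∀ y ∈ Cn, x * y = y * x := by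
            intro x hx y hy
            rw [hCn] at hy
            exact (Subgroup.mem_centralizer_iff.mp hy) x hx
          have hNCn : N ≤ Cn := by
            intro x hx
            rw [hCn, Subgroup.mem_centralizer_iff]
            intro h hh
            exact hNab h hh x hx
          obtain ⟨M₁, hM₁⟩ : ∃ M₁ : Subgroup G, M₁ = Cn ⊓ M := ⟨_, rfl⟩
          have hM₁Cn : M₁ ≤ Cn := by rw [hM₁]; exact inf_le_left
          have hM₁M : M₁ ≤ M := by rw [hM₁]; exact inf_le_right
          have hM₁n : M₁.Normal := by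
            apply normal_of_sup_eq_top hNM
            · intro x hx y hy
              have e : x * y * x⁻¹ = y := by rw [hcomm x hx y (hM₁Cn hy)]; group
              rw [e]; exact hy
            · intro x hx y hy
              rw [hM₁] at hy ⊢
              exact ⟨hCnn.conj_mem y hy.1 x, M.mul_mem (M.mul_mem hx hy.2) (M.inv_mem hx)⟩
          have hcp : ∀ c ∈ Cn, c ^ p ∈ M₁ := by
            intro c hc
            have hg : c ∈ N ⊔ M := by rw [hNM]; trivial
            rw [← SetLike.mem_coe, Subgroup.normal_mul] at hg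
            obtain ⟨n', hn', m, hm, hnm⟩ := Set.mem_mul.mp hg
            have hmCn : m ∈ Cn := by
              have e : m = n'⁻¹ * c := by rw [← hnm]; group
              rw [e]; exact Cn.mul_mem (Cn.inv_mem (hNCn hn')) hc
            have hmM₁ : m ∈ M₁ := by rw [hM₁]; exact ⟨hmCn, hm⟩
            have hc' : Commute n' m := hcomm n' hn' m hmCn
            rw [← hnm, hc'.mul_pow, hpowp n' hn', one_mul]
            exact M₁.pow_mem hmM₁ p
          refine ⟨A' ⊓ M₁, B' ⊓ Cn, C' ⊓ Cn, D' ⊓ Cn,
            @Subgroup.normal_inf_normal _ _ A' M₁ hA'n hM₁n,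
            @Subgroup.normal_inf_normal _ _ B' Cn hB'n hCnn,
            @Subgroup.normal_inf_normal _ _ C' Cn hC'n hCnn,
            @Subgroup.normal_inf_normal _ _ D' Cn hD'n hCnn,
            inf_le_inf hA'B' hM₁Cn, inf_le_inf_right _ hB'C', inf_le_inf_right _ hC'D',
            ?_, ?_, ?_, ?_, ?_⟩
          · intro b hb
            obtain ⟨m, hm, hbm⟩ := d1 b hb.1
            refine ⟨m, hm, ?_⟩
            rw [← hNMbot]
            exact ⟨hbm, hM₁M (M₁.pow_mem hb.2 m)⟩
          · intro b hb
            obtain ⟨k, hk⟩ := d2 b hb.1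
            refine ⟨k + 1, ?_, ?_⟩
            · rw [pow_succ, pow_mul]
              exact A'.pow_mem hk p
            · rw [pow_succ', pow_mul]
              exact M₁.pow_mem (hcp b hb.2) _
          · intro c hc
            obtain ⟨m, hm, hcm⟩ := d3 c hc.1
            exact ⟨m, hm, hcm, Cn.pow_mem hc.2 m⟩
          · intro c hc
            obtain ⟨k, hk⟩ := d4 c hc.1
            exact ⟨k, hk, Cn.pow_mem hc.2 _⟩
          · exact ⟨fun x y => ⟨d5.1 x y, hABn.1 x y⟩, fun x => ⟨d5.2 x, hABn.2 x⟩⟩

theorem main {G : Type u} [Group G] [Finite G] (p : ℕ) [Fact p.Prime] (hsol : Sol p G)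
    (hyp : Hyp p G) : Ch p G :=
  main_aux p _ G rfl hsol hyp

end Cfsg.Agent.Lib.Helper23.PNilMax
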