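import Mathlib

/-!
# Arithmetic of the class equation for primitive linear groups of degree 2 (helper23)

A "class" of maximal abelian subgroups modulo the centre is recorded by numbers
`n ∈ {1,2}` (index of `A` in its normalizer), `a ≥ 2` (index of `Z` in `A`), `m ≥ 2`
(number of conjugates), with `g = n a m` the index of the centre and `c = m (a - 1)` the
number of noncentral cosets covered.
-/

set_option autoImplicit false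

namespace Cfsg.Agent.Lib.Helper23.PrimTwo

/-- numerical data of one class -/
def Cls (g c : ℕ) : Prop :=
  ∃ n a m : ℕ, (n = 1 ∨ n = 2) ∧ 2 ≤ a ∧ 2 ≤ m ∧ g = n * (a * m) ∧ c + m = a * m

theorem Cls.four_mul_ge {g c : ℕ} (h : Cls g c) : g ≤ 4 * c := by
  obtain ⟨n, a, m, hn, ha, hm, hg, hc⟩ := h
  have h1 : 2 * m ≤ a * m := Nat.mul_le_mul_right m ha
  rcases hn with rfl | rfl <;> omega

theorem arith_one {g c : ℕ} (h : Cls g c) (hsum : c + 1 = g) : False := by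
  obtain ⟨n, a, m, hn, ha, hm, hg, hc⟩ := h
  have h1 : 2 * m ≤ a * m := Nat.mul_le_mul_right m ha
  rcases hn with rfl | rfl <;> omega

theorem arith_two {g c₁ c₂ : ℕ} (h₁ : Cls g c₁) (h₂ : Cls g c₂) (hsum : c₁ + c₂ + 1 = g) :
    g = 12 := by
  obtain ⟨n₁, a₁, m₁, hn₁, ha₁, hm₁, hg₁, hc₁⟩ := h₁
  obtain ⟨n₂, a₂, m₂, hn₂, ha₂, hm₂, hg₂, hc₂⟩ := h₂
  have h1 : 2 * m₁ ≤ a₁ * m₁ := Nat.mul_le_mul_right m₁ ha₁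
  have h2 : 2 * m₂ ≤ a₂ * m₂ := Nat.mul_le_mul_right m₂ ha₂
  -- the mixed case, stated once
  have key : ∀ (a m a' m' P P' : ℕ), 2 ≤ a → 2 ≤ m → 2 ≤ a' → 2 ≤ m' → a * m = P →
      a' * m' = P' → P = 2 * P' → m + m' = P' + 1 → P = 12 := by
    intro a m a' m' P P' ha hm ha' hm' hP hP' hPP hmm
    have h3 : 2 * m' ≤ P' := by rw [← hP']; exact Nat.mul_le_mul_right m' ha'
    have ha4 : a < 4 := by
      by_contra hcon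
      have : 4 * m ≤ a * m := Nat.mul_le_mul_right m (by omega)
      omega
    interval_cases a
    · omega
    · have ha3 : a' < 3 := by
        by_contra hcon
        have : 3 * m' ≤ a' * m' := Nat.mul_le_mul_right m' (by omega)
        omega
      interval_cases a'
      omega
  rcases hn₁ with rfl | rfl <;> rcases hn₂ with rfl | rfl
  · omega
  · have := key a₁ m₁ a₂ m₂ (a₁ * m₁) (a₂ * m₂) ha₁ hm₁ ha₂ hm₂ rfl rfl (by omega) (by omega)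
    omega
  · have := key a₂ m₂ a₁ m₁ (a₂ * m₂) (a₁ * m₁) ha₂ hm₂ ha₁ hm₁ rfl rfl (by omega) (by omega)
    omega
  · omega

/-- the `(2,2,2)` case with `a₁ = 2` and `a₂ ≤ 3` -/
theorem core23 {h m₁ m₂ m₃ a₂ a₃ : ℕ} (hm₁ : 2 ≤ m₁) (hm₂ : 2 ≤ m₂) (hm₃ : 2 ≤ m₃)
    (ha₂ : 2 ≤ a₂) (ha₃ : 2 ≤ a₃) (ha₂' : a₂ ≤ 3)
    (h1 : 2 * m₁ = h) (h2 : a₂ * m₂ = h) (h3 : a₃ * m₃ = h) (hs : m₁ + m₂ + m₃ = h + 1) :
    h = 6 ∨ h = 12 ∨ h = 30 := by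
  interval_cases a₂
  · omega
  · have ha6 : a₃ < 6 := by
      by_contra hcon
      have : 6 * m₃ ≤ a₃ * m₃ := Nat.mul_le_mul_right m₃ (by omega)
      omega
    interval_cases a₃ <;> omega

/-- the `(2,2,2)` case with `a₁ = 2` -/
theorem core2 {h m₁ m₂ m₃ a₂ a₃ : ℕ} (hm₁ : 2 ≤ m₁) (hm₂ : 2 ≤ m₂) (hm₃ : 2 ≤ m₃)
    (ha₂ : 2 ≤ a₂) (ha₃ : 2 ≤ a₃)
    (h1 : 2 * m₁ = h) (h2 : a₂ * m₂ = h) (h3 : a₃ * m₃ = h) (hs : m₁ + m₂ + m₃ = h + 1) :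
    h = 6 ∨ h = 12 ∨ h = 30 := by
  by_cases h23 : a₂ ≤ 3
  · exact core23 hm₁ hm₂ hm₃ ha₂ ha₃ h23 h1 h2 h3 hs
  · by_cases h33 : a₃ ≤ 3
    · exact core23 hm₁ hm₃ hm₂ ha₃ ha₂ h33 h1 h3 h2 (by omega)
    · exfalso
      have : 4 * m₂ ≤ a₂ * m₂ := Nat.mul_le_mul_right m₂ (by omega)
      have : 4 * m₃ ≤ a₃ * m₃ := Nat.mul_le_mul_right m₃ (by omega)
      omega

/-- the `(2,2,2)` case -/
theorem core {h m₁ m₂ m₃ a₁ a₂ a₃ : ℕ} (hm₁ : 2 ≤ m₁) (hm₂ : 2 ≤ m₂) (hm₃ : 2 ≤ m₃)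
    (ha₁ : 2 ≤ a₁) (ha₂ : 2 ≤ a₂) (ha₃ : 2 ≤ a₃)
    (h1 : a₁ * m₁ = h) (h2 : a₂ * m₂ = h) (h3 : a₃ * m₃ = h) (hs : m₁ + m₂ + m₃ = h + 1) :
    h = 6 ∨ h = 12 ∨ h = 30 := by
  by_cases e1 : a₁ = 2
  · subst e1
    exact core2 hm₁ hm₂ hm₃ ha₂ ha₃ h1 h2 h3 hs
  by_cases e2 : a₂ = 2
  · subst e2
    exact core2 hm₂ hm₁ hm₃ ha₁ ha₃ h2 h1 h3 (by omega)
  by_cases e3 : a₃ = 2
  · subst e3
    exact core2 hm₃ hm₁ hm₂ ha₁ ha₂ h3 h1 h2 (by omega)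
  exfalso
  have : 3 * m₁ ≤ a₁ * m₁ := Nat.mul_le_mul_right m₁ (by omega)
  have : 3 * m₂ ≤ a₂ * m₂ := Nat.mul_le_mul_right m₂ (by omega)
  have : 3 * m₃ ≤ a₃ * m₃ := Nat.mul_le_mul_right m₃ (by omega)
  omega

theorem arith_three {g c₁ c₂ c₃ : ℕ} (h₁ : Cls g c₁) (h₂ : Cls g c₂) (h₃ : Cls g c₃)
    (hsum : c₁ + c₂ + c₃ + 1 = g) : g = 12 ∨ g = 24 ∨ g = 60 := by
  obtain ⟨n₁, a₁, m₁, hn₁, ha₁, hm₁, hg₁, hc₁⟩ := h₁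
  obtain ⟨n₂, a₂, m₂, hn₂, ha₂, hm₂, hg₂, hc₂⟩ := h₂
  obtain ⟨n₃, a₃, m₃, hn₃, ha₃, hm₃, hg₃, hc₃⟩ := h₃
  have h1 : 2 * m₁ ≤ a₁ * m₁ := Nat.mul_le_mul_right m₁ ha₁
  have h2 : 2 * m₂ ≤ a₂ * m₂ := Nat.mul_le_mul_right m₂ ha₂
  have h3 : 2 * m₃ ≤ a₃ * m₃ := Nat.mul_le_mul_right m₃ ha₃
  rcases hn₁ with rfl | rfl <;> rcases hn₂ with rfl | rfl <;> rcases hn₃ with rfl | rfl
  all_goals try omega
  -- remaining: (2,2,2)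
  have := core hm₁ hm₂ hm₃ ha₁ ha₂ ha₃ rfl (show a₂ * m₂ = a₁ * m₁ by omega)
    (show a₃ * m₃ = a₁ * m₁ by omega) (by omega)
  omega

theorem arith_four {g c₁ c₂ c₃ c₄ : ℕ} (h₁ : Cls g c₁) (h₂ : Cls g c₂) (h₃ : Cls g c₃)
    (h₄ : Cls g c₄) (hsum : c₁ + c₂ + c₃ + c₄ + 1 ≤ g) : False := by
  have := h₁.four_mul_ge
  have := h₂.four_mul_ge
  have := h₃.four_mul_ge
  have := h₄.four_mul_ge
  omega

end Cfsg.Agent.Lib.Helper23.PrimTwo
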