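import Mathlib
import Cfsg.Agent.Lib.Helper23.PrimTwoArith

/-!
# The class equation for groups whose noncentral centralizers are abelian with
normalizer index at most 2 (helper23)
-/

set_option autoImplicit false

namespace Cfsg.Agent.Lib.Helper23.PrimTwo

open Subgroup

/-- abstract hypotheses: centralizers of noncentral elements are abelian (`ca`), and a
noncentral element has at most one conjugate other than itself in its centralizer (`n2`) -/
structure CAHyp (G : Type*) [Group G] : Prop where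
  ca : ∀ x : G, x ∉ center G → ∀ h k : G, x * h = h * x → x * k = k * x → h * k = k * h
  n2 : ∀ x : G, x ∉ center G → ∀ n n' : G,
      x * (n * x * n⁻¹) = n * x * n⁻¹ * x → x * (n' * x * n'⁻¹) = n' * x * n'⁻¹ * x →
      n * x * n⁻¹ ≠ x → n' * x * n'⁻¹ ≠ x → n * x * n⁻¹ = n' * x * n'⁻¹

variable {G : Type*} [Group G]

/-- the centralizer of an element -/
abbrev cent (x : G) : Subgroup G := centralizer {x}

theorem mem_cent {x h : G} : h ∈ cent x ↔ x * h = h * x := by
  rw [mem_centralizer_singleton_iff]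
  exact eq_comm

theorem center_le_cent (x : G) : center G ≤ cent x := center_le_centralizer _

theorem conj_mem_center_iff {y u : G} : u⁻¹ * y * u ∈ center G ↔ y ∈ center G := by
  have hn : (center G).Normal := inferInstance
  constructor
  · intro h
    have := hn.conj_mem _ h u
    simpa [mul_assoc] using this
  · intro h
    have := hn.conj_mem _ h u⁻¹
    simpa [mul_assoc] using this

namespace CAHyp

variable (hyp : CAHyp G)
include hyp

/-- commuting noncentral elements have the same centralizer -/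
theorem cent_eq {x a : G} (hx : x ∉ center G) (ha : a ∉ center G) (hxa : x * a = a * x) :
    cent a = cent x := by
  ext h
  rw [mem_cent, mem_cent]
  constructor
  · intro hah
    have := hyp.ca a ha x h hxa.symm hah
    exact this
  · intro hxh
    exact hyp.ca x hx a h hxa hxh

/-- the normalizer of the centralizer of a noncentral element has index at most 2 over it -/
theorem card_normalizer {x : G} [Finite G] (hx : x ∉ center G) :
    Nat.card (normalizer (cent x : Set G)) = Nat.card (cent x) ∨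
    Nat.card (normalizer (cent x : Set G)) = 2 * Nat.card (cent x) := by
  set A := cent x with hA
  set N := normalizer (A : Set G) with hN
  have hAN : A ≤ N := le_normalizer
  have hcard : Nat.card N = Nat.card A * (A.subgroupOf N).index := by
    rw [← card_mul_index (A.subgroupOf N), Nat.card_congr (subgroupOfEquivOfLe hAN).toEquiv]
  have hxA : x ∈ A := mem_cent.mpr rfl
  by_cases hall : ∀ n ∈ N, n ∈ A
  · left
    have : N = A := le_antisymm hall hAN
    rw [this]
  · right
    push Not at hall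
    obtain ⟨n₀, hn₀N, hn₀A⟩ := hall
    have h2 : (A.subgroupOf N).index = 2 := by
      rw [index_eq_two_iff]
      refine ⟨⟨n₀⁻¹, N.inv_mem hn₀N⟩, ?_⟩
      intro b
      rw [mem_subgroupOf, mem_subgroupOf]
      show Xor ((b : G) * n₀⁻¹ ∈ A) ((b : G) ∈ A)
      by_cases hb : (b : G) ∈ A
      · right
        refine ⟨hb, ?_⟩
        intro h
        have : n₀⁻¹ ∈ A := by
          have := A.mul_mem (A.inv_mem hb) h
          simpa using this
        exact hn₀A (by simpa using A.inv_mem this)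
      · left
        refine ⟨?_, hb⟩
        -- conjugates of x by n₀⁻¹ and b⁻¹
        have hc1 : n₀⁻¹ * x * n₀⁻¹⁻¹ ∈ A :=
          (mem_normalizer_iff.mp (N.inv_mem hn₀N) x).mp hxA
        have hc2 : (b : G)⁻¹ * x * (b : G)⁻¹⁻¹ ∈ A :=
          (mem_normalizer_iff.mp (N.inv_mem b.2) x).mp hxA
        have hne1 : n₀⁻¹ * x * n₀⁻¹⁻¹ ≠ x := by
          intro h
          apply hn₀A
          rw [mem_cent]
          have : x * n₀ = n₀ * x := by
            calc x * n₀ = n₀ * (n₀⁻¹ * x * n₀⁻¹⁻¹) := by group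
              _ = n₀ * x := by rw [h]
          exact this
        have hne2 : (b : G)⁻¹ * x * (b : G)⁻¹⁻¹ ≠ x := by
          intro h
          apply hb
          rw [mem_cent]
          calc x * (b : G) = (b : G) * ((b : G)⁻¹ * x * (b : G)⁻¹⁻¹) := by group
            _ = (b : G) * x := by rw [h]
        have heq := hyp.n2 x hx n₀⁻¹ (b : G)⁻¹ (mem_cent.mp hc1) (mem_cent.mp hc2) hne1 hne2
        rw [mem_cent]
        calc x * ((b : G) * n₀⁻¹) = (b : G) * ((b : G)⁻¹ * x * (b : G)⁻¹⁻¹) * n₀⁻¹ := by group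
          _ = (b : G) * (n₀⁻¹ * x * n₀⁻¹⁻¹) * n₀⁻¹ := by rw [heq]
          _ = (b : G) * n₀⁻¹ * x := by group
    rw [hcard, h2, mul_comm]

end CAHyp

/-- `y` is conjugate into the centralizer of `x` -/
def Rel (x y : G) : Prop := ∃ u : G, u⁻¹ * y * u ∈ cent x

theorem Rel.refl (x : G) : Rel x x := ⟨1, by simp [mem_cent]⟩

theorem Rel.symm {x y : G} (h : Rel x y) : Rel y x := by
  obtain ⟨u, hu⟩ := h
  refine ⟨u⁻¹, ?_⟩
  rw [mem_cent] at hu ⊢
  calc y * (u⁻¹⁻¹ * x * u⁻¹) = u * (u⁻¹ * y * u * x) * u⁻¹ := by group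
    _ = u * (x * (u⁻¹ * y * u)) * u⁻¹ := by rw [hu]
    _ = u⁻¹⁻¹ * x * u⁻¹ * y := by group

theorem Rel.trans (hyp : CAHyp G) {x y w : G} (hy : y ∉ center G) (h1 : Rel x y)
    (h2 : Rel y w) : Rel x w := by
  obtain ⟨u, hu⟩ := h1
  obtain ⟨v, hv⟩ := h2
  refine ⟨v * u, ?_⟩
  rw [mem_cent] at hu hv ⊢
  have hy' : u⁻¹ * y * u ∉ center G := fun h => hy (conj_mem_center_iff.mp h)
  -- `y' = u⁻¹ y u` commutes with `x` and with `w' = (vu)⁻¹ w (vu)`
  have e1 : u⁻¹ * y * u * x = x * (u⁻¹ * y * u) := hu.symm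
  have e2 : u⁻¹ * y * u * ((v * u)⁻¹ * w * (v * u)) = (v * u)⁻¹ * w * (v * u) * (u⁻¹ * y * u) := by
    calc u⁻¹ * y * u * ((v * u)⁻¹ * w * (v * u)) = u⁻¹ * (y * (v⁻¹ * w * v)) * u := by group
      _ = u⁻¹ * (v⁻¹ * w * v * y) * u := by rw [hv]
      _ = (v * u)⁻¹ * w * (v * u) * (u⁻¹ * y * u) := by group
  exact hyp.ca _ hy' _ _ e1 e2

section Count

variable [Fintype G] [DecidableEq G]

open Classical in
/-- the noncentral elements conjugate into the centralizer of `x` -/
noncomputable def cls (x : G) : Finset G :=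
  Finset.univ.filter (fun y => y ∉ center G ∧ Rel x y)

theorem mem_cls {x y : G} : y ∈ cls x ↔ y ∉ center G ∧ Rel x y := by
  unfold cls
  simp

open Classical in
/-- the noncentral elements -/
noncomputable def nonc (G : Type*) [Group G] [Fintype G] : Finset G :=
  Finset.univ.filter (fun y => y ∉ center G)

omit [DecidableEq G] in
theorem mem_nonc {y : G} : y ∈ nonc G ↔ y ∉ center G := by
  unfold nonc
  simp

theorem cls_subset (x : G) : cls x ⊆ nonc G := by
  intro y hy
  exact mem_nonc.mpr (mem_cls.mp hy).1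

theorem self_mem_cls {x : G} (hx : x ∉ center G) : x ∈ cls x := mem_cls.mpr ⟨hx, Rel.refl x⟩

theorem cls_disjoint (hyp : CAHyp G) {x y : G} (hy : y ∉ center G) (hyx : y ∉ cls x) :
    Disjoint (cls x) (cls y) := by
  rw [Finset.disjoint_left]
  intro w hwx hwy
  apply hyx
  obtain ⟨hw, h1⟩ := mem_cls.mp hwx
  obtain ⟨-, h2⟩ := mem_cls.mp hwy
  exact mem_cls.mpr ⟨hy, Rel.trans hyp hw h1 h2.symm⟩

theorem card_nonc : (nonc G).card + Nat.card (center G) = Nat.card G := by
  classical
  have h1 : Nat.card (center G) = (Finset.univ.filter (fun y : G => y ∈ center G)).card := by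
    rw [Nat.card_eq_fintype_card, Fintype.card_subtype]
  have h2 := Finset.card_filter_add_card_filter_not (s := (Finset.univ : Finset G))
    (fun y : G => y ∈ center G)
  rw [Nat.card_eq_fintype_card (α := G), h1, ← Finset.card_univ, ← h2, add_comm]
  congr 2
  unfold nonc
  congr

omit [Fintype G] [DecidableEq G] in
theorem conj_mem_cent_iff {a h n : G} : n * h * n⁻¹ ∈ cent (n * a * n⁻¹) ↔ h ∈ cent a := by
  rw [mem_cent, mem_cent]
  constructor
  · intro e
    calc a * h = n⁻¹ * (n * a * n⁻¹ * (n * h * n⁻¹)) * n := by group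
      _ = n⁻¹ * (n * h * n⁻¹ * (n * a * n⁻¹)) * n := by rw [e]
      _ = h * a := by group
  · intro e
    calc n * a * n⁻¹ * (n * h * n⁻¹) = n * (a * h) * n⁻¹ := by group
      _ = n * (h * a) * n⁻¹ := by rw [e]
      _ = n * h * n⁻¹ * (n * a * n⁻¹) := by group

omit [DecidableEq G] in
theorem card_filter_mem (H : Subgroup G) [DecidablePred (· ∈ H)] :
    (Finset.univ.filter (fun y : G => y ∈ H)).card = Nat.card H := by
  rw [Nat.card_eq_fintype_card, Fintype.card_subtype]

/-- the counting identity for one class -/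
theorem card_cls_mul (hyp : CAHyp G) {x : G} (hx : x ∉ center G) :
    (cls x).card * Nat.card (normalizer (cent x : Set G)) =
      Nat.card G * (Nat.card (cent x) - Nat.card (center G)) := by
  classical
  set A := cent x with hA
  set N := normalizer (A : Set G) with hN
  let r : G → G → Prop := fun u y => y ∉ center G ∧ u⁻¹ * y * u ∈ A
  have hdc := Finset.sum_card_bipartiteAbove_eq_sum_card_bipartiteBelow r
    (s := (Finset.univ : Finset G)) (t := (Finset.univ : Finset G))
  -- left side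
  have hL : ∀ u : G, (Finset.bipartiteAbove r Finset.univ u).card =
      Nat.card A - Nat.card (center G) := by
    intro u
    have h1 : (Finset.bipartiteAbove r Finset.univ u).card =
        ((Finset.univ.filter (fun y : G => y ∈ A)) \
          (Finset.univ.filter (fun y : G => y ∈ center G))).card := by
      apply Finset.card_bij' (fun y _ => u⁻¹ * y * u) (fun a _ => u * a * u⁻¹)
      · intro y hy
        rw [Finset.mem_bipartiteAbove] at hy
        rw [Finset.mem_sdiff, Finset.mem_filter, Finset.mem_filter]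
        refine ⟨⟨Finset.mem_univ _, hy.2.2⟩, ?_⟩
        intro h
        exact hy.2.1 (conj_mem_center_iff.mp h.2)
      · intro a ha
        rw [Finset.mem_sdiff, Finset.mem_filter, Finset.mem_filter] at ha
        rw [Finset.mem_bipartiteAbove]
        refine ⟨Finset.mem_univ _, ?_, ?_⟩
        · intro h
          apply ha.2
          refine ⟨Finset.mem_univ _, ?_⟩
          have : u⁻¹ * (u * a * u⁻¹) * u ∈ center G := conj_mem_center_iff.mpr h
          simpa [mul_assoc] using this
        · have : u⁻¹ * (u * a * u⁻¹) * u = a := by group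
          rw [this]
          exact ha.1.2
      · intro y _
        group
      · intro a _
        group
    rw [h1, Finset.card_sdiff_of_subset, card_filter_mem, card_filter_mem]
    intro y hy
    rw [Finset.mem_filter] at hy ⊢
    exact ⟨hy.1, center_le_cent x hy.2⟩
  -- right side
  have hR : ∀ y : G, (Finset.bipartiteBelow r Finset.univ y).card =
      if y ∈ cls x then Nat.card N else 0 := by
    intro y
    by_cases hy : y ∈ cls x
    · rw [if_pos hy]
      obtain ⟨hyZ, u₀, hu₀⟩ := mem_cls.mp hy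
      rw [← card_filter_mem N]
      symm
      apply Finset.card_bij' (fun n _ => u₀ * n) (fun u _ => u₀⁻¹ * u)
      · intro n hn
        rw [Finset.mem_filter] at hn
        rw [Finset.mem_bipartiteBelow]
        refine ⟨Finset.mem_univ _, hyZ, ?_⟩
        have h1 := (mem_normalizer_iff.mp (N.inv_mem hn.2) (u₀⁻¹ * y * u₀)).mp hu₀
        have h2 : (u₀ * n)⁻¹ * y * (u₀ * n) = n⁻¹ * (u₀⁻¹ * y * u₀) * n⁻¹⁻¹ := by group
        rw [h2]
        exact h1
      · intro u hu
        rw [Finset.mem_bipartiteBelow] at hu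
        rw [Finset.mem_filter]
        refine ⟨Finset.mem_univ _, ?_⟩
        obtain ⟨-, -, huA⟩ := hu
        have ha : u⁻¹ * y * u ∉ center G := fun h => hyZ (conj_mem_center_iff.mp h)
        have ha₀ : u₀⁻¹ * y * u₀ ∉ center G := fun h => hyZ (conj_mem_center_iff.mp h)
        have e1 : cent (u⁻¹ * y * u) = A := hyp.cent_eq hx ha (mem_cent.mp huA)
        have e2 : cent (u₀⁻¹ * y * u₀) = A := hyp.cent_eq hx ha₀ (mem_cent.mp hu₀)
        rw [mem_normalizer_iff]
        intro h
        have e3 : u₀⁻¹ * y * u₀ = (u₀⁻¹ * u) * (u⁻¹ * y * u) * (u₀⁻¹ * u)⁻¹ := by group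
        conv_lhs => rw [← e1]
        conv_rhs => rw [← e2, e3]
        exact conj_mem_cent_iff.symm
      · intro n _
        group
      · intro u _
        group
    · rw [if_neg hy, Finset.card_eq_zero, Finset.eq_empty_iff_forall_notMem]
      intro u hu
      rw [Finset.mem_bipartiteBelow] at hu
      exact hy (mem_cls.mpr ⟨hu.2.1, u, hu.2.2⟩)
  simp only [hL, hR] at hdc
  rw [Finset.sum_const, Finset.card_univ, smul_eq_mul, Finset.sum_ite_mem, Finset.univ_inter,
    Finset.sum_const, smul_eq_mul] at hdc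
  rw [Nat.card_eq_fintype_card (α := G)]
  exact hdc.symm

/-- the numerical data of one class -/
theorem exists_cls_data (hyp : CAHyp G) {x : G} (hx : x ∉ center G)
    (h3 : normalizer (cent x : Set G) ≠ ⊤) :
    ∃ c : ℕ, Cls (center G).index c ∧ (cls x).card = Nat.card (center G) * c := by
  classical
  set Z := center G with hZ
  set A := cent x with hA
  set N := normalizer (A : Set G) with hN
  have hz : 0 < Nat.card Z := Nat.card_pos
  have hG : Nat.card Z * Z.index = Nat.card G := card_mul_index Z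
  obtain ⟨a, ha⟩ : Nat.card Z ∣ Nat.card A := card_dvd_of_le (center_le_cent x)
  have hxA : x ∈ A := mem_cent.mpr rfl
  have ha2 : 2 ≤ a := by
    have hpos : 0 < Nat.card A := Nat.card_pos
    have h0 : a ≠ 0 := by
      rintro rfl
      rw [mul_zero] at ha
      omega
    have h1 : a ≠ 1 := by
      rintro rfl
      rw [mul_one] at ha
      have : Z = A := eq_of_le_of_card_ge (center_le_cent x) (le_of_eq ha)
      exact hx (this ▸ hxA)
    omega
  obtain ⟨n, hn, hNA⟩ : ∃ n : ℕ, (n = 1 ∨ n = 2) ∧ Nat.card N = n * Nat.card A := by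
    rcases hyp.card_normalizer hx with h | h
    · exact ⟨1, Or.inl rfl, by rw [one_mul]; exact h⟩
    · exact ⟨2, Or.inr rfl, h⟩
  have hm : Nat.card N * N.index = Nat.card G := card_mul_index N
  have hm2 : 2 ≤ N.index := by
    have h0 : N.index ≠ 0 := index_ne_zero_of_finite
    have h1 : N.index ≠ 1 := fun h => h3 (index_eq_one.mp h)
    omega
  set m := N.index with hmdef
  set g := Z.index with hgdef
  set z := Nat.card Z with hzdef
  have hg : g = n * (a * m) := by
    have : z * g = z * (n * (a * m)) := by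
      rw [hG, ← hm, hNA, ha]
      ring
    exact Nat.eq_of_mul_eq_mul_left hz this
  obtain ⟨a', rfl⟩ : ∃ a', a = a' + 1 := ⟨a - 1, by omega⟩
  refine ⟨m * a', ⟨n, a' + 1, m, hn, ha2, hm2, hg, by ring⟩, ?_⟩
  have hcount := card_cls_mul hyp hx
  rw [← hA, ← hN, hNA, ha, ← hG, hg] at hcount
  have hsub : z * (a' + 1) - z = z * a' := by
    rw [mul_add, mul_one]
    omega
  rw [hsub] at hcount
  have hpos : 0 < n * (z * (a' + 1)) := by
    rcases hn with rfl | rfl <;> positivity
  apply Nat.eq_of_mul_eq_mul_right hpos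
  rw [hcount]
  ring

/-- **The class equation**: a finite nonabelian group in which centralizers of noncentral
elements are abelian, are of index at most two in their normalizers, and are not normal, has
centre of index 12, 24 or 60. -/
theorem index_center (hyp : CAHyp G)
    (h3 : ∀ x : G, x ∉ center G → normalizer (cent x : Set G) ≠ ⊤)
    (h4 : ∃ x : G, x ∉ center G) :
    (center G).index = 12 ∨ (center G).index = 24 ∨ (center G).index = 60 := by
  classical
  set z := Nat.card (center G) with hzdef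
  set g := (center G).index with hgdef
  have hz : 0 < z := Nat.card_pos
  have hS : (nonc G).card + z = z * g := by
    rw [card_nonc, hzdef, hgdef, card_mul_index]
  obtain ⟨x₁, hx₁⟩ := h4
  obtain ⟨c₁, hc₁, hk₁⟩ := exists_cls_data hyp hx₁ (h3 x₁ hx₁)
  by_cases e₁ : cls x₁ = nonc G
  · exfalso
    rw [← e₁, hk₁] at hS
    have : c₁ + 1 = g := by
      apply Nat.eq_of_mul_eq_mul_left hz
      rw [← hS]; ring
    exact arith_one hc₁ this
  obtain ⟨x₂, hx₂S, hx₂⟩ : ∃ y ∈ nonc G, y ∉ cls x₁ := by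
    by_contra hcon
    push Not at hcon
    exact e₁ (Finset.Subset.antisymm (cls_subset x₁) hcon)
  have hx₂Z := mem_nonc.mp hx₂S
  obtain ⟨c₂, hc₂, hk₂⟩ := exists_cls_data hyp hx₂Z (h3 x₂ hx₂Z)
  have d₁₂ : Disjoint (cls x₁) (cls x₂) := cls_disjoint hyp hx₂Z hx₂
  have hU₂ : (cls x₁ ∪ cls x₂).card = z * (c₁ + c₂) := by
    rw [Finset.card_union_of_disjoint d₁₂, hk₁, hk₂]; ring
  have hsub₂ : cls x₁ ∪ cls x₂ ⊆ nonc G := Finset.union_subset (cls_subset _) (cls_subset _)
  by_cases e₂ : cls x₁ ∪ cls x₂ = nonc G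
  · left
    rw [← e₂, hU₂] at hS
    have : c₁ + c₂ + 1 = g := by
      apply Nat.eq_of_mul_eq_mul_left hz
      rw [← hS]; ring
    exact arith_two hc₁ hc₂ this
  obtain ⟨x₃, hx₃S, hx₃⟩ : ∃ y ∈ nonc G, y ∉ cls x₁ ∪ cls x₂ := by
    by_contra hcon
    push Not at hcon
    exact e₂ (Finset.Subset.antisymm hsub₂ hcon)
  have hx₃Z := mem_nonc.mp hx₃S
  rw [Finset.mem_union, not_or] at hx₃
  obtain ⟨c₃, hc₃, hk₃⟩ := exists_cls_data hyp hx₃Z (h3 x₃ hx₃Z)
  have d₁₃ : Disjoint (cls x₁) (cls x₃) := cls_disjoint hyp hx₃Z hx₃.1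
  have d₂₃ : Disjoint (cls x₂) (cls x₃) := cls_disjoint hyp hx₃Z hx₃.2
  have d₃ : Disjoint (cls x₁ ∪ cls x₂) (cls x₃) := Finset.disjoint_union_left.mpr ⟨d₁₃, d₂₃⟩
  have hU₃ : (cls x₁ ∪ cls x₂ ∪ cls x₃).card = z * (c₁ + c₂ + c₃) := by
    rw [Finset.card_union_of_disjoint d₃, hU₂, hk₃]; ring
  have hsub₃ : cls x₁ ∪ cls x₂ ∪ cls x₃ ⊆ nonc G := Finset.union_subset hsub₂ (cls_subset _)
  by_cases e₃ : cls x₁ ∪ cls x₂ ∪ cls x₃ = nonc G
  · rw [← e₃, hU₃] at hS
    have : c₁ + c₂ + c₃ + 1 = g := by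
      apply Nat.eq_of_mul_eq_mul_left hz
      rw [← hS]; ring
    exact arith_three hc₁ hc₂ hc₃ this
  exfalso
  obtain ⟨x₄, hx₄S, hx₄⟩ : ∃ y ∈ nonc G, y ∉ cls x₁ ∪ cls x₂ ∪ cls x₃ := by
    by_contra hcon
    push Not at hcon
    exact e₃ (Finset.Subset.antisymm hsub₃ hcon)
  have hx₄Z := mem_nonc.mp hx₄S
  rw [Finset.mem_union, Finset.mem_union, not_or, not_or] at hx₄
  obtain ⟨c₄, hc₄, hk₄⟩ := exists_cls_data hyp hx₄Z (h3 x₄ hx₄Z)
  have d₄ : Disjoint (cls x₁ ∪ cls x₂ ∪ cls x₃) (cls x₄) :=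
    Finset.disjoint_union_left.mpr ⟨Finset.disjoint_union_left.mpr
      ⟨cls_disjoint hyp hx₄Z hx₄.1.1, cls_disjoint hyp hx₄Z hx₄.1.2⟩,
      cls_disjoint hyp hx₄Z hx₄.2⟩
  have hU₄ : (cls x₁ ∪ cls x₂ ∪ cls x₃ ∪ cls x₄).card = z * (c₁ + c₂ + c₃ + c₄) := by
    rw [Finset.card_union_of_disjoint d₄, hU₃, hk₄]; ring
  have hsub₄ : cls x₁ ∪ cls x₂ ∪ cls x₃ ∪ cls x₄ ⊆ nonc G :=
    Finset.union_subset hsub₃ (cls_subset _)
  have hle := Finset.card_le_card hsub₄
  rw [hU₄] at hle
  have : c₁ + c₂ + c₃ + c₄ + 1 ≤ g := by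
    apply Nat.le_of_mul_le_mul_left _ hz
    calc z * (c₁ + c₂ + c₃ + c₄ + 1) = z * (c₁ + c₂ + c₃ + c₄) + z := by ring
      _ ≤ (nonc G).card + z := by omega
      _ = z * g := hS
  exact arith_four hc₁ hc₂ hc₃ hc₄ this

end Count

end Cfsg.Agent.Lib.Helper23.PrimTwo
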