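import Mathlib
import Cfsg.Agent.Lib.Helper2.CharBasic

/-!
# Matrix forms of degree 2 (helper23)

For a faithful representation of degree 2 and a noncentral element `x`, we choose a basis
in which `x` is diagonal with distinct entries.  Consequences: the centralizer of `x` is
abelian, and the conjugates of `x` inside its centralizer are at most two.
-/

set_option autoImplicit false

namespace Cfsg.Agent.Lib.Helper23.PrimTwo

open Module

/-- A faithful matrix form of degree 2 with "character" `χ`, diagonal with distinct entries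
at `x`. -/
structure MatForm (G : Type*) [Group G] (χ : G → ℂ) (x : G) where
  M : G →* Matrix (Fin 2) (Fin 2) ℂ
  inj : Function.Injective M
  tr : ∀ g, (M g).trace = χ g
  μ : Fin 2 → ℂ
  diag : M x = Matrix.diagonal μ
  ne : μ 0 ≠ μ 1

/-- a diagonal `2 × 2` matrix -/
def IsDiag (A : Matrix (Fin 2) (Fin 2) ℂ) : Prop := A 0 1 = 0 ∧ A 1 0 = 0

theorem isDiag_diagonal (μ : Fin 2 → ℂ) : IsDiag (Matrix.diagonal μ) := by
  constructor <;> simp

theorem isDiag_of_commute {A : Matrix (Fin 2) (Fin 2) ℂ} {μ : Fin 2 → ℂ} (hne : μ 0 ≠ μ 1)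
    (h : A * Matrix.diagonal μ = Matrix.diagonal μ * A) : IsDiag A := by
  constructor
  · have h1 := congrFun (congrFun h 0) 1
    rw [Matrix.mul_diagonal, Matrix.diagonal_mul] at h1
    have h2 : A 0 1 * (μ 1 - μ 0) = 0 := by rw [mul_sub, h1]; ring
    rcases mul_eq_zero.mp h2 with h3 | h3
    · exact h3
    · exact absurd (sub_eq_zero.mp h3).symm hne
  · have h1 := congrFun (congrFun h 1) 0
    rw [Matrix.mul_diagonal, Matrix.diagonal_mul] at h1
    have h2 : A 1 0 * (μ 0 - μ 1) = 0 := by rw [mul_sub, h1]; ring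
    rcases mul_eq_zero.mp h2 with h3 | h3
    · exact h3
    · exact absurd (sub_eq_zero.mp h3) hne

theorem IsDiag.mul_comm {A B : Matrix (Fin 2) (Fin 2) ℂ} (hA : IsDiag A) (hB : IsDiag B) :
    A * B = B * A := by
  ext i j
  fin_cases i <;> fin_cases j <;>
    simp [Matrix.mul_apply, Fin.sum_univ_two, hA.1, hA.2, hB.1, hB.2, _root_.mul_comm]

theorem IsDiag.eq_of_entries {A B : Matrix (Fin 2) (Fin 2) ℂ} (hA : IsDiag A) (hB : IsDiag B)
    (h0 : A 0 0 = B 0 0) (h1 : A 1 1 = B 1 1) : A = B := by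
  ext i j
  fin_cases i <;> fin_cases j <;> simp [hA.1, hA.2, hB.1, hB.2, h0, h1]

namespace MatForm

variable {G : Type*} [Group G] {χ : G → ℂ} {x : G}

theorem isDiag_of_commute (F : MatForm G χ x) {h : G} (hc : x * h = h * x) : IsDiag (F.M h) := by
  apply Cfsg.Agent.Lib.Helper23.PrimTwo.isDiag_of_commute F.ne
  rw [← F.diag, ← map_mul, ← map_mul, hc]

theorem commute_of_isDiag (F : MatForm G χ x) {h k : G} (hh : IsDiag (F.M h)) (hk : IsDiag (F.M k)) :
    h * k = k * h := by
  apply F.inj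
  rw [map_mul, map_mul]
  exact hh.mul_comm hk

/-- the centralizer of `x` is abelian -/
theorem comm_of_comm (F : MatForm G χ x) {h k : G} (hh : x * h = h * x) (hk : x * k = k * x) :
    h * k = k * h :=
  F.commute_of_isDiag (F.isDiag_of_commute hh) (F.isDiag_of_commute hk)

theorem conj_trace (F : MatForm G χ x) (n : G) : (F.M (n * x * n⁻¹)).trace = (F.M x).trace := by
  rw [map_mul, map_mul, Matrix.trace_mul_comm, ← Matrix.mul_assoc, ← map_mul, inv_mul_cancel,
    map_one, Matrix.one_mul]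

theorem conj_det (F : MatForm G χ x) (n : G) : (F.M (n * x * n⁻¹)).det = (F.M x).det := by
  have h1 : (F.M n).det * (F.M n⁻¹).det = 1 := by
    rw [← Matrix.det_mul, ← map_mul, mul_inv_cancel, map_one, Matrix.det_one]
  rw [map_mul, map_mul, Matrix.det_mul, Matrix.det_mul]
  calc (F.M n).det * (F.M x).det * (F.M n⁻¹).det
      = (F.M x).det * ((F.M n).det * (F.M n⁻¹).det) := by ring
    _ = (F.M x).det := by rw [h1, mul_one]

/-- a conjugate of `x` commuting with `x` and different from `x` is the "swap" of `x` -/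
theorem conj_swap (F : MatForm G χ x) {n : G} (h1 : x * (n * x * n⁻¹) = n * x * n⁻¹ * x) (h2 : n * x * n⁻¹ ≠ x) :
    (F.M (n * x * n⁻¹)) 0 0 = F.μ 1 ∧ (F.M (n * x * n⁻¹)) 1 1 = F.μ 0 := by
  have hd := F.isDiag_of_commute h1
  have ht := F.conj_trace n
  have hdet := F.conj_det n
  rw [F.diag] at ht hdet
  rw [Matrix.trace_fin_two, Matrix.trace_fin_two] at ht
  rw [Matrix.det_fin_two, Matrix.det_fin_two, hd.1, hd.2] at hdet
  simp only [Matrix.diagonal_apply_eq, Matrix.diagonal_apply_ne, ne_eq, Fin.isValue,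
    zero_ne_one, one_ne_zero, not_false_eq_true, mul_zero, sub_zero] at ht hdet
  set c0 := (F.M (n * x * n⁻¹)) 0 0 with hc0
  set c1 := (F.M (n * x * n⁻¹)) 1 1 with hc1
  have h3 : (c0 - F.μ 0) * (c0 - F.μ 1) = 0 := by
    have e1 : c1 = F.μ 0 + F.μ 1 - c0 := by rw [← ht]; ring
    rw [e1] at hdet
    linear_combination -hdet
  rcases mul_eq_zero.mp h3 with h4 | h4
  · exfalso
    apply h2
    apply F.inj
    rw [F.diag]
    apply hd.eq_of_entries (isDiag_diagonal _)
    · rw [Matrix.diagonal_apply_eq]; exact sub_eq_zero.mp h4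
    · rw [Matrix.diagonal_apply_eq]
      have : c0 = F.μ 0 := sub_eq_zero.mp h4
      rw [this] at ht
      exact add_left_cancel ht
  · have e0 : c0 = F.μ 1 := sub_eq_zero.mp h4
    refine ⟨e0, ?_⟩
    rw [e0] at ht
    have : F.μ 1 + c1 = F.μ 1 + F.μ 0 := by rw [ht]; ring
    exact add_left_cancel this

/-- two conjugates of `x` in its centralizer, both different from `x`, coincide -/
theorem conj_unique (F : MatForm G χ x) {n n' : G} (h1 : x * (n * x * n⁻¹) = n * x * n⁻¹ * x)
    (h1' : x * (n' * x * n'⁻¹) = n' * x * n'⁻¹ * x) (h2 : n * x * n⁻¹ ≠ x)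
    (h2' : n' * x * n'⁻¹ ≠ x) : n * x * n⁻¹ = n' * x * n'⁻¹ := by
  apply F.inj
  obtain ⟨a0, a1⟩ := F.conj_swap h1 h2
  obtain ⟨b0, b1⟩ := F.conj_swap h1' h2'
  exact (F.isDiag_of_commute h1).eq_of_entries (F.isDiag_of_commute h1') (a0.trans b0.symm)
    (a1.trans b1.symm)

end MatForm

section Exists

variable {G : Type*} [Group G] [Finite G] {V : Type*} [AddCommGroup V] [Module ℂ V]
  [FiniteDimensional ℂ V]

/-- the matrix homomorphism of a representation in a basis -/
noncomputable def matHom (ρ : Representation ℂ G V) (b : Basis (Fin 2) ℂ V) :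
    G →* Matrix (Fin 2) (Fin 2) ℂ where
  toFun g := LinearMap.toMatrix b b (ρ g)
  map_one' := by rw [map_one]; exact LinearMap.toMatrix_one b
  map_mul' g h := by rw [map_mul]; exact LinearMap.toMatrix_mul b (ρ g) (ρ h)

omit [Finite G] [FiniteDimensional ℂ V] in
theorem matHom_apply (ρ : Representation ℂ G V) (b : Basis (Fin 2) ℂ V) (g : G) :
    matHom ρ b g = LinearMap.toMatrix b b (ρ g) := rfl

theorem exists_matForm (ρ : Representation ℂ G V) (hρ : Function.Injective ρ)
    (hdim : finrank ℂ V = 2) (x : G) (hx : x ∉ Subgroup.center G) :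
    Nonempty (MatForm G ρ.character x) := by
  classical
  obtain ⟨b, μ, hb, -⟩ := Cfsg.Agent.Lib.Helper2.exists_eigenbasis ρ x
  let e : Fin (finrank ℂ V) ≃ Fin 2 := finCongr hdim
  let b' : Basis (Fin 2) ℂ V := b.reindex e
  let μ' : Fin 2 → ℂ := fun i => μ (e.symm i)
  have hb' : ∀ i, ρ x (b' i) = μ' i • b' i := by
    intro i
    show ρ x (b.reindex e i) = μ (e.symm i) • b.reindex e i
    rw [Basis.reindex_apply, hb]
  have hne : μ' 0 ≠ μ' 1 := by
    intro heq
    apply hx
    have hsc : ρ x = μ' 0 • (LinearMap.id : V →ₗ[ℂ] V) := by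
      apply b'.ext
      intro i
      rw [hb', LinearMap.smul_apply, LinearMap.id_apply]
      fin_cases i
      · rfl
      · show μ' 1 • b' 1 = μ' 0 • b' 1
        rw [heq]
    rw [Subgroup.mem_center_iff]
    intro g
    apply hρ
    rw [map_mul, map_mul, hsc]
    ext v
    simp
  refine ⟨⟨matHom ρ b', ?_, ?_, μ', ?_, hne⟩⟩
  · intro g h hgh
    apply hρ
    exact (LinearMap.toMatrix b' b').injective hgh
  · intro g
    rw [matHom_apply]
    exact (LinearMap.trace_eq_matrix_trace ℂ b' (ρ g)).symm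
  · rw [matHom_apply]
    ext i j
    rw [LinearMap.toMatrix_apply, hb', map_smul, Basis.repr_self, Finsupp.smul_apply,
      Finsupp.single_apply, Matrix.diagonal_apply, smul_eq_mul]
    by_cases hij : i = j
    · subst hij; simp
    · rw [if_neg hij, if_neg (fun h => hij h.symm), mul_zero]

end Exists

end Cfsg.Agent.Lib.Helper23.PrimTwo
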