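import Mathlib
import Cfsg.Agent.Lib.Helper23.PrimTwoCount
import Cfsg.Agent.Lib.Helper23.PrimTwoMat
import Cfsg.Agent.Lib.Helper2.Ito
import Cfsg.Agent.Lib.Helper2.CoprimeDegreeCount
import Cfsg.Agent.Lib.Helper2.Linear
import Cfsg.Agent.Lib.Helper2.Induction
import Cfsg.Agent.Lib.Helper25.Linear
import Cfsg.Agent.Lib.Helper11.Clifford

/-!
# Primitive linear groups of degree 2 (helper23)

A finite group with a faithful irreducible primitive representation of degree 2 has centre
of index 12, 24 or 60.
-/

set_option autoImplicit false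

namespace Cfsg.Agent.Lib.Helper23.PrimTwo

open Subgroup Module Cfsg

/-- a diagonal entry of a matrix form, as a multiplicative character of the centralizer -/
noncomputable def entryHom {G : Type*} [Group G] {χ : G → ℂ} {x : G} (F : MatForm G χ x)
    (i : Fin 2) : cent x →* ℂ where
  toFun a := (F.M (a : G)) i i
  map_one' := by simp
  map_mul' a b := by
    have ha := F.isDiag_of_commute (mem_cent.mp a.2)
    have hb := F.isDiag_of_commute (mem_cent.mp b.2)
    show (F.M ((a : G) * (b : G))) i i = _
    rw [map_mul, Matrix.mul_apply, Fin.sum_univ_two]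
    fin_cases i
    · simp [ha.1]
    · simp [ha.2]

theorem index_center_of_rep {G : Type*} [Group G] [Fintype G]
    (ρ : Representation ℂ G (Fin 2 → ℂ)) [ρ.IsIrreducible] (hinj : Function.Injective ρ)
    (hprim : ∀ H : Subgroup G, H ≠ ⊤ → ∀ θ : H → ℂ, Cfsg.IsCharacter H θ →
      ρ.character ≠ Cfsg.indFun H θ) :
    (center G).index = 12 ∨ (center G).index = 24 ∨ (center G).index = 60 := by
  classical
  have hdim : finrank ℂ (Fin 2 → ℂ) = 2 := Module.finrank_fin_fun ℂ
  have hF : ∀ x : G, x ∉ center G → Nonempty (MatForm G ρ.character x) :=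
    fun x hx => exists_matForm ρ hinj hdim x hx
  have hyp : CAHyp G :=
    ⟨fun x hx h k hh hk => (hF x hx).some.comm_of_comm hh hk,
     fun x hx n n' h1 h1' h2 h2' => (hF x hx).some.conj_unique h1 h1' h2 h2'⟩
  apply index_center hyp
  · intro x hx htop
    obtain ⟨F⟩ := hF x hx
    set A := cent x with hA
    have hcard := hyp.card_normalizer hx
    rw [← hA, htop, Subgroup.card_top] at hcard
    have hidx : A.index = 2 := by
      have h1 := card_mul_index A
      have hpos : 0 < Nat.card A := Nat.card_pos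
      rcases hcard with h | h
      · exfalso
        have h2 : A.index = 1 := by
          rw [h] at h1
          exact Nat.eq_of_mul_eq_mul_left hpos (by rw [h1, mul_one])
        have h3 : A = ⊤ := index_eq_one.mp h2
        apply hx
        rw [mem_center_iff]
        intro g
        have : g ∈ A := h3 ▸ mem_top g
        exact (mem_cent.mp this).symm
      · rw [h] at h1
        apply Nat.eq_of_mul_eq_mul_left hpos
        rw [h1]; ring
    have hAtop : A ≠ ⊤ := by
      intro h
      rw [h, index_top] at hidx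
      omega
    -- the two diagonal characters of `A`
    set lam₀ : A →* ℂˣ := (entryHom F 0).toHomUnits with hlam₀
    set lam₁ : A →* ℂˣ := (entryHom F 1).toHomUnits with hlam₁
    set c₀ : A → ℂ := fun a => ((lam₀ a : ℂˣ) : ℂ) with hc₀
    set c₁ : A → ℂ := fun a => ((lam₁ a : ℂˣ) : ℂ) with hc₁
    have hc₀irr : IsIrrCharacter A c₀ := Cfsg.Agent.Lib.Helper25.isIrrCharacter_of_hom lam₀
    have hc₁irr : IsIrrCharacter A c₁ := Cfsg.Agent.Lib.Helper25.isIrrCharacter_of_hom lam₁
    have hc₀char : IsCharacter A c₀ := Cfsg.Agent.Lib.Helper25.isCharacter_of_irr hc₀irr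
    have hres : (fun a : A => ρ.character (a : G)) = c₀ + c₁ := by
      funext a
      rw [← F.tr, Matrix.trace_fin_two]
      show _ = ((lam₀ a : ℂˣ) : ℂ) + ((lam₁ a : ℂˣ) : ℂ)
      rw [hlam₀, hlam₁, MonoidHom.coe_toHomUnits, MonoidHom.coe_toHomUnits]
      rfl
    have hclass : IsClassFunction G ρ.character :=
      Cfsg.Agent.Lib.Helper25.isClassFunction_of_char ⟨2, ρ, rfl⟩
    have hinner : classInner (indFun A c₀) ρ.character ≠ 0 := by
      rw [Cfsg.Agent.Lib.Helper2.frobenius_reciprocity A c₀ _ hclass, hres,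
        Cfsg.Agent.Lib.Helper2.classInner_add_right,
        Cfsg.Agent.Lib.Helper11.classInner_irr_eq_ite hc₀irr hc₀irr,
        Cfsg.Agent.Lib.Helper11.classInner_irr_eq_ite hc₀irr hc₁irr, if_pos rfl]
      split_ifs <;> norm_num
    have hdeg : indFun A c₀ 1 = ρ.character 1 := by
      rw [Cfsg.Agent.Lib.Helper2.indFun_apply_one, hidx, Representation.char_one, hdim]
      show ((2 : ℕ) : ℂ) * ((lam₀ 1 : ℂˣ) : ℂ) = ((2 : ℕ) : ℂ)
      rw [map_one, Units.val_one, mul_one]
    have heq := Cfsg.Agent.Lib.Helper2.CopDeg.eq_of_constituent_of_degree_eq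
      (Cfsg.Agent.Lib.Helper2.indFun_isCharacter A c₀ hc₀char)
      (⟨ρ.character, Cfsg.Agent.Lib.Helper2.isIrrCharacter_of_rep ρ⟩ : IrrCharacter G)
      hinner hdeg
    exact hprim A hAtop c₀ hc₀char heq.symm
  · by_contra hcon
    push Not at hcon
    haveI : (⊤ : Subgroup G).Normal := inferInstance
    have h1 := Cfsg.Agent.Lib.Helper2.finrank_dvd_index_of_abelian_normal ρ ⊤
      (by
        intro a _ b _
        exact (mem_center_iff.mp (hcon b) a))
    rw [hdim, index_top] at h1
    omega

end Cfsg.Agent.Lib.Helper23.PrimTwo
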