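import Mathlib
import Cfsg.Agent.Lib.Helper23.Kazarin
import Cfsg.Agent.Lib.Helper23.SylowCount

/-!
# Subgroups of prime power index that are cyclic-by-(cyclic 2-group) (helper23 library)

If `A ≤ G` has prime power index, `B ⊴ A` is cyclic and `A / B` is a cyclic `2`-group, then `G` is
solvable.  The proof uses Kazarin's theorem (elements of prime power class size generate a solvable
normal subgroup) and the normal complement of a cyclic Sylow `2`-subgroup.
-/

set_option autoImplicit false

namespace Cfsg.Agent.Lib.Helper23.PrimePowIndexMeta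

open Subgroup

universe u

/-- a group of prime power order is solvable -/
theorem isSolvable_of_card_prime_pow {G : Type u} [Group G] [Finite G] {q k : ℕ} (hq : q.Prime)
    (h : Nat.card G = q ^ k) : Group.IsSolvable G := by
  haveI : Fact q.Prime := ⟨hq⟩
  have hp : IsPGroup q G := IsPGroup.of_card h
  haveI := hp.isNilpotent
  infer_instance

/-- A cyclic subgroup of prime power index forces solvability (by Kazarin's theorem). -/
theorem isSolvable_of_cyclic_index {G : Type u} [Group G] [Finite G] (B : Subgroup G)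
    (hB : IsCyclic B) {q k : ℕ} (hq : q.Prime) (hi : B.index = q ^ k) : Group.IsSolvable G := by
  obtain ⟨g, hg⟩ := hB.exists_generator
  have hBz : ∀ x ∈ B, x ∈ zpowers (g : G) := by
    intro x hx
    obtain ⟨z, hz⟩ := Subgroup.mem_zpowers_iff.mp (hg ⟨x, hx⟩)
    rw [Subgroup.mem_zpowers_iff]
    refine ⟨z, ?_⟩
    have := congrArg Subtype.val hz
    simpa using this
  have hBC : B ≤ centralizer ({(g : G)} : Set G) := by
    intro x hx
    rw [mem_centralizer_singleton_iff]
    obtain ⟨z, rfl⟩ := Subgroup.mem_zpowers_iff.mp (hBz x hx)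
    exact (Commute.zpow_left (Commute.refl (g : G)) z).eq
  have hci : (centralizer ({(g : G)} : Set G)).index ∣ q ^ k := by
    rw [← hi]; exact Subgroup.index_dvd_of_le hBC
  obtain ⟨j, _, hj⟩ := (Nat.dvd_prime_pow hq).mp hci
  have hN : Group.IsSolvable (normalClosure ({(g : G)} : Set G)) :=
    Kazarin.isSolvable_normalClosure_of_index_prime_pow hq (g : G) hj
  set N := normalClosure ({(g : G)} : Set G) with hNdef
  have hBN : B ≤ N := by
    intro x hx
    have h1 := hBz x hx
    have h2 : zpowers (g : G) ≤ N := by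
      rw [zpowers_le]; exact subset_normalClosure (Set.mem_singleton _)
    exact h2 h1
  have hNi : N.index ∣ q ^ k := by rw [← hi]; exact Subgroup.index_dvd_of_le hBN
  obtain ⟨j', _, hj'⟩ := (Nat.dvd_prime_pow hq).mp hNi
  have hQ : Group.IsSolvable (G ⧸ N) := by
    apply isSolvable_of_card_prime_pow hq (k := j')
    rw [← Subgroup.index_eq_card]; exact hj'
  exact (Group.isSolvable_iff_subgroup_quotient N).mpr ⟨hN, hQ⟩

/-- A normal subgroup `K` of `2`-power index containing a cyclic subgroup of `p`-power index. -/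
theorem isSolvable_of_normal_cyclic {G : Type u} [Group G] [Finite G] (K B : Subgroup G)
    [K.Normal] (hBK : B ≤ K) (hB : IsCyclic B) {p s i : ℕ} (hp : p.Prime)
    (hK : Nat.card K = p ^ s * Nat.card B) (hGK : K.index = 2 ^ i) : Group.IsSolvable G := by
  have h1 : IsCyclic (B.subgroupOf K) := by
    have e := Subgroup.subgroupOfEquivOfLe hBK
    haveI := hB
    exact isCyclic_of_surjective e.symm e.symm.surjective
  have h2 : (B.subgroupOf K).index = p ^ s := by
    change B.relIndex K = _
    have h3 := Cfsg.Agent.Lib.Helper23.relIndex_mul_card' hBK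
    rw [hK] at h3
    exact Nat.eq_of_mul_eq_mul_right Nat.card_pos h3
  have hKs : Group.IsSolvable K := isSolvable_of_cyclic_index (B.subgroupOf K) h1 hp h2
  have hQ : Group.IsSolvable (G ⧸ K) := by
    apply isSolvable_of_card_prime_pow Nat.prime_two (k := i)
    rw [← Subgroup.index_eq_card]; exact hGK
  exact (Group.isSolvable_iff_subgroup_quotient K).mpr ⟨hKs, hQ⟩

/-- A cyclic group has at most one involution. -/
theorem involution_unique {B : Type*} [Group B] [Finite B] (hB : IsCyclic B) (u v : B)
    (hu : orderOf u = 2) (hv : orderOf v = 2) : v = u := by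
  classical
  by_contra hne
  haveI : Fintype B := Fintype.ofFinite B
  haveI := hB
  have hle := IsCyclic.card_pow_eq_one_le (α := B) (n := 2) (by norm_num)
  have hsub : ({1, u, v} : Finset B) ⊆ Finset.univ.filter (fun a : B => a ^ 2 = 1) := by
    intro x hx
    simp only [Finset.mem_insert, Finset.mem_singleton] at hx
    rw [Finset.mem_filter]
    refine ⟨Finset.mem_univ _, ?_⟩
    rcases hx with rfl | rfl | rfl
    · simp
    · rw [← hu]; exact pow_orderOf_eq_one _
    · rw [← hv]; exact pow_orderOf_eq_one _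
  have hcard3 : ({1, u, v} : Finset B).card = 3 := by
    rw [Finset.card_insert_of_notMem, Finset.card_insert_of_notMem, Finset.card_singleton]
    · simpa using (Ne.symm hne)
    · simp only [Finset.mem_insert, Finset.mem_singleton, not_or]
      constructor
      · intro h; rw [← h, orderOf_one] at hu; omega
      · intro h; rw [← h, orderOf_one] at hv; omega
  have := Finset.card_le_card hsub
  omega

/-- The inductive form: `p` odd. -/
theorem isSolvable_of_data_aux (p : ℕ) (hp : p.Prime) (hp2 : p ≠ 2) (e : ℕ) : ∀ n : ℕ,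
    ∀ (G : Type u) [Group G] [Finite G], Nat.card G = n → ∀ (A B : Subgroup G) (s : ℕ),
    A.index = p ^ s → B ≤ A → (∀ a ∈ A, ∀ b ∈ B, a * b * a⁻¹ ∈ B) → IsCyclic B →
    ∀ t : G, t ∈ A → t ^ (2 ^ e) = 1 → (∀ a ∈ A, ∃ k : ℤ, ∃ b ∈ B, a = t ^ k * b) →
    Group.IsSolvable G := by
  intro n
  induction n using Nat.strong_induction_on with
  | _ n ih =>
  intro G _ _ hcard A B s hA hBA hn hB t ht hte hgen
  by_cases hcase : ∃ c ∈ B, c ≠ 1 ∧ ∀ a ∈ A, a * c = c * a
  · -- Case 1: a nontrivial element of `B` central in `A`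
    obtain ⟨c, hcB, hc1, hcA⟩ := hcase
    have hAC : A ≤ centralizer ({c} : Set G) := fun a ha => by
      rw [mem_centralizer_singleton_iff]; exact hcA a ha
    have hci : (centralizer ({c} : Set G)).index ∣ p ^ s := by
      rw [← hA]; exact index_dvd_of_le hAC
    obtain ⟨j, _, hj⟩ := (Nat.dvd_prime_pow hp).mp hci
    have hN : Group.IsSolvable (normalClosure ({c} : Set G)) :=
      Kazarin.isSolvable_normalClosure_of_index_prime_pow hp c hj
    set N := normalClosure ({c} : Set G) with hNdef
    have hcN : c ∈ N := subset_normalClosure (Set.mem_singleton _)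
    have hNcard : 1 < Nat.card N := by
      rw [Finite.one_lt_card_iff_nontrivial]
      exact ⟨⟨⟨c, hcN⟩, 1, by intro h; apply hc1; exact congrArg Subtype.val h⟩⟩
    have hlt : Nat.card (G ⧸ N) < n := by
      rw [← hcard]
      have h1 := Subgroup.card_eq_card_quotient_mul_card_subgroup N
      have hpos : 0 < Nat.card (G ⧸ N) := Nat.card_pos
      nlinarith
    have hfs : Function.Surjective (QuotientGroup.mk' N) := QuotientGroup.mk'_surjective N
    have hAi : (A.map (QuotientGroup.mk' N)).index ∣ p ^ s := by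
      rw [← hA]; exact index_map_dvd A hfs
    obtain ⟨s', _, hs'⟩ := (Nat.dvd_prime_pow hp).mp hAi
    have hQ : Group.IsSolvable (G ⧸ N) := by
      refine ih (Nat.card (G ⧸ N)) hlt (G ⧸ N) rfl (A.map (QuotientGroup.mk' N))
        (B.map (QuotientGroup.mk' N)) s' hs' (Subgroup.map_mono hBA) ?_ ?_
        (QuotientGroup.mk' N t) (mem_map_of_mem _ ht) ?_ ?_
      · rintro _ ⟨a, ha, rfl⟩ _ ⟨b, hb, rfl⟩
        exact ⟨a * b * a⁻¹, hn a ha b hb, by simp⟩
      · haveI := hB
        exact isCyclic_of_surjective ((QuotientGroup.mk' N).subgroupMap B)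
          ((QuotientGroup.mk' N).subgroupMap_surjective B)
      · rw [← map_pow, hte, map_one]
      · rintro _ ⟨a, ha, rfl⟩
        obtain ⟨k, b, hb, rfl⟩ := hgen a ha
        exact ⟨k, QuotientGroup.mk' N b, mem_map_of_mem _ hb, by simp⟩
    exact (Group.isSolvable_iff_subgroup_quotient N).mpr ⟨hN, hQ⟩
  · -- Case 2: `t` acts without fixed points on `B`
    push Not at hcase
    have hBcomm : ∀ x ∈ B, ∀ y ∈ B, x * y = y * x := by
      intro x hx y hy
      haveI := hB
      letI := IsCyclic.commGroup (α := B)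
      exact congrArg Subtype.val (mul_comm (⟨x, hx⟩ : B) ⟨y, hy⟩)
    have hBodd : ¬ 2 ∣ Nat.card B := by
      intro h2
      haveI : Fact (Nat.Prime 2) := ⟨Nat.prime_two⟩
      obtain ⟨u, hu⟩ := exists_prime_orderOf_dvd_card' (G := B) 2 h2
      set u' : B := ⟨t * u * t⁻¹, hn t ht u u.2⟩ with hu'
      have hou' : orderOf u' = 2 := by
        rw [← Subgroup.orderOf_coe]
        change orderOf (t * (u : G) * t⁻¹) = 2
        have := (MulAut.conj t).orderOf_eq (u : G)
        rw [MulAut.conj_apply] at this
        rw [this, Subgroup.orderOf_coe]; exact hu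
      have hEq : u' = u := involution_unique hB u u' hu hou'
      have htu : t * (u : G) = (u : G) * t := by
        have := congrArg Subtype.val hEq
        have h3 : t * (u : G) * t⁻¹ = (u : G) := this
        calc t * (u : G) = t * (u : G) * t⁻¹ * t := by group
          _ = (u : G) * t := by rw [h3]
      have hu1 : (u : G) ≠ 1 := by
        intro h
        have : u = 1 := Subtype.ext h
        rw [this, orderOf_one] at hu; omega
      obtain ⟨a, ha, hne⟩ := hcase (u : G) u.2 hu1
      apply hne
      obtain ⟨k, b, hb, rfl⟩ := hgen a ha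
      have c1 : Commute (t ^ k) (u : G) := Commute.zpow_left htu k
      have c2 : Commute b (u : G) := hBcomm b hb u u.2
      exact (c1.mul_left c2).eq
    set T := zpowers t with hT
    have hTA : T ≤ A := by rw [hT, zpowers_le]; exact ht
    have hTcard : ∃ i, Nat.card T = 2 ^ i := by
      rw [Nat.card_zpowers]
      have : orderOf t ∣ 2 ^ e := orderOf_dvd_of_pow_eq_one hte
      obtain ⟨i, _, hi⟩ := (Nat.dvd_prime_pow Nat.prime_two).mp this
      exact ⟨i, hi⟩
    obtain ⟨i, hi⟩ := hTcard
    have hAle : Nat.card A ≤ Nat.card T * Nat.card B := by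
      rw [← Nat.card_prod]
      apply Nat.card_le_card_of_surjective (fun x : T × B =>
        (⟨(x.1 : G) * (x.2 : G), A.mul_mem (hTA x.1.2) (hBA x.2.2)⟩ : A))
      rintro ⟨a, ha⟩
      obtain ⟨k, b, hb, rfl⟩ := hgen a ha
      exact ⟨(⟨t ^ k, Subgroup.zpow_mem _ (mem_zpowers t) k⟩, ⟨b, hb⟩), rfl⟩
    haveI : Fact (Nat.Prime 2) := ⟨Nat.prime_two⟩
    have hTp : IsPGroup 2 T := IsPGroup.of_card hi
    obtain ⟨P, hTP⟩ := hTp.exists_le_sylow
    have hG : Nat.card G = p ^ s * Nat.card A := by
      rw [← hA, mul_comm]; exact (Subgroup.card_mul_index A).symm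
    have hAB := Cfsg.Agent.Lib.Helper23.relIndex_mul_card' hBA
    obtain ⟨l, hl⟩ := P.2.exists_card_eq
    have hPdvd : Nat.card P ∣ B.relIndex A := by
      have h1 : Nat.card P ∣ Nat.card G := Subgroup.card_subgroup_dvd_card _
      rw [hG, ← hAB] at h1
      rw [hl] at h1 ⊢
      have c1 : Nat.Coprime (2 ^ l) (p ^ s) :=
        Nat.Coprime.pow _ _ ((Nat.coprime_primes Nat.prime_two hp).mpr (Ne.symm hp2))
      have c2 : Nat.Coprime (2 ^ l) (Nat.card B) :=
        Nat.Coprime.pow_left _ ((Nat.Prime.coprime_iff_not_dvd Nat.prime_two).mpr hBodd)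
      have h2 := c1.dvd_of_dvd_mul_left h1
      exact c2.dvd_of_dvd_mul_right h2
    have hApos : 0 < Nat.card A := Nat.card_pos
    have hBpos : 0 < Nat.card B := Nat.card_pos
    have hrel_pos : 0 < B.relIndex A := by
      rcases Nat.eq_zero_or_pos (B.relIndex A) with h0 | h0
      · rw [h0, zero_mul] at hAB; omega
      · exact h0
    have h3 : Nat.card P ≤ B.relIndex A := Nat.le_of_dvd hrel_pos hPdvd
    have h4 : B.relIndex A ≤ Nat.card T := by
      have h5 : B.relIndex A * Nat.card B ≤ Nat.card T * Nat.card B := by rw [hAB]; exact hAle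
      exact Nat.le_of_mul_le_mul_right h5 hBpos
    have h5 : Nat.card T ≤ Nat.card P := Subgroup.card_le_of_le hTP
    have hTP' : T = P := Subgroup.eq_of_le_of_card_ge hTP (by omega)
    have hrel : B.relIndex A = Nat.card P := by omega
    have hPcyc : IsCyclic P := by
      have h6 : IsCyclic T := by rw [hT]; infer_instance
      exact hTP' ▸ h6
    -- the order of `G`
    have hG' : Nat.card G = p ^ s * Nat.card B * Nat.card P := by
      rw [hG, ← hAB, hrel]; ring
    by_cases h2G : 2 ∣ Nat.card G
    · have hmin : (Nat.card G).minFac = 2 := (Nat.minFac_eq_two_iff _).mpr h2G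
      have hcomp := IsCyclic.isComplement' hmin hPcyc
      set φ := MonoidHom.transferSylow P (hPcyc.normalizer_le_centralizer hmin) with hφ
      set K := φ.ker with hK
      have hKP : Nat.card K * Nat.card P = Nat.card G := hcomp.card_mul_card
      have hKcard : Nat.card K = p ^ s * Nat.card B := by
        have hPpos : 0 < Nat.card P := Nat.card_pos
        rw [hG'] at hKP
        exact Nat.eq_of_mul_eq_mul_right hPpos hKP
      have hKi : K.index = 2 ^ l := by
        have h7 := Subgroup.card_mul_index K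
        rw [← hKP] at h7
        have hKpos : 0 < Nat.card K := Nat.card_pos
        have : K.index = Nat.card P := Nat.eq_of_mul_eq_mul_left hKpos h7
        rw [this, hl]
      have hBK : B ≤ K := by
        intro b hb
        rw [hK, MonoidHom.mem_ker]
        have o1 : orderOf (φ b) ∣ orderOf b := orderOf_map_dvd φ b
        have o2 : orderOf b ∣ Nat.card B := by
          have := orderOf_dvd_natCard (⟨b, hb⟩ : B)
          rwa [Subgroup.orderOf_mk] at this
        have o3 : orderOf (φ b) ∣ 2 ^ l := by
          rw [← hl]; exact orderOf_dvd_natCard _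
        have c2 : Nat.Coprime (Nat.card B) (2 ^ l) :=
          (Nat.Coprime.pow_left _ ((Nat.Prime.coprime_iff_not_dvd Nat.prime_two).mpr hBodd)).symm
        have o4 : orderOf (φ b) = 1 := Nat.eq_one_of_dvd_coprimes c2 (o1.trans o2) o3
        exact orderOf_eq_one_iff.mp o4
      exact isSolvable_of_normal_cyclic K B hBK hB hp hKcard hKi
    · have hP1 : Nat.card P = 1 := by
        rcases Nat.eq_zero_or_pos l with h0 | h0
        · rw [hl, h0, pow_zero]
        · exfalso; apply h2G
          have h1 : Nat.card P ∣ Nat.card G := Subgroup.card_subgroup_dvd_card _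
          rw [hl] at h1
          exact (dvd_pow_self 2 h0.ne').trans h1
      have hKcard : Nat.card (⊤ : Subgroup G) = p ^ s * Nat.card B := by
        rw [Subgroup.card_top, hG', hP1, mul_one]
      exact isSolvable_of_normal_cyclic (⊤ : Subgroup G) B le_top hB hp hKcard
        (by rw [Subgroup.index_top, pow_zero] : (⊤ : Subgroup G).index = 2 ^ 0)

/-- The main theorem. -/
theorem isSolvable_of_index_prime_pow {G : Type u} [Group G] [Finite G] (A : Subgroup G)
    (p s : ℕ) (hp : p.Prime) (hA : A.index = p ^ s) (B : Subgroup A) [B.Normal] (hB : IsCyclic B)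
    (hAB : IsCyclic (A ⧸ B)) (r : ℕ) (hr : Nat.card (A ⧸ B) = 2 ^ r) : Group.IsSolvable G := by
  have hB' : IsCyclic (B.map A.subtype) := by
    haveI := hB
    exact isCyclic_of_surjective (A.subtype.subgroupMap B) (A.subtype.subgroupMap_surjective B)
  by_cases hp2 : p = 2
  · subst hp2
    have hi : (B.map A.subtype).index = 2 ^ (r + s) := by
      rw [Subgroup.index_map_subtype, hA, Subgroup.index_eq_card, hr, pow_add]
    exact isSolvable_of_cyclic_index _ hB' Nat.prime_two hi
  · haveI : Fact (Nat.Prime 2) := ⟨Nat.prime_two⟩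
    have hpg : IsPGroup 2 (A ⧸ B) := IsPGroup.of_card hr
    have hfs : Function.Surjective (QuotientGroup.mk' B) := QuotientGroup.mk'_surjective B
    let P₂ : Sylow 2 A := default
    have htop : (⊤ : Subgroup (A ⧸ B)) = (P₂.mapSurjective hfs : Sylow 2 (A ⧸ B)) :=
      (P₂.mapSurjective hfs).is_maximal' (hpg.to_subgroup ⊤) le_top
    obtain ⟨q, hq⟩ := hAB.exists_generator
    have hqm : q ∈ ((P₂.mapSurjective hfs : Sylow 2 (A ⧸ B)) : Subgroup (A ⧸ B)) := by
      rw [← htop]; exact mem_top q
    rw [Sylow.coe_mapSurjective] at hqm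
    obtain ⟨t, htP, rfl⟩ := hqm
    obtain ⟨e, he⟩ := P₂.2 ⟨t, htP⟩
    have hte : (t : G) ^ (2 ^ e) = 1 := by
      have h1 := congrArg Subtype.val he
      have h2 : (t : A) ^ (2 ^ e) = 1 := by simpa using h1
      have h3 := congrArg Subtype.val h2
      simpa using h3
    refine isSolvable_of_data_aux p hp hp2 e (Nat.card G) G rfl A (B.map A.subtype) s hA
      (Subgroup.map_subtype_le B) ?_ hB' (t : G) t.2 hte ?_
    · rintro a ha _ ⟨b, hb, rfl⟩
      refine ⟨⟨a, ha⟩ * b * ⟨a, ha⟩⁻¹, ?_, by simp⟩
      exact (inferInstance : B.Normal).conj_mem b hb ⟨a, ha⟩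
    · intro a ha
      obtain ⟨z, hz⟩ := Subgroup.mem_zpowers_iff.mp (hq (QuotientGroup.mk' B ⟨a, ha⟩))
      have h1 : QuotientGroup.mk' B (t ^ z) = QuotientGroup.mk' B ⟨a, ha⟩ := by
        rw [map_zpow]; exact hz
      have h2 : (t ^ z)⁻¹ * ⟨a, ha⟩ ∈ B := by
        rw [← QuotientGroup.eq]; exact h1
      refine ⟨z, (((t ^ z)⁻¹ * ⟨a, ha⟩ : A) : G), ⟨_, h2, rfl⟩, ?_⟩
      simp

end Cfsg.Agent.Lib.Helper23.PrimePowIndexMeta
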