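import Mathlib
import Cfsg.Agent.Lib.Helper21.Pronormal

set_option autoImplicit false

/-!
Pronormality of overgroups of Sylow subgroups in extensions (Kondrat'ev–Maslova–Revin).
-/

namespace Cfsg.Agent.Lib.Helper23.PronormalExt

open Cfsg.Agent.Lib.Helper21

variable {G : Type*} [Group G]

theorem cj_sup (g : G) (H K : Subgroup G) : cj g (H ⊔ K) = cj g H ⊔ cj g K :=
  Subgroup.map_sup H K _

theorem cj_normal (g : G) (A : Subgroup G) [A.Normal] : cj g A = A :=
  cj_eq_self_of_mem_normalizer (by rw [Subgroup.normalizer_eq_top]; exact Subgroup.mem_top g)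

theorem card_cj (g : G) (H : Subgroup G) : Nat.card (cj g H) = Nat.card H :=
  Subgroup.card_map_of_injective (MulAut.conj g).injective

theorem map_cj {G' : Type*} [Group G'] (f : G →* G') (g : G) (H : Subgroup G) :
    (cj g H).map f = cj (f g) (H.map f) := by
  ext y
  constructor
  · intro hy
    obtain ⟨x, hx, rfl⟩ := Subgroup.mem_map.mp hy
    rw [mem_cj] at hx ⊢
    refine Subgroup.mem_map.mpr ⟨g⁻¹ * x * g, hx, ?_⟩
    rw [map_mul, map_mul, map_inv]
  · intro hy
    rw [mem_cj] at hy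
    obtain ⟨x, hx, hxy⟩ := Subgroup.mem_map.mp hy
    refine Subgroup.mem_map.mpr ⟨g * x * g⁻¹, conj_mem_cj hx, ?_⟩
    rw [map_mul, map_mul, map_inv, hxy]
    group

theorem map_subtype_cj (L : Subgroup G) (a : L) (K : Subgroup L) :
    (cj a K).map L.subtype = cj (a : G) (K.map L.subtype) :=
  map_cj L.subtype a K

theorem comap_cj {G' : Type*} [Group G'] (f : G →* G') (g : G) (K : Subgroup G') :
    (cj (f g) K).comap f = cj g (K.comap f) := by
  ext y
  rw [Subgroup.mem_comap, mem_cj, mem_cj, Subgroup.mem_comap, map_mul, map_mul, map_inv]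

/-- pronormality is invariant under conjugation -/
theorem isPronormal_cj {H : Subgroup G} (h : Cfsg.IsPronormal H) (a : G) :
    Cfsg.IsPronormal (cj a H) := by
  rw [isPronormal_iff] at h ⊢
  intro g
  obtain ⟨x, hx, hcj⟩ := h (a⁻¹ * g * a)
  have h2 : a * (a⁻¹ * g * a) = g * a := by group
  refine ⟨a * x * a⁻¹, ?_, ?_⟩
  · have h1 : a * x * a⁻¹ ∈ cj a (H ⊔ cj (a⁻¹ * g * a) H) := conj_mem_cj hx
    rw [cj_sup, ← cj_mul, h2, cj_mul] at h1
    exact h1
  · have h3 : a * x * a⁻¹ * a = a * x := by group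
    rw [← cj_mul g a H, ← cj_mul (a * x * a⁻¹) a H, h3, cj_mul a x, ← hcj, ← cj_mul, h2]

/-- `H` is pronormal in `L`, phrased inside the ambient group. -/
def PronIn (L H : Subgroup G) : Prop :=
  ∀ g ∈ L, ∃ x ∈ H ⊔ cj g H, cj g H = cj x H

theorem PronIn.of_isPronormal {H : Subgroup G} (h : Cfsg.IsPronormal H) (L : Subgroup G) :
    PronIn L H :=
  fun g _ => h g

theorem isPronormal_iff_pronIn (L : Subgroup G) (K : Subgroup L) :
    Cfsg.IsPronormal K ↔ PronIn L (K.map L.subtype) := by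
  constructor
  · intro h g hg
    rw [isPronormal_iff] at h
    obtain ⟨x, hx, hcj⟩ := h ⟨g, hg⟩
    refine ⟨x.1, ?_, ?_⟩
    · have h1 : (x : G) ∈ (K ⊔ cj ⟨g, hg⟩ K).map L.subtype :=
        Subgroup.mem_map.mpr ⟨x, hx, rfl⟩
      rw [Subgroup.map_sup, map_subtype_cj] at h1
      exact h1
    · have h2 := congrArg (Subgroup.map L.subtype) hcj
      rw [map_subtype_cj, map_subtype_cj] at h2
      exact h2
  · intro h
    rw [isPronormal_iff]
    intro g
    obtain ⟨x, hx, hcj⟩ := h g.1 g.2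
    have h1 : K.map L.subtype ⊔ cj (g : G) (K.map L.subtype) = (K ⊔ cj g K).map L.subtype := by
      rw [Subgroup.map_sup, map_subtype_cj]
    rw [h1] at hx
    obtain ⟨x', hx', rfl⟩ := Subgroup.mem_map.mp hx
    refine ⟨x', hx', ?_⟩
    apply Subgroup.map_injective L.subtype_injective
    rw [map_subtype_cj, map_subtype_cj]
    exact hcj

theorem isPronormal_comap_iff {L L' : Type*} [Group L] [Group L'] (f : L →* L')
    (hf : Function.Surjective f) (K : Subgroup L') :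
    Cfsg.IsPronormal (K.comap f) ↔ Cfsg.IsPronormal K := by
  constructor
  · intro h
    rw [isPronormal_iff] at h ⊢
    intro g'
    obtain ⟨g, rfl⟩ := hf g'
    obtain ⟨x, hx, hcj⟩ := h g
    refine ⟨f x, ?_, ?_⟩
    · rw [← comap_cj, Subgroup.comap_sup_eq _ _ _ hf] at hx
      exact hx
    · apply Subgroup.comap_injective hf
      rw [comap_cj, comap_cj]
      exact hcj
  · intro h
    rw [isPronormal_iff] at h ⊢
    intro g
    obtain ⟨x', hx', hcj⟩ := h (f g)
    obtain ⟨x, rfl⟩ := hf x'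
    refine ⟨x, ?_, ?_⟩
    · rw [← comap_cj, Subgroup.comap_sup_eq _ _ _ hf]
      exact hx'
    · rw [← comap_cj, ← comap_cj, hcj]

variable {p : ℕ} [Fact p.Prime]

theorem exists_sylow_le_iff [Finite G] (K : Subgroup G) :
    (∃ P : Sylow p G, (P : Subgroup G) ≤ K) ↔ ¬ p ∣ K.index := by
  constructor
  · rintro ⟨P, hP⟩ h
    exact P.not_dvd_index (h.trans (Subgroup.index_dvd_of_le hP))
  · intro h
    obtain ⟨Q₀⟩ : Nonempty (Sylow p K) := inferInstance
    have hpQ : IsPGroup p ((Q₀ : Subgroup K).map K.subtype) := Q₀.2.map K.subtype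
    have hQ : ¬ p ∣ ((Q₀ : Subgroup K).map K.subtype).index := by
      rw [Subgroup.index_map_subtype]
      exact Nat.Prime.not_dvd_mul Fact.out Q₀.not_dvd_index h
    refine ⟨hpQ.toSylow hQ, ?_⟩
    rw [IsPGroup.toSylow_coe]
    exact Subgroup.map_subtype_le _

theorem sylow_isPronormal [Finite G] (P : Sylow p G) : Cfsg.IsPronormal (P : Subgroup G) := by
  rw [isPronormal_iff]
  intro g
  have h1 : (P : Subgroup G) ≤ (P : Subgroup G) ⊔ cj g (P : Subgroup G) := le_sup_left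
  have h2 : ((g • P : Sylow p G) : Subgroup G) ≤ (P : Subgroup G) ⊔ cj g (P : Subgroup G) := by
    have h3 : ((g • P : Sylow p G) : Subgroup G) = cj g (P : Subgroup G) := rfl
    rw [h3]
    exact le_sup_right
  obtain ⟨j, hj⟩ := MulAction.exists_smul_eq ↥((P : Subgroup G) ⊔ cj g (P : Subgroup G))
    (P.subtype h1) ((g • P).subtype h2)
  rw [Sylow.smul_subtype h1 j] at hj
  have h4 := Sylow.subtype_injective hj
  refine ⟨j.1, j.2, ?_⟩
  exact (congrArg (fun Q : Sylow p G => (Q : Subgroup G)) h4).symm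

theorem isPronormal_of_selfNormalizing_sylow [Finite G] (P : Sylow p G)
    (hP : Subgroup.normalizer ((P : Subgroup G) : Set G) = P) (K : Subgroup G)
    (hK : (P : Subgroup G) ≤ K) : Cfsg.IsPronormal K := by
  have hPp := sylow_isPronormal P
  rw [isPronormal_iff] at hPp ⊢
  intro g
  obtain ⟨x, hx, hcj⟩ := hPp g
  have hn : x⁻¹ * g ∈ Subgroup.normalizer ((P : Subgroup G) : Set G) := cj_eq_cj_iff.mp hcj
  rw [hP] at hn
  refine ⟨x, (sup_le_sup hK (cj_mono hK)) hx, ?_⟩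
  have h1 : g = x * (x⁻¹ * g) := by group
  conv_lhs => rw [h1]
  rw [cj_mul, cj_eq_self_of_mem (hK hn)]

theorem selfNormalizing_overgroup [Finite G] (P : Sylow p G)
    (hP : Subgroup.normalizer ((P : Subgroup G) : Set G) = P) (K : Subgroup G)
    (hK : (P : Subgroup G) ≤ K) : Subgroup.normalizer (K : Set G) = K := by
  apply le_antisymm _ Subgroup.le_normalizer
  intro x hx
  have hxK : cj x K = K := cj_eq_self_of_mem_normalizer hx
  have h2 : ((x • P : Sylow p G) : Subgroup G) ≤ K := by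
    have h3 : ((x • P : Sylow p G) : Subgroup G) = cj x (P : Subgroup G) := rfl
    rw [h3, ← hxK]
    exact cj_mono hK
  obtain ⟨k, hk⟩ := MulAction.exists_smul_eq K (P.subtype hK) ((x • P).subtype h2)
  rw [Sylow.smul_subtype hK k] at hk
  have h3 := Sylow.subtype_injective hk
  have h4 : cj x (P : Subgroup G) = cj (k : G) (P : Subgroup G) :=
    (congrArg (fun Q : Sylow p G => (Q : Subgroup G)) h3).symm
  have h5 : (k : G)⁻¹ * x ∈ Subgroup.normalizer ((P : Subgroup G) : Set G) := cj_eq_cj_iff.mp h4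
  rw [hP] at h5
  have h6 : x = k * ((k : G)⁻¹ * x) := by group
  rw [h6]
  exact K.mul_mem k.2 (hK h5)

section Ext

variable [Finite G] (A : Subgroup G) [A.Normal]

theorem le_normalizer_inf_normal (S : Subgroup G) :
    S ≤ Subgroup.normalizer ((S ⊓ A : Subgroup G) : Set G) := by
  refine le_trans ?_ Subgroup.inf_normalizer_le_normalizer_inf
  exact le_inf Subgroup.le_normalizer Subgroup.le_normalizer_of_normal

theorem eq_of_isPGroup_of_le (P : Sylow p A) (T : Subgroup G)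
    (hT : (P : Subgroup A).map A.subtype = T) (Q : Subgroup G) (hQ : IsPGroup p Q) (hQA : Q ≤ A)
    (hTQ : T ≤ Q) : Q = T := by
  have h1 : IsPGroup p (Q.subgroupOf A) := hQ.comap_subtype
  have h2 : (P : Subgroup A) ≤ Q.subgroupOf A :=
    Subgroup.map_le_iff_le_comap.mp (by rw [hT]; exact hTQ)
  have h3 := P.3 h1 h2
  rw [← hT, ← h3, Subgroup.map_subgroupOf_eq_of_le hQA]

theorem sylow_inf_eq (P : Sylow p A) (T : Subgroup G)
    (hT : (P : Subgroup A).map A.subtype = T) (S : Sylow p G) (hTS : T ≤ S) :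
    (S : Subgroup G) ⊓ A = T := by
  have hTA : T ≤ A := by rw [← hT]; exact Subgroup.map_subtype_le _
  exact eq_of_isPGroup_of_le A P T hT _ (S.2.to_le inf_le_left) inf_le_right (le_inf hTS hTA)

theorem normalizer_index (P : Sylow p A) (T : Subgroup G)
    (hT : (P : Subgroup A).map A.subtype = T) :
    ¬ p ∣ (Subgroup.normalizer (T : Set G)).index := by
  have hTp : IsPGroup p T := by rw [← hT]; exact P.2.map A.subtype
  obtain ⟨S, hTS⟩ := hTp.exists_le_sylow
  have hSinf := sylow_inf_eq A P T hT S hTS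
  have hSN : (S : Subgroup G) ≤ Subgroup.normalizer (T : Set G) := by
    have h1 := le_normalizer_inf_normal A (S : Subgroup G)
    rw [hSinf] at h1
    exact h1
  exact fun h => S.not_dvd_index (h.trans (Subgroup.index_dvd_of_le hSN))

/-- Sylow conjugacy inside an intermediate subgroup `T ≤ B ≤ A`. -/
theorem exists_cj_eq_of_mem_normalizer (P : Sylow p A) (T : Subgroup G)
    (hT : (P : Subgroup A).map A.subtype = T) (B : Subgroup G) (hBA : B ≤ A) (hTB : T ≤ B)
    (g : G) (hg : g ∈ Subgroup.normalizer (B : Set G)) :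
    ∃ b ∈ B, cj g T = cj b T := by
  have hTp : IsPGroup p T := by rw [← hT]; exact P.2.map A.subtype
  obtain ⟨Q, hQ⟩ := (hTp.comap_subtype (K := B)).exists_le_sylow
  have hQT : (Q : Subgroup B).map B.subtype = T := by
    have hQA : (Q : Subgroup B).map B.subtype ≤ A := (Subgroup.map_subtype_le _).trans hBA
    have hTQ : T ≤ (Q : Subgroup B).map B.subtype := by
      rw [← Subgroup.map_subgroupOf_eq_of_le hTB]
      exact Subgroup.map_mono hQ
    exact eq_of_isPGroup_of_le A P T hT _ (Q.2.map B.subtype) hQA hTQ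
  have hcjB : cj g B = B := cj_eq_self_of_mem_normalizer hg
  have hT2B : cj g T ≤ B := by
    rw [← hcjB]
    exact cj_mono hTB
  have hT2p : IsPGroup p (cj g T) := hTp.map _
  obtain ⟨Q₂, hQ₂⟩ := (hT2p.comap_subtype (K := B)).exists_le_sylow
  obtain ⟨b, hb⟩ := MulAction.exists_smul_eq B Q Q₂
  refine ⟨b.1, b.2, ?_⟩
  have h6 : cj (b : G) T = (Q₂ : Subgroup B).map B.subtype := by
    rw [← hb]
    have h5 : ((b • Q : Sylow p B) : Subgroup B) = cj b (Q : Subgroup B) := rfl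
    rw [h5, map_subtype_cj, hQT]
  have h4 : cj g T ≤ cj (b : G) T := by
    rw [h6, ← Subgroup.map_subgroupOf_eq_of_le hT2B]
    exact Subgroup.map_mono hQ₂
  exact Subgroup.eq_of_le_of_card_ge h4 (le_of_eq ((card_cj _ _).trans (card_cj _ _).symm))

theorem frattini_inf (P : Sylow p A) (T : Subgroup G)
    (hT : (P : Subgroup A).map A.subtype = T) (H : Subgroup G) (hTH : T ≤ H) :
    H = (H ⊓ A) ⊔ (H ⊓ Subgroup.normalizer (T : Set G)) := by
  have hTA : T ≤ A := by rw [← hT]; exact Subgroup.map_subtype_le _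
  apply le_antisymm
  · intro h hh
    have hB : h ∈ Subgroup.normalizer ((H ⊓ A : Subgroup G) : Set G) :=
      le_normalizer_inf_normal A H hh
    obtain ⟨b, hb, hcj⟩ := exists_cj_eq_of_mem_normalizer A P T hT (H ⊓ A) inf_le_right
      (le_inf hTH hTA) h hB
    have hn : b⁻¹ * h ∈ Subgroup.normalizer (T : Set G) := cj_eq_cj_iff.mp hcj
    have h1 : h = b * (b⁻¹ * h) := by group
    rw [h1]
    exact Subgroup.mul_mem_sup hb ⟨H.mul_mem (H.inv_mem hb.1) hh, hn⟩
  · exact sup_le inf_le_left inf_le_left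

theorem backward_core (P : Sylow p A) (T : Subgroup G)
    (hT : (P : Subgroup A).map A.subtype = T)
    (hA : ∀ B : Subgroup G, B ≤ A → T ≤ B → PronIn A B)
    (hN : ∀ K : Subgroup G, K ≤ Subgroup.normalizer (T : Set G) → T ≤ K →
      (∃ S : Sylow p G, (S : Subgroup G) ≤ K) → PronIn (Subgroup.normalizer (T : Set G)) K)
    (H : Subgroup G) (S : Sylow p G) (hSH : (S : Subgroup G) ≤ H) (hTS : T ≤ S)
    (hQ1 : Cfsg.IsPronormal (H.map (QuotientGroup.mk' A)))
    (hQ2 : (Subgroup.normalizer (H : Set G)).map (QuotientGroup.mk' A) =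
      Subgroup.normalizer ((H.map (QuotientGroup.mk' A) : Subgroup (G ⧸ A)) : Set (G ⧸ A))) :
    Cfsg.IsPronormal H := by
  have hTA : T ≤ A := by rw [← hT]; exact Subgroup.map_subtype_le _
  have hTH : T ≤ H := hTS.trans hSH
  obtain ⟨B, hB⟩ : ∃ B : Subgroup G, B = H ⊓ A := ⟨_, rfl⟩
  obtain ⟨HN, hHN⟩ : ∃ HN : Subgroup G, HN = H ⊓ Subgroup.normalizer (T : Set G) := ⟨_, rfl⟩
  have hBH : B ≤ H := by rw [hB]; exact inf_le_left
  have hBA : B ≤ A := by rw [hB]; exact inf_le_right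
  have hTB : T ≤ B := by rw [hB]; exact le_inf hTH hTA
  have hHNH : HN ≤ H := by rw [hHN]; exact inf_le_left
  have hHNN : HN ≤ Subgroup.normalizer (T : Set G) := by rw [hHN]; exact inf_le_right
  have hSinf : (S : Subgroup G) ⊓ A = T := sylow_inf_eq A P T hT S hTS
  have hSN : (S : Subgroup G) ≤ Subgroup.normalizer (T : Set G) := by
    have h1 := le_normalizer_inf_normal A (S : Subgroup G)
    rw [hSinf] at h1
    exact h1
  have hSHN : (S : Subgroup G) ≤ HN := by rw [hHN]; exact le_inf hSH hSN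
  have hTHN : T ≤ HN := hTS.trans hSHN
  have hHNB : H ≤ Subgroup.normalizer (B : Set G) := by
    rw [hB]
    exact le_normalizer_inf_normal A H
  have hfrat : H = B ⊔ HN := by
    rw [hB, hHN]
    exact frattini_inf A P T hT H hTH
  -- elements normalizing both `T` and `B`
  have step5 : ∀ g ∈ Subgroup.normalizer (T : Set G), g ∈ Subgroup.normalizer (B : Set G) →
      ∃ z ∈ H ⊔ cj g H, cj g H = cj z H := by
    intro g hgT hgB
    obtain ⟨z, hz, hcj⟩ := hN HN hHNN hTHN ⟨S, hSHN⟩ g hgT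
    have hle : HN ⊔ cj g HN ≤ H ⊔ cj g H := sup_le_sup hHNH (cj_mono hHNH)
    have hzJ : z ∈ H ⊔ cj g H := hle hz
    have hJB : H ⊔ cj g H ≤ Subgroup.normalizer (B : Set G) :=
      sup_le hHNB (cj_le_of_mem hgB hHNB)
    have hzB : cj z B = B := cj_eq_self_of_mem_normalizer (hJB hzJ)
    have hgB' : cj g B = B := cj_eq_self_of_mem_normalizer hgB
    refine ⟨z, hzJ, ?_⟩
    calc cj g H = cj g (B ⊔ HN) := congrArg (cj g) hfrat
      _ = B ⊔ cj z HN := by rw [cj_sup, hgB', hcj]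
      _ = cj z (B ⊔ HN) := by rw [cj_sup, hzB]
      _ = cj z H := (congrArg (cj z) hfrat).symm
  -- elements normalizing `B`
  have step4 : ∀ g ∈ Subgroup.normalizer (B : Set G), ∃ z ∈ H ⊔ cj g H, cj g H = cj z H := by
    intro g hgB
    have hginv : g⁻¹ ∈ Subgroup.normalizer (B : Set G) := Subgroup.inv_mem _ hgB
    obtain ⟨b, hb, hcj⟩ := exists_cj_eq_of_mem_normalizer A P T hT B hBA hTB g⁻¹ hginv
    have hbH : b ∈ H := hBH hb
    have hgbT : g * b ∈ Subgroup.normalizer (T : Set G) := by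
      apply mem_normalizer_of_cj_eq_self
      rw [cj_mul, ← hcj, cj_cj_inv]
    have hgbB : g * b ∈ Subgroup.normalizer (B : Set G) :=
      Subgroup.mul_mem _ hgB (Subgroup.le_normalizer hb)
    obtain ⟨z, hz, hz2⟩ := step5 (g * b) hgbT hgbB
    have h1 : cj (g * b) H = cj g H := by rw [cj_mul, cj_eq_self_of_mem hbH]
    rw [h1] at hz hz2
    exact ⟨z, hz, hz2⟩
  -- elements of `A`
  have step3 : ∀ a ∈ A, ∃ z ∈ H ⊔ cj a H, cj a H = cj z H := by
    intro a ha
    obtain ⟨y, hy, hcj⟩ := hA B hBA hTB a ha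
    have hyJ : y ∈ H ⊔ cj a H := (sup_le_sup hBH (cj_mono hBH)) hy
    have hg' : y⁻¹ * a ∈ Subgroup.normalizer (B : Set G) := cj_eq_cj_iff.mp hcj
    obtain ⟨z, hz, hz2⟩ := step4 (y⁻¹ * a) hg'
    refine ⟨y * z, ?_, ?_⟩
    · apply Subgroup.mul_mem _ hyJ
      have hle : H ⊔ cj (y⁻¹ * a) H ≤ H ⊔ cj a H := by
        apply sup_le le_sup_left
        rw [cj_mul]
        exact cj_le_of_mem (Subgroup.inv_mem _ hyJ) le_sup_right
      exact hle hz
    · rw [cj_mul y z, ← hz2, ← cj_mul, mul_inv_cancel_left]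
  -- the general case
  rw [isPronormal_iff] at hQ1 ⊢
  intro g
  obtain ⟨xbar, hxbar, hcjbar⟩ := hQ1 (QuotientGroup.mk' A g)
  have hmapJ : H.map (QuotientGroup.mk' A) ⊔
      cj (QuotientGroup.mk' A g) (H.map (QuotientGroup.mk' A)) =
      (H ⊔ cj g H).map (QuotientGroup.mk' A) := by
    rw [Subgroup.map_sup, map_cj]
  rw [hmapJ] at hxbar
  obtain ⟨u, hu, rfl⟩ := Subgroup.mem_map.mp hxbar
  have hnbar : (QuotientGroup.mk' A u)⁻¹ * QuotientGroup.mk' A g ∈
      Subgroup.normalizer ((H.map (QuotientGroup.mk' A) : Subgroup (G ⧸ A)) : Set (G ⧸ A)) :=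
    cj_eq_cj_iff.mp hcjbar
  rw [← hQ2] at hnbar
  obtain ⟨n, hn, hn2⟩ := Subgroup.mem_map.mp hnbar
  have hn3 : QuotientGroup.mk' A n = QuotientGroup.mk' A (u⁻¹ * g) := by
    rw [hn2, map_mul, map_inv]
  have hn3' : ((n : G) : G ⧸ A) = ((u⁻¹ * g : G) : G ⧸ A) := hn3
  have ha' : n⁻¹ * (u⁻¹ * g) ∈ A := QuotientGroup.eq.mp hn3'
  have ha'' : u⁻¹ * g * n⁻¹ ∈ A := by
    have h1 := ‹A.Normal›.conj_mem _ ha' n
    convert h1 using 1
    group
  obtain ⟨z, hz, hz2⟩ := step3 _ ha''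
  have hgeq : cj g H = cj u (cj (u⁻¹ * g * n⁻¹) H) := by
    have h1 : g = u * (u⁻¹ * g * n⁻¹) * n := by group
    conv_lhs => rw [h1]
    rw [cj_mul (u * (u⁻¹ * g * n⁻¹)) n, cj_mul u (u⁻¹ * g * n⁻¹),
      cj_eq_self_of_mem_normalizer hn]
  refine ⟨u * z, ?_, ?_⟩
  · apply Subgroup.mul_mem _ hu
    have hle : H ⊔ cj (u⁻¹ * g * n⁻¹) H ≤ H ⊔ cj g H := by
      apply sup_le le_sup_left
      have h2 : cj (u⁻¹ * g * n⁻¹) H = cj u⁻¹ (cj g H) := by
        rw [hgeq, cj_inv_cj]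
      rw [h2]
      exact cj_le_of_mem (Subgroup.inv_mem _ hu) le_sup_right
    exact hle hz
  · rw [cj_mul u z, ← hz2, ← hgeq]

theorem backward (P : Sylow p A) (T : Subgroup G)
    (hT : (P : Subgroup A).map A.subtype = T)
    (hA : ∀ B : Subgroup G, B ≤ A → T ≤ B → PronIn A B)
    (hN : ∀ K : Subgroup G, K ≤ Subgroup.normalizer (T : Set G) → T ≤ K →
      (∃ S : Sylow p G, (S : Subgroup G) ≤ K) → PronIn (Subgroup.normalizer (T : Set G)) K)
    (hQ1 : ∀ K : Subgroup G, (∃ S : Sylow p G, (S : Subgroup G) ≤ K) →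
      Cfsg.IsPronormal (K.map (QuotientGroup.mk' A)))
    (hQ2 : ∀ K : Subgroup G, (∃ S : Sylow p G, (S : Subgroup G) ≤ K) →
      (Subgroup.normalizer (K : Set G)).map (QuotientGroup.mk' A) =
        Subgroup.normalizer ((K.map (QuotientGroup.mk' A) : Subgroup (G ⧸ A)) : Set (G ⧸ A)))
    (H : Subgroup G) (hH : ∃ S : Sylow p G, (S : Subgroup G) ≤ H) : Cfsg.IsPronormal H := by
  obtain ⟨S, hSH⟩ := hH
  have hTp : IsPGroup p T := by rw [← hT]; exact P.2.map A.subtype
  obtain ⟨S₂, hTS₂⟩ := hTp.exists_le_sylow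
  obtain ⟨g, hg⟩ := MulAction.exists_smul_eq G S S₂
  have hS₂ : (S₂ : Subgroup G) = cj g (S : Subgroup G) := by rw [← hg]; rfl
  have hS₂H : (S₂ : Subgroup G) ≤ cj g H := by rw [hS₂]; exact cj_mono hSH
  have h1 : Cfsg.IsPronormal (cj g H) :=
    backward_core A P T hT hA hN (cj g H) S₂ hS₂H hTS₂ (hQ1 _ ⟨S₂, hS₂H⟩) (hQ2 _ ⟨S₂, hS₂H⟩)
  have h2 := isPronormal_cj h1 g⁻¹
  rwa [cj_inv_cj] at h2

theorem forward_ii (K : Subgroup G) (hK : Cfsg.IsPronormal K) :
    (Subgroup.normalizer (K : Set G)).map (QuotientGroup.mk' A) =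
      Subgroup.normalizer ((K.map (QuotientGroup.mk' A) : Subgroup (G ⧸ A)) : Set (G ⧸ A)) := by
  apply le_antisymm (Subgroup.le_normalizer_map _)
  intro xbar hxbar
  obtain ⟨g, rfl⟩ := QuotientGroup.mk'_surjective A xbar
  have hcjbar : cj (QuotientGroup.mk' A g) (K.map (QuotientGroup.mk' A)) =
      K.map (QuotientGroup.mk' A) := cj_eq_self_of_mem_normalizer hxbar
  have h1 : cj g K ≤ A ⊔ K := by
    rw [← QuotientGroup.comap_map_mk', ← Subgroup.map_le_iff_le_comap]
    exact le_of_eq (by rw [map_cj, hcjbar])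
  rw [isPronormal_iff] at hK
  obtain ⟨x, hx, hcj⟩ := hK g
  have hx' : x ∈ A ⊔ K := (sup_le le_sup_right h1) hx
  have hx'' : x ∈ ((A ⊔ K : Subgroup G) : Set G) := hx'
  rw [Subgroup.normal_mul] at hx''
  obtain ⟨a, ha, k, hk, rfl⟩ := Set.mem_mul.mp hx''
  have h2 : cj g K = cj a K := by rw [hcj, cj_mul a k, cj_eq_self_of_mem hk]
  have h3 : a⁻¹ * g ∈ Subgroup.normalizer (K : Set G) := cj_eq_cj_iff.mp h2
  refine Subgroup.mem_map.mpr ⟨a⁻¹ * g, h3, ?_⟩
  have h4 : QuotientGroup.mk' A a = 1 := (QuotientGroup.eq_one_iff a).mpr ha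
  rw [map_mul, map_inv, h4, inv_one, one_mul]

end Ext

section Quot

variable [Finite G]

theorem forward_i_aux (N : Subgroup G) (T' : Subgroup N) [T'.Normal] (hNidx : ¬ p ∣ N.index)
    (h : ∀ K : Subgroup G, (∃ S : Sylow p G, (S : Subgroup G) ≤ K) → Cfsg.IsPronormal K)
    (Kbar : Subgroup (N ⧸ T'))
    (hK : ∃ Pbar : Sylow p (N ⧸ T'), (Pbar : Subgroup (N ⧸ T')) ≤ Kbar) :
    Cfsg.IsPronormal Kbar := by
  rw [← isPronormal_comap_iff (QuotientGroup.mk' T') (QuotientGroup.mk'_surjective T') Kbar,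
    isPronormal_iff_pronIn]
  apply PronIn.of_isPronormal
  apply h
  rw [exists_sylow_le_iff] at hK ⊢
  rw [Subgroup.index_map_subtype,
    Subgroup.index_comap_of_surjective _ (QuotientGroup.mk'_surjective T')]
  exact Nat.Prime.not_dvd_mul Fact.out hK hNidx

theorem pronIn_of_quotient (N : Subgroup G) (T' : Subgroup N) [T'.Normal]
    (h : ∀ Kbar : Subgroup (N ⧸ T'),
      (∃ Pbar : Sylow p (N ⧸ T'), (Pbar : Subgroup (N ⧸ T')) ≤ Kbar) → Cfsg.IsPronormal Kbar)
    (K : Subgroup G) (hKN : K ≤ N) (hTK : T' ≤ K.subgroupOf N)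
    (hK : ∃ S : Sylow p G, (S : Subgroup G) ≤ K) : PronIn N K := by
  obtain ⟨S, hSK⟩ := hK
  have hSN : (S : Subgroup G) ≤ N := hSK.trans hKN
  have h1 : Cfsg.IsPronormal ((K.subgroupOf N).map (QuotientGroup.mk' T')) := by
    apply h
    refine ⟨(S.subtype hSN).mapSurjective (QuotientGroup.mk'_surjective T'), ?_⟩
    change Subgroup.map (QuotientGroup.mk' T') ((S : Subgroup G).subgroupOf N) ≤ _
    exact Subgroup.map_mono (Subgroup.comap_mono hSK)
  rw [← isPronormal_comap_iff (QuotientGroup.mk' T') (QuotientGroup.mk'_surjective T'),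
    QuotientGroup.comap_map_mk', sup_of_le_right hTK, isPronormal_iff_pronIn,
    Subgroup.map_subgroupOf_eq_of_le hKN] at h1
  exact h1

theorem pronIn_of_sub (A : Subgroup G) (P : Sylow p A) (T : Subgroup G)
    (hT : (P : Subgroup A).map A.subtype = T)
    (hA : ∀ K : Subgroup A, (∃ P : Sylow p A, (P : Subgroup A) ≤ K) → Cfsg.IsPronormal K)
    (B : Subgroup G) (hBA : B ≤ A) (hTB : T ≤ B) : PronIn A B := by
  have h1 : Cfsg.IsPronormal (B.subgroupOf A) := by
    apply hA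
    refine ⟨P, ?_⟩
    apply Subgroup.map_le_iff_le_comap.mp
    rw [hT]
    exact hTB
  rw [isPronormal_iff_pronIn, Subgroup.map_subgroupOf_eq_of_le hBA] at h1
  exact h1

end Quot

end Cfsg.Agent.Lib.Helper23.PronormalExt
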