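import Mathlib
import Cfsg.Agent.Lib.Helper1.Frobenius
import Cfsg.Agent.Lib.Helper1.FpfSylow
import Cfsg.Agent.Lib.Helper1.FpfComplement
import Cfsg.Agent.Lib.Helper18.FrobeniusThm
import Cfsg.Agent.Lib.Helper23.Dedekind

set_option autoImplicit false

/-!
A finite abelian group of odd order on which the quaternion group acts with its central involution
inverting everything has square order.  Application to Frobenius kernels.
-/

namespace Cfsg.Agent.Lib.Helper23.QuatSquare

universe u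

section Elementary

variable {V : Type u} [AddCommGroup V]

/-- the map `γ = A α + B β` -/
def gam (A B : ℤ) (α β : V →+ V) : V →+ V :=
  AddMonoidHom.mk' (fun v => A • α v + B • β v) (by
    intro v w
    rw [map_add, map_add, smul_add, smul_add]
    abel)

theorem gam_apply (A B : ℤ) (α β : V →+ V) (v : V) :
    gam A B α β v = A • α v + B • β v := rfl

theorem gam_gam (A B : ℤ) (α β : V →+ V) (hα : ∀ v, α (α v) = -v) (hβ : ∀ v, β (β v) = -v)
    (hαβ : ∀ v, α (β v) = -β (α v)) (hAB : ∀ v : V, (A * A + B * B + 1) • v = 0) (v : V) :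
    gam A B α β (gam A B α β v) = v := by
  have e1 : gam A B α β (gam A B α β v) =
      A • (A • α (α v) + B • β (α v)) + B • (A • α (β v) + B • β (β v)) := by
    simp only [gam_apply, map_add, map_zsmul]
  rw [e1, hα, hβ, hαβ]
  have h := hAB v
  have h2 : A • (A • -v + B • β (α v)) + B • (A • -β (α v) + B • -v) =
      v - (A * A + B * B + 1) • v := by
    module
  rw [h2, h, sub_zero]

theorem gam_comp (A B : ℤ) (α β : V →+ V) (hα : ∀ v, α (α v) = -v) (hβ : ∀ v, β (β v) = -v)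
    (hαβ : ∀ v, α (β v) = -β (α v)) (v : V) :
    gam A B α β (α (β v)) = -(α (β (gam A B α β v))) := by
  have e1 : gam A B α β (α (β v)) = A • α (α (β v)) + B • β (α (β v)) := rfl
  have e2 : α (β (gam A B α β v)) = A • α (β (α v)) + B • α (β (β v)) := by
    simp only [gam_apply, map_add, map_zsmul]
  have e3 : β (α (β v)) = α v := by
    rw [hαβ v, map_neg, hβ, neg_neg]
  have e4 : α (β (α v)) = β v := by
    rw [hαβ (α v), hα, map_neg, neg_neg]
  rw [e1, e2, hα, e3, e4, hβ, map_neg]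
  module

theorem comp_comp (α β : V →+ V) (hα : ∀ v, α (α v) = -v) (hβ : ∀ v, β (β v) = -v)
    (hαβ : ∀ v, α (β v) = -β (α v)) (v : V) : α (β (α (β v))) = -v := by
  have e3 : β (α (β v)) = α v := by
    rw [hαβ v, map_neg, hβ, neg_neg]
  rw [e3, hα]

theorem isSquare_card_of_elementary [Finite V] (p : ℕ) [hp : Fact p.Prime] (hp2 : p ≠ 2)
    (hV : ∀ v : V, p • v = 0) (α β : V →+ V) (hα : ∀ v, α (α v) = -v)
    (hβ : ∀ v, β (β v) = -v) (hαβ : ∀ v, α (β v) = -β (α v)) : IsSquare (Nat.card V) := by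
  obtain ⟨a, b, hab⟩ := ZMod.sq_add_sq p (-1)
  obtain ⟨A, hA⟩ : ∃ A : ℤ, A = (a.val : ℤ) := ⟨_, rfl⟩
  obtain ⟨B, hB⟩ : ∃ B : ℤ, B = (b.val : ℤ) := ⟨_, rfl⟩
  have hdvd : (p : ℤ) ∣ A * A + B * B + 1 := by
    rw [← ZMod.intCast_zmod_eq_zero_iff_dvd]
    push_cast
    rw [hA, hB]
    simp only [Int.cast_natCast, ZMod.natCast_zmod_val]
    linear_combination hab
  have hpz : ∀ v : V, (p : ℤ) • v = 0 := fun v => by rw [natCast_zsmul]; exact hV v
  have hAB : ∀ v : V, (A * A + B * B + 1) • v = 0 := by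
    intro v
    obtain ⟨c, hc⟩ := hdvd
    rw [hc, mul_smul, hpz]
  obtain ⟨m, hm⟩ := (hp.out.eq_two_or_odd').resolve_left hp2
  obtain ⟨h, hh⟩ : ∃ h : ℤ, h = (m : ℤ) + 1 := ⟨_, rfl⟩
  have h2h : ∀ v : V, (2 * h) • v = v := by
    intro v
    have e : (2 * h : ℤ) = (p : ℤ) + 1 := by rw [hh, hm]; push_cast; ring
    rw [e, add_smul, one_smul, hpz, zero_add]
  have hγγ := gam_gam A B α β hα hβ hαβ hAB
  have hδ := gam_comp A B α β hα hβ hαβ
  have hδδ := comp_comp α β hα hβ hαβ
  obtain ⟨γ, hγ⟩ : ∃ γ : V →+ V, γ = gam A B α β := ⟨_, rfl⟩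
  rw [← hγ] at hγγ hδ
  have e1 : V ≃ {v : V // γ v = v} × {v : V // γ v = -v} :=
    { toFun := fun v => (⟨h • (v + γ v), by rw [map_zsmul, map_add, hγγ, add_comm]⟩,
        ⟨h • (v - γ v), by rw [map_zsmul, map_sub, hγγ, ← smul_neg, neg_sub]⟩)
      invFun := fun x => x.1.1 + x.2.1
      left_inv := fun v => by
        change h • (v + γ v) + h • (v - γ v) = v
        have e : h • (v + γ v) + h • (v - γ v) = (2 * h) • v := by module
        rw [e, h2h]
      right_inv := by
        rintro ⟨⟨u, hu⟩, ⟨w, hw⟩⟩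
        apply Prod.ext
        · apply Subtype.ext
          change h • (u + w + γ (u + w)) = u
          rw [map_add, hu, hw]
          have e : h • (u + w + (u + -w)) = (2 * h) • u := by module
          rw [e, h2h]
        · apply Subtype.ext
          change h • (u + w - γ (u + w)) = w
          rw [map_add, hu, hw]
          have e : h • (u + w - (u + -w)) = (2 * h) • w := by module
          rw [e, h2h] }
  have e2 : {v : V // γ v = v} ≃ {v : V // γ v = -v} :=
    { toFun := fun v => ⟨α (β v.1), by rw [hδ, v.2]⟩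
      invFun := fun w => ⟨-(α (β w.1)), by rw [map_neg, hδ, neg_neg, w.2, map_neg, map_neg]⟩
      left_inv := fun v => by
        apply Subtype.ext
        change -(α (β (α (β v.1)))) = v.1
        rw [hδδ, neg_neg]
      right_inv := fun w => by
        apply Subtype.ext
        change α (β (-(α (β w.1)))) = w.1
        rw [map_neg, map_neg, hδδ, neg_neg] }
  refine ⟨Nat.card {v : V // γ v = -v}, ?_⟩
  rw [Nat.card_congr e1, Nat.card_prod, Nat.card_congr e2]

end Elementary

section General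

/-- restriction of an additive endomorphism to an invariant subgroup -/
def restr {V : Type u} [AddCommGroup V] (S : AddSubgroup V) (α : V →+ V)
    (h : ∀ v ∈ S, α v ∈ S) : S →+ S :=
  AddMonoidHom.mk' (fun v => ⟨α v.1, h v.1 v.2⟩) (fun a b => Subtype.ext (map_add α a.1 b.1))

theorem restr_coe {V : Type u} [AddCommGroup V] (S : AddSubgroup V) (α : V →+ V)
    (h : ∀ v ∈ S, α v ∈ S) (v : S) : ((restr S α h v : S) : V) = α v.1 := rfl

theorem isSquare_card_aux (N : ℕ) : ∀ (V : Type u) [AddCommGroup V] [Finite V], Nat.card V = N →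
    Odd N → ∀ (α β : V →+ V), (∀ v, α (α v) = -v) → (∀ v, β (β v) = -v) →
    (∀ v, α (β v) = -β (α v)) → IsSquare N := by
  induction N using Nat.strong_induction_on with
  | _ N ih =>
    intro V _ _ hN hodd α β hα hβ hαβ
    by_cases hN1 : N = 1
    · exact ⟨1, by rw [hN1]⟩
    have hp : (N.minFac).Prime := Nat.minFac_prime hN1
    have hpN : N.minFac ∣ N := Nat.minFac_dvd N
    have hp2 : N.minFac ≠ 2 := by
      intro h2
      rw [h2] at hpN
      obtain ⟨k, hk⟩ := hodd
      omega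
    obtain ⟨p, hpdef⟩ : ∃ p, p = N.minFac := ⟨_, rfl⟩
    rw [← hpdef] at hp hpN hp2
    have : Fact p.Prime := ⟨hp⟩
    let f : V →+ V := AddMonoidHom.mk' (fun v => p • v) (fun a b => smul_add p a b)
    have hf : ∀ v, f v = p • v := fun _ => rfl
    have hcard : Nat.card f.ker * Nat.card f.range = N := by
      rw [← AddSubgroup.index_ker, AddSubgroup.card_mul_index, hN]
    have hKinv : ∀ (γ : V →+ V), ∀ v ∈ f.ker, γ v ∈ f.ker := by
      intro γ v hv
      rw [AddMonoidHom.mem_ker, hf] at hv ⊢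
      rw [← map_nsmul, hv, map_zero]
    have hRinv : ∀ (γ : V →+ V), ∀ v ∈ f.range, γ v ∈ f.range := by
      rintro γ _ ⟨u, rfl⟩
      refine ⟨γ u, ?_⟩
      rw [hf, hf, map_nsmul]
    have hoddKR : Odd (Nat.card f.ker) ∧ Odd (Nat.card f.range) := by
      rw [← Nat.odd_mul, hcard]
      exact hodd
    -- the kernel is nontrivial
    have hKgt : 1 < Nat.card f.ker := by
      obtain ⟨x, hx⟩ := exists_prime_addOrderOf_dvd_card' (G := V) p (by rw [hN]; exact hpN)
      have hx0 : x ≠ 0 := by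
        intro h0
        rw [h0, addOrderOf_zero] at hx
        exact hp.one_lt.ne hx
      have hxk : x ∈ f.ker := by
        rw [AddMonoidHom.mem_ker, hf, ← hx]
        exact addOrderOf_nsmul_eq_zero x
      have : Nontrivial f.ker := ⟨⟨⟨x, hxk⟩, 0, fun h => hx0 (congrArg Subtype.val h)⟩⟩
      exact Finite.one_lt_card
    have hRpos : 0 < Nat.card f.range := Nat.card_pos
    have hRlt : Nat.card f.range < N := by
      rw [← hcard]
      nlinarith
    -- the range: induction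
    have hsqR : IsSquare (Nat.card f.range) :=
      ih _ hRlt f.range rfl hoddKR.2 (restr f.range α (hRinv α)) (restr f.range β (hRinv β))
        (fun v => Subtype.ext (hα v.1)) (fun v => Subtype.ext (hβ v.1))
        (fun v => Subtype.ext (hαβ v.1))
    -- the kernel: elementary case
    have hsqK : IsSquare (Nat.card f.ker) := by
      apply isSquare_card_of_elementary p hp2 _ (restr f.ker α (hKinv α))
        (restr f.ker β (hKinv β)) (fun v => Subtype.ext (hα v.1)) (fun v => Subtype.ext (hβ v.1))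
        (fun v => Subtype.ext (hαβ v.1))
      intro v
      apply Subtype.ext
      have hv := v.2
      rw [AddMonoidHom.mem_ker, hf] at hv
      exact hv
    rw [← hcard]
    exact hsqK.mul hsqR

theorem isSquare_card {V : Type u} [AddCommGroup V] [Finite V] (hodd : Odd (Nat.card V))
    (α β : V →+ V) (hα : ∀ v, α (α v) = -v) (hβ : ∀ v, β (β v) = -v)
    (hαβ : ∀ v, α (β v) = -β (α v)) : IsSquare (Nat.card V) :=
  isSquare_card_aux (Nat.card V) V rfl hodd α β hα hβ hαβ

end General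

section Group

variable {G : Type u} [Group G]

/-- A normal abelian subgroup of odd order acted on by a quaternion pair whose square inverts it has
square order. -/
theorem isSquare_card_of_quat_action [Finite G] (K : Subgroup G) [hKn : K.Normal]
    (hKc : ∀ a ∈ K, ∀ b ∈ K, a * b = b * a) (hodd : Odd (Nat.card K)) (x y : G)
    (hx : ∀ k ∈ K, x ^ 2 * k * (x ^ 2)⁻¹ = k⁻¹) (hy2 : y ^ 2 = x ^ 2)
    (hconj : y * x * y⁻¹ = x⁻¹) : IsSquare (Nat.card K) := by
  let _ : CommGroup K :=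
    { (inferInstance : Group K) with
      mul_comm := fun a b => Subtype.ext (hKc a.1 a.2 b.1 b.2) }
  let cx : K →* K := (MulAut.conjNormal x : MulAut K).toMonoidHom
  let cy : K →* K := (MulAut.conjNormal y : MulAut K).toMonoidHom
  have hcx : ∀ k : K, ((cx k : K) : G) = x * k * x⁻¹ := fun k => MulAut.conjNormal_apply x k
  have hcy : ∀ k : K, ((cy k : K) : G) = y * k * y⁻¹ := fun k => MulAut.conjNormal_apply y k
  have hx' : ∀ k ∈ K, x * x * k * (x * x)⁻¹ = k⁻¹ := by
    intro k hk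
    have h := hx k hk
    rwa [pow_two] at h
  have hy2' : y * y = x * x := by rw [← pow_two, ← pow_two]; exact hy2
  have h1 : ∀ k : K, cx (cx k) = k⁻¹ := by
    intro k
    apply Subtype.ext
    rw [hcx, hcx, Subgroup.coe_inv, ← hx' k k.2]
    group
  have h2 : ∀ k : K, cy (cy k) = k⁻¹ := by
    intro k
    apply Subtype.ext
    rw [hcy, hcy, Subgroup.coe_inv]
    calc y * (y * (k : G) * y⁻¹) * y⁻¹ = (y * y) * k * (y * y)⁻¹ := by group
      _ = x * x * k * (x * x)⁻¹ := by rw [hy2']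
      _ = (k : G)⁻¹ := hx' k k.2
  have hxy : x * y = y * x⁻¹ := by
    calc x * y = (y * x * y⁻¹)⁻¹ * y := by rw [hconj, inv_inv]
      _ = y * x⁻¹ := by group
  have h3 : ∀ k : K, cx (cy k) = (cy (cx k))⁻¹ := by
    intro k
    apply Subtype.ext
    rw [hcx, hcy, Subgroup.coe_inv, hcy, hcx]
    have h5 : x⁻¹ * (k : G) * x = x * (k : G)⁻¹ * x⁻¹ := by
      have h6 := hx' (k : G)⁻¹ (K.inv_mem k.2)
      rw [inv_inv] at h6
      conv_lhs => rw [← h6]
      group
    calc x * (y * (k : G) * y⁻¹) * x⁻¹ = (x * y) * k * (x * y)⁻¹ := by group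
      _ = (y * x⁻¹) * k * (y * x⁻¹)⁻¹ := by rw [hxy]
      _ = y * (x⁻¹ * k * x) * y⁻¹ := by group
      _ = y * (x * (k : G)⁻¹ * x⁻¹) * y⁻¹ := by rw [h5]
      _ = (y * (x * k * x⁻¹) * y⁻¹)⁻¹ := by group
  have hcardA : Nat.card (Additive K) = Nat.card K := rfl
  have key := isSquare_card (V := Additive K) (by rw [hcardA]; exact hodd)
    (MonoidHom.toAdditive cx) (MonoidHom.toAdditive cy)
    (fun v => congrArg Additive.ofMul (h1 (Additive.toMul v)))
    (fun v => congrArg Additive.ofMul (h2 (Additive.toMul v)))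
    (fun v => congrArg Additive.ofMul (h3 (Additive.toMul v)))
  rw [hcardA] at key
  exact key

/-- The Frobenius kernel of a Frobenius complement containing a quaternion pair has odd square
order. -/
theorem kernel_square_of_quat_pair [Finite G] (H : Subgroup G)
    (hF : Cfsg.IsFrobeniusComplement H) (x y : G) (hxH : x ∈ H)
    (hx4 : x ^ 4 = 1) (hx2 : x ^ 2 ≠ 1) (hy2 : y ^ 2 = x ^ 2) (hconj : y * x * y⁻¹ = x⁻¹) :
    Odd (Nat.card (Cfsg.frobeniusKernel H)) ∧ IsSquare (Nat.card (Cfsg.frobeniusKernel H)) ∧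
      1 < Nat.card (Cfsg.frobeniusKernel H) := by
  obtain ⟨N, hNset, hNn, hNc⟩ := Cfsg.Agent.Lib.Helper18.frobenius_kernel_subgroup H hF
  have hcard : Nat.card (Cfsg.frobeniusKernel H) = Nat.card N := by rw [← hNset]; rfl
  have hH1 : H ≠ ⊥ := hF.1
  have hH2 : H ≠ ⊤ := hF.2.1
  have hN1 : N ≠ ⊥ := by
    intro h
    rw [h] at hNc
    exact hH2 (Subgroup.isComplement'_bot_left.mp hNc)
  have hfpf := (Cfsg.Agent.Lib.Helper1.isFrobeniusComplement_iff_fpf N H hNc hN1 hH1).mp hF
  have hp2 : Fact (Nat.Prime 2) := ⟨Nat.prime_two⟩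
  have hx4' : x ^ (2 * 2) = 1 := hx4
  have ho4 : orderOf x = 4 := Cfsg.Agent.Lib.Helper23.Dedekind.orderOf_eq_four hx4' hx2
  have h2H : 2 ∣ Nat.card H := by
    have h1 : orderOf x ∣ Nat.card H := Subgroup.orderOf_dvd_natCard H hxH
    rw [ho4] at h1
    exact (by norm_num : 2 ∣ 4).trans h1
  obtain ⟨⟨s, hsH, hs2, hsuniq, hsinv⟩, hNcomm⟩ :=
    Cfsg.Agent.Lib.Helper1.fpf_even_complement N H hN1 hfpf h2H
  have hox2 : orderOf (x ^ 2) = 2 :=
    orderOf_eq_prime (by rw [← pow_mul]; exact hx4) hx2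
  have hsx : x ^ 2 = s := hsuniq (x ^ 2) (H.pow_mem hxH 2) hox2
  have hx : ∀ k ∈ N, x ^ 2 * k * (x ^ 2)⁻¹ = k⁻¹ := by rw [hsx]; exact hsinv
  have hodd : Odd (Nat.card N) := by
    rw [← hcard, Cfsg.Agent.Lib.Helper1.IsFrobeniusComplement.card_kernel hF]
    have h1 := Cfsg.Agent.Lib.Helper1.IsFrobeniusComplement.index_mod_card hF
    have h3 : H.index % 2 = 1 % 2 := Nat.ModEq.of_dvd h2H h1
    rw [Nat.odd_iff]
    omega
  have hKc : ∀ a ∈ N, ∀ b ∈ N, a * b = b * a := fun a ha b hb =>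
    congrArg Subtype.val (hNcomm.is_comm.comm ⟨a, ha⟩ ⟨b, hb⟩)
  rw [hcard]
  exact ⟨hodd, isSquare_card_of_quat_action N hKc hodd x y hx hy2 hconj,
    (Subgroup.one_lt_card_iff_ne_bot N).mpr hN1⟩

/-- a quaternion pair inside a generalized quaternion group -/
theorem quat_pair_in_quaternionGroup (n : ℕ) (hn : 1 ≤ n) :
    ∃ x y : QuaternionGroup (2 ^ n), x ^ 4 = 1 ∧ x ^ 2 ≠ 1 ∧ y ^ 2 = x ^ 2 ∧
      y * x * y⁻¹ = x⁻¹ := by
  have hm : 2 ^ (n - 1) + 2 ^ (n - 1) = 2 ^ n := by
    have : n = (n - 1) + 1 := by omega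
    conv_rhs => rw [this, pow_succ]
    ring
  have hcast : (((2 ^ (n - 1) : ℕ) : ZMod (2 * 2 ^ n)) + ((2 ^ (n - 1) : ℕ) : ZMod (2 * 2 ^ n))) =
      ((2 ^ n : ℕ) : ZMod (2 * 2 ^ n)) := by
    rw [← Nat.cast_add, hm]
  have hx2eq : (QuaternionGroup.a ((2 ^ (n - 1) : ℕ) : ZMod (2 * 2 ^ n)) :
      QuaternionGroup (2 ^ n)) ^ 2 = QuaternionGroup.a ((2 ^ n : ℕ) : ZMod (2 * 2 ^ n)) := by
    rw [pow_two, QuaternionGroup.a_mul_a, hcast]
  refine ⟨QuaternionGroup.a ((2 ^ (n - 1) : ℕ) : ZMod (2 * 2 ^ n)), QuaternionGroup.xa 0,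
    ?_, ?_, ?_, ?_⟩
  · have h4 : (4 : ℕ) = 2 * 2 := by norm_num
    rw [h4, pow_mul, hx2eq, pow_two, QuaternionGroup.a_mul_a, ← Nat.cast_add,
      ← two_mul, ZMod.natCast_self, QuaternionGroup.a_zero]
  · rw [hx2eq, QuaternionGroup.one_def]
    intro h
    have h1 : ((2 ^ n : ℕ) : ZMod (2 * 2 ^ n)) = 0 := QuaternionGroup.a.inj h
    rw [ZMod.natCast_eq_zero_iff] at h1
    have h2 : 0 < 2 ^ n := pow_pos (by norm_num) n
    have := Nat.le_of_dvd h2 h1
    omega
  · rw [hx2eq, pow_two, QuaternionGroup.xa_mul_xa, add_zero, sub_zero]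
  · rw [mul_inv_eq_iff_eq_mul, eq_inv_mul_iff_mul_eq, QuaternionGroup.xa_mul_a,
      QuaternionGroup.a_mul_xa, zero_add, sub_self]

end Group

end Cfsg.Agent.Lib.Helper23.QuatSquare
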