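/-
helper23: farm-out pieces B5a (`exists_levi`) and B5b (`upp_props`) for helper14's S2281.
Exact signatures of notes/S2281_farmout_sigs_B.lean.txt.
-/
import Mathlib
import Cfsg.Agent.Lib.Helper14.RU0
import Cfsg.Agent.Lib.Helper14.RU1

set_option autoImplicit false

namespace Cfsg.Agent.Lib.Helper23.RU

open Matrix Cfsg.Agent.Lib.Helper6 Cfsg.Agent.Lib.Helper9.SpGen Cfsg.Agent.Lib.Helper14
  Cfsg.Agent.Lib.Helper14.RU

section
variable {k : ℕ} {F : Type*} [Field F]

local notation "ff" => Cfsg.sympForm (k + 2) F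
local notation "VV" => (Fin (k + 2) ⊕ Fin (k + 2) → F)
local notation "GG" => Matrix.symplecticGroup (Fin (k + 2)) F
local notation "MM" => Matrix (Fin (k + 2) ⊕ Fin (k + 2)) (Fin (k + 2) ⊕ Fin (k + 2)) F

/-- the Levi map in coordinates -/
def leviFun (l : F) (x : VV) : VV := fun c =>
  match c with
  | Sum.inl i => if i = 0 then (1 - l) * x (Sum.inl 0) + x (Sum.inl 1)
      else if i = 1 then -l * x (Sum.inl 0) else x (Sum.inl i)
  | Sum.inr i => if i = 0 then x (Sum.inr 1)
      else if i = 1 then -l⁻¹ * x (Sum.inr 0) + ((1 - l) / l) * x (Sum.inr 1) else x (Sum.inr i)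

theorem leviFun_inl (l : F) (x : VV) (i : Fin (k + 2)) :
    leviFun l x (Sum.inl i) = if i = 0 then (1 - l) * x (Sum.inl 0) + x (Sum.inl 1)
      else if i = 1 then -l * x (Sum.inl 0) else x (Sum.inl i) := rfl

theorem leviFun_inr (l : F) (x : VV) (i : Fin (k + 2)) :
    leviFun l x (Sum.inr i) = if i = 0 then x (Sum.inr 1)
      else if i = 1 then -l⁻¹ * x (Sum.inr 0) + ((1 - l) / l) * x (Sum.inr 1)
      else x (Sum.inr i) := rfl

/-- the Levi map as a linear map -/
def leviLin (l : F) : VV →ₗ[F] VV where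
  toFun := leviFun l
  map_add' := by
    intro x y
    funext c
    rcases c with i | i
    · simp only [leviFun_inl, Pi.add_apply]
      split_ifs <;> ring
    · simp only [leviFun_inr, Pi.add_apply]
      split_ifs <;> ring
  map_smul' := by
    intro a x
    funext c
    rcases c with i | i
    · simp only [leviFun_inl, Pi.smul_apply, smul_eq_mul, RingHom.id_apply]
      split_ifs <;> ring
    · simp only [leviFun_inr, Pi.smul_apply, smul_eq_mul, RingHom.id_apply]
      split_ifs <;> ring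

theorem leviLin_apply (l : F) (x : VV) : leviLin l x = leviFun l x := rfl

theorem fin2_ne_10 : (1 : Fin (k + 2)) ≠ 0 := by
  intro h; have := congrArg Fin.val h; simp at this

theorem leviFun_inl_zero (l : F) (x : VV) :
    leviFun l x (Sum.inl 0) = (1 - l) * x (Sum.inl 0) + x (Sum.inl 1) := by
  rw [leviFun_inl, if_pos rfl]

theorem leviFun_inl_one (l : F) (x : VV) :
    leviFun l x (Sum.inl 1) = -l * x (Sum.inl 0) := by
  rw [leviFun_inl, if_neg (fin2_ne_10 (k := k)), if_pos rfl]

theorem leviFun_inr_zero (l : F) (x : VV) :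
    leviFun l x (Sum.inr 0) = x (Sum.inr 1) := by
  rw [leviFun_inr, if_pos rfl]

theorem leviFun_inr_one (l : F) (x : VV) :
    leviFun l x (Sum.inr 1) = -l⁻¹ * x (Sum.inr 0) + ((1 - l) / l) * x (Sum.inr 1) := by
  rw [leviFun_inr, if_neg (fin2_ne_10 (k := k)), if_pos rfl]

theorem leviFun_form (l : F) (hl : l ≠ 0) (u v : VV) :
    ff (leviFun l u) (leviFun l v) = ff u v := by
  rw [sympForm_eq_sum, sympForm_eq_sum, Fin.sum_univ_succ, Fin.sum_univ_succ,
    Fin.sum_univ_succ (fun i : Fin (k + 2) => u (Sum.inr i) * v (Sum.inl i) -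
      u (Sum.inl i) * v (Sum.inr i)),
    Fin.sum_univ_succ (fun i : Fin (k + 1) => u (Sum.inr i.succ) * v (Sum.inl i.succ) -
      u (Sum.inl i.succ) * v (Sum.inr i.succ))]
  have e1 : (Fin.succ (0 : Fin (k + 1))) = (1 : Fin (k + 2)) := rfl
  have hrest : ∀ i : Fin k,
      leviFun l u (Sum.inr i.succ.succ) * leviFun l v (Sum.inl i.succ.succ) -
        leviFun l u (Sum.inl i.succ.succ) * leviFun l v (Sum.inr i.succ.succ) =
      u (Sum.inr i.succ.succ) * v (Sum.inl i.succ.succ) -
        u (Sum.inl i.succ.succ) * v (Sum.inr i.succ.succ) := by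
    intro i
    simp only [leviFun_inl, leviFun_inr, Fin.succ_ne_zero, Fin.succ_succ_ne_one, if_false]
  rw [Finset.sum_congr rfl (fun i _ => hrest i)]
  rw [e1, leviFun_inl_zero, leviFun_inl_zero, leviFun_inl_one, leviFun_inl_one, leviFun_inr_zero,
    leviFun_inr_zero, leviFun_inr_one, leviFun_inr_one]
  field_simp
  ring

/-- the Levi element -/
noncomputable def leviG (l : F) (hl : l ≠ 0) : GG :=
  ⟨LinearMap.toMatrix' (leviLin (k := k) l), by
    rw [mem_symplecticGroup_iff_preserves]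
    intro u v
    rw [LinearMap.toMatrix'_mulVec, LinearMap.toMatrix'_mulVec, leviLin_apply, leviLin_apply]
    exact leviFun_form l hl u v⟩

theorem act_leviG (l : F) (hl : l ≠ 0) (x : VV) : act (leviG (k := k) l hl) x = leviFun l x := by
  show (LinearMap.toMatrix' (leviLin (k := k) l)) *ᵥ x = _
  rw [LinearMap.toMatrix'_mulVec, leviLin_apply]

/-- B5a.  the Levi element `M = glToSp G`, `G e₀ = (1-l) e₀ - l e₁`, `G e₁ = e₀`, `G eᵢ = eᵢ`. -/
theorem exists_levi (l : F) (hl : l ≠ 0) :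
    ∃ M : GG,
      act M (e 0 : VV) = (1 - l) • (e 0 : VV) - l • (e 1 : VV) ∧
      act M (e 1 : VV) = (e 0 : VV) ∧
      act M (f 0 : VV) = (-l⁻¹) • (f 1 : VV) ∧
      act M (f 1 : VV) = (f 0 : VV) + ((1 - l) / l) • (f 1 : VV) ∧
      (∀ i : Fin (k + 2), 2 ≤ i.val → act M (e i : VV) = (e i : VV) ∧ act M (f i : VV) = (f i : VV)) := by
  have n10 := fin2_ne_10 (k := k)
  have n01 := Ne.symm n10
  refine ⟨leviG l hl, ?_, ?_, ?_, ?_, ?_⟩
  · rw [act_leviG]
    funext c
    rcases c with i | i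
    · simp only [leviFun_inl, Pi.sub_apply, Pi.smul_apply, e_inl, e_inr, smul_eq_mul, if_pos rfl,
        if_neg n10, if_neg n01]
      by_cases h0 : i = 0
      · subst h0; simp [n01]
      · by_cases h1 : i = 1
        · subst h1; simp [n10]
        · simp [h0, h1]
    · simp only [leviFun_inr, Pi.sub_apply, Pi.smul_apply, e_inl, e_inr, smul_eq_mul]
      split_ifs <;> simp
  · rw [act_leviG]
    funext c
    rcases c with i | i
    · simp only [leviFun_inl, e_inl, e_inr, if_pos rfl, if_neg n10, if_neg n01]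
      by_cases h0 : i = 0
      · subst h0; simp
      · by_cases h1 : i = 1
        · subst h1; simp [n10]
        · simp [h0, h1]
    · simp only [leviFun_inr, e_inl, e_inr]
      split_ifs <;> simp
  · rw [act_leviG]
    funext c
    rcases c with i | i
    · simp only [leviFun_inl, Pi.smul_apply, f_inl, f_inr, smul_eq_mul]
      split_ifs <;> simp
    · simp only [leviFun_inr, Pi.smul_apply, f_inl, f_inr, smul_eq_mul, if_pos rfl, if_neg n10,
        if_neg n01]
      by_cases h0 : i = 0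
      · subst h0; simp [n01]
      · by_cases h1 : i = 1
        · subst h1; simp [n10]
        · simp [h0, h1]
  · rw [act_leviG]
    funext c
    rcases c with i | i
    · simp only [leviFun_inl, Pi.add_apply, Pi.smul_apply, f_inl, f_inr, smul_eq_mul]
      split_ifs <;> simp
    · simp only [leviFun_inr, Pi.add_apply, Pi.smul_apply, f_inl, f_inr, smul_eq_mul, if_pos rfl,
        if_neg n10, if_neg n01]
      by_cases h0 : i = 0
      · subst h0; simp [n01]
      · by_cases h1 : i = 1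
        · subst h1; simp [n10]
        · simp [h0, h1]
  · intro i hi
    have hi0 : i ≠ 0 := by
      intro h; rw [h] at hi; simp at hi
    have hi1 : i ≠ 1 := by
      intro h; rw [h] at hi; simp at hi
    constructor
    · rw [act_leviG]
      funext c
      rcases c with j | j
      · simp only [leviFun_inl, e_inl, e_inr, if_neg (Ne.symm hi0), if_neg (Ne.symm hi1)]
        by_cases h0 : j = 0
        · subst h0; simp [Ne.symm hi0]
        · by_cases h1 : j = 1
          · subst h1; simp [n10, Ne.symm hi1]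
          · simp [h0, h1]
      · simp only [leviFun_inr, e_inl, e_inr]
        split_ifs <;> simp
    · rw [act_leviG]
      funext c
      rcases c with j | j
      · simp only [leviFun_inl, f_inl, f_inr]
        split_ifs <;> simp
      · simp only [leviFun_inr, f_inl, f_inr, if_neg (Ne.symm hi0), if_neg (Ne.symm hi1)]
        by_cases h0 : j = 0
        · subst h0; simp [Ne.symm hi0]
        · by_cases h1 : j = 1
          · subst h1; simp [n10, Ne.symm hi1]
          · simp [h0, h1]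

/-- `Dlow` fixes `e 0` -/
theorem act_Dlow_e_zero : act (Dlow k F) (e 0 : VV) = (e 0 : VV) := by
  have h := congrArg (act (Dlow k F)) (act_Dlow_inv_e_zero (k := k) (F := F))
  rw [act_act_inv] at h
  exact h.symm

/-- `Dlow e 1 = e 1 - e 0` -/
theorem act_Dlow_e_one : act (Dlow k F) (e 1 : VV) = (e 1 : VV) - (e 0 : VV) := by
  have h1 := act_Dlow_inv_e_succ (k := k) (F := F) 0
  have e0 : (Fin.castSucc (0 : Fin (k + 1))) = (0 : Fin (k + 2)) := rfl
  have e1 : (Fin.succ (0 : Fin (k + 1))) = (1 : Fin (k + 2)) := rfl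
  rw [e0, e1] at h1
  have h := congrArg (act (Dlow k F)) h1
  rw [act_act_inv, act_add, act_Dlow_e_zero] at h
  exact eq_sub_of_add_eq h.symm

theorem act_Dlow_f_zero : act (Dlow k F) (f 0 : VV) = (f 0 : VV) + (f 1 : VV) :=
  act_Dlow_f_castSucc (k := k) (F := F) 0

/-- B5b.  the third conjugate `u'' = g * uh k s * g⁻¹`, `g = M * Jg`, and its local formulas. -/
theorem upp_props (l s : F) (hl : l ≠ 0) (M : GG)
    (hM0 : act M (e 0 : VV) = (1 - l) • (e 0 : VV) - l • (e 1 : VV))
    (hM1 : act M (e 1 : VV) = (e 0 : VV))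
    (hM2 : act M (f 0 : VV) = (-l⁻¹) • (f 1 : VV))
    (hM3 : act M (f 1 : VV) = (f 0 : VV) + ((1 - l) / l) • (f 1 : VV))
    (hM4 : ∀ i : Fin (k + 2), 2 ≤ i.val →
      act M (e i : VV) = (e i : VV) ∧ act M (f i : VV) = (f i : VV)) :
    act ((M * Jg k F) * uh k s * (M * Jg k F)⁻¹) (e 0 : VV) = l • ((e 0 : VV) + (e 1 : VV)) ∧
    act ((M * Jg k F) * uh k s * (M * Jg k F)⁻¹) ((e 0 : VV) + (e 1 : VV)) =
      (2 - l⁻¹) • (e 0 : VV) + (2 : F) • (e 1 : VV) + (s / l) • ((f 0 : VV) - (f 1 : VV)) ∧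
    act ((M * Jg k F) * uh k s * (M * Jg k F)⁻¹)⁻¹ (e 0 : VV) =
      (2 - l) • (e 0 : VV) - l • (e 1 : VV) - (s / l) • (f 1 : VV) ∧
    act ((M * Jg k F) * uh k s * (M * Jg k F)⁻¹) (f 1 : VV) = (-l) • ((f 0 : VV) - (f 1 : VV)) ∧
    (∀ h2 : 2 < k + 2, act ((M * Jg k F) * uh k s * (M * Jg k F)⁻¹) (f 0 : VV) =
      (2 - l) • (f 0 : VV) + ((1 - l) ^ 2 / l) • (f 1 : VV) + (f ⟨2, h2⟩ : VV)) ∧
    (∀ i : Fin (k + 1), 2 ≤ i.val → act ((M * Jg k F) * uh k s * (M * Jg k F)⁻¹) (f i.castSucc : VV) =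
      (f i.castSucc : VV) + (f i.succ : VV)) := by
  have n10 := fin2_ne_10 (k := k)
  have n01 := Ne.symm n10
  have hconj : (M * Jg k F) * uh k s * (M * Jg k F)⁻¹ = M * ulow k s * M⁻¹ := by
    unfold ulow; group
  have hconjinv : (M * ulow k s * M⁻¹)⁻¹ = M * (T (f 0 : VV) (-s) * (Dlow k F)⁻¹) * M⁻¹ := by
    rw [ulow_eq, ← T_inv]; group
  rw [hconj, hconjinv]
  -- inverse formulas for M
  have hMi0 : act M⁻¹ (e 0 : VV) = (e 1 : VV) := by rw [← hM1, act_inv_act]
  have hMi1 : act M⁻¹ (e 1 : VV) = (-l⁻¹) • (e 0 : VV) + ((1 - l) / l) • (e 1 : VV) := by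
    have h : act M ((-l⁻¹) • (e 0 : VV) + ((1 - l) / l) • (e 1 : VV)) = (e 1 : VV) := by
      rw [act_add, act_smul, act_smul, hM0, hM1]
      funext c
      simp only [Pi.add_apply, Pi.smul_apply, Pi.sub_apply, smul_eq_mul]
      field_simp
      ring
    have h' := congrArg (act M⁻¹) h
    rw [act_inv_act] at h'
    exact h'.symm
  have hMi2 : act M⁻¹ (f 0 : VV) = (1 - l) • (f 0 : VV) + (f 1 : VV) := by
    have h : act M ((1 - l) • (f 0 : VV) + (f 1 : VV)) = (f 0 : VV) := by
      rw [act_add, act_smul, hM2, hM3]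
      funext c
      simp only [Pi.add_apply, Pi.smul_apply, smul_eq_mul]
      field_simp
      ring
    have h' := congrArg (act M⁻¹) h
    rw [act_inv_act] at h'
    exact h'.symm
  have hMi3 : act M⁻¹ (f 1 : VV) = (-l) • (f 0 : VV) := by
    have h : act M ((-l) • (f 0 : VV)) = (f 1 : VV) := by
      rw [act_smul, hM2, smul_smul]
      have : -l * -l⁻¹ = 1 := by field_simp
      rw [this, one_smul]
    have h' := congrArg (act M⁻¹) h
    rw [act_inv_act] at h'
    exact h'.symm
  -- ulow on the basic vectors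
  have hff_e1_f0 : ff (e 1 : VV) (f 0 : VV) = 0 := by
    rw [form_f_right, e_inl, if_neg n01, neg_zero]
  have hff_e0_f0 : ff (e 0 : VV) (f 0 : VV) = -1 := by
    rw [form_f_right, e_inl, if_pos rfl]
  have hff_f_f0 : ∀ i : Fin (k + 2), ff (f i : VV) (f 0 : VV) = 0 := by
    intro i; rw [form_f_right, f_inl, neg_zero]
  have hu_e1 : act (ulow k s) (e 1 : VV) = (e 1 : VV) - (e 0 : VV) := by
    rw [ulow_eq, act_mul, act_T, hff_e1_f0, mul_zero, zero_smul, add_zero, act_Dlow_e_one]
  have hu_e0 : act (ulow k s) (e 0 : VV) = (e 0 : VV) - s • ((f 0 : VV) + (f 1 : VV)) := by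
    rw [ulow_eq, act_mul, act_T, hff_e0_f0, act_add, act_smul, act_Dlow_e_zero, act_Dlow_f_zero]
    rw [mul_neg, mul_one, neg_smul, sub_eq_add_neg]
  have hu_f0 : act (ulow k s) (f 0 : VV) = (f 0 : VV) + (f 1 : VV) := by
    rw [ulow_eq, act_mul, act_T, hff_f_f0, mul_zero, zero_smul, add_zero, act_Dlow_f_zero]
  have hu_fc : ∀ i : Fin (k + 1), act (ulow k s) (f i.castSucc : VV) =
      (f i.castSucc : VV) + (f i.succ : VV) := by
    intro i
    rw [ulow_eq, act_mul, act_T, hff_f_f0, mul_zero, zero_smul, add_zero, act_Dlow_f_castSucc]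
  refine ⟨?_, ?_, ?_, ?_, ?_, ?_⟩
  · rw [act_mul, act_mul, hMi0, hu_e1, sub_eq_add_neg, act_add, act_neg, hM1, hM0]
    funext c
    simp only [Pi.add_apply, Pi.smul_apply, Pi.sub_apply, Pi.neg_apply, smul_eq_mul]
    ring
  · rw [act_mul, act_mul, act_add, hMi0, hMi1]
    simp only [sub_eq_add_neg, act_add, act_neg, act_smul, hu_e1, hu_e0, hM0, hM1, hM2, hM3]
    funext c
    simp only [Pi.add_apply, Pi.smul_apply, Pi.neg_apply, smul_eq_mul]
    field_simp
    ring
  · rw [act_mul, act_mul, hMi0, act_mul]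
    have h1 := act_Dlow_inv_e_succ (k := k) (F := F) 0
    have e0 : (Fin.castSucc (0 : Fin (k + 1))) = (0 : Fin (k + 2)) := rfl
    have e1 : (Fin.succ (0 : Fin (k + 1))) = (1 : Fin (k + 2)) := rfl
    rw [e0, e1] at h1
    rw [h1, act_T, sympForm_add_left, hff_e1_f0, hff_e0_f0]
    simp only [sub_eq_add_neg, act_add, act_neg, act_smul, hM0, hM1, hM2, hM3]
    funext c
    simp only [Pi.add_apply, Pi.smul_apply, Pi.neg_apply, smul_eq_mul]
    field_simp
    ring
  · rw [act_mul, act_mul, hMi3, act_smul, hu_f0, act_smul, act_add, hM2, hM3]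
    funext c
    simp only [Pi.add_apply, Pi.smul_apply, Pi.sub_apply, smul_eq_mul]
    field_simp
    ring
  · intro h2
    have hk : 1 < k + 1 := by omega
    have hc1 : (Fin.castSucc (⟨1, hk⟩ : Fin (k + 1))) = (1 : Fin (k + 2)) := by
      apply Fin.ext
      show 1 = 1 % (k + 2)
      exact (Nat.mod_eq_of_lt (by omega)).symm
    have hs1 : (Fin.succ (⟨1, hk⟩ : Fin (k + 1))) = (⟨2, h2⟩ : Fin (k + 2)) := rfl
    have hu_f1 := hu_fc ⟨1, hk⟩
    rw [hc1, hs1] at hu_f1
    have hM22 := (hM4 ⟨2, h2⟩ (le_refl 2)).2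
    rw [act_mul, act_mul, hMi2, act_add, act_smul, hu_f0, hu_f1]
    simp only [act_add, act_smul, hM2, hM3, hM22]
    funext c
    simp only [Pi.add_apply, Pi.smul_apply, smul_eq_mul]
    field_simp
    ring
  · intro i hi
    have hic : 2 ≤ (i.castSucc : Fin (k + 2)).val := by simpa using hi
    have his : 2 ≤ (i.succ : Fin (k + 2)).val := by
      rw [Fin.val_succ]; omega
    have hMc := (hM4 i.castSucc hic).2
    have hMs := (hM4 i.succ his).2
    have hMic : act M⁻¹ (f i.castSucc : VV) = (f i.castSucc : VV) := by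
      conv_lhs => rw [← hMc]
      rw [act_inv_act]
    rw [act_mul, act_mul, hMic, hu_fc, act_add, hMc, hMs]

end

end Cfsg.Agent.Lib.Helper23.RU
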