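import Mathlib

/-!
# S3626 piece P1 (helper23, for architect helper26): the fixed-point lemma `fix_imp`

`A X φ(A)ᵀ = σ X`, `det A = 1`, `X ≠ 0`, `σ = ±1`, characteristic `3`, `-1` a non-square
`⟹  A² = -1  ∨  (σ = 1 ∧ A³ = ±1)`.

Proof: with `B = φ(A)ᵀ` (`det B = 1` in characteristic 3), `E = A X B - σ X` one has the identity
`(σ tr B - tr A) X = σ adj(A) E - E adj(B)` modulo `det A = det B = σ² = 1`, hence
`σ (tr A)³ = tr A`; then Cayley-Hamilton.
-/

set_option autoImplicit false

namespace Cfsg.Agent.Lib.Helper26.ReeCube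

namespace Helper23

/-- the trace equation -/
theorem trace_eq {K : Type*} [Field K] [CharP K 3] (a b c d x y z w σ : K)
    (hdet : a * d - b * c = 1) (hX : x ≠ 0 ∨ y ≠ 0 ∨ z ≠ 0 ∨ w ≠ 0) (hs2 : σ ^ 2 = 1)
    (h00 : (a * x + b * z) * a ^ 3 + (a * y + b * w) * b ^ 3 = σ * x)
    (h01 : (a * x + b * z) * c ^ 3 + (a * y + b * w) * d ^ 3 = σ * y)
    (h10 : (c * x + d * z) * a ^ 3 + (c * y + d * w) * b ^ 3 = σ * z)
    (h11 : (c * x + d * z) * c ^ 3 + (c * y + d * w) * d ^ 3 = σ * w) :
    σ * (a + d) ^ 3 = a + d := by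
  have h3 : (3 : K) = 0 := by
    have := CharP.cast_eq_zero K 3
    exact_mod_cast this
  have hdetB : a ^ 3 * d ^ 3 - b ^ 3 * c ^ 3 = 1 := by
    linear_combination ((a * d - b * c) ^ 2 + (a * d - b * c) + 1) * hdet
      + (a * d * b * c * (a * d - b * c)) * h3
  have e00 : (σ * (a ^ 3 + d ^ 3) - (a + d)) * x = 0 := by
    linear_combination σ * (d * h00 - b * h10) - (d ^ 3 * h00 - b ^ 3 * h01)
      - σ * (x * a ^ 3 + y * b ^ 3) * hdet + (d * x - b * z) * hs2 + (a * x + b * z) * hdetB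
  have e01 : (σ * (a ^ 3 + d ^ 3) - (a + d)) * y = 0 := by
    linear_combination σ * (d * h01 - b * h11) - (-(c ^ 3) * h00 + a ^ 3 * h01)
      - σ * (x * c ^ 3 + y * d ^ 3) * hdet + (d * y - b * w) * hs2 + (a * y + b * w) * hdetB
  have e10 : (σ * (a ^ 3 + d ^ 3) - (a + d)) * z = 0 := by
    linear_combination σ * (-c * h00 + a * h10) - (d ^ 3 * h10 - b ^ 3 * h11)
      - σ * (z * a ^ 3 + w * b ^ 3) * hdet + (-c * x + a * z) * hs2 + (c * x + d * z) * hdetB
  have e11 : (σ * (a ^ 3 + d ^ 3) - (a + d)) * w = 0 := by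
    linear_combination σ * (-c * h01 + a * h11) - (-(c ^ 3) * h10 + a ^ 3 * h11)
      - σ * (z * c ^ 3 + w * d ^ 3) * hdet + (-c * y + a * w) * hs2 + (c * y + d * w) * hdetB
  have hk : σ * (a ^ 3 + d ^ 3) - (a + d) = 0 := by
    rcases hX with hx | hx | hx | hx
    · exact (mul_eq_zero.mp e00).resolve_right hx
    · exact (mul_eq_zero.mp e01).resolve_right hx
    · exact (mul_eq_zero.mp e10).resolve_right hx
    · exact (mul_eq_zero.mp e11).resolve_right hx
  linear_combination hk + (σ * a * d * (a + d)) * h3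

/-- Cayley-Hamilton consequences for a `2 × 2` matrix of determinant one -/
theorem sq_of_trace_zero {K : Type*} [Field K] (a b c d : K) (hdet : a * d - b * c = 1)
    (ht : a + d = 0) : (!![a, b; c, d] : Matrix (Fin 2) (Fin 2) K) * !![a, b; c, d] = -1 := by
  ext i j
  fin_cases i <;> fin_cases j
  · simp [Matrix.mul_apply, Fin.sum_univ_two]
    linear_combination a * ht - hdet
  · simp [Matrix.mul_apply, Fin.sum_univ_two]
    linear_combination b * ht
  · simp [Matrix.mul_apply, Fin.sum_univ_two]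
    linear_combination c * ht
  · simp [Matrix.mul_apply, Fin.sum_univ_two]
    linear_combination d * ht - hdet

theorem cube_of_trace_one {K : Type*} [Field K] (a b c d : K) (hdet : a * d - b * c = 1)
    (ht : a + d = 1) :
    (!![a, b; c, d] : Matrix (Fin 2) (Fin 2) K) * !![a, b; c, d] * !![a, b; c, d] = -1 := by
  ext i j
  fin_cases i <;> fin_cases j
  · simp [Matrix.mul_apply, Fin.sum_univ_two]
    linear_combination ((a + d + 1) * a - (a * d - b * c)) * ht + (-a - 1) * hdet
  · simp [Matrix.mul_apply, Fin.sum_univ_two]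
    linear_combination ((a + d + 1) * b) * ht + (-b) * hdet
  · simp [Matrix.mul_apply, Fin.sum_univ_two]
    linear_combination ((a + d + 1) * c) * ht + (-c) * hdet
  · simp [Matrix.mul_apply, Fin.sum_univ_two]
    linear_combination ((a + d + 1) * d - (a * d - b * c)) * ht + (-d - 1) * hdet

theorem cube_of_trace_neg_one {K : Type*} [Field K] (a b c d : K) (hdet : a * d - b * c = 1)
    (ht : a + d = -1) :
    (!![a, b; c, d] : Matrix (Fin 2) (Fin 2) K) * !![a, b; c, d] * !![a, b; c, d] = 1 := by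
  ext i j
  fin_cases i <;> fin_cases j
  · simp [Matrix.mul_apply, Fin.sum_univ_two]
    linear_combination ((a + d - 1) * a - (a * d - b * c)) * ht + (-a + 1) * hdet
  · simp [Matrix.mul_apply, Fin.sum_univ_two]
    linear_combination ((a + d - 1) * b) * ht + (-b) * hdet
  · simp [Matrix.mul_apply, Fin.sum_univ_two]
    linear_combination ((a + d - 1) * c) * ht + (-c) * hdet
  · simp [Matrix.mul_apply, Fin.sum_univ_two]
    linear_combination ((a + d - 1) * d - (a * d - b * c)) * ht + (-d + 1) * hdet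

end Helper23

/-- [P1] the fixed-point lemma for the module `L(1) ⊗ L(1)^(3)` of `SL₂` in characteristic `3`
(`A ↦ (X ↦ A X φ(A)ᵀ)`, `φ` = entrywise cube), twisted by a sign `σ = ±1` -/
theorem fix_imp {K : Type*} [Field K] [CharP K 3] (hsq : ∀ x : K, x ^ 2 ≠ -1)
    (A X : Matrix (Fin 2) (Fin 2) K) (hA : A.det = 1) (hX : X ≠ 0) (σ : K) (hσ : σ = 1 ∨ σ = -1)
    (h : A * X * (A.map (fun x => x ^ 3)).transpose = σ • X) :
    A * A = -1 ∨ (σ = 1 ∧ (A * A * A = 1 ∨ A * A * A = -1)) := by
  obtain ⟨a, b, c, d, rfl⟩ : ∃ a b c d, A = !![a, b; c, d] :=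
    ⟨_, _, _, _, Matrix.eta_fin_two A⟩
  obtain ⟨x, y, z, w, rfl⟩ : ∃ x y z w, X = !![x, y; z, w] :=
    ⟨_, _, _, _, Matrix.eta_fin_two X⟩
  have hdet : a * d - b * c = 1 := by
    rw [Matrix.det_fin_two_of] at hA
    exact hA
  have hX' : x ≠ 0 ∨ y ≠ 0 ∨ z ≠ 0 ∨ w ≠ 0 := by
    by_contra hcon
    simp only [not_or, not_not] at hcon
    obtain ⟨rfl, rfl, rfl, rfl⟩ := hcon
    apply hX
    ext i j
    fin_cases i <;> fin_cases j <;> simp
  have hs2 : σ ^ 2 = 1 := by
    rcases hσ with rfl | rfl <;> ring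
  have h00 := congrFun (congrFun h 0) 0
  have h01 := congrFun (congrFun h 0) 1
  have h10 := congrFun (congrFun h 1) 0
  have h11 := congrFun (congrFun h 1) 1
  simp [Matrix.mul_apply, Fin.sum_univ_two, Matrix.transpose_apply, Matrix.map_apply] at h00 h01 h10 h11
  have hτ : σ * (a + d) ^ 3 = a + d :=
    Helper23.trace_eq a b c d x y z w σ hdet hX' hs2 (by linear_combination h00)
      (by linear_combination h01) (by linear_combination h10) (by linear_combination h11)
  rcases hσ with rfl | rfl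
  · -- σ = 1
    have hfac : (a + d) * ((a + d - 1) * (a + d + 1)) = 0 := by linear_combination hτ
    rcases mul_eq_zero.mp hfac with h0 | h0
    · exact Or.inl (Helper23.sq_of_trace_zero a b c d hdet h0)
    · rcases mul_eq_zero.mp h0 with h1 | h1
      · exact Or.inr ⟨rfl, Or.inr (Helper23.cube_of_trace_one a b c d hdet (by linear_combination h1))⟩
      · exact Or.inr ⟨rfl, Or.inl (Helper23.cube_of_trace_neg_one a b c d hdet
          (by linear_combination h1))⟩
  · -- σ = -1
    have hfac : (a + d) * ((a + d) ^ 2 + 1) = 0 := by linear_combination -hτ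
    rcases mul_eq_zero.mp hfac with h0 | h0
    · exact Or.inl (Helper23.sq_of_trace_zero a b c d hdet h0)
    · exact absurd (by linear_combination h0 : (a + d) ^ 2 = -1) (hsq (a + d))

end Cfsg.Agent.Lib.Helper26.ReeCube
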