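import Mathlib
import Cfsg.Prelude.Def_PLocal

/-!
# Regular `p`-groups (P. Hall)

For a finite regular `p`-group `G` (`Cfsg.IsRegularPGroup p G`) and `q = p ^ k`:
* `regular_pow_mul_eq_one`  : `x ^ q = 1 → y ^ q = 1 → (x * y) ^ q = 1`
* `regular_pow_eq_iff`      : `a ^ q = b ^ q ↔ (a * b⁻¹) ^ q = 1`
-/

set_option autoImplicit false

namespace Cfsg.Agent.Lib.Helper23

open Subgroup
open scoped commutatorElement

variable {G : Type*} [Group G]

theorem card_lt_of_lt' [Finite G] {H K : Subgroup G} (h : H < K) : Nat.card H < Nat.card K := by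
  by_contra hcon
  push Not at hcon
  exact absurd (Subgroup.eq_of_le_of_card_ge h.le hcon) h.ne

/-- In a finite `p`-group, a subgroup which together with the derived subgroup generates
everything is everything. -/
theorem eq_top_of_sup_commutator_eq_top {P : Type*} [Group P] [Finite P] {p : ℕ} [Fact p.Prime]
    (hP : IsPGroup p P) (K : Subgroup P) (h : K ⊔ commutator P = ⊤) : K = ⊤ := by
  by_contra hK
  obtain ⟨M, hM, hKM⟩ := (eq_top_or_exists_le_coatom K).resolve_left hK
  have hnil : Group.IsNilpotent P := hP.isNilpotent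
  have hMn : M.Normal :=
    Subgroup.NormalizerCondition.normal_of_coatom M (Group.normalizerCondition_of_isNilpotent) hM
  have hQ : IsPGroup p (P ⧸ M) := hP.to_quotient M
  have hnt : Nontrivial (P ⧸ M) := by
    by_contra hs
    rw [not_nontrivial_iff_subsingleton] at hs
    exact hM.1 (QuotientGroup.subgroup_eq_top_of_subsingleton M hs)
  have hZ : ⊥ < Subgroup.center (P ⧸ M) := hQ.bot_lt_center
  set Z' := (Subgroup.center (P ⧸ M)).comap (QuotientGroup.mk' M) with hZ'
  have hMZ : M ≤ Z' := by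
    intro m hm
    show (QuotientGroup.mk' M m) ∈ Subgroup.center (P ⧸ M)
    have : (QuotientGroup.mk' M m) = 1 := (QuotientGroup.eq_one_iff m).mpr hm
    rw [this]; exact one_mem _
  have hne : Z' ≠ M := by
    intro heq
    have : Subgroup.center (P ⧸ M) = ⊥ := by
      rw [← Subgroup.map_comap_eq_self_of_surjective (QuotientGroup.mk'_surjective M)
        (Subgroup.center (P ⧸ M)), ← hZ', heq]
      exact QuotientGroup.map_mk'_self M
    exact hZ.ne' this
  have htop : Z' = ⊤ := hM.2 Z' (lt_of_le_of_ne hMZ (Ne.symm hne))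
  have hcomm : commutator P ≤ M := by
    rw [← Subgroup.Normal.quotient_commutative_iff_commutator_le]
    constructor; constructor
    intro a b
    obtain ⟨a', rfl⟩ := QuotientGroup.mk_surjective a
    have h1 : a' ∈ Z' := by rw [htop]; trivial
    have h2 : (QuotientGroup.mk' M a') ∈ Subgroup.center (P ⧸ M) := h1
    exact (Subgroup.mem_center_iff.mp h2 b).symm
  exact hM.1 (top_le_iff.mp (h ▸ sup_le hKM hcomm))

/-- If a subgroup `E` is normalized by `closure S` and contains all commutators of elements of `S`,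
then it contains the derived subgroup of `closure S`. -/
theorem commutator_closure_le (E : Subgroup G) (S : Set G)
    (hN : closure S ≤ normalizer (E : Set G)) (hS : ∀ s ∈ S, ∀ t ∈ S, ⁅s, t⁆ ∈ E) :
    ⁅closure S, closure S⁆ ≤ E := by
  have conj_mem : ∀ a ∈ closure S, ∀ e ∈ E, a * e * a⁻¹ ∈ E := by
    intro a ha e he
    exact ((mem_normalizer_iff.mp (hN ha)) e).mp he
  have conj_mem' : ∀ a ∈ closure S, ∀ e ∈ E, a⁻¹ * e * a ∈ E := by
    intro a ha e he
    have := conj_mem a⁻¹ (inv_mem ha) e he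
    simpa using this
  have step1 : ∀ g ∈ closure S, ∀ t ∈ S, ⁅g, t⁆ ∈ E := by
    intro g hg t ht
    induction hg using closure_induction with
    | mem s hs => exact hS s hs t ht
    | one => rw [commutatorElement_one_left]; exact one_mem _
    | mul a b ha hb iha ihb =>
      rw [commutatorElement_mul_left_eq_conj_mul]
      exact E.mul_mem (conj_mem a ha _ ihb) iha
    | inv a ha iha =>
      rw [commutatorElement_inv_left]
      apply conj_mem' a ha
      rw [← commutatorElement_inv]
      exact E.inv_mem iha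
  rw [commutator_le]
  intro g hg h hh
  induction hh using closure_induction with
  | mem t ht => exact step1 g hg t ht
  | one => rw [commutatorElement_one_right]; exact one_mem _
  | mul a b ha hb iha ihb =>
    rw [commutatorElement_mul_right_eq_mul_conj]
    have := conj_mem a ha _ ihb
    rw [mul_assoc, mul_assoc]
    apply E.mul_mem iha
    rw [← mul_assoc]
    exact this
  | inv a ha iha =>
    rw [commutatorElement_inv_right]
    apply conj_mem' a ha
    rw [← commutatorElement_inv]
    exact E.inv_mem iha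


section Regular

variable [Finite G] {p : ℕ} [Fact p.Prime]

/-- The three basic power statements for a pair of elements. -/
def PairProp (q : ℕ) (u v : G) : Prop :=
  (u ^ q = 1 → v ^ q = 1 → (u * v) ^ q = 1) ∧ (u ^ q = v ^ q → (u * v⁻¹) ^ q = 1) ∧
    ((u * v⁻¹) ^ q = 1 → u ^ q = v ^ q)

theorem closure_pair_le {K : Subgroup G} {a b : G} (ha : a ∈ K) (hb : b ∈ K) :
    closure ({a, b} : Set G) ≤ K := by
  rw [closure_le]
  intro x hx
  rcases hx with rfl | rfl
  · exact ha
  · exact hb

theorem mem_closure_pair_left (a b : G) : a ∈ closure ({a, b} : Set G) :=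
  subset_closure (Set.mem_insert a {b})

theorem mem_closure_pair_right (a b : G) : b ∈ closure ({a, b} : Set G) :=
  subset_closure (Set.mem_insert_of_mem a rfl)

theorem closure_pair_inv (a b : G) : closure ({a, b⁻¹} : Set G) = closure ({a, b} : Set G) := by
  apply le_antisymm
  · exact closure_pair_le (mem_closure_pair_left a b) (inv_mem (mem_closure_pair_right a b))
  · apply closure_pair_le (mem_closure_pair_left a b⁻¹)
    have := inv_mem (mem_closure_pair_right a b⁻¹)
    simpa using this

theorem closure_pair_mul_inv (a b : G) :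
    closure ({a * b⁻¹, b} : Set G) = closure ({a, b} : Set G) := by
  apply le_antisymm
  · exact closure_pair_le
      (mul_mem (mem_closure_pair_left a b) (inv_mem (mem_closure_pair_right a b)))
      (mem_closure_pair_right a b)
  · apply closure_pair_le _ (mem_closure_pair_right (a * b⁻¹) b)
    have := mul_mem (mem_closure_pair_left (a * b⁻¹) b) (mem_closure_pair_right (a * b⁻¹) b)
    simpa using this

/-- If `a, b` do not commute then `⟨a⟩ [L, L]` is a proper subgroup of `L = ⟨a, b⟩`. -/
theorem card_sup_commutator_lt (hG : IsPGroup p G) (a b : G) (hab : a * b ≠ b * a) :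
    Nat.card (zpowers a ⊔ ⁅closure ({a, b} : Set G), closure ({a, b} : Set G)⁆ : Subgroup G) <
      Nat.card (closure ({a, b} : Set G)) := by
  set L := closure ({a, b} : Set G) with hL
  have haL : a ∈ L := mem_closure_pair_left a b
  have hbL : b ∈ L := mem_closure_pair_right a b
  have hle : zpowers a ⊔ ⁅L, L⁆ ≤ L := sup_le (zpowers_le.mpr haL) (commutator_le_self L)
  apply card_lt_of_lt'
  refine lt_of_le_of_ne hle ?_
  intro heq
  apply hab
  have hPL : IsPGroup p L := hG.to_subgroup L
  have htop : zpowers (⟨a, haL⟩ : L) ⊔ commutator L = ⊤ := by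
    apply Subgroup.map_injective (Subgroup.subtype_injective L)
    rw [Subgroup.map_sup, MonoidHom.map_zpowers, Subgroup.map_subtype_commutator,
      ← MonoidHom.range_eq_map, Subgroup.range_subtype]
    exact heq
  have hz := eq_top_of_sup_commutator_eq_top hPL _ htop
  have hb' : (⟨b, hbL⟩ : L) ∈ zpowers (⟨a, haL⟩ : L) := by rw [hz]; trivial
  obtain ⟨m, hm⟩ := mem_zpowers_iff.mp hb'
  have hm' : a ^ m = b := by
    have := congrArg Subtype.val hm
    simpa using this
  rw [← hm']
  exact (Commute.self_zpow a m).eq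

theorem eq_one_of_mem_powerClosure (k : ℕ) (D : Subgroup G) (hD : ∀ d ∈ D, d ^ p ^ k = 1)
    (c : G) (hc : c ∈ Cfsg.powerClosure p k D) : c = 1 := by
  have : Cfsg.powerClosure p k D ≤ ⊥ := by
    unfold Cfsg.powerClosure
    rw [closure_le]
    rintro y ⟨x, hx, rfl⟩
    rw [hD x hx]
    exact one_mem _
  exact mem_bot.mp (this hc)

/-- exponent of the derived subgroup, given the inductive hypothesis -/
theorem derived_pow_eq_one (hP : IsPGroup p G) (q n : ℕ)
    (IH : ∀ K : Subgroup G, Nat.card K < n → ∀ a ∈ K, ∀ b ∈ K, PairProp q a b)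
    (a b : G) (hL : Nat.card (closure ({a, b} : Set G)) = n) (hc : ⁅a, b⁆ ^ q = 1) :
    ∀ d ∈ ⁅closure ({a, b} : Set G), closure ({a, b} : Set G)⁆, d ^ q = 1 := by
  set L := closure ({a, b} : Set G) with hLdef
  by_cases hbot : L = ⊥
  · intro d hd
    have := commutator_le_self L hd
    rw [hbot, mem_bot] at this
    rw [this, one_pow]
  have hnil : Group.IsNilpotent G := hP.isNilpotent
  have hlt : ⁅L, L⁆ < L := Group.IsSolvable.commutator_lt_of_ne_bot hbot
  have hcard : Nat.card (⁅L, L⁆ : Subgroup G) < n := hL ▸ card_lt_of_lt' hlt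
  let E : Subgroup G :=
    { carrier := {d | d ∈ ⁅L, L⁆ ∧ d ^ q = 1}
      mul_mem' := fun {x y} hx hy =>
        ⟨mul_mem hx.1 hy.1, (IH _ hcard x hx.1 y hy.1).1 hx.2 hy.2⟩
      one_mem' := ⟨one_mem _, one_pow _⟩
      inv_mem' := fun {x} hx => ⟨inv_mem hx.1, by rw [inv_pow, hx.2, inv_one]⟩ }
  have hmemE : ∀ d, d ∈ E ↔ d ∈ ⁅L, L⁆ ∧ d ^ q = 1 := fun d => Iff.rfl
  have hN : L ≤ normalizer (E : Set G) := by
    intro g hg
    have hgn : g ∈ normalizer ((⁅L, L⁆ : Subgroup G) : Set G) := Subgroup.normalizer_commutator_ge_left L L hg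
    rw [mem_normalizer_iff] at hgn ⊢
    intro e
    rw [hmemE, hmemE, conj_pow, ← hgn e]
    constructor
    · rintro ⟨h1, h2⟩
      exact ⟨h1, by rw [h2]; group⟩
    · rintro ⟨h1, h2⟩
      refine ⟨h1, ?_⟩
      have : e ^ q = g⁻¹ * (g * e ^ q * g⁻¹) * g := by group
      rw [this, h2]; group
  have hcE : ⁅a, b⁆ ∈ E :=
    ⟨commutator_mem_commutator (mem_closure_pair_left a b) (mem_closure_pair_right a b), hc⟩
  have hS : ∀ s ∈ ({a, b} : Set G), ∀ t ∈ ({a, b} : Set G), ⁅s, t⁆ ∈ E := by
    intro s hs t ht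
    rcases hs with rfl | rfl <;> rcases ht with rfl | rfl
    · rw [commutatorElement_self]; exact one_mem _
    · exact hcE
    · rw [← commutatorElement_inv]; exact inv_mem hcE
    · rw [commutatorElement_self]; exact one_mem _
  intro d hd
  exact (commutator_closure_le E {a, b} hN hS hd).2

theorem commutator_pow_eq_one_of_pow_eq_one (hP : IsPGroup p G) (q n : ℕ)
    (IH : ∀ K : Subgroup G, Nat.card K < n → ∀ a ∈ K, ∀ b ∈ K, PairProp q a b)
    (a b : G) (hL : Nat.card (closure ({a, b} : Set G)) = n) (ha : a ^ q = 1) :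
    ⁅a, b⁆ ^ q = 1 := by
  by_cases hab : a * b = b * a
  · rw [commutatorElement_eq_one_iff_mul_comm.mpr hab, one_pow]
  set L := closure ({a, b} : Set G) with hLdef
  set K := zpowers a ⊔ ⁅L, L⁆ with hK
  have hcard : Nat.card K < n := hL ▸ card_sup_commutator_lt hP a b hab
  have haK : a ∈ K := mem_sup_left (mem_zpowers a)
  have hcK : ⁅a, b⁆ ∈ K := mem_sup_right
    (commutator_mem_commutator (mem_closure_pair_left a b) (mem_closure_pair_right a b))
  have hw : b * a⁻¹ * b⁻¹ = a⁻¹ * ⁅a, b⁆ := by rw [commutatorElement_def]; group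
  have hwK : b * a⁻¹ * b⁻¹ ∈ K := by rw [hw]; exact mul_mem (inv_mem haK) hcK
  have hwq : (b * a⁻¹ * b⁻¹) ^ q = 1 := by rw [conj_pow, inv_pow, ha]; group
  have := (IH K hcard a haK _ hwK).1 ha hwq
  have e : a * (b * a⁻¹ * b⁻¹) = ⁅a, b⁆ := by rw [commutatorElement_def]; group
  rwa [e] at this

theorem commutator_pow_eq_one_of_pow_eq (hP : IsPGroup p G) (q n : ℕ)
    (IH : ∀ K : Subgroup G, Nat.card K < n → ∀ a ∈ K, ∀ b ∈ K, PairProp q a b)
    (a b : G) (hL : Nat.card (closure ({a, b} : Set G)) = n) (hab' : a ^ q = b ^ q) :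
    ⁅a, b⁆ ^ q = 1 := by
  by_cases hab : a * b = b * a
  · rw [commutatorElement_eq_one_iff_mul_comm.mpr hab, one_pow]
  set L := closure ({a, b} : Set G) with hLdef
  set K := zpowers a ⊔ ⁅L, L⁆ with hK
  have hcard : Nat.card K < n := hL ▸ card_sup_commutator_lt hP a b hab
  have haK : a ∈ K := mem_sup_left (mem_zpowers a)
  have hcK : ⁅a, b⁆ ∈ K := mem_sup_right
    (commutator_mem_commutator (mem_closure_pair_left a b) (mem_closure_pair_right a b))
  have hw : b * a * b⁻¹ = (a⁻¹ * ⁅a, b⁆)⁻¹ := by rw [commutatorElement_def]; group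
  have hwK : b * a * b⁻¹ ∈ K := by rw [hw]; exact inv_mem (mul_mem (inv_mem haK) hcK)
  have hwq : a ^ q = (b * a * b⁻¹) ^ q := by
    rw [conj_pow, hab']; group
  have := (IH K hcard a haK _ hwK).2.1 hwq
  have e : a * (b * a * b⁻¹)⁻¹ = ⁅a, b⁆ := by rw [commutatorElement_def]; group
  rwa [e] at this

/-- P. Hall's basic theorem on regular `p`-groups, for a pair of elements. -/
theorem regular_pairProp (hG : Cfsg.IsRegularPGroup p G) (k : ℕ) (u v : G) :
    PairProp (p ^ k) u v := by
  induction hn : Nat.card (closure ({u, v} : Set G)) using Nat.strong_induction_on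
    generalizing u v with
  | _ n ih =>
  have hP := hG.1
  have IH : ∀ K : Subgroup G, Nat.card K < n → ∀ a ∈ K, ∀ b ∈ K, PairProp (p ^ k) a b := by
    intro K hK a ha b hb
    exact ih _ (lt_of_le_of_lt (Subgroup.card_le_of_le (closure_pair_le ha hb)) hK) a b rfl
  refine ⟨?_, ?_, ?_⟩
  · intro hu hv
    obtain ⟨c, hc, hmul⟩ := hG.2 u v k
    have hc1 : c = 1 := eq_one_of_mem_powerClosure k _
      (derived_pow_eq_one hP _ n IH u v hn
        (commutator_pow_eq_one_of_pow_eq_one hP _ n IH u v hn hu)) c hc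
    rw [hmul, hu, hv, hc1]; group
  · intro huv
    obtain ⟨c, hc, hmul⟩ := hG.2 u v⁻¹ k
    rw [closure_pair_inv] at hc
    have hc1 : c = 1 := eq_one_of_mem_powerClosure k _
      (derived_pow_eq_one hP _ n IH u v hn
        (commutator_pow_eq_one_of_pow_eq hP _ n IH u v hn huv)) c hc
    rw [hmul, hc1, inv_pow, huv]; group
  · intro h
    have hn' : Nat.card (closure ({u * v⁻¹, v} : Set G)) = n := by
      rw [closure_pair_mul_inv]; exact hn
    obtain ⟨c, hc, hmul⟩ := hG.2 (u * v⁻¹) v k
    have hc1 : c = 1 := eq_one_of_mem_powerClosure k _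
      (derived_pow_eq_one hP _ n IH (u * v⁻¹) v hn'
        (commutator_pow_eq_one_of_pow_eq_one hP _ n IH (u * v⁻¹) v hn' h)) c hc
    have e : u * v⁻¹ * v = u := by group
    rw [e, h, hc1] at hmul
    rw [hmul]; group

theorem regular_pow_mul_eq_one (hG : Cfsg.IsRegularPGroup p G) (k : ℕ) {x y : G}
    (hx : x ^ p ^ k = 1) (hy : y ^ p ^ k = 1) : (x * y) ^ p ^ k = 1 :=
  (regular_pairProp hG k x y).1 hx hy

theorem regular_pow_eq_iff (hG : Cfsg.IsRegularPGroup p G) (k : ℕ) (a b : G) :
    a ^ p ^ k = b ^ p ^ k ↔ (a * b⁻¹) ^ p ^ k = 1 :=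
  ⟨(regular_pairProp hG k a b).2.1, (regular_pairProp hG k a b).2.2⟩

end Regular

end Cfsg.Agent.Lib.Helper23
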