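import Mathlib
import Cfsg.Prelude.Def_Characters
import Cfsg.Agent.Lib.Helper11.S3282Defs
import Cfsg.Agent.Lib.Helper12.S3282G1a

/-!
G2a of helper11's S3282 farm-out: for `y ∈ K#` the pairs of involutions `(u, v)` with `u v = y` are
the `(u, u⁻¹ y)`, `u ∈ H ∖ K = K s`; there are `|K|` of them.
-/

set_option autoImplicit false

namespace Cfsg.Agent.Lib.Helper23.S3282G2a

open Cfsg Cfsg.Agent.Lib.Helper11 Cfsg.Agent.Lib.Helper11.S3282
open Cfsg.Agent.Lib.Helper12.S3282G1a

universe u

variable {G : Type u} [Group G] {t s : G} {K : Subgroup G}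

theorem sq_of_orderOf_two {u : G} (hu : orderOf u = 2) : u * u = 1 := by
  have h1 := pow_orderOf_eq_one u
  rw [hu, pow_two] at h1
  exact h1

theorem inv_of_orderOf_two {u : G} (hu : orderOf u = 2) : u⁻¹ = u :=
  inv_eq_of_mul_eq_one_right (sq_of_orderOf_two hu)

/-- the first component of a pair of involutions with product `y ∈ K#` lies in `H ∖ K`. -/
theorem fst_mem (h : Hyp t s K) {y : G} (hy : y ∈ K) (hy1 : y ≠ 1) {u v : G}
    (hu : orderOf u = 2) (hv : orderOf v = 2) (huv : u * v = y) :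
    u ∈ Subgroup.centralizer ({t} : Set G) ∧ u ∉ K := by
  have hu2 := sq_of_orderOf_two hu
  have hv2 := sq_of_orderOf_two hv
  have hui := inv_of_orderOf_two hu
  have hvi := inv_of_orderOf_two hv
  have hinv : u * y * u⁻¹ = y⁻¹ := by
    rw [← huv, mul_inv_rev, hui, hvi]
    calc u * (u * v) * u = (u * u) * v * u := by group
      _ = v * u := by rw [hu2, one_mul]
  have huH : u ∈ Subgroup.centralizer ({t} : Set G) := by
    apply G1_fusion h hy hy1
    rw [hinv]
    exact K.inv_mem hy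
  refine ⟨huH, ?_⟩
  intro huK
  have hut : u = t := G1_invol_K h huK hu
  have hcomm : u * y = y * u := h.comm u huK y hy
  have hyy : y = y⁻¹ := by
    rw [← hinv, hcomm]
    group
  have hy2 : y * y = 1 := by
    calc y * y = y * y⁻¹ := by rw [← hyy]
      _ = 1 := mul_inv_cancel y
  have hyo : orderOf y = 2 := by
    apply orderOf_eq_prime
    · rw [pow_two]; exact hy2
    · exact hy1
  have hyt : y = t := G1_invol_K h hy hyo
  have hv1 : v = 1 := by
    have : v = u⁻¹ * y := by rw [← huv]; group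
    rw [this, hut, hyt, inv_mul_cancel]
  rw [hv1, orderOf_one] at hv
  omega

/-- G2a -/
theorem G2_beta_K [Finite G] (h : Hyp t s K) {y : G} (hy : y ∈ K) (hy1 : y ≠ 1) :
    Cfsg.Agent.Lib.Helper11.S3282.beta y = Nat.card K := by
  unfold Cfsg.Agent.Lib.Helper11.S3282.beta
  symm
  have hprop : ∀ k : K, orderOf ((k : G) * s) = 2 ∧ orderOf (((k : G) * s)⁻¹ * y) = 2 ∧
      ((k : G) * s) * (((k : G) * s)⁻¹ * y) = y := by
    intro k
    have huH := mul_s_mem_H h k.2
    have huK := mul_s_not_mem h k.2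
    refine ⟨G1_invol_of_not_mem h huH huK, ?_, by group⟩
    apply G1_invol_of_not_mem h
    · exact Subgroup.mul_mem _ (Subgroup.inv_mem _ huH) (h.hKH hy)
    · intro hmem
      apply huK
      have h1 : ((k : G) * s)⁻¹ ∈ K := by
        have := K.mul_mem hmem (K.inv_mem hy)
        rwa [mul_inv_cancel_right] at this
      have := K.inv_mem h1
      rwa [inv_inv] at this
  let f : K → {p : G × G // orderOf p.1 = 2 ∧ orderOf p.2 = 2 ∧ p.1 * p.2 = y} :=
    fun k => ⟨((k : G) * s, ((k : G) * s)⁻¹ * y), hprop k⟩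
  apply Nat.card_congr (Equiv.ofBijective f ⟨?_, ?_⟩)
  · intro k k' hkk
    have h1 : ((k : G) * s, ((k : G) * s)⁻¹ * y) = ((k' : G) * s, ((k' : G) * s)⁻¹ * y) :=
      congrArg Subtype.val hkk
    have h2 : (k : G) * s = (k' : G) * s := congrArg Prod.fst h1
    exact Subtype.ext (mul_right_cancel h2)
  · rintro ⟨⟨u, v⟩, hu, hv, huv⟩
    simp only at hu hv huv
    obtain ⟨huH, huK⟩ := fst_mem h hy hy1 hu hv huv
    rcases G1_mem_H h huH with hK | ⟨k, hk, hku⟩
    · exact absurd hK huK
    · refine ⟨⟨k, hk⟩, ?_⟩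
      apply Subtype.ext
      show ((k : G) * s, ((k : G) * s)⁻¹ * y) = (u, v)
      rw [← hku]
      have : u⁻¹ * y = v := by rw [← huv]; group
      rw [this]

end Cfsg.Agent.Lib.Helper23.S3282G2a
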