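import Mathlib

namespace Cfsg.Agent.Lib.Helper23.S4018D

/-- natural number core of the diophantine lemma -/
theorem core (a m K d t e x y : ℕ) (ha : 1 ≤ a) (hm : m = 3 ^ a) (hK : K + 2 * m = 4 * m ^ 2 + 1)
    (hd : 0 < d) (hdvd : d ∣ 4 * m * K) (hd2 : d ^ 2 ≤ 4 * m * K) (ht : t ^ 2 ≤ 4 * m)
    (hx : x = d + t) (hy : d = t + y ∨ t = d + y) (hy0 : 0 < y)
    (heq : K * (x * y) = 4 * m ^ 2 * d * e) : False := by
  haveI : Fact (Nat.Prime 3) := ⟨by norm_num⟩
  have hmpos : 0 < m := by rw [hm]; positivity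
  have h3m : 3 ∣ m := by
    rw [hm]
    exact dvd_pow_self 3 (by omega)
  -- `K` is odd and prime to `3`
  have hKodd : K % 2 = 1 := by
    generalize m ^ 2 = q at hK
    omega
  have hK3 : ¬ 3 ∣ K := by
    obtain ⟨m', rfl⟩ := h3m
    have e1 : (3 * m') ^ 2 = 9 * m' ^ 2 := by ring
    rw [e1] at hK
    generalize m' ^ 2 = q at hK
    omega
  have hKpos : 0 < K := by omega
  have hxpos : 0 < x := by omega
  have hyx : y ≤ x := by omega
  have hm2 : m ^ 2 = 3 ^ (2 * a) := by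
    rw [hm, ← pow_mul, mul_comm]
  -- valuations
  have hxy0 : x * y ≠ 0 := by positivity
  have hKxy0 : K * (x * y) ≠ 0 := by positivity
  have hval : 2 * a + padicValNat 3 d ≤ padicValNat 3 x + padicValNat 3 y := by
    have h1 : 3 ^ (2 * a + padicValNat 3 d) ∣ K * (x * y) := by
      rw [heq, pow_add, ← hm2]
      have : (4 : ℕ) * m ^ 2 * d * e = m ^ 2 * d * (4 * e) := by ring
      rw [this]
      exact Dvd.dvd.mul_right (Nat.mul_dvd_mul_left _ pow_padicValNat_dvd) _
    have h2 := (padicValNat_dvd_iff_le hKxy0).mp h1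
    rw [padicValNat.mul hKpos.ne' hxy0, padicValNat.mul hxpos.ne' hy0.ne',
      padicValNat.eq_zero_of_not_dvd hK3] at h2
    omega
  have hmin : min (padicValNat 3 x) (padicValNat 3 y) ≤ padicValNat 3 d := by
    have hx' : 3 ^ min (padicValNat 3 x) (padicValNat 3 y) ∣ x :=
      (pow_dvd_pow 3 (min_le_left _ _)).trans pow_padicValNat_dvd
    have hy' : 3 ^ min (padicValNat 3 x) (padicValNat 3 y) ∣ y :=
      (pow_dvd_pow 3 (min_le_right _ _)).trans pow_padicValNat_dvd
    have h2d : 3 ^ min (padicValNat 3 x) (padicValNat 3 y) ∣ 2 * d := by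
      rcases hy with h | h
      · have : 2 * d = x + y := by omega
        rw [this]
        exact Nat.dvd_add hx' hy'
      · have : 2 * d = x - y := by omega
        rw [this]
        exact Nat.dvd_sub hx' hy'
    have hcop : Nat.Coprime (3 ^ min (padicValNat 3 x) (padicValNat 3 y)) 2 :=
      Nat.Coprime.pow_left _ (by norm_num)
    have hd' : 3 ^ min (padicValNat 3 x) (padicValNat 3 y) ∣ d := hcop.dvd_of_dvd_mul_left h2d
    exact (padicValNat_dvd_iff_le hd.ne').mp hd'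
  have hmax : m ^ 2 ∣ x ∨ m ^ 2 ∣ y := by
    rw [hm2]
    rcases le_total (padicValNat 3 x) (padicValNat 3 y) with h | h
    · right
      rw [min_eq_left h] at hmin
      exact (pow_dvd_pow 3 (by omega)).trans pow_padicValNat_dvd
    · left
      rw [min_eq_right h] at hmin
      exact (pow_dvd_pow 3 (by omega)).trans pow_padicValNat_dvd
  -- parity
  have h4 : 4 ∣ x * y := by
    have h1 : 4 ∣ K * (x * y) := by
      rw [heq]
      exact ⟨m ^ 2 * d * e, by ring⟩
    have hcop : Nat.Coprime 4 K := by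
      have : Nat.Coprime 2 K := by
        rw [Nat.coprime_two_left, Nat.odd_iff]
        exact hKodd
      exact Nat.Coprime.pow_left 2 this
    exact hcop.dvd_of_dvd_mul_left h1
  have hyeven : 2 ∣ y := by
    by_contra hodd
    have hyo : Odd y := by
      rw [Nat.odd_iff]
      omega
    have hxo : Odd x := by
      rw [Nat.odd_iff] at hyo ⊢
      omega
    have hxyo : Odd (x * y) := hxo.mul hyo
    rw [Nat.odd_iff] at hxyo
    omega
  have hxeven : 2 ∣ x := by omega
  have hcop2 : Nat.Coprime 2 (m ^ 2) := by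
    rw [hm2]
    exact Nat.Coprime.pow_right _ (by norm_num)
  have hbig : 2 * m ^ 2 ≤ x := by
    rcases hmax with h | h
    · exact Nat.le_of_dvd hxpos (hcop2.mul_dvd_of_dvd_of_dvd hxeven h)
    · exact le_trans (Nat.le_of_dvd hy0 (hcop2.mul_dvd_of_dvd_of_dvd hyeven h)) hyx
  -- the size estimate
  have hsq : x ^ 2 + y ^ 2 = 2 * d ^ 2 + 2 * t ^ 2 := by
    rcases hy with h | h
    · subst hx
      rw [h]
      ring
    · subst hx
      rw [h]
      ring
  have hx2 : x ^ 2 ≤ 8 * m * K + 8 * m := by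
    have : 2 * d ^ 2 + 2 * t ^ 2 ≤ 8 * m * K + 8 * m := by nlinarith
    nlinarith
  have hx2' : (2 * m ^ 2) ^ 2 ≤ x ^ 2 := Nat.pow_le_pow_left hbig 2
  have hK' : K + 1 ≤ 4 * m ^ 2 := by
    have : 1 ≤ m := hmpos
    nlinarith
  have hm8 : m ≤ 8 := by
    by_contra hlt
    push Not at hlt
    have h1 : 4 * m ^ 4 ≤ 8 * m * (K + 1) := by
      have : (2 * m ^ 2) ^ 2 = 4 * m ^ 4 := by ring
      nlinarith
    have h2 : 8 * m * (K + 1) ≤ 8 * m * (4 * m ^ 2) := Nat.mul_le_mul_left _ hK'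
    have h3 : 4 * m ^ 4 ≤ 32 * m ^ 3 := by
      have : 8 * m * (4 * m ^ 2) = 32 * m ^ 3 := by ring
      omega
    have h4' : m ^ 4 = m * m ^ 3 := by ring
    have h5 : 9 * m ^ 3 ≤ m * m ^ 3 := Nat.mul_le_mul_right _ hlt
    have h6 : 0 < m ^ 3 := by positivity
    omega
  have ha1 : a = 1 := by
    by_contra hne
    have h2 : 2 ≤ a := by omega
    have : 3 ^ 2 ≤ 3 ^ a := Nat.pow_le_pow_right (by norm_num) h2
    omega
  subst ha1
  norm_num at hm
  subst hm
  have hK31 : K = 31 := by omega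
  subst hK31
  have ht3 : t ≤ 3 := by nlinarith
  have hd19 : d ≤ 19 := by nlinarith
  have hd15 : 15 ≤ d := by omega
  interval_cases d <;> omega

theorem dioph (a : ℕ) (ha : 1 ≤ a) (m K d : ℕ) (s e : ℤ) (hm : m = 3 ^ a)
    (hK : K + 2 * m = 4 * m ^ 2 + 1) (hd : 0 < d) (hdvd : d ∣ 4 * m * K)
    (hd2 : d ^ 2 ≤ 4 * m * K) (hs : s ^ 2 ≤ 4 * m)
    (heq : (K : ℤ) * ((d : ℤ) ^ 2 - s ^ 2) = 4 * (m : ℤ) ^ 2 * d * e) :
    (d : ℤ) ^ 2 = s ^ 2 := by
  by_contra hne
  have hst : s ^ 2 = ((s.natAbs : ℕ) : ℤ) ^ 2 := by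
    rw [Int.natCast_natAbs, sq_abs]
  set t : ℕ := s.natAbs with ht_def
  have ht : t ^ 2 ≤ 4 * m := by
    rw [hst] at hs
    exact_mod_cast hs
  have hdt : d ≠ t := by
    intro h
    apply hne
    rw [hst, h]
  have habs := congrArg Int.natAbs heq
  have hfac : (d : ℤ) ^ 2 - s ^ 2 = ((d : ℤ) - t) * ((d : ℤ) + t) := by
    rw [hst]; ring
  rw [hfac] at habs
  simp only [Int.natAbs_mul, Int.natAbs_pow, Int.natAbs_natCast] at habs
  have h4 : Int.natAbs 4 = 4 := rfl
  rw [h4] at habs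
  have hx : ((d : ℤ) + t).natAbs = d + t := by omega
  rw [hx] at habs
  rcases Nat.lt_or_gt_of_ne hdt with h | h
  · -- `d < t`
    have hy : ((d : ℤ) - t).natAbs = t - d := by omega
    rw [hy] at habs
    refine core a m K d t e.natAbs (d + t) (t - d) ha hm hK hd hdvd hd2 ht rfl (Or.inr (by omega))
      (by omega) ?_
    rw [← habs]; ring
  · have hy : ((d : ℤ) - t).natAbs = d - t := by omega
    rw [hy] at habs
    refine core a m K d t e.natAbs (d + t) (d - t) ha hm hK hd hdvd hd2 ht rfl (Or.inl (by omega))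
      (by omega) ?_
    rw [← habs]; ring

end Cfsg.Agent.Lib.Helper23.S4018D
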