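import Mathlib
import Cfsg.Prelude.Def_GeometricClasses
import Cfsg.Agent.Lib.Helper7.AschDefs
import Cfsg.Agent.Lib.Helper11.AschCliffDefs
import Cfsg.Agent.Lib.Helper23.S5630I4CL1

/-!
# S5630 block I4, piece CL3 (`exists_block_form`)  (helper23)
-/

set_option autoImplicit false

namespace Cfsg.Agent.Lib.Helper23.S5630I4CL

open Matrix Cfsg Cfsg.Geo Cfsg.Agent.Lib.Helper7.Asch Cfsg.Agent.Lib.Helper11.Cliff
open scoped MatrixGroups Kronecker

variable {n : ℕ} {F : Type*} [Field F]

attribute [local instance] instRingEnvEnd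

/-- shortcut instance (the default search is very slow) -/
@[reducible] def instSMulSub (X : Subgroup (GL (Fin n) F)) (U : Submodule (envEnd X) (Fin n → F)) :
    SMul (envEnd X) U := Module.toDistribMulAction.toMulAction.toSMul

attribute [local instance] instSMulSub

section block

variable (X : Subgroup (GL (Fin n) F))

/-- the element of `envEnd X` given by `x ∈ X` -/
def aX (x : X) : envEnd X :=
  ⟨Matrix.toLin' ((x : GL (Fin n) F) : Matrix (Fin n) (Fin n) F), toLin_mem_envEnd x.2⟩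

theorem aX_smul (x : X) (v : Fin n → F) :
    aX X x • v = ((x : GL (Fin n) F) : Matrix (Fin n) (Fin n) F) *ᵥ v := by
  rw [envEnd_smul_def]
  exact Matrix.toLin'_apply _ _

theorem aX_mul (x y : X) : aX X (x * y) = aX X x * aX X y := by
  apply Subtype.ext
  change Matrix.toLin' (((x * y : X) : GL (Fin n) F) : Matrix (Fin n) (Fin n) F) =
    Matrix.toLin' ((x : GL (Fin n) F) : Matrix (Fin n) (Fin n) F) *
      Matrix.toLin' ((y : GL (Fin n) F) : Matrix (Fin n) (Fin n) F)
  rw [Module.End.mul_eq_comp, ← Matrix.toLin'_mul]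
  rfl

theorem aX_one : aX X 1 = 1 := by
  apply Subtype.ext
  change Matrix.toLin' (((1 : X) : GL (Fin n) F) : Matrix (Fin n) (Fin n) F) = 1
  simp [Module.End.one_eq_id]

variable (U : Submodule (envEnd X) (Fin n → F))

/-- restriction of `x ∈ X` to the submodule `U`, as an `F`-linear map -/
def rU (x : X) : U →ₗ[F] U where
  toFun u := aX X x • u
  map_add' u w := smul_add _ u w
  map_smul' c u := by
    apply Subtype.ext
    simp only [RingHom.id_apply, Submodule.coe_smul, Submodule.coe_smul_of_tower]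
    rw [aX_smul, aX_smul, Matrix.mulVec_smul]

theorem rU_apply (x : X) (u : U) : rU X U x u = aX X x • u := rfl

theorem rU_mul (x y : X) : rU X U (x * y) = rU X U x ∘ₗ rU X U y := by
  apply LinearMap.ext
  intro u
  rw [LinearMap.comp_apply, rU_apply, rU_apply, rU_apply, aX_mul, mul_smul]

theorem rU_one : rU X U 1 = LinearMap.id := by
  apply LinearMap.ext
  intro u
  rw [rU_apply, aX_one, one_smul, LinearMap.id_apply]

variable {d : ℕ} (b : Module.Basis (Fin d) F U)

/-- the matrix representation of `X` on `U` -/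
noncomputable def rhoM : X →* Matrix (Fin d) (Fin d) F where
  toFun x := LinearMap.toMatrix b b (rU X U x)
  map_one' := by rw [rU_one]; exact LinearMap.toMatrix_id b
  map_mul' x y := by rw [rU_mul]; exact LinearMap.toMatrix_comp b b b _ _

theorem rhoM_mulVec_repr (x : X) (u : U) :
    rhoM X U b x *ᵥ ⇑(b.repr u) = ⇑(b.repr (aX X x • u)) :=
  LinearMap.toMatrix_mulVec_repr b b (rU X U x) u

/-- the image of the representation on a simple submodule is irreducible -/
theorem irr_range (hU : IsSimpleModule (envEnd X) U) : Irr (rhoM X U b).toHomUnits.range := by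
  intro W hW
  have hinv : ∀ x ∈ X, ∀ v ∈ (W.comap (b.equivFun : U →ₗ[F] Fin d → F)).map
      ((U.subtype).restrictScalars F), (x : Matrix (Fin n) (Fin n) F) *ᵥ v ∈
      (W.comap (b.equivFun : U →ₗ[F] Fin d → F)).map ((U.subtype).restrictScalars F) := by
    rintro x hx _ ⟨u, hu, rfl⟩
    refine ⟨aX X ⟨x, hx⟩ • u, ?_, ?_⟩
    · change b.equivFun u ∈ W at hu
      change b.equivFun (aX X ⟨x, hx⟩ • u) ∈ W
      have h1 := rhoM_mulVec_repr X U b ⟨x, hx⟩ u
      have h2 : rhoM X U b ⟨x, hx⟩ ∈ matrixSet (rhoM X U b).toHomUnits.range :=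
        ⟨(rhoM X U b).toHomUnits ⟨x, hx⟩, ⟨⟨x, hx⟩, rfl⟩, rfl⟩
      have h3 := hW _ h2 ⟨_, hu, rfl⟩
      rw [Matrix.toLin'_apply] at h3
      change rhoM X U b ⟨x, hx⟩ *ᵥ ⇑(b.repr u) ∈ W at h3
      rw [h1] at h3
      exact h3
    · change ((aX X ⟨x, hx⟩ • u : U) : Fin n → F) = _
      rw [Submodule.coe_smul, aX_smul]
      rfl
  have hle : envSub X _ hinv ≤ U := by
    rintro _ ⟨u, -, rfl⟩
    exact u.2
  have hatom : IsAtom U := isSimpleModule_iff_isAtom.mp hU
  rcases hatom.le_iff.mp hle with h0 | h1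
  · left
    rw [Submodule.eq_bot_iff]
    intro w hw
    have hmem : ((b.equivFun.symm w : U) : Fin n → F) ∈ envSub X _ hinv := by
      refine ⟨b.equivFun.symm w, ?_, rfl⟩
      change b.equivFun (b.equivFun.symm w) ∈ W
      rw [LinearEquiv.apply_symm_apply]
      exact hw
    rw [h0, Submodule.mem_bot] at hmem
    have h2 : b.equivFun.symm w = 0 := Subtype.ext hmem
    have h3 := congrArg b.equivFun h2
    rw [LinearEquiv.apply_symm_apply, map_zero] at h3
    exact h3
  · right
    rw [Submodule.eq_top_iff']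
    intro w
    have hmem : ((b.equivFun.symm w : U) : Fin n → F) ∈ envSub X _ hinv := by
      rw [h1]; exact (b.equivFun.symm w).2
    obtain ⟨u', hu', hu'e⟩ := hmem
    have h2 : u' = b.equivFun.symm w := Subtype.ext hu'e
    change b.equivFun u' ∈ W at hu'
    rw [h2, LinearEquiv.apply_symm_apply] at hu'
    exact hu'

end block

/-- reindexing `Fin s → Fin d → F` to `Fin n → F` along `e : Fin n ≃ Fin d × Fin s` -/
def reidx {d s : ℕ} (e : Fin n ≃ Fin d × Fin s) : (Fin s → Fin d → F) ≃ₗ[F] (Fin n → F) where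
  toFun g k := g (e k).2 (e k).1
  invFun h j i := h (e.symm (i, j))
  map_add' _ _ := rfl
  map_smul' _ _ := rfl
  left_inv g := by funext j i; simp
  right_inv h := by funext k; simp

/-- a linear automorphism of `F^n` as an element of `GL` (matrix of the inverse map) -/
def glOfEquiv (Θ : (Fin n → F) ≃ₗ[F] (Fin n → F)) : GL (Fin n) F where
  val := LinearMap.toMatrix' (Θ.symm : (Fin n → F) →ₗ[F] (Fin n → F))
  inv := LinearMap.toMatrix' (Θ : (Fin n → F) →ₗ[F] (Fin n → F))
  val_inv := by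
    rw [← LinearMap.toMatrix'_comp]
    have : (Θ.symm : (Fin n → F) →ₗ[F] (Fin n → F)) ∘ₗ (Θ : (Fin n → F) →ₗ[F] (Fin n → F)) =
        LinearMap.id := by
      ext v; simp
    rw [this, LinearMap.toMatrix'_id]
  inv_val := by
    rw [← LinearMap.toMatrix'_comp]
    have : (Θ : (Fin n → F) →ₗ[F] (Fin n → F)) ∘ₗ (Θ.symm : (Fin n → F) →ₗ[F] (Fin n → F)) =
        LinearMap.id := by
      ext v; simp
    rw [this, LinearMap.toMatrix'_id]

theorem glOfEquiv_mulVec (Θ : (Fin n → F) ≃ₗ[F] (Fin n → F)) (w : Fin n → F) :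
    ((glOfEquiv Θ : GL (Fin n) F) : Matrix (Fin n) (Fin n) F) *ᵥ w = Θ.symm w := by
  change LinearMap.toMatrix' (Θ.symm : (Fin n → F) →ₗ[F] (Fin n → F)) *ᵥ w = Θ.symm w
  rw [LinearMap.toMatrix'_mulVec]
  rfl

/-- the block-form identity from the intertwining property of the coordinate isomorphism -/
theorem kronLM_eq_of_intertwine {d s : ℕ} (e : Fin n ≃ Fin d × Fin s)
    (Θ : (Fin n → F) ≃ₗ[F] (Fin n → F)) (x : Matrix (Fin n) (Fin n) F)
    (c : Matrix (Fin d) (Fin d) F)
    (h : ∀ v, Θ (x *ᵥ v) =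
      Matrix.reindex e.symm e.symm (c ⊗ₖ (1 : Matrix (Fin s) (Fin s) F)) *ᵥ Θ v) :
    kronLM e (glOfEquiv Θ) c = x := by
  have h1 : x * ((glOfEquiv Θ : GL (Fin n) F) : Matrix (Fin n) (Fin n) F) =
      ((glOfEquiv Θ : GL (Fin n) F) : Matrix (Fin n) (Fin n) F) *
        Matrix.reindex e.symm e.symm (c ⊗ₖ (1 : Matrix (Fin s) (Fin s) F)) := by
    apply Matrix.toLin'.injective
    apply LinearMap.ext
    intro w
    rw [Matrix.toLin'_apply, Matrix.toLin'_apply, ← Matrix.mulVec_mulVec, ← Matrix.mulVec_mulVec,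
      glOfEquiv_mulVec, glOfEquiv_mulVec]
    apply Θ.injective
    rw [h, LinearEquiv.apply_symm_apply, LinearEquiv.apply_symm_apply]
  unfold kronLM
  rw [← h1, mul_assoc, ← Units.val_mul, mul_inv_cancel, Units.val_one, mul_one]

/-- the computation of `(c ⊗ 1)` reindexed acting on coordinates -/
theorem reindex_kron_mulVec {d s : ℕ} (e : Fin n ≃ Fin d × Fin s) (c : Matrix (Fin d) (Fin d) F)
    (t : Fin n → F) (k : Fin n) :
    (Matrix.reindex e.symm e.symm (c ⊗ₖ (1 : Matrix (Fin s) (Fin s) F)) *ᵥ t) k =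
      (c *ᵥ fun i' => t (e.symm (i', (e k).2))) (e k).1 := by
  simp only [Matrix.mulVec, dotProduct, Matrix.reindex_apply, Matrix.submatrix_apply,
    Equiv.symm_symm, Matrix.kroneckerMap_apply]
  rw [← Equiv.sum_comp e.symm, Fintype.sum_prod_type]
  simp only [Equiv.apply_symm_apply, Matrix.one_apply, mul_ite, mul_one, mul_zero, ite_mul,
    zero_mul, Finset.sum_ite_eq, Finset.mem_univ, if_true]

set_option maxHeartbeats 800000 in
set_option synthInstance.maxHeartbeats 400000 in
/-- **CL3** (block form) -/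
theorem exists_block_form (hn : 1 ≤ n) (X : Subgroup (GL (Fin n) F))
    (hss : IsSemisimpleModule (envEnd X) (Fin n → F)) (hH : Homog X) :
    ∃ (d s : ℕ) (e : Fin n ≃ Fin d × Fin s) (P : GL (Fin n) F) (Y : Subgroup (GL (Fin d) F)),
      Irr Y ∧ X = Y.map (kronL e P) := by
  haveI : Nontrivial (Fin n → F) := by
    haveI : Nonempty (Fin n) := ⟨⟨0, hn⟩⟩
    infer_instance
  haveI : Module.Finite (envEnd X) (Fin n → F) := Module.Finite.of_restrictScalars_finite F _ _
  haveI := hss
  obtain ⟨s, _, U, hU, ⟨ψ⟩⟩ := IsIsotypic.linearEquiv_fun hH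
  haveI : Module.Finite F U :=
    Module.Finite.of_injective ((U.subtype).restrictScalars F) Subtype.val_injective
  obtain ⟨d, hd⟩ : ∃ d, d = Module.finrank F U := ⟨_, rfl⟩
  let b : Module.Basis (Fin d) F U := (Module.finBasis F U).reindex (finCongr hd.symm)
  -- the coordinate isomorphism
  let Θ₀ : (Fin n → F) ≃ₗ[F] (Fin s → Fin d → F) :=
    (ψ.restrictScalars F).trans (LinearEquiv.piCongrRight fun _ => b.equivFun)
  have hcard : n = d * s := by
    have h1 := LinearEquiv.finrank_eq Θ₀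
    rw [Module.finrank_fin_fun, Module.finrank_pi_fintype] at h1
    simp only [Module.finrank_fin_fun, Finset.sum_const, Finset.card_univ, Fintype.card_fin,
      smul_eq_mul] at h1
    rw [h1, mul_comm]
  let e : Fin n ≃ Fin d × Fin s := (finCongr hcard).trans finProdFinEquiv.symm
  let Θ : (Fin n → F) ≃ₗ[F] (Fin n → F) := Θ₀.trans (reidx e)
  have hΘ : ∀ v k, Θ v k = b.repr (ψ v (e k).2) (e k).1 := fun v k => rfl
  have key : ∀ x : X, kronLM e (glOfEquiv Θ) (rhoM X U b x) =
      ((x : GL (Fin n) F) : Matrix (Fin n) (Fin n) F) := by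
    intro x
    apply kronLM_eq_of_intertwine
    intro v
    funext k
    have hsm := ψ.map_smul (aX X x) v
    rw [reindex_kron_mulVec, hΘ, ← aX_smul, hsm, Pi.smul_apply, ← rhoM_mulVec_repr]
    congr 2
    funext i'
    rw [hΘ, Equiv.apply_symm_apply]
  refine ⟨d, s, e, glOfEquiv Θ, (rhoM X U b).toHomUnits.range, irr_range X U b hU, ?_⟩
  ext g
  constructor
  · intro hg
    refine ⟨(rhoM X U b).toHomUnits ⟨g, hg⟩, ⟨⟨g, hg⟩, rfl⟩, ?_⟩
    apply Units.ext
    rw [kronL_val, MonoidHom.coe_toHomUnits]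
    exact key ⟨g, hg⟩
  · rintro ⟨y, ⟨x, rfl⟩, rfl⟩
    have : kronL e (glOfEquiv Θ) ((rhoM X U b).toHomUnits x) = (x : GL (Fin n) F) := by
      apply Units.ext
      rw [kronL_val, MonoidHom.coe_toHomUnits]
      exact key x
    rw [this]
    exact x.2

end Cfsg.Agent.Lib.Helper23.S5630I4CL
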