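import Mathlib
import Cfsg.Agent.Lib.Helper28.USpDefs
import Cfsg.Agent.Lib.Helper3.S5700FOIII

/-!
FO-START of helper28's S5665 farm-out: an element `g` with `g⁻¹ θ g ∉ K = F[θ]` moves the `K`-line of
some isotropic vector to a subspace which is not `θ`-invariant.

`scalar_of_Kl_stable` is the abstract core of helper3's S5700 FO-III: a matrix `D` mapping every
nonzero singular vector `x` into its `K`-line `⟨x, δ x⟩` is of the form `a + b δ`.
-/

set_option autoImplicit false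
set_option linter.unusedSectionVars false
set_option linter.unusedVariables false

namespace Cfsg.Agent.Lib.Helper23.S5665START

open Matrix Module QuadraticMap Cfsg.Agent.Lib.Helper6 Cfsg.Agent.Lib.Helper13
open Cfsg.Agent.Lib.Helper13.OND
open Cfsg.Agent.Lib.Helper28.SpSubf Cfsg.Agent.Lib.Helper28.USp
open Cfsg.Agent.Lib.Helper3.S5700FOIII

universe u

section general
variable {F : Type u} [Field F] [Fintype F] {ι : Type} [Fintype ι] [DecidableEq ι]
variable {Q : QuadraticForm F (ι → F)} {δ : Matrix ι ι F} {τ ν : F}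

/-- a matrix mapping every nonzero singular vector into its `K`-line lies in `K = F[δ]` -/
theorem scalar_of_Kl_stable (hU : UStr Q δ τ ν) (hQ : (polarBilin Q).Nondegenerate)
    (hn : 14 ≤ Fintype.card ι) (D : Matrix ι ι F)
    (hP : ∀ x : ι → F, Q x = 0 → x ≠ 0 → ∃ a b : F, D *ᵥ x = a • x + b • (δ *ᵥ x)) :
    ∃ a b : F, D = a • (1 : Matrix ι ι F) + b • δ := by
  classical
  -- step 1
  have step1 : ∀ (x y : ι → F), Q x = 0 → Q y = 0 → x ≠ 0 → polar (⇑Q) x y = 0 → y ∉ Kl δ x →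
      ∀ a b c d : F, D *ᵥ x = a • x + b • (δ *ᵥ x) → D *ᵥ y = c • y + d • (δ *ᵥ y) →
      a = c ∧ b = d := by
    intro x y hx hy hx0 hxy hyK a b c d hPx hPy
    have hs : Q (x + y) = 0 := by rw [Q_add, hx, hy, hxy]; ring
    have hs0 : x + y ≠ 0 := by
      intro h0
      apply hyK
      have : y = (-1 : F) • x + (0 : F) • (δ *ᵥ x) := by
        rw [zero_smul, add_zero, neg_one_smul]
        exact (neg_eq_of_add_eq_zero_right h0).symm
      exact mem_Kl.mpr ⟨-1, 0, this⟩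
    obtain ⟨e, f, hPs⟩ := hP (x + y) hs hs0
    rw [mulVec_add, hPx, hPy, mulVec_add] at hPs
    have h0 : (e - a) • x + (f - b) • (δ *ᵥ x) + ((e - c) • y + (f - d) • (δ *ᵥ y)) = 0 := by
      have : (e - a) • x + (f - b) • (δ *ᵥ x) + ((e - c) • y + (f - d) • (δ *ᵥ y)) =
          (e • (x + y) + f • (δ *ᵥ x + δ *ᵥ y)) -
            (a • x + b • (δ *ᵥ x) + (c • y + d • (δ *ᵥ y))) := by
        module
      rw [this, hPs, sub_self]
    obtain ⟨h1, h2, h3, h4⟩ := indep4 hU hx0 hyK h0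
    constructor
    · rw [← sub_eq_zero.mp h1, sub_eq_zero.mp h3]
    · rw [← sub_eq_zero.mp h2, sub_eq_zero.mp h4]
  -- step 2
  have step2 : ∀ (x y : ι → F), Q x = 0 → Q y = 0 → x ≠ 0 → y ≠ 0 →
      ∀ a b c d : F, D *ᵥ x = a • x + b • (δ *ᵥ x) → D *ᵥ y = c • y + d • (δ *ᵥ y) →
      a = c ∧ b = d := by
    intro x y hx hy hx0 hy0 a b c d hPx hPy
    obtain ⟨T, hTdef⟩ : ∃ T : Submodule F (ι → F),
        T = Submodule.span F (({x, δ *ᵥ x, y, δ *ᵥ y} : Finset (ι → F)) : Set (ι → F)) := ⟨_, rfl⟩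
    have hT4 : finrank F T ≤ 4 := by
      rw [hTdef]
      exact le_trans (finrank_span_finset_le_card _) Finset.card_le_four
    have hxT : Kl δ x ≤ T := by
      rw [hTdef]
      unfold Kl
      apply Submodule.span_mono
      intro v hv
      simp only [Set.mem_insert_iff, Set.mem_singleton_iff] at hv
      simp only [Finset.coe_insert, Finset.coe_singleton, Set.mem_insert_iff,
        Set.mem_singleton_iff]
      tauto
    have hyT : Kl δ y ≤ T := by
      rw [hTdef]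
      unfold Kl
      apply Submodule.span_mono
      intro v hv
      simp only [Set.mem_insert_iff, Set.mem_singleton_iff] at hv
      simp only [Finset.coe_insert, Finset.coe_singleton, Set.mem_insert_iff,
        Set.mem_singleton_iff]
      tauto
    obtain ⟨z, hz0, hQz, hxz, hyz, hzT⟩ := exists_singular_avoid (Q := Q) hn x y T hT4
    obtain ⟨e, f, hPz⟩ := hP z hQz hz0
    have h1 := step1 x z hx hQz hx0 hxz (fun h => hzT (hxT h)) a b e f hPx hPz
    have h2 := step1 y z hy hQz hy0 hyz (fun h => hzT (hyT h)) c d e f hPy hPz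
    exact ⟨h1.1.trans h2.1.symm, h1.2.trans h2.2.symm⟩
  -- a base point
  have h3 : 3 ≤ finrank F (⊤ : Submodule F (ι → F)) := by rw [finrank_top_eq]; omega
  obtain ⟨x₀, -, hx₀0, hx₀⟩ := exists_singular_sub Q ⊤ h3
  obtain ⟨a, b, hab⟩ := hP x₀ hx₀ hx₀0
  refine ⟨a, b, ?_⟩
  apply matrix_ext_mulVec
  intro v
  rw [add_mulVec, smul_mulVec, smul_mulVec, one_mulVec]
  -- the subspace where the identity holds
  let Dsub : Submodule F (ι → F) :=
    { carrier := {v | D *ᵥ v = a • v + b • (δ *ᵥ v)}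
      add_mem' := by
        intro u w hu hw
        simp only [Set.mem_ofPred_eq] at hu hw ⊢
        rw [mulVec_add, mulVec_add, hu, hw]
        module
      zero_mem' := by
        simp only [Set.mem_ofPred_eq]
        rw [mulVec_zero, mulVec_zero]
        simp
      smul_mem' := by
        intro c u hu
        simp only [Set.mem_ofPred_eq] at hu ⊢
        rw [mulVec_smul, mulVec_smul, hu]
        module }
  have htop : (⊤ : Submodule F (ι → F)) ≤ Dsub := by
    by_contra hnot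
    obtain ⟨z, -, hQz, hzD⟩ := exists_singular_not_mem Q ⊤ Dsub (ndOn_top hQ) h3 hnot
    apply hzD
    by_cases hz0 : z = 0
    · rw [hz0]; exact Dsub.zero_mem
    obtain ⟨c, d, hcd⟩ := hP z hQz hz0
    obtain ⟨h1, h2⟩ := step2 x₀ z hx₀ hQz hx₀0 hz0 a b c d hab hcd
    show D *ᵥ z = a • z + b • (δ *ᵥ z)
    rw [h1, h2]
    exact hcd
  exact htop (Submodule.mem_top : v ∈ ⊤)

end general

section sp
variable {F : Type u} [Field F] [Fintype F] {m : ℕ}
variable {θ : Matrix (Fin m ⊕ Fin m) (Fin m ⊕ Fin m) F} {d : F}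

local notation "ff" => Cfsg.sympForm m F
local notation "ι" => (Fin m ⊕ Fin m)

/-- if `a = g y` lies in `span {b, θ a, θ b}` (`b = g θ y`) then `g⁻¹ θ g y` lies in the `K`-line of `y` -/
theorem conj_mem_Kl (hU : UStrSp θ d) (g : GL ι F) (y : ι → F) (hy0 : y ≠ 0)
    (h : (g : Matrix ι ι F) *ᵥ y ∈ Submodule.span F
        ({(g : Matrix ι ι F) *ᵥ (θ *ᵥ y), θ *ᵥ ((g : Matrix ι ι F) *ᵥ y),
          θ *ᵥ ((g : Matrix ι ι F) *ᵥ (θ *ᵥ y))} : Set (ι → F))) :
    ∃ p q : F, (((g⁻¹ : GL ι F) : Matrix ι ι F) * θ * (g : Matrix ι ι F)) *ᵥ y =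
      p • y + q • (θ *ᵥ y) := by
  have hd := hU.d_ne
  obtain ⟨β, γ, ε, habc⟩ := Submodule.mem_span_triple.mp h
  obtain ⟨a, ha⟩ : ∃ a, a = (g : Matrix ι ι F) *ᵥ y := ⟨_, rfl⟩
  obtain ⟨b, hb⟩ : ∃ b, b = (g : Matrix ι ι F) *ᵥ (θ *ᵥ y) := ⟨_, rfl⟩
  rw [← ha, ← hb] at habc
  -- `θ a`
  have hθa : θ *ᵥ a = β • (θ *ᵥ b) + (γ * d) • a + (ε * d) • b := by
    conv_lhs => rw [← habc]
    rw [mulVec_add, mulVec_add, mulVec_smul, mulVec_smul, mulVec_smul, hU.tt, hU.tt]
    module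
  have hN : (1 : F) * 1 - d * (γ * γ) ≠ 0 := hU.norm_ne (Or.inl one_ne_zero)
  obtain ⟨N, hNdef⟩ : ∃ N, N = (1 : F) * 1 - d * (γ * γ) := ⟨_, rfl⟩
  rw [← hNdef] at hN
  have e1 : a = β • b + γ • (β • (θ *ᵥ b) + (γ * d) • a + (ε * d) • b) + ε • (θ *ᵥ b) := by
    rw [← hθa]; exact habc.symm
  have h1 : N • a = (β + γ * ε * d) • b + (γ * β + ε) • (θ *ᵥ b) := by
    calc N • a = a - (γ * (γ * d)) • a := by rw [hNdef]; module
      _ = (β • b + γ • (β • (θ *ᵥ b) + (γ * d) • a + (ε * d) • b) + ε • (θ *ᵥ b)) -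
            (γ * (γ * d)) • a := by rw [← e1]
      _ = (β + γ * ε * d) • b + (γ * β + ε) • (θ *ᵥ b) := by module
  obtain ⟨p, hp⟩ : ∃ p, p = (β + γ * ε * d) / N := ⟨_, rfl⟩
  obtain ⟨q, hq⟩ : ∃ q, q = (γ * β + ε) / N := ⟨_, rfl⟩
  have h2 : a = p • b + q • (θ *ᵥ b) := by
    have : a = N⁻¹ • (N • a) := by rw [smul_smul, inv_mul_cancel₀ hN, one_smul]
    rw [this, h1, hp, hq, smul_add, smul_smul, smul_smul]
    congr 2 <;> field_simp
  have hq0 : q ≠ 0 := by
    intro h0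
    rw [h0, zero_smul, add_zero, ha, hb, ← mulVec_smul] at h2
    have h3 : y = p • (θ *ᵥ y) := by
      have := congrArg (fun v => ((g⁻¹ : GL ι F) : Matrix ι ι F) *ᵥ v) h2
      simp only [inv_mulVec_mulVec] at this
      exact this
    have h4 : (1 : F) • y + (-p) • (θ *ᵥ y) = 0 := by
      conv_lhs => rw [one_smul]; arg 1; rw [h3]
      module
    exact one_ne_zero (hU.free hy0 h4).1
  -- `θ b` and `θ a` in terms of `a`, `b`
  have hθb : θ *ᵥ b = q⁻¹ • a - (q⁻¹ * p) • b := by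
    rw [h2, smul_add, smul_smul, smul_smul, inv_mul_cancel₀ hq0, one_smul]
    module
  have hθa2 : θ *ᵥ a = (p * q⁻¹) • a + (q * d - p * q⁻¹ * p) • b := by
    conv_lhs => rw [h2]
    rw [mulVec_add, mulVec_smul, mulVec_smul, hU.tt, hθb]
    module
  refine ⟨p * q⁻¹, q * d - p * q⁻¹ * p, ?_⟩
  rw [← mulVec_mulVec, ← mulVec_mulVec, ← ha, hθa2, ha, hb, ← mulVec_smul, ← mulVec_smul,
    ← mulVec_add, inv_mulVec_mulVec]

/-- FO-START -/
theorem exists_start (hU : UStrSp θ d) (hm : 7 ≤ m) (g : GL ι F)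
    (hgK : ¬ ∃ a b : F, ((g⁻¹ : GL ι F) : Matrix ι ι F) * θ * (g : Matrix ι ι F) =
      a • (1 : Matrix ι ι F) + b • θ) :
    ∃ y : ι → F, y ≠ 0 ∧ Nq θ y = 0 ∧
      (g : Matrix ι ι F) *ᵥ y ∉ Submodule.span F
        ({(g : Matrix ι ι F) *ᵥ (θ *ᵥ y), θ *ᵥ ((g : Matrix ι ι F) *ᵥ y),
          θ *ᵥ ((g : Matrix ι ι F) *ᵥ (θ *ᵥ y))} : Set (ι → F)) := by
  by_contra hcon
  push Not at hcon
  apply hgK
  have hn : 14 ≤ Fintype.card ι := by rw [card_iota]; omega
  apply scalar_of_Kl_stable hU.ustr hU.NQ_nondeg hn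
  intro x hx hx0
  rw [NQ_apply] at hx
  exact conj_mem_Kl hU g x hx0 (hcon x hx0 hx)

end sp

end Cfsg.Agent.Lib.Helper23.S5665START
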