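import Mathlib
import Cfsg.Agent.Lib.Helper28.TensUDefs
import Cfsg.Agent.Lib.Helper26.S5670T3cDefs
import Cfsg.Agent.Lib.Helper28.S5670FOHS
import Cfsg.Agent.Lib.Helper25.S5670FOROOT
import Cfsg.Agent.Lib.Helper24.S5670FOISO
import Cfsg.Agent.Lib.Helper22.S5670FOTRANS

/-!
# S5670 FO-T3c, pieces T3c-C, T3c-D(a), T3c-D(b), T3c-G (helper23; sub-architect helper26)

* `XS_conj`  : `XS` is closed under `S ↦ A S A^†` (`A` unitary of determinant one): conjugate by `A ⊗ 1`.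
* `XS_smul`  : `XS` is closed under scaling by the fixed field: conjugate by `1 ⊗ B`, `B ∈ SU_b`, `B k₀ = λ k₀`.
* `XS_scalar`: the trace-zero scalars come from the L-root elements.
* `isZ_rk1`  : the radical element of `c • u u^†` is the unitary transvection with centre `u ⊗ k₀`.
-/

set_option autoImplicit false
set_option linter.unusedSectionVars false
set_option linter.unusedVariables false

namespace Cfsg.Agent.Lib.Helper23.S5670T3cCDG

open Matrix Module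
open Cfsg.Agent.Lib.Helper16.Tens Cfsg.Agent.Lib.Helper10.TensFund Cfsg.Agent.Lib.Helper28.TensU
  Cfsg.Agent.Lib.Helper26.T3c
open Cfsg.Agent.Lib.Helper28.S5670HS
open scoped Kronecker

variable {F : Type*} [Field F] [Fintype F] {a b : ℕ} {q : ℕ}
variable {M : Subgroup (GL (Fin a × Fin b) F)}

local notation "K" => Cfsg.Geo.kroneckerSubgroup a b F
local notation "V" => (Fin a × Fin b → F)

/-! ## general lemmas -/

/-- the adjoint of a matrix for the standard hermitian form is the conjugate transpose -/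
theorem hs_mulVec_left (hF : Fintype.card F = q ^ 2) (A : Matrix (Fin a) (Fin a) F) (x y : Fin a → F) :
    hs q (A *ᵥ x) y = hs q x (ct q A *ᵥ y) := by
  unfold hs
  simp only [Matrix.mulVec, dotProduct, ct_apply]
  have h : ∀ j, (∑ i, A i j ^ q * y i) ^ q = ∑ i, A i j * y i ^ q := by
    intro j
    rw [sum_pow_q hF]
    apply Finset.sum_congr rfl
    intro i _
    rw [mul_pow, pow_q_pow_q hF]
  simp only [h, Finset.sum_mul, Finset.mul_sum]
  rw [Finset.sum_comm]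
  apply Finset.sum_congr rfl
  intro j _
  apply Finset.sum_congr rfl
  intro i _
  ring

theorem hs_mulVec_right (hF : Fintype.card F = q ^ 2) (A : Matrix (Fin a) (Fin a) F) (x y : Fin a → F) :
    hs q x (A *ᵥ y) = hs q (ct q A *ᵥ x) y := by
  rw [hs_conj hF (A *ᵥ y) x, hs_mulVec_left hF, ← hs_conj hF]

/-- the form on `V` column by column -/
theorem hs_eq_sum_col (x y : V) :
    hs q x y = ∑ j, hs q (fun i => x (i, j)) (fun i => y (i, j)) := by
  unfold hs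
  rw [Fintype.sum_prod_type, Finset.sum_comm]

theorem kron_one_mulVec_apply (A : Matrix (Fin a) (Fin a) F) (x : V) (i : Fin a) (j : Fin b) :
    ((A ⊗ₖ (1 : Matrix (Fin b) (Fin b) F)) *ᵥ x) (i, j) = (A *ᵥ fun i' => x (i', j)) i := by
  simp only [Matrix.mulVec, dotProduct, Fintype.sum_prod_type, Matrix.kroneckerMap_apply, Matrix.one_apply]
  apply Finset.sum_congr rfl
  intro i' _
  rw [Finset.sum_eq_single j]
  · simp
  · intro j' _ hj'
    simp [Ne.symm hj']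
  · simp

theorem one_kron_mulVec_apply (B : Matrix (Fin b) (Fin b) F) (x : V) (i : Fin a) (j : Fin b) :
    (((1 : Matrix (Fin a) (Fin a) F) ⊗ₖ B) *ᵥ x) (i, j) = (B *ᵥ fun j' => x (i, j')) j := by
  simp only [Matrix.mulVec, dotProduct, Fintype.sum_prod_type, Matrix.kroneckerMap_apply, Matrix.one_apply]
  rw [Finset.sum_eq_single i]
  · simp
  · intro i' _ hi'
    simp [Ne.symm hi']
  · simp

theorem ctr_kron_one (ψ : Fin b → F) (A : Matrix (Fin a) (Fin a) F) (v : V) :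
    ctr ψ ((A ⊗ₖ (1 : Matrix (Fin b) (Fin b) F)) *ᵥ v) = A *ᵥ ctr ψ v := by
  funext i
  rw [ctr_apply]
  have h : ∀ j, ((A ⊗ₖ (1 : Matrix (Fin b) (Fin b) F)) *ᵥ v) (i, j) = ∑ i', A i i' * v (i', j) := by
    intro j
    rw [kron_one_mulVec_apply]
    rfl
  simp only [h]
  simp only [Matrix.mulVec, dotProduct, ctr_apply, Finset.sum_mul, Finset.mul_sum]
  rw [Finset.sum_comm]
  apply Finset.sum_congr rfl
  intro i' _
  apply Finset.sum_congr rfl
  intro j _
  ring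

theorem ctr_cj_apply (k : Fin b → F) (v : V) (i : Fin a) :
    ctr (cj q k) v i = hs q (fun j => v (i, j)) k := rfl

/-! ## T3c-G -/

theorem rk1_mulVec (u x : Fin a → F) : rk1 q u *ᵥ x = hs q x u • u := by
  funext i
  simp only [Matrix.mulVec, dotProduct, rk1_apply, Pi.smul_apply, smul_eq_mul, hs, Finset.sum_mul]
  apply Finset.sum_congr rfl
  intro j _
  ring

/-- T3c-G -/
theorem isZ_rk1 (g : GL (Fin a × Fin b) F) (k₀ : Fin b → F) (u : Fin a → F) (c : F)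
    (hg : IsZ q k₀ (c • rk1 q u) g) :
    ∀ v : V, act g v = v + (c * hs q v (pur u k₀)) • pur u k₀ := by
  intro v
  rw [hg v, Matrix.smul_mulVec, rk1_mulVec, smul_smul, pur_smul_left, hs_pur_right]

/-! ## T3c-D (b) -/

theorem skewM_smul_one (c : F) (hc : c + c ^ q = 0) : SkewM q (c • (1 : Matrix (Fin a) (Fin a) F)) := by
  intro x y
  rw [Matrix.smul_mulVec, Matrix.smul_mulVec, Matrix.one_mulVec, Matrix.one_mulVec, hs_smul_left,
    hs_smul_right, ← add_mul, hc, zero_mul]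

/-- T3c-D (b) : the trace-zero scalars come from the L-root elements of `N0` -/
theorem XS_scalar (hF : Fintype.card F = q ^ 2) (hM : OverU q M) (k₀ : Fin b → F)
    (hk : hs q k₀ k₀ = 0) (c : F) (hc : c + c ^ q = 0) :
    c • (1 : Matrix (Fin a) (Fin a) F) ∈ XS q M k₀ := by
  refine ⟨skewM_smul_one c hc, rL q k₀ c hk, ?_, ?_⟩
  · exact hM.kron_mem _ (rL_mem_kron q k₀ c hk)
      (Cfsg.Agent.Lib.Helper25.S5670ROOT.rL_mem_UG hF k₀ c hk hc) (rL_mem_SL q k₀ c hk)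
  · intro v
    rw [act_rL, Matrix.smul_mulVec, Matrix.one_mulVec, pur_smul_left]

/-! ## T3c-C -/

theorem skewM_conj (hF : Fintype.card F = q ^ 2) (A S : Matrix (Fin a) (Fin a) F) (hS : SkewM q S) :
    SkewM q (A * S * ct q A) := by
  intro x y
  rw [← Matrix.mulVec_mulVec, ← Matrix.mulVec_mulVec, ← Matrix.mulVec_mulVec, ← Matrix.mulVec_mulVec,
    hs_mulVec_left hF A, hs_mulVec_right hF A]
  exact hS _ _

/-- `A ⊗ 1` is unitary when `A` is -/
theorem hs_kron_one (hF : Fintype.card F = q ^ 2) (A : Matrix (Fin a) (Fin a) F) (hA : ct q A * A = 1) (x y : V) :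
    hs q ((A ⊗ₖ (1 : Matrix (Fin b) (Fin b) F)) *ᵥ x) ((A ⊗ₖ (1 : Matrix (Fin b) (Fin b) F)) *ᵥ y) = hs q x y := by
  rw [hs_eq_sum_col, hs_eq_sum_col]
  apply Finset.sum_congr rfl
  intro j _
  have h1 : (fun i => ((A ⊗ₖ (1 : Matrix (Fin b) (Fin b) F)) *ᵥ x) (i, j)) = A *ᵥ fun i' => x (i', j) := by
    funext i; exact kron_one_mulVec_apply A x i j
  have h2 : (fun i => ((A ⊗ₖ (1 : Matrix (Fin b) (Fin b) F)) *ᵥ y) (i, j)) = A *ᵥ fun i' => y (i', j) := by
    funext i; exact kron_one_mulVec_apply A y i j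
  rw [h1, h2, hs_mulVec_left hF, Matrix.mulVec_mulVec, hA, Matrix.one_mulVec]

/-- T3c-C -/
theorem XS_conj (hF : Fintype.card F = q ^ 2) (hM : OverU q M) (k₀ : Fin b → F)
    (A : Matrix (Fin a) (Fin a) F) (hA : A * ct q A = 1) (hdet : A.det = 1)
    {S : Matrix (Fin a) (Fin a) F} (hS : S ∈ XS q M k₀) : A * S * ct q A ∈ XS q M k₀ := by
  obtain ⟨hSk, g, hgM, hgZ⟩ := hS
  have hA' : ct q A * A = 1 := mul_eq_one_comm.1 hA
  refine ⟨skewM_conj hF A S hSk, ?_⟩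
  -- the element `A ⊗ 1`
  obtain ⟨n, hn⟩ : ∃ n : GL (Fin a × Fin b) F,
      (n : Matrix (Fin a × Fin b) (Fin a × Fin b) F) = A ⊗ₖ (1 : Matrix (Fin b) (Fin b) F) ∧
      ((n⁻¹ : GL (Fin a × Fin b) F) : Matrix (Fin a × Fin b) (Fin a × Fin b) F) =
        ct q A ⊗ₖ (1 : Matrix (Fin b) (Fin b) F) := by
    refine ⟨⟨A ⊗ₖ (1 : Matrix (Fin b) (Fin b) F), ct q A ⊗ₖ (1 : Matrix (Fin b) (Fin b) F), ?_, ?_⟩, rfl, rfl⟩
    · rw [← Matrix.mul_kronecker_mul, hA, one_mul, Matrix.one_kronecker_one]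
    · rw [← Matrix.mul_kronecker_mul, hA', one_mul, Matrix.one_kronecker_one]
  obtain ⟨hnv, hniv⟩ := hn
  have hnK : n ∈ K := by
    rw [mem_kron_iff]
    exact ⟨⟨A, ct q A, hA, hA'⟩, 1, by rw [hnv]; rfl⟩
  have hnU : n ∈ UG (Fin a × Fin b) F q := by
    rw [mem_UG_iff]
    intro x y
    rw [hnv]
    exact hs_kron_one hF A hA' x y
  have hnS : n ∈ Cfsg.Geo.specialLinear (Fin a × Fin b) F := by
    rw [mem_SL_iff, hnv, Matrix.det_kronecker, hdet, Matrix.det_one, one_pow, one_pow, one_mul]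
  have hnM : n ∈ M := hM.kron_mem n hnK hnU hnS
  refine ⟨n * g * n⁻¹, M.mul_mem (M.mul_mem hnM hgM) (M.inv_mem hnM), ?_⟩
  intro v
  rw [act_mul, act_mul, hgZ, map_add, act_act_inv, act_apply n, hnv, kron_mulVec_pur, Matrix.one_mulVec,
    act_apply n⁻¹, hniv, ctr_kron_one, Matrix.mulVec_mulVec, Matrix.mulVec_mulVec]

/-! ## T3c-D (a) -/

theorem skewM_smul (c : F) (hc : c ^ q = c) (S : Matrix (Fin a) (Fin a) F) (hS : SkewM q S) :
    SkewM q (c • S) := by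
  intro x y
  rw [Matrix.smul_mulVec, Matrix.smul_mulVec, hs_smul_left, hs_smul_right, hc, ← mul_add, hS, mul_zero]

theorem XS_zero' (hF : Fintype.card F = q ^ 2) (k₀ : Fin b → F) :
    (0 : Matrix (Fin a) (Fin a) F) ∈ XS q M k₀ := by
  refine ⟨?_, 1, M.one_mem, ?_⟩
  · intro x y
    rw [Matrix.zero_mulVec, Matrix.zero_mulVec, hs_zero_left, hs_zero_right hF, add_zero]
  · intro v
    rw [act_one, Matrix.zero_mulVec, pur_zero_left, add_zero]

open Cfsg.Agent.Lib.Helper13.TNM Cfsg.Agent.Lib.Helper6 Cfsg.Agent.Lib.Helper6.SUG Cfsg.Agent.Lib.Helper13 in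
/-- a special unitary matrix scaling the isotropic vector `k₀` by `lam` -/
theorem exists_su_smul (hF : Fintype.card F = q ^ 2) (hb : 3 ≤ b) (k₀ : Fin b → F) (hk0 : k₀ ≠ 0)
    (hk : hs q k₀ k₀ = 0) (lam : F) (hlam : lam ≠ 0) :
    ∃ B : GL (Fin b) F, B ∈ Cfsg.GU b F q ⊓ Cfsg.Geo.specialLinear (Fin b) F ∧
      (B : Matrix (Fin b) (Fin b) F) *ᵥ k₀ = lam • k₀ := by
  classical
  have hk' : hs q (lam • k₀) (lam • k₀) = 0 := by
    rw [hs_smul_left, hs_smul_right, hk, mul_zero, mul_zero]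
  obtain ⟨t, -, ht⟩ := rel_iso hF hb k₀ (lam • k₀) hk0 (smul_ne_zero hlam hk0) hk hk'
  refine ⟨suGL b F q t, suGL_mem t, ?_⟩
  rw [suGL_mulVec, ht]

open Cfsg.Agent.Lib.Helper13.TNM in
/-- T3c-D (a) -/
theorem XS_smul (hF : Fintype.card F = q ^ 2) (hb : 3 ≤ b) (hM : OverU q M) (k₀ : Fin b → F)
    (hk0 : k₀ ≠ 0) (hk : hs q k₀ k₀ = 0) (c : F) (hc : c ^ q = c)
    {S : Matrix (Fin a) (Fin a) F} (hS : S ∈ XS q M k₀) : c • S ∈ XS q M k₀ := by
  by_cases hc0 : c = 0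
  · rw [hc0, zero_smul]
    exact XS_zero' hF k₀
  obtain ⟨hSk, g, hgM, hgZ⟩ := hS
  refine ⟨skewM_smul c hc S hSk, ?_⟩
  obtain ⟨lam, hlam⟩ := Cfsg.Agent.Lib.Helper24.S5670ISO.exists_norm_eq hF c hc
  have hlam0 : lam ≠ 0 := by
    rintro rfl
    rw [zero_pow (by omega)] at hlam
    exact hc0 hlam.symm
  obtain ⟨B, hBmem, hBk⟩ := exists_su_smul hF hb k₀ hk0 hk lam hlam0
  obtain ⟨hnU, hnS⟩ := Cfsg.Agent.Lib.Helper22.S5670TRANS.one_kron_mem (a := a) hF B hBmem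
  have hnM : kronGL (1 : GL (Fin a) F) B ∈ M := hM.kron_mem _ (kronGL_mem 1 B) hnU hnS
  have hBU : ∀ x y : Fin b → F, hs q ((B : Matrix (Fin b) (Fin b) F) *ᵥ x) ((B : Matrix (Fin b) (Fin b) F) *ᵥ y) =
      hs q x y := fun x y => hBmem.1 x y
  refine ⟨kronGL 1 B * g * (kronGL 1 B)⁻¹, M.mul_mem (M.mul_mem hnM hgM) (M.inv_mem hnM), ?_⟩
  intro v
  have hctr : ctr (cj q k₀) (act (kronGL (1 : GL (Fin a) F) B)⁻¹ v) = lam ^ q • ctr (cj q k₀) v := by
    funext i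
    rw [ctr_cj_apply, Pi.smul_apply, ctr_cj_apply, smul_eq_mul, act_apply, kronGL_inv_val, inv_one, Units.val_one]
    have h1 : (fun j => (((1 : Matrix (Fin a) (Fin a) F) ⊗ₖ ((B⁻¹ : GL (Fin b) F) : Matrix (Fin b) (Fin b) F)) *ᵥ v) (i, j)) =
        ((B⁻¹ : GL (Fin b) F) : Matrix (Fin b) (Fin b) F) *ᵥ fun j' => v (i, j') := by
      funext j; exact one_kron_mulVec_apply _ v i j
    rw [h1, ← hBU, Matrix.mulVec_mulVec, ← Units.val_mul, mul_inv_cancel, Units.val_one, Matrix.one_mulVec, hBk,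
      hs_smul_right]
  rw [act_mul, act_mul, hgZ, map_add, act_act_inv, act_apply (kronGL 1 B), kronGL_val, kron_mulVec_pur,
    Units.val_one, Matrix.one_mulVec, hBk, hctr, Matrix.mulVec_smul, pur_smul_left, pur_smul_right, smul_smul,
    Matrix.smul_mulVec, pur_smul_left]
  congr 2
  rw [← hlam, pow_succ]

end Cfsg.Agent.Lib.Helper23.S5670T3cCDG
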