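import Mathlib
import Cfsg.Agent.Lib.Helper9.OExtDefs
import Cfsg.Agent.Lib.Helper10.S5664FOBR2

/-!
# S5701 FO-BR1 (for helper9): construction of the `L`-valued symmetric form `B` with `polar Q = τ ∘ B`
(port of `Helper10.S5664FOBR2.exists_spstr`).
-/

set_option autoImplicit false

namespace Cfsg.Agent.Lib.Helper23.S5701BR1

open Matrix Module QuadraticMap Cfsg.Agent.Lib.Helper7.SpExt Cfsg.Agent.Lib.Helper9.OExt
  Cfsg.Agent.Lib.Helper10.S5664FOBR2

variable {F : Type*} [Field F] {L : Type*} [Field L] [Algebra F L] {ι : Type} [Fintype ι]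
  [DecidableEq ι] {r : ℕ}

theorem exists_ostr (ρ : L →ₐ[F] Matrix ι ι F) (hrk : finrank F L = r) (hr : 0 < r)
    (Q : QuadraticForm F (ι → F)) (h2 : (2 : F) ≠ 0)
    (hnd : ∀ v, v ≠ 0 → ∃ w, polar (⇑Q) v w ≠ 0)
    (hsa : ∀ a v w, polar (⇑Q) (ρ a *ᵥ v) w = polar (⇑Q) v (ρ a *ᵥ w)) :
    ∃ (τ : L →ₗ[F] F) (B : (ι → F) →ₗ[F] (ι → F) →ₗ[F] L), OStr ρ Q τ B := by
  classical
  haveI : Module.Finite F L := Module.finite_of_finrank_pos (by rw [hrk]; exact hr)
  let f : (ι → F) →ₗ[F] (ι → F) →ₗ[F] F := Q.polarBilin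
  have hf : ∀ x y, f x y = polar (⇑Q) x y := fun x y => polarBilin_apply_apply Q x y
  -- a nonzero functional
  obtain ⟨τ, hτ⟩ : ∃ τ : L →ₗ[F] F, τ ≠ 0 := by
    have h1 : 0 < finrank F (Module.Dual F L) := by
      rw [Subspace.dual_finrank_eq, hrk]; exact hr
    exact Module.finrank_pos_iff_exists_ne_zero.mp h1
  have hdim : finrank F L = finrank F (L →ₗ[F] F) :=
    (Subspace.dual_finrank_eq (K := F) (V := L)).symm
  obtain ⟨Θ, hΘ⟩ : ∃ Θ : L ≃ₗ[F] (L →ₗ[F] F), ∀ b, Θ b = theta τ b :=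
    ⟨LinearMap.linearEquivOfInjective (theta τ) (theta_injective τ hτ) hdim, fun b => rfl⟩
  obtain ⟨B, hB⟩ : ∃ B : (ι → F) →ₗ[F] (ι → F) →ₗ[F] L,
      ∀ v w, B v w = Θ.symm (phi ρ f v w) :=
    ⟨(phi ρ f).compr₂ Θ.symm.toLinearMap, fun v w => rfl⟩
  have key : ∀ v w c, τ (c * B v w) = polar (⇑Q) (ρ c *ᵥ v) w := by
    intro v w c
    rw [← theta_apply, ← hΘ, hB, LinearEquiv.apply_symm_apply, phi_apply, hf]
  have hinj : ∀ x y : L, (∀ c, τ (c * x) = τ (c * y)) → x = y := by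
    intro x y h
    apply theta_injective τ hτ
    apply LinearMap.ext
    intro c
    rw [theta_apply, theta_apply, h c]
  refine ⟨τ, B, ⟨h2, hnd, ?_, ?_, ?_⟩⟩
  · intro a v w
    apply hinj
    intro c
    rw [key, ← mul_assoc, key, rho_mul_mulVec]
  · intro v w
    apply hinj
    intro c
    rw [key, key, hsa, polar_comm]
  · intro v w
    have := key v w 1
    rw [one_mul, rho_one_mulVec] at this
    exact this.symm

end Cfsg.Agent.Lib.Helper23.S5701BR1
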