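import Mathlib
import Cfsg.Agent.Lib.Helper9.OExtDefs
import Cfsg.Agent.Lib.Helper7.SpExtBas
import Cfsg.Agent.Lib.Helper26.S5701FOBAS
import Cfsg.Agent.Lib.Helper26.S5701FOSIEG
import Cfsg.Agent.Lib.Helper26.S5701FOGEOa
import Cfsg.Agent.Lib.Helper13.OrthMax

/-!
# S5701 FO-BR2 + FO-BR3 (for helper9): the `L`-Siegel elements commute with `ρ L` and lie in `Ω(Q)`.

`T_{v,w}` is the commutator `[k, T_{v,-w/2}]` where `k` is the `L`-linear isometry `-1` on the hyperbolic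
`L`-plane `⟨v, v₂⟩` and `1` on its perpendicular: `k T_{v,a} k⁻¹ = T_{v,-a}` and
`T_{v,a} T_{v,b} = T_{v,a+b}`.
-/

set_option autoImplicit false

namespace Cfsg.Agent.Lib.Helper23.S5701BR23

open Matrix Module QuadraticMap Cfsg.Agent.Lib.Helper7.SpExt Cfsg.Agent.Lib.Helper9.OExt
  Cfsg.Agent.Lib.Helper26.S5701BAS Cfsg.Agent.Lib.Helper26.S5701SIEG
  Cfsg.Agent.Lib.Helper26.S5701GEO Cfsg.Agent.Lib.Helper13
open scoped commutatorElement

variable {F : Type*} [Field F] {L : Type*} [Field L] [Algebra F L] {ι : Type} [Fintype ι]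
  [DecidableEq ι] {ρ : L →ₐ[F] Matrix ι ι F} {Q : QuadraticForm F (ι → F)} {τ : L →ₗ[F] F}
  {B : (ι → F) →ₗ[F] (ι → F) →ₗ[F] L}

/-- BR2 -/
theorem sieg_normalizes (S : OStr ρ Q τ B) {v w : ι → F} {g : GL ι F}
    (hg : IsSieg ρ B v w g) : ∀ a : L, (g : Matrix ι ι F) * ρ a = ρ a * (g : Matrix ι ι F) := by
  intro a
  apply Matrix.toLin'.injective
  apply LinearMap.ext
  intro x
  rw [Matrix.toLin'_apply, Matrix.toLin'_apply, ← Matrix.mulVec_mulVec, ← Matrix.mulVec_mulVec]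
  change act g (ρ a *ᵥ x) = ρ a *ᵥ act g x
  rw [hg, hg]
  exact siegL_rho S v w a x

/-- the `L`-module structure on column vectors given by `ρ` -/
@[reducible] noncomputable def modL (ρ : L →ₐ[F] Matrix ι ι F) : Module L (ι → F) :=
  Module.compHom (ι → F)
    (((Matrix.toLinAlgEquiv' (R := F) (n := ι)).toAlgHom.comp ρ).toRingHom)

/-- the `L`-linear isometry `v ↦ -v`, `v₂ ↦ -v₂`, identity on `⟨v, v₂⟩^⊥` -/
noncomputable def kL (ρ : L →ₐ[F] Matrix ι ι F) (B : (ι → F) →ₗ[F] (ι → F) →ₗ[F] L)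
    (v v₂ : ι → F) : (ι → F) →ₗ[F] (ι → F) :=
  LinearMap.id - orb ρ v ∘ₗ LinearMap.mulLeft F (2 : L) ∘ₗ B.flip v₂ -
    orb ρ v₂ ∘ₗ LinearMap.mulLeft F (2 : L) ∘ₗ B.flip v

theorem kL_apply (v v₂ x : ι → F) :
    kL ρ B v v₂ x = x - ρ (2 * B x v₂) *ᵥ v - ρ (2 * B x v) *ᵥ v₂ := rfl

theorem B_kL (S : OStr ρ Q τ B) (v v₂ x a : ι → F) :
    B (kL ρ B v v₂ x) a = B x a - 2 * B x v₂ * B v a - 2 * B x v * B v₂ a := by
  rw [kL_apply]
  simp only [map_sub, LinearMap.sub_apply, S.lin]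

theorem B_siegL_gen (S : OStr ρ Q τ B) (v w x c : ι → F) :
    B (siegL ρ B v w x) c =
      B x c + B x w * B v c - B x v * B w c - B w w / 2 * B x v * B v c := by
  rw [siegL_apply]
  simp only [map_add, map_sub, LinearMap.add_apply, LinearMap.sub_apply, S.lin]

theorem kL_kL (S : OStr ρ Q τ B) {v v₂ : ι → F} (hv : B v v = 0) (hv₂ : B v₂ v₂ = 0)
    (h12 : B v v₂ = 1) (x : ι → F) : kL ρ B v v₂ (kL ρ B v v₂ x) = x := by
  have h21 : B v₂ v = 1 := by rw [S.symm, h12]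
  rw [kL_apply v v₂ (kL ρ B v v₂ x), B_kL S, B_kL S, hv, hv₂, h12, h21, kL_apply]
  letI := modL ρ
  have hsm : ∀ (a : L) (y : ι → F), ρ a *ᵥ y = a • y := fun _ _ => rfl
  simp only [hsm]
  module

theorem B_kL_kL (S : OStr ρ Q τ B) {v v₂ : ι → F} (hv : B v v = 0) (hv₂ : B v₂ v₂ = 0)
    (h12 : B v v₂ = 1) (x y : ι → F) : B (kL ρ B v v₂ x) (kL ρ B v v₂ y) = B x y := by
  have h21 : B v₂ v = 1 := by rw [S.symm, h12]
  have e1 : B v (kL ρ B v v₂ y) = - B y v := by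
    rw [S.symm, B_kL S, hv, h21]; ring
  have e2 : B v₂ (kL ρ B v v₂ y) = - B y v₂ := by
    rw [S.symm, B_kL S, hv₂, h12]; ring
  have e3 : B x (kL ρ B v v₂ y) = B x y - 2 * B y v₂ * B x v - 2 * B y v * B x v₂ := by
    rw [S.symm, B_kL S, S.symm y x, S.symm v x, S.symm v₂ x]
  rw [B_kL S, e1, e2, e3]
  ring

theorem kL_siegL_kL (S : OStr ρ Q τ B) {v v₂ : ι → F} (hv : B v v = 0) (hv₂ : B v₂ v₂ = 0)
    (h12 : B v v₂ = 1) {a : ι → F} (hva : B v a = 0) (y : ι → F) :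
    kL ρ B v v₂ (siegL ρ B v a (kL ρ B v v₂ y)) = siegL ρ B v (-a) y := by
  have h21 : B v₂ v = 1 := by rw [S.symm, h12]
  have e1 : B (kL ρ B v v₂ y) v = - B y v := by rw [B_kL S, hv, h21]; ring
  have e2 : B (kL ρ B v v₂ y) a = B y a - 2 * B y v * B v₂ a := by rw [B_kL S, hva]; ring
  have e3 : B (kL ρ B v v₂ y) v₂ = - B y v₂ := by rw [B_kL S, h12, hv₂]; ring
  have f1 : B (siegL ρ B v a (kL ρ B v v₂ y)) v = - B y v := by
    rw [B_siegL_v S hv hva, e1]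
  have f2 : B (siegL ρ B v a (kL ρ B v v₂ y)) v₂ =
      - B y v₂ + (B y a - 2 * B y v * B v₂ a) + B y v * B v₂ a + B a a / 2 * B y v := by
    rw [B_siegL_gen S, e1, e2, e3, h12, S.symm a v₂]; ring
  have g1 : B y (-a) = - B y a := by rw [map_neg]
  have g2 : B (-a) (-a) = B a a := by rw [map_neg, map_neg, LinearMap.neg_apply, neg_neg]
  rw [kL_apply v v₂ (siegL ρ B v a (kL ρ B v v₂ y)), f1, f2, siegL_apply, e1, e2, kL_apply,
    siegL_apply, g1, g2]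
  generalize B a a / 2 = h
  letI := modL ρ
  have hsm : ∀ (a : L) (y : ι → F), ρ a *ᵥ y = a • y := fun _ _ => rfl
  simp only [hsm]
  module

theorem siegL_add (S : OStr ρ Q τ B) {v a b : ι → F} (hv : B v v = 0) (hva : B v a = 0)
    (hvb : B v b = 0) (x : ι → F) :
    siegL ρ B v a (siegL ρ B v b x) = siegL ρ B v (a + b) x := by
  have h2 := two_ne_zero_L S
  have f1 : B (siegL ρ B v b x) v = B x v := B_siegL_v S hv hvb x
  have f2 : B (siegL ρ B v b x) a = B x a - B x v * B a b := by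
    rw [B_siegL_gen S, hva, S.symm b a]; ring
  have g1 : B x (a + b) = B x a + B x b := by rw [map_add]
  have g2 : B (a + b) (a + b) / 2 = B a a / 2 + B a b + B b b / 2 := by
    rw [map_add, map_add, LinearMap.add_apply, LinearMap.add_apply, S.symm b a]
    field_simp
    ring
  rw [siegL_apply v a, f1, f2, siegL_apply v b, siegL_apply v (a + b), g1, g2]
  generalize B a a / 2 = ha
  generalize B b b / 2 = hb
  letI := modL ρ
  have hsm : ∀ (a : L) (y : ι → F), ρ a *ᵥ y = a • y := fun _ _ => rfl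
  simp only [hsm]
  module

/-- BR3 -/
theorem sieg_mem_omega (S : OStr ρ Q τ B) {v w : ι → F} {g : GL ι F} (hv : B v v = 0)
    (hvw : B v w = 0) (hg : IsSieg ρ B v w g) : g ∈ Cfsg.Geo.omegaGL ⇑Q := by
  by_cases hv0 : v = 0
  · have h1 : g = 1 := by
      apply gl_ext
      intro x
      rw [hg x, act_one, hv0]
      simp
    rw [h1]
    exact Subgroup.one_mem _
  · obtain ⟨v₂, hv₂, h12⟩ := exists_partner S ⟨hv0, hv⟩
    obtain ⟨k, hk, hk'⟩ := exists_gl (kL ρ B v v₂) (kL ρ B v v₂) (kL_kL S hv hv₂.2 h12)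
      (kL_kL S hv hv₂.2 h12)
    have hkiso : k ∈ Cfsg.isometryGroup F ⇑Q := by
      intro u _
      change Q (act k u) = Q u
      rw [Q_eq S, Q_eq S u, hk, B_kL_kL S hv hv₂.2 h12]
    -- half of `w`
    obtain ⟨u, huu, hvu⟩ : ∃ u : ι → F, u + u = w ∧ B v u = 0 := by
      refine ⟨(2⁻¹ : F) • w, ?_, ?_⟩
      · rw [← two_smul F, smul_smul, mul_inv_cancel₀ S.two, one_smul]
      · rw [map_smul, hvw, smul_zero]
    have hvu' : B v (-u) = 0 := by rw [map_neg, hvu, neg_zero]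
    obtain ⟨g₂, hg₂, hg₂', -, -, hg₂iso⟩ := exists_sieg S v (-u) hv hvu'
    have hg₂s : ∀ x, act g₂ x = siegL ρ B v (-u) x := fun x => hg₂ x
    have hg₂i : ∀ x, act g₂⁻¹ x = siegL ρ B v u x := by
      intro x
      have := hg₂' x
      rw [neg_neg] at this
      exact this
    have hgs : ∀ x, act g x = siegL ρ B v w x := fun x => hg x
    have hcomm : g = k * g₂ * k⁻¹ * g₂⁻¹ := by
      apply gl_ext
      intro x
      rw [act_mul, act_mul, act_mul, hgs, hg₂i, hk', hg₂s, hk,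
        kL_siegL_kL S hv hv₂.2 h12 hvu', neg_neg, siegL_add S hv hvu hvu, huu]
    rw [mem_omegaGL_iff Q g]
    refine ⟨⁅(⟨k, hkiso⟩ : ↥(Cfsg.isometryGroup F ⇑Q)), ⟨g₂, hg₂iso⟩⁆,
      Subgroup.commutator_mem_commutator (Subgroup.mem_top _) (Subgroup.mem_top _), ?_⟩
    rw [hcomm]
    rfl

end Cfsg.Agent.Lib.Helper23.S5701BR23
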