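import Mathlib
import Cfsg.Agent.Lib.Helper9.OExtDefs
import Cfsg.Agent.Lib.Helper13.OrthParab
import Cfsg.Agent.Lib.Helper15.S5701FOF0

/-!
# S5701 FO-F2 (a) (for helper22 / helper9): the commutator of two `F`-Siegel elements

`[ρ_{v,b}, ρ_{v',c}] = ρ_{v', f(b,c) v}` when `v, v'` are singular, perpendicular, and `b, c ⟂ v, v'`.
-/

set_option autoImplicit false

namespace Cfsg.Agent.Lib.Helper23.S5701F2a

open Matrix Module QuadraticMap Cfsg.Agent.Lib.Helper7.SpExt Cfsg.Agent.Lib.Helper9.OExt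
  Cfsg.Agent.Lib.Helper6 Cfsg.Agent.Lib.Helper13 Cfsg.Agent.Lib.Helper15.S5701F0

variable {F : Type*} [Field F] {ι : Type} [Fintype ι] [DecidableEq ι] {Q : QuadraticForm F (ι → F)}

theorem polar_smul_perp {v' b c v : ι → F} (hvv' : polar (⇑Q) v v' = 0) :
    polar (⇑Q) v' (polar (⇑Q) b c • v) = 0 := by
  rw [polar_smul_right, polar_comm (⇑Q) v' v, hvv', smul_zero]

/-- the commutator identity in the isometry group -/
theorem siegIso_comm {v v' b c : ι → F} (hv : Q v = 0) (hv' : Q v' = 0)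
    (hvv' : polar (⇑Q) v v' = 0) (hvb : polar (⇑Q) v b = 0) (hvc : polar (⇑Q) v c = 0)
    (hv'b : polar (⇑Q) v' b = 0) (hv'c : polar (⇑Q) v' c = 0) :
    siegIso Q v b hv hvb * siegIso Q v' c hv' hv'c * (siegIso Q v b hv hvb)⁻¹ *
        (siegIso Q v' c hv' hv'c)⁻¹ =
      siegIso Q v' (polar (⇑Q) b c • v) hv' (polar_smul_perp hvv') := by
  have hself : polar (⇑Q) v v = 0 := by rw [polar_self, hv, smul_zero]
  have hself' : polar (⇑Q) v' v' = 0 := by rw [polar_self, hv', smul_zero]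
  have hv'v : polar (⇑Q) v' v = 0 := by rw [polar_comm, hvv']
  have hbv : polar (⇑Q) b v = 0 := by rw [polar_comm, hvb]
  have hcv : polar (⇑Q) c v = 0 := by rw [polar_comm, hvc]
  have hbv' : polar (⇑Q) b v' = 0 := by rw [polar_comm, hv'b]
  have hcv' : polar (⇑Q) c v' = 0 := by rw [polar_comm, hv'c]
  rw [siegIso_inv, siegIso_inv]
  apply iso_ext_gact
  intro x
  rw [gact_mul, gact_mul, gact_mul, gact_siegIso Q v' (-c), gact_siegIso Q v (-b),
    gact_siegIso Q v' c, gact_siegIso Q v b, gact_siegIso Q v' (polar (⇑Q) b c • v)]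
  simp only [polar_add_right, polar_add_left, polar_smul_right, polar_smul_left, polar_neg_left,
    polar_neg_right, smul_eq_mul, hself, hself', hvv', hv'v, hvb, hvc, hv'b, hv'c, hbv, hcv, hbv',
    hcv', Cfsg.Agent.Lib.Helper6.Q_smul, hv, hv', QuadraticMap.map_neg, mul_zero, zero_mul,
    add_zero, zero_add, sub_zero, neg_zero]
  have hcb : polar (⇑Q) c b = polar (⇑Q) b c := polar_comm _ _ _
  have hcc : polar (⇑Q) c c = Q c + Q c := by rw [polar_self, two_smul]
  have hbb : polar (⇑Q) b b = Q b + Q b := by rw [polar_self, two_smul]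
  simp only [hcb, hcc, hbb]
  ext i
  simp only [Pi.add_apply, Pi.smul_apply, Pi.neg_apply, smul_eq_mul]
  ring

/-- the commutator of the root elements `ρ_{v,b}`, `ρ_{v',c}` is `ρ_{v', f(b,c) v}` -/
theorem SiegIn.comm {H : Subgroup (GL ι F)} {v v' b c : ι → F} (hv : Q v = 0) (hv' : Q v' = 0)
    (hvv' : polar (⇑Q) v v' = 0) (hvb : polar (⇑Q) v b = 0) (hvc : polar (⇑Q) v c = 0)
    (hv'b : polar (⇑Q) v' b = 0) (hv'c : polar (⇑Q) v' c = 0)
    (h1 : SiegIn Q H v b) (h2 : SiegIn Q H v' c) :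
    SiegIn Q H v' (polar (⇑Q) b c • v) := by
  rw [siegIn_iff hv' (polar_smul_perp hvv'), ← siegIso_comm hv hv' hvv' hvb hvc hv'b hv'c]
  rw [siegIn_iff hv hvb] at h1
  rw [siegIn_iff hv' hv'c] at h2
  exact H.mul_mem (H.mul_mem (H.mul_mem h1 h2) (H.inv_mem h1)) (H.inv_mem h2)

end Cfsg.Agent.Lib.Helper23.S5701F2a
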