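import Mathlib
import Cfsg.Prelude.Def_GeometricClasses
import Cfsg.Agent.Lib.Helper9.SUCorMain

/-!
# S5802 (maximal subgroups of `SU_6(q)`): the assembly on helper9's `reduceU`  (helper23)

`final6` : verbatim conclusion of the frozen row from the hub `HubU 6 q F`, the generic pieces `SUPieces 6 q F` and the two
`q = 2` exceptional pieces, taken as hypotheses:

* `XA q F` : the stabiliser in `SU_6(2)` of an orthonormal frame is not maximal (it lies in `6_1.U_4(3).2`);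
* `XB q F` : the normaliser in `SU_6(2)` of an adjoint-closed cubic field lies in a subfield group of symplectic type
  (`3 × L_2(8):3 < 3 × Sp_6(2)`).
-/

set_option autoImplicit false

namespace Cfsg.Agent.Lib.Helper23.S5802Final

open Cfsg Cfsg.Geo Cfsg.Agent.Lib.Helper9.UCor
open scoped MatrixGroups Matrix

variable {F : Type*} [Field F] [Fintype F] {q : ℕ}

/-- X6-A as a hypothesis -/
def XA (q : ℕ) (F : Type*) [Field F] [Fintype F] : Prop :=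
  q = 2 → ∀ D : Fin 6 → Submodule F (Fin 6 → F), IsNondegenerateMDecomposition (hermForm 6 F q) 1 D →
    ∃ K : Subgroup (GL (Fin 6) F),
      decompositionStabilizer D ⊓ (GU 6 F q ⊓ specialLinear (Fin 6) F) < K ∧
      K < GU 6 F q ⊓ specialLinear (Fin 6) F

/-- X6-B as a hypothesis -/
def XB (q : ℕ) (F : Type*) [Field F] [Fintype F] : Prop :=
  q = 2 → ∀ K : Subalgebra F (Matrix (Fin 6) (Fin 6) F), IsFieldSubalgebra 3 K →
    IsAdjointClosedFor (hermForm 6 F q) K →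
    ∃ (F₀ : Subfield F) (P : GL (Fin 6) F) (ζ : F), Fintype.card F = Nat.card F₀ ^ 2 ∧ ζ ≠ 0 ∧ ζ + ζ ^ q = 0 ∧
      IsFormRationalStructure (hermForm 6 F q) F₀ ζ P ∧
      (∀ u : Fin 6 → F, (∀ i, u i ∈ F₀) →
        hermForm 6 F q ((P : Matrix (Fin 6) (Fin 6) F) *ᵥ u) ((P : Matrix (Fin 6) (Fin 6) F) *ᵥ u) = 0) ∧
      subalgebraNormalizer K ⊓ (GU 6 F q ⊓ specialLinear (Fin 6) F) ≤ subfieldSubgroup F₀ P

theorem final6 (hF : Fintype.card F = q ^ 2) (pc : SUPieces 6 q F) (hub : HubU 6 q F) (hXA : XA q F) (hXB : XB q F)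
    (H : Subgroup (Matrix.GeneralLinearGroup (Fin 6) F))
    (hH : Cfsg.Geo.IsMaximalIn (Cfsg.GU 6 F q ⊓ Cfsg.Geo.specialLinear (Fin 6) F) H) :
    (∃ W : Submodule F (Fin 6 → F), W ≠ ⊥ ∧ Cfsg.Geo.IsTotallySingularFor (Cfsg.hermForm 6 F q) W ∧ H = Cfsg.Geo.subspaceStabilizer W ⊓ (Cfsg.GU 6 F q ⊓ Cfsg.Geo.specialLinear (Fin 6) F)) ∨
    (∃ W : Submodule F (Fin 6 → F), W ≠ ⊥ ∧ Cfsg.Geo.IsNondegenerateOn (Cfsg.hermForm 6 F q) W ∧ 2 * Module.finrank F W < 6 ∧ H = Cfsg.Geo.subspaceStabilizer W ⊓ (Cfsg.GU 6 F q ⊓ Cfsg.Geo.specialLinear (Fin 6) F)) ∨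
    (3 ≤ q ∧ ∃ D : Fin 6 → Submodule F (Fin 6 → F), Cfsg.Geo.IsNondegenerateMDecomposition (Cfsg.hermForm 6 F q) 1 D ∧ H = Cfsg.Geo.decompositionStabilizer D ⊓ (Cfsg.GU 6 F q ⊓ Cfsg.Geo.specialLinear (Fin 6) F)) ∨
    (3 ≤ q ∧ ∃ D : Fin 3 → Submodule F (Fin 6 → F), Cfsg.Geo.IsNondegenerateMDecomposition (Cfsg.hermForm 6 F q) 2 D ∧ H = Cfsg.Geo.decompositionStabilizer D ⊓ (Cfsg.GU 6 F q ⊓ Cfsg.Geo.specialLinear (Fin 6) F)) ∨
    (∃ D : Fin 2 → Submodule F (Fin 6 → F), Cfsg.Geo.IsNondegenerateMDecomposition (Cfsg.hermForm 6 F q) 3 D ∧ H = Cfsg.Geo.decompositionStabilizer D ⊓ (Cfsg.GU 6 F q ⊓ Cfsg.Geo.specialLinear (Fin 6) F)) ∨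
    (∃ D : Fin 2 → Submodule F (Fin 6 → F), Cfsg.Geo.IsMDecomposition 3 D ∧ (∀ i, Cfsg.Geo.IsTotallySingularFor (Cfsg.hermForm 6 F q) (D i)) ∧ H = Cfsg.Geo.decompositionStabilizer D ⊓ (Cfsg.GU 6 F q ⊓ Cfsg.Geo.specialLinear (Fin 6) F)) ∨
    (3 ≤ q ∧ ∃ K : Subalgebra F (Matrix (Fin 6) (Fin 6) F), Cfsg.Geo.IsFieldSubalgebra 3 K ∧ Cfsg.Geo.IsAdjointClosedFor (Cfsg.hermForm 6 F q) K ∧ H = Cfsg.Geo.subalgebraNormalizer K ⊓ (Cfsg.GU 6 F q ⊓ Cfsg.Geo.specialLinear (Fin 6) F)) ∨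
    (3 ≤ q ∧ ∃ (e : Fin 6 ≃ Fin 2 × Fin 3) (P : Matrix.GeneralLinearGroup (Fin 6) F) (f₁ : (Fin 2 → F) → (Fin 2 → F) → F) (f₂ : (Fin 3 → F) → (Fin 3 → F) → F), Cfsg.Geo.IsUnitaryFormPow q f₁ ∧ Cfsg.Geo.IsUnitaryFormPow q f₂ ∧ Cfsg.Geo.IsTensorFormStructure (fun x : F => x ^ q) (Cfsg.hermForm 6 F q) f₁ f₂ e P ∧ H = Cfsg.Geo.tensorProductSubgroup 2 3 e P ⊓ (Cfsg.GU 6 F q ⊓ Cfsg.Geo.specialLinear (Fin 6) F)) ∨
    (∃ (F₀ : Subfield F) (r : ℕ) (P : Matrix.GeneralLinearGroup (Fin 6) F), r.Prime ∧ Odd r ∧ Fintype.card F = Nat.card F₀ ^ r ∧ Cfsg.Geo.IsFormRationalStructure (Cfsg.hermForm 6 F q) F₀ 1 P ∧ H = Cfsg.Geo.subfieldSubgroup F₀ P ⊓ (Cfsg.GU 6 F q ⊓ Cfsg.Geo.specialLinear (Fin 6) F)) ∨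
    (∃ (F₀ : Subfield F) (P : Matrix.GeneralLinearGroup (Fin 6) F) (ζ : F), Fintype.card F = Nat.card F₀ ^ 2 ∧ ζ ≠ 0 ∧ ζ + ζ ^ q = 0 ∧ Cfsg.Geo.IsFormRationalStructure (Cfsg.hermForm 6 F q) F₀ ζ P ∧ (∀ u : Fin 6 → F, (∀ i, u i ∈ F₀) → (Cfsg.hermForm 6 F q) (Matrix.mulVec (P : Matrix (Fin 6) (Fin 6) F) u) (Matrix.mulVec (P : Matrix (Fin 6) (Fin 6) F) u) = 0) ∧ H = Cfsg.Geo.subfieldSubgroup F₀ P ⊓ (Cfsg.GU 6 F q ⊓ Cfsg.Geo.specialLinear (Fin 6) F)) ∨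
    (Odd q ∧ ∃ (F₀ : Subfield F) (P : Matrix.GeneralLinearGroup (Fin 6) F), Fintype.card F = Nat.card F₀ ^ 2 ∧ Cfsg.Geo.IsFormRationalStructure (Cfsg.hermForm 6 F q) F₀ 1 P ∧ H = Cfsg.Geo.subfieldSubgroup F₀ P ⊓ (Cfsg.GU 6 F q ⊓ Cfsg.Geo.specialLinear (Fin 6) F)) ∨
    Cfsg.Geo.InUnitaryResidualClass H := by
  have hq2 := two_le_q hF
  rcases reduceU hF (by norm_num) pc hub H hH with h | h | ⟨t, k, D, hD, hk2, hE⟩ |
      ⟨k, D, hk, hD, hts, hE⟩ | h | h | ⟨heven, h⟩ | ⟨r, R, p, e, k, hR, habs, hsim, hrp, hmin, hcase, hE⟩ |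
      ⟨r, K, hr, hodd, hK, hadj, hE⟩ | ⟨n₁, n₂, e, P, f₁, f₂, h1, h12, h2q, hf₁, hf₂, hT, hE⟩ |
      ⟨k, t, e, P, f₁, hk, ht, hkq, hf₁, hT, hE⟩ | h
  · exact Or.inl h
  · exact Or.inr (Or.inl h)
  · have htk := Cfsg.Agent.Lib.Helper9.HubCor.mul_eq_of_isMDecomposition D hD.decomp
    have ht := hD.decomp.two_le
    have hk := hD.decomp.pos
    have hk4 : k ≤ 3 := by nlinarith
    interval_cases k
    · obtain rfl : t = 6 := by omega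
      by_cases hq3 : 3 ≤ q
      · exact Or.inr (Or.inr (Or.inl ⟨hq3, D, hD, hE⟩))
      · exfalso
        have hq : q = 2 := by omega
        obtain ⟨K', h1, h2⟩ := hXA hq D hD
        rw [← hE] at h1
        rcases hH.2 K' h1.le h2.le with h | h
        · exact absurd h (ne_of_gt h1)
        · exact absurd h (ne_of_lt h2)
    · obtain rfl : t = 3 := by omega
      exact Or.inr (Or.inr (Or.inr (Or.inl ⟨hk2 rfl, D, hD, hE⟩)))
    · obtain rfl : t = 2 := by omega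
      exact Or.inr (Or.inr (Or.inr (Or.inr (Or.inl ⟨D, hD, hE⟩))))
  · obtain rfl : k = 3 := by omega
    exact Or.inr (Or.inr (Or.inr (Or.inr (Or.inr (Or.inl ⟨D, hD, hts, hE⟩)))))
  · exact Or.inr (Or.inr (Or.inr (Or.inr (Or.inr (Or.inr (Or.inr (Or.inr (Or.inl h))))))))
  · exact Or.inr (Or.inr (Or.inr (Or.inr (Or.inr (Or.inr (Or.inr (Or.inr (Or.inr (Or.inr (Or.inl h))))))))))
  · exact Or.inr (Or.inr (Or.inr (Or.inr (Or.inr (Or.inr (Or.inr (Or.inr (Or.inr (Or.inl h)))))))))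
  · -- class 6: `6` is not a prime power
    exfalso
    have hnk := pc.c6exact r R p e k hR habs hrp hmin hcase
    exact not_pp_of_two_primesU (n := 6) Nat.prime_two Nat.prime_three (by norm_num) (by norm_num) (by norm_num)
      r k hR.prime hnk
  · -- cubic field
    have hd := Cfsg.Agent.Lib.Helper24.HubCor.dvd_of_isFieldSubalgebra K hK (by norm_num)
    have hr3 : r = 3 := by
      have hr6 : r ≤ 6 := Nat.le_of_dvd (by norm_num) hd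
      have hr2 := hr.two_le
      interval_cases r
      · exact absurd hodd (by decide)
      · rfl
      · exact absurd hr (by decide)
      · omega
      · exact absurd hr (by decide)
    subst hr3
    by_cases hq3 : 3 ≤ q
    · exact Or.inr (Or.inr (Or.inr (Or.inr (Or.inr (Or.inr (Or.inl ⟨hq3, K, hK, hadj, hE⟩))))))
    · have hq : q = 2 := by omega
      obtain ⟨F₀, P, ζ, hc, hζ, hζq, hP, halt, hle⟩ := hXB hq K hK hadj
      have hHle : H ≤ subfieldSubgroup F₀ P := by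
        rw [hE]
        exact hle
      have hEq := eq_of_le_memberU H (subfieldSubgroup F₀ P) hH hHle
        (pc.pu5 F₀ (Cfsg.Agent.Lib.Helper29.AschCor.proper_of_card F₀ 2 Nat.prime_two hc) P)
      exact Or.inr (Or.inr (Or.inr (Or.inr (Or.inr (Or.inr (Or.inr (Or.inr (Or.inr (Or.inl
        ⟨F₀, P, ζ, hc, hζ, hζq, hP, halt, hEq⟩)))))))))
  · have hc := card_tensorU e
    have hn1 : n₁ ≤ 2 := by nlinarith
    obtain rfl : n₁ = 2 := by omega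
    obtain rfl : n₂ = 3 := by omega
    exact Or.inr (Or.inr (Or.inr (Or.inr (Or.inr (Or.inr (Or.inr (Or.inl
      ⟨h2q rfl, e, P, f₁, f₂, hf₁, hf₂, hT, hE⟩)))))))
  · exfalso
    have hc := card_wreathU e
    have h1 : k ^ 2 ≤ k ^ t := Nat.pow_le_pow_right (by omega) ht
    have h2 : 3 ^ 2 ≤ k ^ 2 := Nat.pow_le_pow_left hk 2
    omega
  · exact Or.inr (Or.inr (Or.inr (Or.inr (Or.inr (Or.inr (Or.inr (Or.inr (Or.inr (Or.inr (Or.inr h))))))))))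

end Cfsg.Agent.Lib.Helper23.S5802Final
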