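import Mathlib
import Cfsg.Agent.Lib.Helper17.ExtFDefs

/-!
# S5886 FO-P1: an element of `GL_n(F)` mapping `L`-points to `L`-points normalises `ρ L`
-/

set_option autoImplicit false

namespace Cfsg.Agent.Lib.Helper23.S5886

open Matrix Module Cfsg.Agent.Lib.Helper17.ExtF

variable {F : Type*} [Field F] {L : Type*} [Field L] [Algebra F L] {n : ℕ}
  (ρ : L →ₐ[F] Matrix (Fin n) (Fin n) F) {r : ℕ}

theorem rho_mulVec_eq_zero {a : L} {v : Fin n → F} (h : ρ a *ᵥ v = 0) (hv : v ≠ 0) : a = 0 := by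
  by_contra ha
  apply hv
  have h1 : ρ a⁻¹ *ᵥ (ρ a *ᵥ v) = 0 := by rw [h, Matrix.mulVec_zero]
  rw [← rho_mul_mulVec, inv_mul_cancel₀ ha, rho_one_mulVec] at h1
  exact h1

theorem orb_injective {v : Fin n → F} (hv : v ≠ 0) : Function.Injective (orb ρ v) := by
  intro a b hab
  have h1 : ρ (a - b) *ᵥ v = 0 := by
    rw [map_sub, Matrix.sub_mulVec]
    exact sub_eq_zero.mpr hab
  have := rho_mulVec_eq_zero ρ h1 hv
  exact sub_eq_zero.mp this

/-- local copy of FO-Ea `finrank_pt` -/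
theorem finrank_pt' (hrk : finrank F L = r) {v : Fin n → F} (hv : v ≠ 0) :
    finrank F ↥(pt ρ v) = r := by
  rw [pt, LinearMap.finrank_range_of_inj (orb_injective ρ hv), hrk]

theorem exists_notMem_pt (hrk : finrank F L = r) (hn : r < n) {v : Fin n → F} (hv : v ≠ 0) :
    ∃ u, u ∉ pt ρ v := by
  by_contra hall
  push Not at hall
  have htop : pt ρ v = ⊤ := eq_top_iff.mpr (fun u _ => hall u)
  have h1 : finrank F ↥(pt ρ v) = r := finrank_pt' ρ hrk hv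
  rw [htop, finrank_top, Module.finrank_fin_fun] at h1
  omega

theorem pt_eq_of_mem {v w : Fin n → F} (hw0 : w ≠ 0) (hw : w ∈ pt ρ v) : pt ρ w = pt ρ v := by
  obtain ⟨c, hc⟩ := (mem_pt ρ v w).mp hw
  have hc0 : c ≠ 0 := by
    rintro rfl
    rw [map_zero, Matrix.zero_mulVec] at hc
    exact hw0 hc.symm
  apply le_antisymm
  · intro x hx
    obtain ⟨d, rfl⟩ := (mem_pt ρ w x).mp hx
    refine (mem_pt ρ v _).mpr ⟨d * c, ?_⟩
    rw [rho_mul_mulVec, hc]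
  · intro x hx
    obtain ⟨d, rfl⟩ := (mem_pt ρ v x).mp hx
    refine (mem_pt ρ w _).mpr ⟨d * c⁻¹, ?_⟩
    rw [rho_mul_mulVec, ← hc, ← rho_mul_mulVec ρ c⁻¹, inv_mul_cancel₀ hc0, rho_one_mulVec]

/-- FO-P1, exact signature -/
theorem normalizes_of_not_moves (hrk : finrank F L = r) (hr : 0 < r) (hn : 2 * r ≤ n)
    (g : GL (Fin n) F) (h : ¬ Moves ρ g) : Normalizes ρ g := by
  classical
  have hnm : ∀ v, v ≠ 0 → (pt ρ v).map (actL g) = pt ρ (act g v) := by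
    intro v hv
    by_contra hne
    exact h ⟨v, hv, hne⟩
  intro a
  have hA : ∀ v, ∃ μ : L, act g (ρ a *ᵥ act g⁻¹ v) = ρ μ *ᵥ v := by
    intro v
    by_cases hv : v = 0
    · refine ⟨0, ?_⟩
      rw [hv, act_zero, Matrix.mulVec_zero, act_zero, Matrix.mulVec_zero]
    · have hw : act g⁻¹ v ≠ 0 := fun h0 => hv ((act_eq_zero_iff g⁻¹ v).mp h0)
      have hmem : act g (ρ a *ᵥ act g⁻¹ v) ∈ (pt ρ (act g⁻¹ v)).map (actL g) :=
        ⟨_, smul_mem_pt ρ _ a, rfl⟩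
      rw [hnm _ hw, act_act_inv] at hmem
      obtain ⟨μ, hμ⟩ := (mem_pt ρ _ _).mp hmem
      exact ⟨μ, hμ.symm⟩
  choose μ hμ using hA
  have hind : ∀ v w, v ≠ 0 → w ∉ pt ρ v → μ v = μ w := by
    intro v w hv hw
    have e := hμ (v + w)
    rw [act_add, Matrix.mulVec_add, act_add, hμ v, hμ w, Matrix.mulVec_add] at e
    have e2 : ρ (μ (v + w) - μ v) *ᵥ v = ρ (μ w - μ (v + w)) *ᵥ w := by
      rw [map_sub, map_sub, Matrix.sub_mulVec, Matrix.sub_mulVec]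
      rw [sub_eq_sub_iff_add_eq_add]
      rw [add_comm (ρ (μ w) *ᵥ w), e]
    by_cases hc : μ w - μ (v + w) = 0
    · rw [hc, map_zero, Matrix.zero_mulVec] at e2
      have h1 := rho_mulVec_eq_zero ρ e2 hv
      have h2 : μ (v + w) = μ v := sub_eq_zero.mp h1
      have h3 : μ w = μ (v + w) := sub_eq_zero.mp hc
      rw [h3, h2]
    · exfalso
      apply hw
      refine (mem_pt ρ v w).mpr ⟨(μ w - μ (v + w))⁻¹ * (μ (v + w) - μ v), ?_⟩
      rw [rho_mul_mulVec, e2, ← rho_mul_mulVec, inv_mul_cancel₀ hc, rho_one_mulVec]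
  have hn0 : 0 < n := by omega
  obtain ⟨v₀, hv₀⟩ : ∃ v₀ : Fin n → F, v₀ ≠ 0 := by
    refine ⟨Pi.single ⟨0, hn0⟩ 1, fun h0 => ?_⟩
    have := congrFun h0 ⟨0, hn0⟩
    simp at this
  have hconst : ∀ v, v ≠ 0 → μ v = μ v₀ := by
    intro v hv
    by_cases hvm : v ∈ pt ρ v₀
    · obtain ⟨u, hu⟩ := exists_notMem_pt ρ hrk (by omega) hv₀
      have hu' : u ∉ pt ρ v := by rw [pt_eq_of_mem ρ hv hvm]; exact hu
      rw [hind v u hv hu', hind v₀ u hv₀ hu]
    · exact (hind v₀ v hv₀ hvm).symm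
  refine ⟨μ v₀, ?_⟩
  apply Matrix.toLin'.injective
  apply LinearMap.ext
  intro x
  rw [Matrix.toLin'_apply, Matrix.toLin'_apply, ← Matrix.mulVec_mulVec, ← Matrix.mulVec_mulVec]
  by_cases hx : x = 0
  · simp only [hx, Matrix.mulVec_zero]
  · have hgx : act g x ≠ 0 := fun h0 => hx ((act_eq_zero_iff g x).mp h0)
    have e := hμ (act g x)
    rw [act_inv_act, hconst _ hgx] at e
    exact e

end Cfsg.Agent.Lib.Helper23.S5886
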