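import Mathlib
import Cfsg.Agent.Lib.Helper9.SUGenI

/-!
# S2283 (SU_3(q) is generated by two conjugate regular unipotent elements): definitions

Frame of `SU (2+1) F q` (Helper9.SUGen): `e3 C`, `f3 C` isotropic with `h(e,f) = 1`, `wv F 2` of norm one
perpendicular to both.  `xE t d` / `yF t d` are the Heisenberg root elements fixing `e3` / `f3`.
-/

set_option autoImplicit false

namespace Cfsg.Agent.Lib.Helper23.SU3U

open Matrix Cfsg.Agent.Lib.Helper6 Cfsg.Agent.S0779 Cfsg.Agent.S0781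
open Cfsg.Agent.Lib.Helper6.SUG Cfsg.Agent.Lib.Helper13 Cfsg.Agent.Lib.Helper9.SUGen

variable {F : Type*} [Field F] [Fintype F] {q : ℕ}

/-- the isotropic frame vector `e` -/
def e3 (C : Hyp F q) : Fin (2 + 1) → F := up (ev C 2 0)

/-- the isotropic frame vector `f` -/
def f3 (C : Hyp F q) : Fin (2 + 1) → F := up (fv C 2 0)

theorem h_ee (C : Hyp F q) : Cfsg.hermForm (2 + 1) F q (e3 C) (e3 C) = 0 := by
  unfold e3
  rw [herm_up]
  exact herm_ev_ev C 0 (by omega)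

theorem h_ff (C : Hyp F q) : Cfsg.hermForm (2 + 1) F q (f3 C) (f3 C) = 0 := by
  unfold f3
  rw [herm_up]
  exact herm_fv_fv C 0 (by omega)

theorem h_ef (C : Hyp F q) : Cfsg.hermForm (2 + 1) F q (e3 C) (f3 C) = 1 := by
  unfold e3 f3
  rw [herm_up]
  exact herm_ev_fv C 0 (by omega)

theorem h_fe (C : Hyp F q) (hF : Fintype.card F = q ^ 2) :
    Cfsg.hermForm (2 + 1) F q (f3 C) (e3 C) = 1 := by
  unfold e3 f3
  rw [herm_up]
  exact herm_fv_ev C hF 0 (by omega)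

theorem h_ew (C : Hyp F q) (hF : Fintype.card F = q ^ 2) :
    Cfsg.hermForm (2 + 1) F q (e3 C) (wv F 2) = 0 := herm_up_wv hF _

theorem h_fw (C : Hyp F q) (hF : Fintype.card F = q ^ 2) :
    Cfsg.hermForm (2 + 1) F q (f3 C) (wv F 2) = 0 := herm_up_wv hF _

theorem h_we (C : Hyp F q) (hF : Fintype.card F = q ^ 2) :
    Cfsg.hermForm (2 + 1) F q (wv F 2) (e3 C) = 0 := herm_wv_up hF _

theorem h_wf (C : Hyp F q) (hF : Fintype.card F = q ^ 2) :
    Cfsg.hermForm (2 + 1) F q (wv F 2) (f3 C) = 0 := herm_wv_up hF _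

theorem h_ww (hF : Fintype.card F = q ^ 2) :
    Cfsg.hermForm (2 + 1) F q (wv F 2) (wv F 2) = 1 := herm_wv_wv hF

/-- the root element `v ↦ v + h(v,e)(t w - d e) - t^q h(v,w) e` (it is `1` unless `HP q t d`) -/
noncomputable def xE (C : Hyp F q) (hF : Fintype.card F = q ^ 2) (t d : F) :
    ↥(Cfsg.SU (2 + 1) F q) :=
  hsT hF (e3 C) (wv F 2) (h_ee C) (h_ew C hF) (h_ww hF) t d

/-- the root element `v ↦ v + h(v,f)(t w - d f) - t^q h(v,w) f` (it is `1` unless `HP q t d`) -/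
noncomputable def yF (C : Hyp F q) (hF : Fintype.card F = q ^ 2) (t d : F) :
    ↥(Cfsg.SU (2 + 1) F q) :=
  hsT hF (f3 C) (wv F 2) (h_ff C) (h_fw C hF) (h_ww hF) t d

theorem av_xE (C : Hyp F q) (hF : Fintype.card F = q ^ 2) {t d : F} (hd : HP q t d)
    (x : Fin (2 + 1) → F) :
    av (xE C hF t d) x = x + Cfsg.hermForm (2 + 1) F q x (e3 C) • (t • wv F 2 - d • e3 C) -
      (t ^ q * Cfsg.hermForm (2 + 1) F q x (wv F 2)) • e3 C :=
  av_hsT hF _ _ _ _ _ t d hd x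

theorem av_yF (C : Hyp F q) (hF : Fintype.card F = q ^ 2) {t d : F} (hd : HP q t d)
    (x : Fin (2 + 1) → F) :
    av (yF C hF t d) x = x + Cfsg.hermForm (2 + 1) F q x (f3 C) • (t • wv F 2 - d • f3 C) -
      (t ^ q * Cfsg.hermForm (2 + 1) F q x (wv F 2)) • f3 C :=
  av_hsT hF _ _ _ _ _ t d hd x

theorem av_xE_e (C : Hyp F q) (hF : Fintype.card F = q ^ 2) {t d : F} (hd : HP q t d) :
    av (xE C hF t d) (e3 C) = e3 C := by
  rw [av_xE C hF hd, h_ee, h_ew C hF]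
  module

theorem av_xE_w (C : Hyp F q) (hF : Fintype.card F = q ^ 2) {t d : F} (hd : HP q t d) :
    av (xE C hF t d) (wv F 2) = wv F 2 - t ^ q • e3 C := by
  rw [av_xE C hF hd, h_we C hF, h_ww hF]
  module

theorem av_xE_f (C : Hyp F q) (hF : Fintype.card F = q ^ 2) {t d : F} (hd : HP q t d) :
    av (xE C hF t d) (f3 C) = f3 C + t • wv F 2 - d • e3 C := by
  rw [av_xE C hF hd, h_fe C hF, h_fw C hF]
  module

theorem av_yF_f (C : Hyp F q) (hF : Fintype.card F = q ^ 2) {t d : F} (hd : HP q t d) :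
    av (yF C hF t d) (f3 C) = f3 C := by
  rw [av_yF C hF hd, h_ff, h_fw C hF]
  module

theorem av_yF_w (C : Hyp F q) (hF : Fintype.card F = q ^ 2) {t d : F} (hd : HP q t d) :
    av (yF C hF t d) (wv F 2) = wv F 2 - t ^ q • f3 C := by
  rw [av_yF C hF hd, h_wf C hF, h_ww hF]
  module

theorem av_yF_e (C : Hyp F q) (hF : Fintype.card F = q ^ 2) {t d : F} (hd : HP q t d) :
    av (yF C hF t d) (e3 C) = e3 C + t • wv F 2 - d • f3 C := by
  rw [av_yF C hF hd, h_ef, h_ew C hF]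
  module

theorem xE_mul (C : Hyp F q) (hF : Fintype.card F = q ^ 2) {t d t' d' : F} (hd : HP q t d)
    (hd' : HP q t' d') :
    xE C hF t d * xE C hF t' d' = xE C hF (t + t') (d + d' + t' * t ^ q) :=
  hsT_mul hF _ _ _ _ _ t d t' d' hd hd'

theorem yF_mul (C : Hyp F q) (hF : Fintype.card F = q ^ 2) {t d t' d' : F} (hd : HP q t d)
    (hd' : HP q t' d') :
    yF C hF t d * yF C hF t' d' = yF C hF (t + t') (d + d' + t' * t ^ q) :=
  hsT_mul hF _ _ _ _ _ t d t' d' hd hd'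

theorem xE_zero (C : Hyp F q) (hF : Fintype.card F = q ^ 2) : xE C hF 0 0 = 1 := by
  apply ext_av
  intro x
  rw [av_xE C hF (HP.zero hF), av_one, zero_pow (q_pos hF).ne']
  module

theorem yF_zero (C : Hyp F q) (hF : Fintype.card F = q ^ 2) : yF C hF 0 0 = 1 := by
  apply ext_av
  intro x
  rw [av_yF C hF (HP.zero hF), av_one, zero_pow (q_pos hF).ne']
  module

theorem xE_inv (C : Hyp F q) (hF : Fintype.card F = q ^ 2) {t d : F} (hd : HP q t d) :
    (xE C hF t d)⁻¹ = xE C hF (-t) (d ^ q) := by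
  rw [inv_eq_iff_mul_eq_one, xE_mul C hF hd (hd.inv hF)]
  have e1 : t + -t = 0 := by ring
  have e2 : d + d ^ q + -t * t ^ q = 0 := by
    unfold HP at hd
    rw [hd]
    ring
  rw [e1, e2, xE_zero]

theorem yF_inv (C : Hyp F q) (hF : Fintype.card F = q ^ 2) {t d : F} (hd : HP q t d) :
    (yF C hF t d)⁻¹ = yF C hF (-t) (d ^ q) := by
  rw [inv_eq_iff_mul_eq_one, yF_mul C hF hd (hd.inv hF)]
  have e1 : t + -t = 0 := by ring
  have e2 : d + d ^ q + -t * t ^ q = 0 := by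
    unfold HP at hd
    rw [hd]
    ring
  rw [e1, e2, yF_zero]

/-- decomposition of a vector in the frame -/
theorem frame_decomp (C : Hyp F q) (hF : Fintype.card F = q ^ 2) (x : Fin (2 + 1) → F) :
    x = Cfsg.hermForm (2 + 1) F q x (f3 C) • e3 C + Cfsg.hermForm (2 + 1) F q x (e3 C) • f3 C +
      Cfsg.hermForm (2 + 1) F q x (wv F 2) • wv F 2 := by
  have hx : x = (x 0) • wv F 2 + up (Fin.tail x) := by
    funext j
    refine Fin.cases ?_ (fun j' => ?_) j
    · simp [wv, up]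
    · simp [wv, up, Fin.tail]
  have ht : Fin.tail x = pl 2 0 (Fin.tail x 0) (Fin.tail x 1) := by
    funext j
    fin_cases j <;> simp [pl]
  have h1 : Cfsg.hermForm (2 + 1) F q x (f3 C) =
      Fin.tail x 0 * C.v0 ^ q + Fin.tail x 1 * C.v1 ^ q := by
    unfold f3
    rw [herm_left_up hF]
    conv_lhs => rw [ht]
    unfold fv
    rw [herm_pl_pl_same 0 (by omega)]
  have h2 : Cfsg.hermForm (2 + 1) F q x (e3 C) =
      Fin.tail x 0 * C.u0 ^ q + Fin.tail x 1 * C.u1 ^ q := by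
    unfold e3
    rw [herm_left_up hF]
    conv_lhs => rw [ht]
    unfold ev
    rw [herm_pl_pl_same 0 (by omega)]
  have h3 : Cfsg.hermForm (2 + 1) F q x (wv F 2) = x 0 := by
    rw [herm_succ, tail_wv, wv_zero, one_pow, mul_one, herm_zero_right hF, add_zero]
  rw [h1, h2, h3]
  conv_lhs => rw [hx, ht, pl_expand C hF, up_add, up_smul, up_smul]
  unfold e3 f3
  abel

/-- the additive irreducibility property of a multiplier `ν` -/
def Irr (ν : F) : Prop :=
  ∀ S : AddSubgroup F, (∀ t ∈ S, ν * t ∈ S) → (∃ t ∈ S, t ≠ 0) → ∀ t, t ∈ S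

/-- a good design: parameters of `x = xE a b` and `y = yF c d`, a conjugacy certificate `lam`,
and an element `W` of `⟨x, y⟩` stabilising the line of `e3` with an irreducible multiplier -/
def Good (C : Hyp F q) (hF : Fintype.card F = q ^ 2) : Prop :=
  ∃ (a b c d lam l ε c' : F) (W : ↥(Cfsg.SU (2 + 1) F q)),
    HP q a b ∧ a ≠ 0 ∧ HP q c d ∧ c ≠ 0 ∧ lam ≠ 0 ∧ a * lam = -((lam ^ q) ^ 2) * c ∧
    W ∈ Subgroup.closure ({yF C hF c d, xE C hF a b} : Set ↥(Cfsg.SU (2 + 1) F q)) ∧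
    av W (e3 C) = l • e3 C ∧ av W (wv F 2) = ε • wv F 2 + c' • e3 C ∧ Irr (l ^ q * ε)

end Cfsg.Agent.Lib.Helper23.SU3U
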