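import Mathlib
import Cfsg.Agent.Lib.Helper23.SU3UDefs

/-!
# S2283: the closure lemma

If `H ≤ SU_3(q)` contains `x = xE a b` (`a ≠ 0`), `y = yF c d` (`c ≠ 0`) and an element `W` stabilising
the line of `e3` whose multiplier `l^q ε` on `U_e / Z(U_e)` is additively irreducible, then `H = ⊤`.
-/

set_option autoImplicit false

namespace Cfsg.Agent.Lib.Helper23.SU3U

open Matrix Cfsg.Agent.Lib.Helper6 Cfsg.Agent.S0779 Cfsg.Agent.S0781
open Cfsg.Agent.Lib.Helper6.SUG Cfsg.Agent.Lib.Helper13 Cfsg.Agent.Lib.Helper9.SUGen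

variable {F : Type*} [Field F] [Fintype F] {q : ℕ}

/-- conjugating `xE t d` by an element stabilising the line of `e3` -/
theorem conj_xE_stab (C : Hyp F q) (hF : Fintype.card F = q ^ 2) (g : ↥(Cfsg.SU (2 + 1) F q))
    (l ε c' : F) (hge : av g (e3 C) = l • e3 C) (hgw : av g (wv F 2) = ε • wv F 2 + c' • e3 C)
    {t d : F} (hd : HP q t d) :
    ∃ D, HP q (l ^ q * ε * t) D ∧ g * xE C hF t d * g⁻¹ = xE C hF (l ^ q * ε * t) D := by
  have hee := h_ee C
  have hew := h_ew C hF
  have hwe := h_we C hF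
  have hww := h_ww (F := F) hF
  -- `ε` has norm one
  have hε : ε * ε ^ q = 1 := by
    have h1 := herm_av g (wv F 2) (wv F 2)
    rw [hgw, hww] at h1
    simp only [herm_add_left, herm_add_right hF, herm_smul_left, herm_smul_right, hee, hew, hwe,
      hww] at h1
    linear_combination h1
  have A1 : Cfsg.hermForm (2 + 1) F q (l • e3 C) (l • e3 C) = 0 := by
    rw [herm_smul_left, herm_smul_right, hee, mul_zero, mul_zero]
  have A2 : Cfsg.hermForm (2 + 1) F q (l • e3 C) (ε • wv F 2 + c' • e3 C) = 0 := by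
    simp only [herm_add_right hF, herm_smul_left, herm_smul_right, hee, hew]
    ring
  have A3 : Cfsg.hermForm (2 + 1) F q (ε • wv F 2 + c' • e3 C) (ε • wv F 2 + c' • e3 C) = 1 := by
    simp only [herm_add_left, herm_add_right hF, herm_smul_left, herm_smul_right, hee, hew, hwe,
      hww]
    linear_combination hε
  refine ⟨-(l ^ q * t * c') + l * l ^ q * d + l * t ^ q * c' ^ q, ?_, ?_⟩
  · unfold HP at hd ⊢
    simp only [add_pow_q hF, neg_pow_q hF, mul_pow, pow_q_q hF]
    linear_combination (l * l ^ q) * hd - (l * l ^ q * t * t ^ q) * hε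
  · have hD : HP q (l ^ q * ε * t) (-(l ^ q * t * c') + l * l ^ q * d + l * t ^ q * c' ^ q) := by
      unfold HP at hd ⊢
      simp only [add_pow_q hF, neg_pow_q hF, mul_pow, pow_q_q hF]
      linear_combination (l * l ^ q) * hd - (l * l ^ q * t * t ^ q) * hε
    unfold xE
    rw [conj_hsT hF g (e3 C) (wv F 2) (l • e3 C) (ε • wv F 2 + c' • e3 C) hee hew hww A1 A2 A3
      hge hgw t d hd]
    apply ext_av
    intro x
    rw [av_hsT hF _ _ A1 A2 A3 t d hd, av_hsT hF _ _ hee hew hww _ _ hD]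
    simp only [herm_add_right hF, herm_smul_right, mul_pow, pow_q_q hF]
    module

/-- **the closure lemma** -/
theorem closure_top_of (C : Hyp F q) (hF : Fintype.card F = q ^ 2) (hq : 3 ≤ q)
    (H : Subgroup ↥(Cfsg.SU (2 + 1) F q)) {a b c d : F} (hab : HP q a b) (ha : a ≠ 0)
    (hx : xE C hF a b ∈ H) (hcd : HP q c d) (hc : c ≠ 0) (hy : yF C hF c d ∈ H)
    (W : ↥(Cfsg.SU (2 + 1) F q)) (hW : W ∈ H) (l ε c' : F)
    (hWe : av W (e3 C) = l • e3 C) (hWw : av W (wv F 2) = ε • wv F 2 + c' • e3 C)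
    (hirr : Irr (l ^ q * ε)) : H = ⊤ := by
  have hee := h_ee C
  have hff := h_ff C
  have hef := h_ef C
  have hfe := h_fe C hF
  have hew := h_ew C hF
  have hfw := h_fw C hF
  have hwe := h_we C hF
  have hwf := h_wf C hF
  have hww := h_ww (F := F) hF
  -- the additive group of first coordinates
  let S : AddSubgroup F :=
    { carrier := {t | ∃ d, HP q t d ∧ xE C hF t d ∈ H}
      add_mem' := by
        rintro t t' ⟨d, hP, hL⟩ ⟨d', hP', hL'⟩
        refine ⟨_, hP.mul hF hP', ?_⟩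
        rw [← xE_mul C hF hP hP']
        exact H.mul_mem hL hL'
      zero_mem' := ⟨0, HP.zero hF, by rw [xE_zero]; exact H.one_mem⟩
      neg_mem' := by
        rintro t ⟨d, hP, hL⟩
        refine ⟨_, hP.inv hF, ?_⟩
        rw [← xE_inv C hF hP]
        exact H.inv_mem hL }
  have hSν : ∀ t ∈ S, l ^ q * ε * t ∈ S := by
    rintro t ⟨d, hP, hL⟩
    obtain ⟨D, hD, heq⟩ := conj_xE_stab C hF W l ε c' hWe hWw hP
    refine ⟨D, hD, ?_⟩
    rw [← heq]
    exact H.mul_mem (H.mul_mem hW hL) (H.inv_mem hW)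
  have hallS : ∀ t, ∃ d, HP q t d ∧ xE C hF t d ∈ H := by
    intro t
    exact hirr S hSν ⟨a, ⟨b, hab, hx⟩, ha⟩ t
  -- the centre
  have hcentre : ∀ r : F, HP q 0 r → xE C hF 0 r ∈ H := by
    intro r hr
    have heq : r ^ q = -r := by
      unfold HP at hr
      linear_combination hr
    obtain ⟨s, hs⟩ := exists_sub_conj hF r heq
    obtain ⟨d1, hP1, hL1⟩ := hallS 1
    obtain ⟨ds, hPs, hLs⟩ := hallS s
    have hAB := xE_mul C hF hP1 hPs
    have hBA := xE_mul C hF hPs hP1
    have h3 := xE_mul C hF (hPs.mul hF hP1) hr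
    have e1 : xE C hF (s + 1 + 0) (ds + d1 + 1 * s ^ q + r + 0 * (s + 1) ^ q) =
        xE C hF (1 + s) (d1 + ds + s * 1 ^ q) := by
      congr 1
      · ring
      · rw [← hs]
        ring
    rw [e1, ← hAB, ← hBA] at h3
    have h4 : xE C hF 0 r = (xE C hF s ds * xE C hF 1 d1)⁻¹ * (xE C hF 1 d1 * xE C hF s ds) := by
      rw [← h3]
      group
    rw [h4]
    exact H.mul_mem (H.inv_mem (H.mul_mem hLs hL1)) (H.mul_mem hL1 hLs)
  have hall : ∀ t d, HP q t d → xE C hF t d ∈ H := by
    intro t d hP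
    obtain ⟨d', hP', hL'⟩ := hallS t
    have h3 := xE_mul C hF hP' (hP.sub hF hP')
    have e1 : xE C hF (t + 0) (d' + (d - d') + 0 * t ^ q) = xE C hF t d := by
      congr 1
      · ring
      · ring
    rw [e1] at h3
    rw [← h3]
    exact H.mul_mem hL' (hcentre _ (hP.sub hF hP'))
  -- `e3` lies in `XL H`
  have hXe : XL H (e3 C) :=
    hsT_center_XL hF _ _ hee hew hww H (fun r hr => hcentre r hr)
  -- `f3` lies in `XL H`
  have hd0 : d ≠ 0 := by
    rintro rfl
    unfold HP at hcd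
    rw [zero_pow (q_pos hF).ne', add_zero] at hcd
    exact mul_ne_zero hc (pow_ne_zero _ hc) hcd.symm
  have hdq0 : d ^ q ≠ 0 := pow_ne_zero _ hd0
  have hP1 : HP q (-(c / d)) (1 / d) := by
    unfold HP at hcd ⊢
    rw [neg_pow_q hF, div_pow, div_pow, one_pow]
    field_simp
    linear_combination hcd
  have hXf : XL H (f3 C) := by
    have h1 := (hXe.map _ hy).smul hF (-(1 / d))
    have e1 : (-(1 / d)) • av (yF C hF c d) (e3 C) = av (xE C hF (-(c / d)) (1 / d)) (f3 C) := by
      rw [av_yF_e C hF hcd, av_xE_f C hF hP1]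
      have e2 : (-(1 / d)) • (e3 C + c • wv F 2 - d • f3 C) =
          (-(1 / d) * d * -1) • f3 C + (-(1 / d) * c) • wv F 2 + (-(1 / d)) • e3 C := by module
      rw [e2]
      have e3' : -(1 / d) * d * -1 = 1 := by
        field_simp
      have e4 : -(1 / d) * c = -(c / d) := by
        field_simp
      rw [e3', e4]
      module
    rw [e1] at h1
    have h2 := h1.map _ (H.inv_mem (hall _ _ hP1))
    rwa [av_inv_av] at h2
  -- the criterion
  have hWH : WH C (2 + 1) 1 1 H := by
    refine ⟨?_, ?_, ?_⟩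
    · intro i hi
      obtain rfl : i = 0 := by omega
      have e1 := up_ev C 2 0
      have e2 := up_fv C 2 0
      unfold e3 at hXe
      unfold f3 at hXf
      rw [e1] at hXe
      rw [e2] at hXf
      exact ⟨hXe, hXf⟩
    · intro i hi
      omega
    · intro i hi
      omega
  obtain ⟨d0, hd0'⟩ := exists_trace_one hF
  have hP10 : HP q (1 : F) d0 := by
    unfold HP
    rw [one_pow, mul_one]
    exact hd0'
  have hxw := hXf.map _ (hall 1 d0 hP10)
  have hxw0 : av (xE C hF 1 d0) (f3 C) 0 ≠ 0 := by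
    rw [av_xE_f C hF hP10]
    simp [e3, f3, up, wv]
  have hall' := W_odd C hF 1 (by omega) 2 (by omega) H hWH _ hxw hxw0
  exact top_of_forall hF (by omega) (by omega) H hall'

end Cfsg.Agent.Lib.Helper23.SU3U
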