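import Mathlib
import Cfsg.Agent.Lib.Helper23.SU3UDefs

/-!
# S2283: the conjugator between `yF c d` and `xE a b`
-/

set_option autoImplicit false

namespace Cfsg.Agent.Lib.Helper23.SU3U

open Matrix Cfsg.Agent.Lib.Helper6 Cfsg.Agent.S0779 Cfsg.Agent.S0781
open Cfsg.Agent.Lib.Helper6.SUG Cfsg.Agent.Lib.Helper13 Cfsg.Agent.Lib.Helper9.SUGen

variable {F : Type*} [Field F] [Fintype F] {q : ℕ}

/-- the torus element `e ↦ μ e`, `f ↦ (μ^q)⁻¹ f`, `w ↦ (μ^q μ⁻¹) w` (copied from `three_gen`) -/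
theorem exists_torus (C : Hyp F q) (hF : Fintype.card F = q ^ 2) (μ : F) (hμ0 : μ ≠ 0) :
    ∃ h3 : ↥(Cfsg.SU (2 + 1) F q), av h3 (e3 C) = μ • e3 C ∧
      av h3 (f3 C) = (μ ^ q)⁻¹ • f3 C ∧ av h3 (wv F 2) = (μ ^ q * μ⁻¹) • wv F 2 := by
  have hμq0 : μ ^ q ≠ 0 := pow_ne_zero _ hμ0
  have huu := h_ee C
  have hff := h_ff C
  have huf := h_ef C
  have hfu := h_fe C hF
  have hwu := h_we C hF
  have hwf := h_wf C hF
  obtain ⟨ζ, hζ⟩ : ∃ ζ : F, ζ = μ ^ q * μ⁻¹ := ⟨_, rfl⟩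
  obtain ⟨a1, ha1⟩ : ∃ a1 : F, a1 = μ * μ * (μ ^ q)⁻¹ - 1 := ⟨_, rfl⟩
  obtain ⟨a2, ha2⟩ : ∃ a2 : F, a2 = μ * ((μ ^ q) ^ 2)⁻¹ - 1 := ⟨_, rfl⟩
  have hζζ : ζ * ζ ^ q = 1 := by
    rw [hζ, mul_pow, inv_pow, pow_q_q hF]
    field_simp
  have ha1q : a1 ^ q = μ ^ q * μ ^ q * μ⁻¹ - 1 := by
    rw [ha1, sub_pow_q hF, mul_pow, mul_pow, inv_pow, pow_q_q hF, one_pow]
  have ha2q : a2 ^ q = μ ^ q * (μ ^ 2)⁻¹ - 1 := by
    rw [ha2, sub_pow_q hF, mul_pow, inv_pow, ← pow_mul, mul_comm 2 q, pow_mul, pow_q_q hF,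
      one_pow]
  have hC1 : a1 ^ q + a2 + a2 * a1 ^ q = 0 := by
    rw [ha1q, ha2]
    field_simp
    ring
  have hC2 : a2 ^ q + a1 + a1 * a2 ^ q = 0 := by
    rw [ha2q, ha1]
    field_simp
    ring
  have hdet : (Bm q ζ a1 a2 (e3 C) (f3 C)).det = 1 := by
    have e1 : 1 + a1 = μ * μ * (μ ^ q)⁻¹ := by rw [ha1]; ring
    have e2 : 1 + a2 = μ * ((μ ^ q) ^ 2)⁻¹ := by rw [ha2]; ring
    rw [Bm_det ζ a1 a2 _ _ huf hfu, hζ, e1, e2, mul_pow, inv_pow]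
    field_simp
  obtain ⟨h3, hh3⟩ : ∃ h3 : ↥(Cfsg.SU (2 + 1) F q), ∀ x, av h3 x =
      ζ • (x + (a2 * Cfsg.hermForm (2 + 1) F q x (e3 C)) • f3 C +
        (a1 * Cfsg.hermForm (2 + 1) F q x (f3 C)) • e3 C) := by
    refine ⟨mkSU (Bm q ζ a1 a2 (e3 C) (f3 C)) hdet
      (Bm_pres hF ζ a1 a2 _ _ huu hff huf hfu hζζ hC1 hC2), ?_⟩
    intro x
    exact Bm_mulVec ζ a1 a2 _ _ x hff
  refine ⟨h3, ?_, ?_, ?_⟩
  · have e : ζ * (1 + a1) = μ := by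
      rw [hζ, ha1]
      field_simp
      ring
    rw [hh3, huu, huf, ← e]
    module
  · have e : ζ * (1 + a2) = (μ ^ q)⁻¹ := by
      rw [hζ, ha2]
      field_simp
      ring
    rw [hh3, hff, hfu, ← e]
    module
  · rw [hh3, hwu, hwf, ← hζ]
    module

/-- conjugation inside `U_e`: the first parameter is fixed, the second moves by a trace-zero amount -/
theorem conj_xE_xE (C : Hyp F q) (hF : Fintype.card F = q ^ 2) {s r a b : F} (hsr : HP q s r)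
    (hab : HP q a b) :
    xE C hF s r * xE C hF a b * (xE C hF s r)⁻¹ = xE C hF a (b + a * s ^ q - s * a ^ q) := by
  rw [xE_inv C hF hsr, xE_mul C hF hsr hab, xE_mul C hF (hsr.mul hF hab) (hsr.inv hF)]
  congr 1
  · ring
  · unfold HP at hsr
    rw [add_pow_q hF]
    linear_combination hsr

/-- **the conjugator** -/
theorem exists_conj (C : Hyp F q) (hF : Fintype.card F = q ^ 2) {a b c d lam : F}
    (hab : HP q a b) (hcd : HP q c d) (hc : c ≠ 0) (hlam : lam ≠ 0)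
    (h : a * lam = -((lam ^ q) ^ 2) * c) :
    ∃ g : ↥(Cfsg.SU (2 + 1) F q), g * yF C hF c d * g⁻¹ = xE C hF a b := by
  have hee := h_ee C
  have hff := h_ff C
  have hef := h_ef C
  have hfe := h_fe C hF
  have hew := h_ew C hF
  have hfw := h_fw C hF
  have hwe := h_we C hF
  have hwf := h_wf C hF
  have hww := h_ww (F := F) hF
  obtain ⟨κ, hκ0, hκ⟩ := exists_trace_zero hF
  obtain ⟨μ, hμ⟩ : ∃ μ : F, μ = lam / κ := ⟨_, rfl⟩
  have hμ0 : μ ≠ 0 := by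
    rw [hμ]
    exact div_ne_zero hlam hκ0
  have hlamq0 : lam ^ q ≠ 0 := pow_ne_zero _ hlam
  obtain ⟨h3, h3e, h3f, h3w⟩ := exists_torus C hF μ hμ0
  obtain ⟨ζ, hζ⟩ : ∃ ζ : F, ζ = μ ^ q * μ⁻¹ := ⟨_, rfl⟩
  rw [← hζ] at h3w
  have hζlam : ζ = -(lam ^ q) / lam := by
    rw [hζ, hμ, div_pow, hκ]
    field_simp
  have hζζ : ζ * ζ ^ q = 1 := by
    rw [hζlam, div_pow, neg_pow_q hF, pow_q_q hF]
    field_simp
  -- the element `g₀`
  obtain ⟨g0, hg0⟩ : ∃ g0 : ↥(Cfsg.SU (2 + 1) F q), g0 = h3 * wl hF (e3 C) (f3 C) hee hff κ hκ :=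
    ⟨_, rfl⟩
  have hg0f : av g0 (f3 C) = lam • e3 C := by
    rw [hg0, av_mul, av_wl_f hF _ _ hee hff hef κ hκ hκ0, av_smul, h3e, smul_smul, hμ,
      mul_div_cancel₀ _ hκ0]
  have hg0w : av g0 (wv F 2) = ζ • wv F 2 := by
    rw [hg0, av_mul, av_wl_fix hF _ _ hee hff κ hκ _ hwe hwf, h3w]
  have A1 : Cfsg.hermForm (2 + 1) F q (lam • e3 C) (lam • e3 C) = 0 := by
    rw [herm_smul_left, herm_smul_right, hee, mul_zero, mul_zero]
  have A2 : Cfsg.hermForm (2 + 1) F q (lam • e3 C) (ζ • wv F 2) = 0 := by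
    rw [herm_smul_left, herm_smul_right, hew, mul_zero, mul_zero]
  have A3 : Cfsg.hermForm (2 + 1) F q (ζ • wv F 2) (ζ • wv F 2) = 1 := by
    rw [herm_smul_left, herm_smul_right, hww, mul_one, hζζ]
  have ha : lam ^ q * ζ * c = a := by
    rw [hζlam]
    field_simp
    linear_combination (-1 : F) * h
  have hconj0 : g0 * yF C hF c d * g0⁻¹ =
      xE C hF a (lam ^ q * ζ * (lam ^ q * ζ) ^ q * d) := by
    unfold yF xE
    rw [conj_hsT hF g0 (f3 C) (wv F 2) (lam • e3 C) (ζ • wv F 2) hff hfw hww A1 A2 A3 hg0f hg0w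
      c d hcd, hsT_scale hF (e3 C) (wv F 2) lam ζ hee hew hww A1 A2 A3 hζζ c d hcd, ha]
  obtain ⟨b0, hb0⟩ : ∃ b0 : F, b0 = lam ^ q * ζ * (lam ^ q * ζ) ^ q * d := ⟨_, rfl⟩
  rw [← hb0] at hconj0
  have hab0 : HP q a b0 := by
    have := hcd.smul hF (lam ^ q * ζ)
    rwa [ha, ← hb0] at this
  have ha0 : a ≠ 0 := by
    rw [← ha]
    have hζ0 : ζ ≠ 0 := by
      rintro rfl
      rw [zero_mul] at hζζ
      exact zero_ne_one hζζ
    exact mul_ne_zero (mul_ne_zero hlamq0 hζ0) hc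
  have haq0 : a ^ q ≠ 0 := pow_ne_zero _ ha0
  -- the adjustment inside `U_e`
  have htr : (b - b0) ^ q = -(b - b0) := by
    have := hab.sub hF hab0
    unfold HP at this
    rw [zero_pow (q_pos hF).ne', mul_zero] at this
    linear_combination this
  obtain ⟨s', hs'⟩ := exists_sub_conj hF (b - b0) htr
  obtain ⟨s, hs⟩ : ∃ s : F, s = -s' / a ^ q := ⟨_, rfl⟩
  obtain ⟨d0, hd0⟩ := exists_trace_one hF
  have hsr : HP q s (s * s ^ q * d0) := by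
    unfold HP
    rw [mul_pow, mul_pow, pow_q_q hF]
    linear_combination (s * s ^ q) * hd0
  refine ⟨xE C hF s (s * s ^ q * d0) * g0, ?_⟩
  have e1 : xE C hF s (s * s ^ q * d0) * g0 * yF C hF c d * (xE C hF s (s * s ^ q * d0) * g0)⁻¹ =
      xE C hF s (s * s ^ q * d0) * (g0 * yF C hF c d * g0⁻¹) * (xE C hF s (s * s ^ q * d0))⁻¹ := by
    group
  rw [e1, hconj0, conj_xE_xE C hF hsr hab0]
  congr 1
  have hsq : s ^ q = -(s' ^ q) / a := by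
    rw [hs, div_pow, neg_pow_q hF, pow_q_q hF]
  rw [hsq, hs]
  field_simp
  linear_combination hs'

end Cfsg.Agent.Lib.Helper23.SU3U
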