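import Mathlib
import Cfsg.Agent.Lib.Helper23.SU3UDefs

/-!
# S2283: coordinate calculus in the frame `e3, f3, w`

`vec C E Fc Wc = E • e3 + Fc • f3 + Wc • w`; the root elements act by
`xE t d : (E, Fc, Wc) ↦ (E - d*Fc - t^q*Wc, Fc, Wc + t*Fc)` and
`yF t d : (E, Fc, Wc) ↦ (E, Fc - d*E - t^q*Wc, Wc + t*E)`.
-/

set_option autoImplicit false

namespace Cfsg.Agent.Lib.Helper23.SU3U

open Matrix Cfsg.Agent.Lib.Helper6 Cfsg.Agent.S0779 Cfsg.Agent.S0781
open Cfsg.Agent.Lib.Helper6.SUG Cfsg.Agent.Lib.Helper13 Cfsg.Agent.Lib.Helper9.SUGen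

variable {F : Type*} [Field F] [Fintype F] {q : ℕ}

/-- the vector with coordinates `(E, Fc, Wc)` in the frame `e3, f3, w` -/
def vec (C : Hyp F q) (E Fc Wc : F) : Fin (2 + 1) → F := E • e3 C + Fc • f3 C + Wc • wv F 2

theorem vec_e (C : Hyp F q) : e3 C = vec C 1 0 0 := by
  unfold vec
  module

theorem vec_f (C : Hyp F q) : f3 C = vec C 0 1 0 := by
  unfold vec
  module

theorem vec_w (C : Hyp F q) : wv F 2 = vec C 0 0 1 := by
  unfold vec
  module

theorem vec_congr (C : Hyp F q) {E Fc Wc E' Fc' Wc' : F} (h1 : E = E') (h2 : Fc = Fc')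
    (h3 : Wc = Wc') : vec C E Fc Wc = vec C E' Fc' Wc' := by
  rw [h1, h2, h3]

theorem vec_eq_smul_e (C : Hyp F q) (l : F) : vec C l 0 0 = l • e3 C := by
  unfold vec
  module

theorem vec_eq_w_e (C : Hyp F q) (ε c' : F) : vec C c' 0 ε = ε • wv F 2 + c' • e3 C := by
  unfold vec
  module

theorem av_xE_vec (C : Hyp F q) (hF : Fintype.card F = q ^ 2) {t d : F} (hd : HP q t d)
    (E Fc Wc : F) :
    av (xE C hF t d) (vec C E Fc Wc) = vec C (E - d * Fc - t ^ q * Wc) Fc (Wc + t * Fc) := by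
  unfold vec
  simp only [av_add, av_smul, av_xE_e C hF hd, av_xE_w C hF hd, av_xE_f C hF hd]
  module

theorem av_yF_vec (C : Hyp F q) (hF : Fintype.card F = q ^ 2) {t d : F} (hd : HP q t d)
    (E Fc Wc : F) :
    av (yF C hF t d) (vec C E Fc Wc) = vec C E (Fc - d * E - t ^ q * Wc) (Wc + t * E) := by
  unfold vec
  simp only [av_add, av_smul, av_yF_e C hF hd, av_yF_w C hF hd, av_yF_f C hF hd]
  module

end Cfsg.Agent.Lib.Helper23.SU3U
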