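import Mathlib
import Cfsg.Agent.Lib.Helper23.SU3UDefs

/-!
# S2283: additive irreducibility of multipliers lying in no proper subfield
-/

set_option autoImplicit false

namespace Cfsg.Agent.Lib.Helper23.SU3U

open Cfsg.Agent.S0779 Cfsg.Agent.S0781 Cfsg.Agent.Lib.Helper9.SUGen

variable {F : Type*} [Field F] [Fintype F] {q : ℕ}

/-- a multiplier lying in no proper subfield is additively irreducible -/
theorem irr_of_subfield (hF : Fintype.card F = q ^ 2) (ν : F)
    (hν : ∀ κ r : ℕ, 2 ≤ r → κ ^ r = q ^ 2 → ν ^ κ ≠ ν) : Irr ν := by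
  classical
  intro S hS hne
  -- the ring of multipliers
  let R : Subring F :=
    { carrier := {r | ∀ s ∈ S, r * s ∈ S}
      mul_mem' := by
        intro a b ha hb s hs
        rw [mul_assoc]
        exact ha _ (hb s hs)
      one_mem' := by
        intro s hs
        rwa [one_mul]
      add_mem' := by
        intro a b ha hb s hs
        rw [add_mul]
        exact S.add_mem (ha s hs) (hb s hs)
      zero_mem' := by
        intro s _
        rw [zero_mul]
        exact S.zero_mem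
      neg_mem' := by
        intro a ha s hs
        rw [neg_mul]
        exact S.neg_mem (ha s hs) }
  have hcardF : 2 ≤ Fintype.card F := Fintype.one_lt_card
  let K : Subfield F :=
    { R with
      inv_mem' := by
        intro a ha
        by_cases ha0 : a = 0
        · rw [ha0, inv_zero]
          exact R.zero_mem
        · have h1 : a ^ (Fintype.card F - 1) = 1 := FiniteField.pow_card_sub_one_eq_one a ha0
          have h2 : a⁻¹ = a ^ (Fintype.card F - 2) := by
            have e : Fintype.card F - 1 = (Fintype.card F - 2) + 1 := by omega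
            rw [e, pow_succ] at h1
            exact inv_eq_of_mul_eq_one_left h1
          rw [h2]
          exact R.pow_mem ha _ }
  have hνK : ν ∈ K := fun s hs => hS s hs
  have hpow := Module.card_eq_pow_finrank (K := K) (V := F)
  have hνpow : ν ^ Fintype.card K = ν := by
    have h2 := FiniteField.pow_card (⟨ν, hνK⟩ : K)
    have := congrArg Subtype.val h2
    simpa using this
  have hKtop : ∀ r : F, r ∈ K := by
    have hfr : Module.finrank K F = 1 := by
      by_contra hne1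
      rcases Nat.lt_or_gt_of_ne hne1 with h0 | h2
      · have h0' : Module.finrank K F = 0 := by omega
        rw [h0', pow_zero] at hpow
        omega
      · exact hν (Fintype.card K) (Module.finrank K F) h2 (by rw [← hpow, hF]) hνpow
    rw [hfr, pow_one] at hpow
    intro r
    have hsub : (Finset.univ.filter (fun x : F => x ∈ K)) = Finset.univ := by
      apply Finset.eq_univ_of_card
      rw [hpow]
      exact (Fintype.card_subtype (fun x : F => x ∈ K)).symm
    have : r ∈ Finset.univ.filter (fun x : F => x ∈ K) := by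
      rw [hsub]
      exact Finset.mem_univ r
    exact (Finset.mem_filter.mp this).2
  obtain ⟨t0, ht0, ht00⟩ := hne
  intro t
  have := hKtop (t / t0) t0 ht0
  rwa [div_mul_cancel₀ _ ht00] at this

/-- arithmetic: `(q+4)^3 ≤ 27 q^2` forces `q = 8` -/
theorem eq_eight_of_cube_le (q : ℕ) (h : (q + 4) ^ 3 ≤ 27 * q ^ 2) : q = 8 := by
  have h1 : ((q : ℤ) + 4) ^ 3 ≤ 27 * (q : ℤ) ^ 2 := by exact_mod_cast h
  have h2 : ((q : ℤ) - 8) ^ 2 * ((q : ℤ) + 1) ≤ 0 := by nlinarith
  have h3 : ((q : ℤ) - 8) ^ 2 ≤ 0 := by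
    by_contra hh
    push Not at hh
    have h4 : (0 : ℤ) < (q : ℤ) + 1 := by positivity
    have := mul_pos hh h4
    linarith
  have h5 : ((q : ℤ) - 8) ^ 2 = 0 := le_antisymm h3 (sq_nonneg _)
  have h6 : (q : ℤ) - 8 = 0 := by
    rcases pow_eq_zero_iff (n := 2) (by norm_num) |>.mp h5 with h
    exact h
  omega

/-- the generic multiplier `(δ³)⁻¹`, `δ = μ^(q-1)`, lies in no proper subfield unless `q ∈ {2,5,8}` -/
theorem irr_generic (hF : Fintype.card F = q ^ 2) (hq : 3 ≤ q) (h5 : q ≠ 5) (h8 : q ≠ 8)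
    (μ : F) (hμ0 : μ ≠ 0) (hord : ∀ k : ℕ, μ ^ k = 1 → (q ^ 2 - 1) ∣ k) :
    Irr (((μ ^ (q - 1)) ^ 3)⁻¹) := by
  apply irr_of_subfield hF
  intro κ r hr hκr hcon
  have hq2 : 9 ≤ q ^ 2 := by nlinarith
  have hκ2 : 2 ≤ κ := by
    by_contra hh
    have hκ : κ = 0 ∨ κ = 1 := by omega
    rcases hκ with rfl | rfl
    · rw [zero_pow (by omega)] at hκr
      omega
    · rw [one_pow] at hκr
      omega
  have hν0 : ((μ ^ (q - 1)) ^ 3)⁻¹ ≠ 0 := inv_ne_zero (pow_ne_zero _ (pow_ne_zero _ hμ0))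
  have h1 : (((μ ^ (q - 1)) ^ 3)⁻¹) ^ (κ - 1) = 1 := by
    have e : κ = (κ - 1) + 1 := by omega
    rw [e, pow_succ] at hcon
    have h3 : (((μ ^ (q - 1)) ^ 3)⁻¹) ^ (κ - 1) * ((μ ^ (q - 1)) ^ 3)⁻¹ =
        1 * ((μ ^ (q - 1)) ^ 3)⁻¹ := by rw [one_mul]; exact hcon
    exact mul_right_cancel₀ hν0 h3
  rw [inv_pow, inv_eq_one, ← pow_mul, ← pow_mul] at h1
  have h2 := hord _ h1
  obtain ⟨k, rfl⟩ : ∃ k, q = k + 3 := ⟨q - 3, by omega⟩
  have e1 : (k + 3) ^ 2 - 1 = (k + 2) * (k + 4) := by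
    have : (k + 3) ^ 2 = (k + 2) * (k + 4) + 1 := by ring
    omega
  have e2 : k + 3 - 1 = k + 2 := by omega
  rw [e1, e2] at h2
  have h3 : (k + 4) ∣ 3 * (κ - 1) := Nat.dvd_of_mul_dvd_mul_left (by omega) h2
  rcases Nat.lt_or_ge r 3 with hr3 | hr3
  · -- `r = 2`
    obtain rfl : r = 2 := by omega
    have hκq : κ = k + 3 := Nat.pow_left_injective (by norm_num) hκr
    rw [hκq] at h3
    obtain ⟨m, hm⟩ := h3
    have hm2 : m ≤ 2 := by
      by_contra hh
      push Not at hh
      have : (k + 4) * 3 ≤ (k + 4) * m := Nat.mul_le_mul_left _ hh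
      omega
    interval_cases m <;> omega
  · -- `r ≥ 3`
    have h4 : κ ^ 3 ≤ κ ^ r := Nat.pow_le_pow_right (by omega) hr3
    rw [hκr] at h4
    have h5 : k + 4 ≤ 3 * (κ - 1) := Nat.le_of_dvd (by omega) h3
    have h6 : k + 3 + 4 ≤ 3 * κ := by omega
    have h7 : (k + 3 + 4) ^ 3 ≤ (3 * κ) ^ 3 := Nat.pow_le_pow_left h6 3
    have h8' : (3 * κ) ^ 3 = 27 * κ ^ 3 := by ring
    have h9 : (k + 3 + 4) ^ 3 ≤ 27 * (k + 3) ^ 2 := by
      rw [h8'] at h7
      omega
    exact h8 (eq_eight_of_cube_le _ h9)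

end Cfsg.Agent.Lib.Helper23.SU3U
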