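import Mathlib
import Cfsg.Agent.Lib.Helper23.SU3UCoord
import Cfsg.Agent.Lib.Helper23.SU3UIrr

/-!
# S2283: the special case `q = 8` (`W = y x y x x y`)
-/

set_option autoImplicit false
set_option maxHeartbeats 1000000

namespace Cfsg.Agent.Lib.Helper23.SU3U

open Matrix Cfsg.Agent.Lib.Helper6 Cfsg.Agent.S0779 Cfsg.Agent.S0781
open Cfsg.Agent.Lib.Helper6.SUG Cfsg.Agent.Lib.Helper13 Cfsg.Agent.Lib.Helper9.SUGen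

variable {F : Type*} [Field F] [Fintype F]

/-- generators `ω`, `τ` of the field with 64 elements -/
theorem exists_omega_tau_eight (hF : Fintype.card F = 8 ^ 2) :
    (2 : F) = 0 ∧ ∃ ω τ : F, ω ^ 2 + ω + 1 = 0 ∧ τ ^ 3 + τ + 1 = 0 := by
  have h2 : (2 : F) = 0 := by
    have h8 : ((8 : ℕ) : F) = 0 := cast_q_eq_zero hF
    have h8' : (2 : F) ^ 3 = 0 := by
      have : (2 : F) ^ 3 = ((8 : ℕ) : F) := by norm_num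
      rw [this, h8]
    exact pow_eq_zero_iff (by norm_num) |>.mp h8'
  refine ⟨h2, ?_⟩
  obtain ⟨μ, hμ0, -, hord⟩ := exists_gen hF
  have h1 : μ ^ 63 = 1 := by
    have := FiniteField.pow_card_sub_one_eq_one μ hμ0
    rw [hF] at this
    exact this
  have hω : (μ ^ 21) ^ 2 + μ ^ 21 + 1 = 0 := by
    have h2' : μ ^ 21 ≠ 1 := by
      intro h
      have := hord 21 h
      norm_num at this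
    have h3 : (μ ^ 21 - 1) * ((μ ^ 21) ^ 2 + μ ^ 21 + 1) = 0 := by
      have : (μ ^ 21 - 1) * ((μ ^ 21) ^ 2 + μ ^ 21 + 1) = μ ^ 63 - 1 := by ring
      rw [this, h1, sub_self]
    rcases mul_eq_zero.mp h3 with h | h
    · exact absurd (sub_eq_zero.mp h) h2'
    · exact h
  obtain ⟨θ, hθ⟩ : ∃ θ : F, θ = μ ^ 9 := ⟨_, rfl⟩
  have hθ1 : θ ≠ 1 := by
    rw [hθ]
    intro h
    have := hord 9 h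
    norm_num at this
  have hθ7 : θ ^ 7 = 1 := by
    rw [hθ, ← pow_mul]
    exact h1
  have hΦ : (θ ^ 3 + θ + 1) * (θ ^ 3 + θ ^ 2 + 1) = 0 := by
    have h3 : (θ - 1) * ((θ ^ 3 + θ + 1) * (θ ^ 3 + θ ^ 2 + 1)) = 0 := by
      linear_combination hθ7 + (θ ^ 4 - θ ^ 3) * h2
    rcases mul_eq_zero.mp h3 with h | h
    · exact absurd (sub_eq_zero.mp h) hθ1
    · exact h
  rcases mul_eq_zero.mp hΦ with h | h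
  · exact ⟨μ ^ 21, θ, hω, h⟩
  · refine ⟨μ ^ 21, θ + 1, hω, ?_⟩
    linear_combination h + (θ ^ 2 + 2 * θ + 1) * h2

theorem pow_eq_64 (κ r : ℕ) (hr : 2 ≤ r) (h : κ ^ r = 8 ^ 2) : κ = 2 ∨ κ = 4 ∨ κ = 8 := by
  have hκ2 : 2 ≤ κ := by
    by_contra hh
    have hκ : κ = 0 ∨ κ = 1 := by omega
    rcases hκ with rfl | rfl
    · rw [zero_pow (by omega)] at h
      omega
    · rw [one_pow] at h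
      omega
  have h1 : κ ^ 2 ≤ κ ^ r := Nat.pow_le_pow_right (by omega) hr
  have h2 : κ ≤ 8 := by
    by_contra hh
    push Not at hh
    have : 9 ^ 2 ≤ κ ^ 2 := Nat.pow_le_pow_left hh 2
    omega
  have h3 : 2 ^ r ≤ κ ^ r := Nat.pow_le_pow_left hκ2 r
  have h4 : r ≤ 6 := by
    by_contra hh
    push Not at hh
    have : 2 ^ 7 ≤ 2 ^ r := Nat.pow_le_pow_right (by omega) hh
    omega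
  interval_cases κ <;> interval_cases r <;> omega

/-- the design for `q = 8` -/
theorem good_eight (C : Hyp F 8) (hF : Fintype.card F = 8 ^ 2) : Good C hF := by
  obtain ⟨h2, ω, τ, hω, hτ⟩ := exists_omega_tau_eight hF
  have hτ0 : τ ≠ 0 := by
    rintro rfl
    have : (1 : F) = 0 := by linear_combination hτ
    exact one_ne_zero this
  have hω0 : ω ≠ 0 := by
    rintro rfl
    have : (1 : F) = 0 := by linear_combination hω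
    exact one_ne_zero this
  have hc8 : (τ ^ 2 * ω) ^ 8 = τ ^ 2 + τ ^ 2 * ω := by
    linear_combination ((1) * τ ^ 16 + (-1) * ω ^ 2 * τ ^ 16 + (1) * ω ^ 3 * τ ^ 16 + (-1) * ω ^ 5 * τ ^ 16 + (1) * ω ^ 6 * τ ^ 16) * hω + ((4) + (8) * τ + (1) * τ ^ 2 + (-5) * τ ^ 3 + (-3) * τ ^ 4 + (2) * τ ^ 5 + (3) * τ ^ 6 + (-2) * τ ^ 8 + (-1) * τ ^ 9 + (1) * τ ^ 10 + (1) * τ ^ 11 + (-1) * τ ^ 13 + (4) * ω + (8) * ω * τ + (1) * ω * τ ^ 2 + (-5) * ω * τ ^ 3 + (-3) * ω * τ ^ 4 + (2) * ω * τ ^ 5 + (3) * ω * τ ^ 6 + (-2) * ω * τ ^ 8 + (-1) * ω * τ ^ 9 + (1) * ω * τ ^ 10 + (1) * ω * τ ^ 11 + (-1) * ω * τ ^ 13) * hτ + ((-2) + (-6) * τ + (-5) * τ ^ 2 + (-2) * ω + (-6) * ω * τ + (-5) * ω * τ ^ 2) * h2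
  have hcd : HP 8 (τ ^ 2 * ω) (τ ^ 2 + (τ + τ ^ 2) * ω) := by
    unfold HP
    linear_combination ((1) * τ ^ 8 + (8) * τ ^ 9 + (-56) * τ ^ 11 + (-70) * τ ^ 12 + (28) * τ ^ 14 + (8) * τ ^ 15 + (1) * τ ^ 16 + (1) * τ ^ 18 + (-8) * ω * τ ^ 9 + (-28) * ω * τ ^ 10 + (70) * ω * τ ^ 12 + (56) * ω * τ ^ 13 + (6) * ω * τ ^ 16 + (-1) * ω * τ ^ 18 + (-1) * ω ^ 2 * τ ^ 8 + (28) * ω ^ 2 * τ ^ 10 + (56) * ω ^ 2 * τ ^ 11 + (-56) * ω ^ 2 * τ ^ 13 + (48) * ω ^ 2 * τ ^ 15 + (21) * ω ^ 2 * τ ^ 16 + (1) * ω ^ 3 * τ ^ 8 + (8) * ω ^ 3 * τ ^ 9 + (-56) * ω ^ 3 * τ ^ 11 + (-70) * ω ^ 3 * τ ^ 12 + (56) * ω ^ 3 * τ ^ 13 + (168) * ω ^ 3 * τ ^ 14 + (120) * ω ^ 3 * τ ^ 15 + (29) * ω ^ 3 * τ ^ 16 + (1) * ω ^ 3 * τ ^ 18 + (-8) * ω ^ 4 * τ ^ 9 + (-28) * ω ^ 4 * τ ^ 10 + (140) * ω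 ^ 4 * τ ^ 12 + (280) * ω ^ 4 * τ ^ 13 + (252) * ω ^ 4 * τ ^ 14 + (112) * ω ^ 4 * τ ^ 15 + (20) * ω ^ 4 * τ ^ 16 + (-1) * ω ^ 4 * τ ^ 18 + (-1) * ω ^ 5 * τ ^ 8 + (28) * ω ^ 5 * τ ^ 10 + (112) * ω ^ 5 * τ ^ 11 + (210) * ω ^ 5 * τ ^ 12 + (224) * ω ^ 5 * τ ^ 13 + (140) * ω ^ 5 * τ ^ 14 + (48) * ω ^ 5 * τ ^ 15 + (7) * ω ^ 5 * τ ^ 16 + (1) * ω ^ 6 * τ ^ 8 + (8) * ω ^ 6 * τ ^ 9 + (28) * ω ^ 6 * τ ^ 10 + (56) * ω ^ 6 * τ ^ 11 + (70) * ω ^ 6 * τ ^ 12 + (56) * ω ^ 6 * τ ^ 13 + (28) * ω ^ 6 * τ ^ 14 + (8) * ω ^ 6 * τ ^ 15 + (1) * ω ^ 6 * τ ^ 16 + (1) * ω ^ 6 * τ ^ 18 + (-1) * ω ^ 7 * τ ^ 18) * hω + ((176) + (-466) * τ + (-337) * τ ^ 2 + (161) * τ ^ 3 + (305) * τ ^ 4 + (32) * τ ^ 5 + (-193) * τ ^ 6 + (-112) * τ ^ 7 + (79) * τ ^ 8 + (106) * τ ^ 9 + (6) * τ ^ 10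 + (-29) * τ ^ 11 + (-7) * τ ^ 12 + (1) * τ ^ 13 + (-1) * τ ^ 15 + (-454) * ω + (-485) * ω * τ + (84) * ω * τ ^ 2 + (370) * ω * τ ^ 3 + (115) * ω * τ ^ 4 + (-199) * ω * τ ^ 5 + (-171) * ω * τ ^ 6 + (56) * ω * τ ^ 7 + (142) * ω * τ ^ 8 + (29) * ω * τ ^ 9 + (-57) * ω * τ ^ 10 + (-29) * ω * τ ^ 11 + (1) * ω * τ ^ 13) * hτ + ((-88) + (145) * τ + (402) * τ ^ 2 + (227) * ω + (470) * ω * τ + (201) * ω * τ ^ 2) * h2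
  have hab : HP 8 (1 : F) (1 + τ + ω) := by
    unfold HP
    linear_combination ((1) + (56) * τ ^ 3 + (140) * τ ^ 4 + (112) * τ ^ 5 + (28) * τ ^ 6 + (6) * ω + (48) * ω * τ + (168) * ω * τ ^ 2 + (280) * ω * τ ^ 3 + (210) * ω * τ ^ 4 + (56) * ω * τ ^ 5 + (21) * ω ^ 2 + (120) * ω ^ 2 * τ + (252) * ω ^ 2 * τ ^ 2 + (224) * ω ^ 2 * τ ^ 3 + (70) * ω ^ 2 * τ ^ 4 + (29) * ω ^ 3 + (112) * ω ^ 3 * τ + (140) * ω ^ 3 * τ ^ 2 + (56) * ω ^ 3 * τ ^ 3 + (20) * ω ^ 4 + (48) * ω ^ 4 * τ + (28) * ω ^ 4 * τ ^ 2 + (7) * ω ^ 5 + (8) * ω ^ 5 * τ + (1) * ω ^ 6) * hω + ((66) + (-77) * τ + (-65) * τ ^ 2 + (-1) * τ ^ 3 + (8) * τ ^ 4 + (1) * τ ^ 5 + (-76) * ω + (-106) * ω * τ + (-8) * ω * τ ^ 2 + (28) * ω * τ ^ 3 + (8) * ω * τ ^ 4) * hτ + ((-33) + (10) * τ + (85) * τ ^ 2 + (39)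 * ω + (95) * ω * τ + (57) * ω * τ ^ 2) * h2
  have hlam : (1 : F) * (τ ^ 2 + ω) = -(((τ ^ 2 + ω) ^ 8) ^ 2) * (τ ^ 2 * ω) := by
    linear_combination ((1) * τ ^ 2 + (-120) * τ ^ 6 + (560) * τ ^ 8 + (-4368) * τ ^ 12 + (8008) * τ ^ 14 + (-12870) * τ ^ 18 + (11440) * τ ^ 20 + (-4368) * τ ^ 24 + (1820) * τ ^ 26 + (-120) * τ ^ 30 + (16) * τ ^ 32 + (-16) * ω * τ ^ 4 + (120) * ω * τ ^ 6 + (-1820) * ω * τ ^ 10 + (4368) * ω * τ ^ 12 + (-11440) * ω * τ ^ 16 + (12870) * ω * τ ^ 18 + (-8008) * ω * τ ^ 22 + (4368) * ω * τ ^ 24 + (-560) * ω * τ ^ 28 + (120) * ω * τ ^ 30 + (-1) * ω ^ 2 * τ ^ 2 + (16) * ω ^ 2 * τ ^ 4 + (-560) * ω ^ 2 * τ ^ 8 + (1820) * ω ^ 2 * τ ^ 10 + (-8008) * ω ^ 2 * τ ^ 14 + (11440) * ω ^ 2 * τ ^ 16 + (-11440) * ω ^ 2 * τ ^ 20 + (8008) * ω ^ 2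 * τ ^ 22 + (-1820) * ω ^ 2 * τ ^ 26 + (560) * ω ^ 2 * τ ^ 28 + (1) * ω ^ 3 * τ ^ 2 + (-120) * ω ^ 3 * τ ^ 6 + (560) * ω ^ 3 * τ ^ 8 + (-4368) * ω ^ 3 * τ ^ 12 + (8008) * ω ^ 3 * τ ^ 14 + (-12870) * ω ^ 3 * τ ^ 18 + (11440) * ω ^ 3 * τ ^ 20 + (-4368) * ω ^ 3 * τ ^ 24 + (1820) * ω ^ 3 * τ ^ 26 + (-16) * ω ^ 4 * τ ^ 4 + (120) * ω ^ 4 * τ ^ 6 + (-1820) * ω ^ 4 * τ ^ 10 + (4368) * ω ^ 4 * τ ^ 12 + (-11440) * ω ^ 4 * τ ^ 16 + (12870) * ω ^ 4 * τ ^ 18 + (-8008) * ω ^ 4 * τ ^ 22 + (4368) * ω ^ 4 * τ ^ 24 + (-1) * ω ^ 5 * τ ^ 2 + (16) * ω ^ 5 * τ ^ 4 + (-560) * ω ^ 5 * τ ^ 8 + (1820) * ω ^ 5 * τ ^ 10 + (-8008) * ω ^ 5 * τ ^ 14 + (11440) * ω ^ 5 * τ ^ 16 + (-11440) * ω ^ 5 * τ ^ 20 + (8008) * ω ^ 5 * τ ^ 22 + (1) * ω ^ 6 * τ ^ 2 + (-120) * ω ^ 6 * τ ^ 6 + (560)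 * ω ^ 6 * τ ^ 8 + (-4368) * ω ^ 6 * τ ^ 12 + (8008) * ω ^ 6 * τ ^ 14 + (-12870) * ω ^ 6 * τ ^ 18 + (11440) * ω ^ 6 * τ ^ 20 + (-16) * ω ^ 7 * τ ^ 4 + (120) * ω ^ 7 * τ ^ 6 + (-1820) * ω ^ 7 * τ ^ 10 + (4368) * ω ^ 7 * τ ^ 12 + (-11440) * ω ^ 7 * τ ^ 16 + (12870) * ω ^ 7 * τ ^ 18 + (-1) * ω ^ 8 * τ ^ 2 + (16) * ω ^ 8 * τ ^ 4 + (-560) * ω ^ 8 * τ ^ 8 + (1820) * ω ^ 8 * τ ^ 10 + (-8008) * ω ^ 8 * τ ^ 14 + (11440) * ω ^ 8 * τ ^ 16 + (1) * ω ^ 9 * τ ^ 2 + (-120) * ω ^ 9 * τ ^ 6 + (560) * ω ^ 9 * τ ^ 8 + (-4368) * ω ^ 9 * τ ^ 12 + (8008) * ω ^ 9 * τ ^ 14 + (-16) * ω ^ 10 * τ ^ 4 + (120) * ω ^ 10 * τ ^ 6 + (-1820) * ω ^ 10 * τ ^ 10 + (4368) * ω ^ 10 * τ ^ 12 + (-1) * ω ^ 11 * τ ^ 2 + (16) * ω ^ 11 * τ ^ 4 + (-560) * ω ^ 11 * τ ^ 8 + (1820) * ω ^ 11 * τ ^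 10 + (1) * ω ^ 12 * τ ^ 2 + (-120) * ω ^ 12 * τ ^ 6 + (560) * ω ^ 12 * τ ^ 8 + (-16) * ω ^ 13 * τ ^ 4 + (120) * ω ^ 13 * τ ^ 6 + (-1) * ω ^ 14 * τ ^ 2 + (16) * ω ^ 14 * τ ^ 4 + (1) * ω ^ 15 * τ ^ 2) * hω + ((328420) + (336462) * τ + (-67444) * τ ^ 2 + (-260976) * τ ^ 3 + (-75486) * τ ^ 4 + (142930) * τ ^ 5 + (118166) * τ ^ 6 + (-42680) * τ ^ 7 + (-100810) * τ ^ 8 + (-17356) * τ ^ 9 + (60036) * τ ^ 10 + (40774) * τ ^ 11 + (-19050) * τ ^ 12 + (-40986) * τ ^ 13 + (-7796) * τ ^ 14 + (26846) * τ ^ 15 + (14140) * τ ^ 16 + (-6344) * τ ^ 17 + (-7632) * τ ^ 18 + (-6508) * τ ^ 19 + (1412) * τ ^ 20 + (6220) * τ ^ 21 + (288) * τ ^ 22 + (-1700) * τ ^ 23 + (-152) * τ ^ 24 + (-136) * τ ^ 25 + (16) * τ ^ 26 + (136) * τ ^ 27 + (-16) * τ ^ 29 + (452375) * ω + (8319)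 * ω * τ + (-304796) * ω * τ ^ 2 + (-147579) * ω * τ ^ 3 + (139276) * ω * τ ^ 4 + (165520) * ω * τ ^ 5 + (-17941) * ω * τ ^ 6 + (-121335) * ω * τ ^ 7 + (-44745) * ω * τ ^ 8 + (62686) * ω * τ ^ 9 + (60469) * ω * τ ^ 10 + (-15724) * ω * τ ^ 11 + (-46962) * ω * τ ^ 12 + (-13507) * ω * τ ^ 13 + (21223) * ω * τ ^ 14 + (25739) * ω * τ ^ 15 + (-792) * ω * τ ^ 16 + (-20431) * ω * τ ^ 17 + (-5308) * ω * τ ^ 18 + (6100) * ω * τ ^ 19 + (2891) * ω * τ ^ 20 + (2417) * ω * τ ^ 21 + (-509) * ω * τ ^ 22 + (-2382) * ω * τ ^ 23 + (-35) * ω * τ ^ 24 + (544) * ω * τ ^ 25 + (18) * ω * τ ^ 26 + (17) * ω * τ ^ 27 + (-1) * ω * τ ^ 28 + (-17) * ω * τ ^ 29 + (1) * ω * τ ^ 31) * hτ + ((-164210) + (-332441) * τ + (-134509) * τ ^ 2 + (-226187) * ω + (-230347) * ω * τ + (148238)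 * ω * τ ^ 2) * h2
  have hlam0 : τ ^ 2 + ω ≠ 0 := by
    intro h
    have e1 : ω = -τ ^ 2 := by linear_combination h
    have e3 : τ ^ 4 - τ ^ 2 + 1 = 0 := by
      rw [e1] at hω
      linear_combination hω
    have e2 : τ = 1 := by
      linear_combination (-1 : F) * e3 + τ * hτ - τ ^ 2 * h2
    rw [e2] at hτ
    have : (1 : F) = 0 := by linear_combination hτ - h2
    exact one_ne_zero this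
  have hWe : av (yF C hF (τ ^ 2 * ω) (τ ^ 2 + (τ + τ ^ 2) * ω) * xE C hF 1 (1 + τ + ω) *
      yF C hF (τ ^ 2 * ω) (τ ^ 2 + (τ + τ ^ 2) * ω) * xE C hF 1 (1 + τ + ω) * xE C hF 1 (1 + τ + ω) *
      yF C hF (τ ^ 2 * ω) (τ ^ 2 + (τ + τ ^ 2) * ω)) (e3 C) = (τ ^ 2 + (1 + τ) * ω) • e3 C := by
    have h1 : av (yF C hF (τ ^ 2 * ω) (τ ^ 2 + (τ + τ ^ 2) * ω) * xE C hF 1 (1 + τ + ω) *
      yF C hF (τ ^ 2 * ω) (τ ^ 2 + (τ + τ ^ 2) * ω) * xE C hF 1 (1 + τ + ω) * xE C hF 1 (1 + τ + ω) *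
      yF C hF (τ ^ 2 * ω) (τ ^ 2 + (τ + τ ^ 2) * ω)) (vec C 1 0 0) = vec C (τ ^ 2 + (1 + τ) * ω) 0 0 := by
      rw [av_mul, av_mul, av_mul, av_mul, av_mul, av_yF_vec C hF hcd, av_xE_vec C hF hab,
        av_xE_vec C hF hab, av_yF_vec C hF hcd, av_xE_vec C hF hab, av_yF_vec C hF hcd]
      simp only [hc8, one_pow]
      apply vec_congr
      · linear_combination ((4) * τ + (2) * τ ^ 2 + (6) * τ ^ 4 + (8) * τ ^ 5 + (2) * τ ^ 6 + (3) * ω * τ ^ 2 + (8) * ω * τ ^ 3 + (10) * ω * τ ^ 4 + (4) * ω * τ ^ 5 + (2) * ω ^ 2 * τ ^ 2 + (4) * ω ^ 2 * τ ^ 3 + (2) * ω ^ 2 * τ ^ 4) * hω + ((9) + (-5) * τ + (-5) * τ ^ 2 + (-1) * ω + (-9) * ω * τ + (-1) * ω * τ ^ 2 + (2) * ω * τ ^ 3) * hτ + ((-4) + (-4) * τ + (7) * τ ^ 2 + (6) * ω * τ + (8) * ω * τ ^ 2) * h2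
      · linear_combination ((-4) * τ ^ 2 + (-13) * τ ^ 3 + (-14) * τ ^ 4 + (7) * τ ^ 5 + (6) * τ ^ 6 + (-7) * τ ^ 7 + (-4) * τ ^ 8 + (-6) * ω * τ ^ 2 + (-10) * ω * τ ^ 3 + (-4) * ω * τ ^ 4 + (-9) * ω * τ ^ 5 + (-21) * ω * τ ^ 6 + (-14) * ω * τ ^ 7 + (-2) * ω * τ ^ 8 + (-3) * ω ^ 2 * τ ^ 3 + (-11) * ω ^ 2 * τ ^ 4 + (-20) * ω ^ 2 * τ ^ 5 + (-16) * ω ^ 2 * τ ^ 6 + (-4) * ω ^ 2 * τ ^ 7 + (-2) * ω ^ 3 * τ ^ 3 + (-6) * ω ^ 3 * τ ^ 4 + (-6) * ω ^ 3 * τ ^ 5 + (-2) * ω ^ 3 * τ ^ 6) * hω + ((42) + (12) * τ + (-21) * τ ^ 2 + (-8) * τ ^ 3 + (6) * τ ^ 4 + (2) * τ ^ 5 + (22) * ω + (-21) * ω * τ + (-20) * ω * τ ^ 2 + (7) * ω * τ ^ 3 + (9) * ω * τ ^ 4) * hτ + ((-21) + (-27) * τ + (5) * τ ^ 2 + (-11) * ω + (-2) * ω * τ + (24) * ω * τ ^ 2) * h2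
      · linear_combination ((-1) * τ ^ 2 + (3) * τ ^ 4 + (-7) * τ ^ 6 + (-1) * τ ^ 7 + (2) * τ ^ 8 + (-2) * ω * τ ^ 2 + (2) * ω * τ ^ 3 + (2) * ω * τ ^ 4 + (6) * ω * τ ^ 6 + (8) * ω * τ ^ 7 + (2) * ω * τ ^ 8 + (3) * ω ^ 2 * τ ^ 4 + (8) * ω ^ 2 * τ ^ 5 + (10) * ω ^ 2 * τ ^ 6 + (4) * ω ^ 2 * τ ^ 7 + (2) * ω ^ 3 * τ ^ 4 + (4) * ω ^ 3 * τ ^ 5 + (2) * ω ^ 3 * τ ^ 6) * hω + ((-8) + (-14) * τ + (-1) * τ ^ 2 + (9) * τ ^ 3 + (1) * τ ^ 4 + (-2) * τ ^ 5 + (-18) * ω + (-2) * ω * τ + (8) * ω * τ ^ 2 + (4) * ω * τ ^ 3 + (-4) * ω * τ ^ 4 + (-2) * ω * τ ^ 5) * hτ + ((4) + (11) * τ + (6) * τ ^ 2 + (9) * ω + (8) * ω * τ + (-2) * ω * τ ^ 2) * h2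
    conv_lhs => rw [vec_e C]
    rw [h1, vec_eq_smul_e]
  have hWw : av (yF C hF (τ ^ 2 * ω) (τ ^ 2 + (τ + τ ^ 2) * ω) * xE C hF 1 (1 + τ + ω) *
      yF C hF (τ ^ 2 * ω) (τ ^ 2 + (τ + τ ^ 2) * ω) * xE C hF 1 (1 + τ + ω) * xE C hF 1 (1 + τ + ω) *
      yF C hF (τ ^ 2 * ω) (τ ^ 2 + (τ + τ ^ 2) * ω)) (wv F 2) =
      (τ ^ 2 + (τ + τ ^ 2) * ω) • wv F 2 + (0 : F) • e3 C := by
    have h1 : av (yF C hF (τ ^ 2 * ω) (τ ^ 2 + (τ + τ ^ 2) * ω) * xE C hF 1 (1 + τ + ω) *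
      yF C hF (τ ^ 2 * ω) (τ ^ 2 + (τ + τ ^ 2) * ω) * xE C hF 1 (1 + τ + ω) * xE C hF 1 (1 + τ + ω) *
      yF C hF (τ ^ 2 * ω) (τ ^ 2 + (τ + τ ^ 2) * ω)) (vec C 0 0 1) = vec C 0 0 (τ ^ 2 + (τ + τ ^ 2) * ω) := by
      rw [av_mul, av_mul, av_mul, av_mul, av_mul, av_yF_vec C hF hcd, av_xE_vec C hF hab,
        av_xE_vec C hF hab, av_yF_vec C hF hcd, av_xE_vec C hF hab, av_yF_vec C hF hcd]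
      simp only [hc8, one_pow]
      apply vec_congr
      · linear_combination ((-2) * τ + (2) * τ ^ 2 + (1) * τ ^ 3 + (4) * τ ^ 4 + (7) * τ ^ 5 + (2) * τ ^ 6 + (5) * ω * τ ^ 3 + (7) * ω * τ ^ 4 + (4) * ω * τ ^ 5 + (2) * ω ^ 2 * τ ^ 3 + (2) * ω ^ 2 * τ ^ 4) * hω + ((5) + (-3) * τ + (-4) * τ ^ 2 + (-2) * ω + (-6) * ω * τ + (-1) * ω * τ ^ 2 + (2) * ω * τ ^ 3) * hτ + ((-4) + (5) * τ ^ 2 + (1) * ω + (4) * ω * τ + (6) * ω * τ ^ 2) * h2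
      · linear_combination ((-8) * τ ^ 3 + (-7) * τ ^ 4 + (3) * τ ^ 5 + (4) * τ ^ 6 + (-6) * τ ^ 7 + (-4) * τ ^ 8 + (2) * ω * τ ^ 2 + (-2) * ω * τ ^ 3 + (-5) * ω * τ ^ 4 + (-5) * ω * τ ^ 5 + (-16) * ω * τ ^ 6 + (-13) * ω * τ ^ 7 + (-2) * ω * τ ^ 8 + (-5) * ω ^ 2 * τ ^ 4 + (-12) * ω ^ 2 * τ ^ 5 + (-13) * ω ^ 2 * τ ^ 6 + (-4) * ω ^ 2 * τ ^ 7 + (-2) * ω ^ 3 * τ ^ 4 + (-4) * ω ^ 3 * τ ^ 5 + (-2) * ω ^ 3 * τ ^ 6) * hω + ((28) + (4) * τ + (-14) * τ ^ 2 + (-6) * τ ^ 3 + (5) * τ ^ 4 + (2) * τ ^ 5 + (12) * ω + (-15) * ω * τ + (-15) * ω * τ ^ 2 + (5) * ω * τ ^ 3 + (8) * ω * τ ^ 4) * hτ + ((-14) + (-16) * τ + (6) * τ ^ 2 + (-6) * ω + (4) * ω * τ + (15) * ω * τ ^ 2) * h2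
      · linear_combination ((-3) * τ ^ 3 + (3) * τ ^ 4 + (-1) * τ ^ 5 + (-4) * τ ^ 6 + (-1) * τ ^ 7 + (2) * τ ^ 8 + (-4) * ω * τ ^ 3 + (2) * ω * τ ^ 4 + (1) * ω * τ ^ 5 + (4) * ω * τ ^ 6 + (7) * ω * τ ^ 7 + (2) * ω * τ ^ 8 + (5) * ω ^ 2 * τ ^ 5 + (7) * ω ^ 2 * τ ^ 6 + (4) * ω ^ 2 * τ ^ 7 + (2) * ω ^ 3 * τ ^ 5 + (2) * ω ^ 3 * τ ^ 6) * hω + ((-3) + (-11) * τ + (6) * τ ^ 3 + (1) * τ ^ 4 + (-2) * τ ^ 5 + (-4) * ω + (-3) * ω * τ + (5) * ω * τ ^ 2 + (3) * ω * τ ^ 3 + (-3) * ω * τ ^ 4 + (-2) * ω * τ ^ 5) * hτ + ((2) + (7) * τ + (4) * τ ^ 2 + (2) * ω + (4) * ω * τ + (-5) * ω * τ ^ 2) * h2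
    conv_lhs => rw [vec_w C]
    rw [h1, vec_eq_w_e]
  refine ⟨1, 1 + τ + ω, τ ^ 2 * ω, τ ^ 2 + (τ + τ ^ 2) * ω, τ ^ 2 + ω, τ ^ 2 + (1 + τ) * ω,
    τ ^ 2 + (τ + τ ^ 2) * ω, 0, yF C hF (τ ^ 2 * ω) (τ ^ 2 + (τ + τ ^ 2) * ω) * xE C hF 1 (1 + τ + ω) *
      yF C hF (τ ^ 2 * ω) (τ ^ 2 + (τ + τ ^ 2) * ω) * xE C hF 1 (1 + τ + ω) * xE C hF 1 (1 + τ + ω) *
      yF C hF (τ ^ 2 * ω) (τ ^ 2 + (τ + τ ^ 2) * ω),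
    hab, one_ne_zero, hcd, mul_ne_zero (pow_ne_zero _ hτ0) hω0, hlam0, hlam, ?_, hWe, hWw, ?_⟩
  · have hyL : yF C hF (τ ^ 2 * ω) (τ ^ 2 + (τ + τ ^ 2) * ω) ∈ Subgroup.closure
        ({yF C hF (τ ^ 2 * ω) (τ ^ 2 + (τ + τ ^ 2) * ω), xE C hF 1 (1 + τ + ω)} :
          Set ↥(Cfsg.SU (2 + 1) F 8)) :=
      Subgroup.subset_closure (by simp)
    have hxL : xE C hF 1 (1 + τ + ω) ∈ Subgroup.closure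
        ({yF C hF (τ ^ 2 * ω) (τ ^ 2 + (τ + τ ^ 2) * ω), xE C hF 1 (1 + τ + ω)} :
          Set ↥(Cfsg.SU (2 + 1) F 8)) :=
      Subgroup.subset_closure (by simp)
    exact Subgroup.mul_mem _ (Subgroup.mul_mem _ (Subgroup.mul_mem _ (Subgroup.mul_mem _
      (Subgroup.mul_mem _ hyL hxL) hyL) hxL) hxL) hyL
  · have hν : (τ ^ 2 + (1 + τ) * ω) ^ 8 * (τ ^ 2 + (τ + τ ^ 2) * ω) = τ * ω := by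
      linear_combination ((-1) * τ + (-8) * τ ^ 2 + (-20) * τ ^ 3 + (8) * τ ^ 4 + (154) * τ ^ 5 + (364) * τ ^ 6 + (308) * τ ^ 7 + (-260) * τ ^ 8 + (-827) * τ ^ 9 + (-566) * τ ^ 10 + (260) * τ ^ 11 + (560) * τ ^ 12 + (154) * τ ^ 13 + (-154) * τ ^ 14 + (-76) * τ ^ 15 + (16) * τ ^ 16 + (8) * τ ^ 17 + (1) * ω * τ + (9) * ω * τ ^ 2 + (36) * ω * τ ^ 3 + (76) * ω * τ ^ 4 + (42) * ω * τ ^ 5 + (-210) * ω * τ ^ 6 + (-560) * ω * τ ^ 7 + (-468) * ω * τ ^ 8 + (261) * ω * τ ^ 9 + (827) * ω * τ ^ 10 + (468) * ω * τ ^ 11 + (-252) * ω * τ ^ 12 + (-364) * ω * τ ^ 13 + (-42) * ω * τ ^ 14 + (84) * ω * τ ^ 15 + (28) * ω * τ ^ 16 + (-1) * ω ^ 2 * τ ^ 2 + (-16) * ω ^ 2 * τ ^ 3 + (-84) * ω ^ 2 * τ ^ 4 + (-196) * ω ^ 2 * τ ^ 5 + (-154) * ω ^ 2 * τ ^ 6 + (252) * ω ^ 2 * τ ^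 7 + (728) * ω ^ 2 * τ ^ 8 + (566) * ω ^ 2 * τ ^ 9 + (-261) * ω ^ 2 * τ ^ 10 + (-728) * ω ^ 2 * τ ^ 11 + (-308) * ω ^ 2 * τ ^ 12 + (210) * ω ^ 2 * τ ^ 13 + (224) * ω ^ 2 * τ ^ 14 + (56) * ω ^ 2 * τ ^ 15 + (-1) * ω ^ 3 * τ + (-8) * ω ^ 3 * τ ^ 2 + (-20) * ω ^ 3 * τ ^ 3 + (8) * ω ^ 3 * τ ^ 4 + (154) * ω ^ 3 * τ ^ 5 + (364) * ω ^ 3 * τ ^ 6 + (308) * ω ^ 3 * τ ^ 7 + (-260) * ω ^ 3 * τ ^ 8 + (-827) * ω ^ 3 * τ ^ 9 + (-566) * ω ^ 3 * τ ^ 10 + (260) * ω ^ 3 * τ ^ 11 + (616) * ω ^ 3 * τ ^ 12 + (350) * ω ^ 3 * τ ^ 13 + (70) * ω ^ 3 * τ ^ 14 + (1) * ω ^ 4 * τ + (9) * ω ^ 4 * τ ^ 2 + (36) * ω ^ 4 * τ ^ 3 + (76) * ω ^ 4 * τ ^ 4 + (42) * ω ^ 4 * τ ^ 5 + (-210) * ω ^ 4 * τ ^ 6 + (-560) * ω ^ 4 * τ ^ 7 + (-468) * ω ^ 4 * τ ^ 8 + (261) * ω ^ 4 * τ ^ 9 + (897) * ω ^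 4 * τ ^ 10 + (804) * ω ^ 4 * τ ^ 11 + (336) * ω ^ 4 * τ ^ 12 + (56) * ω ^ 4 * τ ^ 13 + (-1) * ω ^ 5 * τ ^ 2 + (-16) * ω ^ 5 * τ ^ 3 + (-84) * ω ^ 5 * τ ^ 4 + (-196) * ω ^ 5 * τ ^ 5 + (-154) * ω ^ 5 * τ ^ 6 + (252) * ω ^ 5 * τ ^ 7 + (784) * ω ^ 5 * τ ^ 8 + (916) * ω ^ 5 * τ ^ 9 + (579) * ω ^ 5 * τ ^ 10 + (196) * ω ^ 5 * τ ^ 11 + (28) * ω ^ 5 * τ ^ 12 + (-1) * ω ^ 6 * τ + (-8) * ω ^ 6 * τ ^ 2 + (-20) * ω ^ 6 * τ ^ 3 + (8) * ω ^ 6 * τ ^ 4 + (154) * ω ^ 6 * τ ^ 5 + (392) * ω ^ 6 * τ ^ 6 + (532) * ω ^ 6 * τ ^ 7 + (440) * ω ^ 6 * τ ^ 8 + (223) * ω ^ 6 * τ ^ 9 + (64) * ω ^ 6 * τ ^ 10 + (8) * ω ^ 6 * τ ^ 11 + (1) * ω ^ 7 * τ + (9) * ω ^ 7 * τ ^ 2 + (36) * ω ^ 7 * τ ^ 3 + (84) * ω ^ 7 * τ ^ 4 + (126) * ω ^ 7 * τ ^ 5 + (126) * ω ^ 7 * τ ^ 6 + (84) * ω ^ 7 *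 τ ^ 7 + (36) * ω ^ 7 * τ ^ 8 + (9) * ω ^ 7 * τ ^ 9 + (1) * ω ^ 7 * τ ^ 10) * hω + ((-3636) + (4879) * τ + (4759) * τ ^ 2 + (-1103) * τ ^ 3 + (-3784) * τ ^ 4 + (-1129) * τ ^ 5 + (1868) * τ ^ 6 + (1608) * τ ^ 7 + (-219) * τ ^ 8 + (-822) * τ ^ 9 + (-220) * τ ^ 10 + (179) * τ ^ 11 + (83) * τ ^ 12 + (-17) * τ ^ 13 + (-8) * τ ^ 14 + (1) * τ ^ 15 + (4440) * ω + (6389) * ω * τ + (-56) * ω * τ ^ 2 + (-4400) * ω * τ ^ 3 + (-2073) * ω * τ ^ 4 + (1933) * ω * τ ^ 5 + (2313) * ω * τ ^ 6 + (12) * ω * τ ^ 7 + (-1217) * ω * τ ^ 8 + (-530) * ω * τ ^ 9 + (257) * ω * τ ^ 10 + (232) * ω * τ ^ 11 + (-10) * ω * τ ^ 12 + (-37) * ω * τ ^ 13 + (1) * ω * τ ^ 14 + (1) * ω * τ ^ 15) * hτ + ((1818) + (-621) * τ + (-4815) * τ ^ 2 + (-2220) * ω + (-5415) * ω * τ + (-3167) * ω * τ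 ^ 2) * h2
    rw [hν]
    have hν8 : (τ * ω) ^ 8 - τ * ω - τ = 0 := by
      linear_combination ((1) * τ ^ 8 + (-1) * ω ^ 2 * τ ^ 8 + (1) * ω ^ 3 * τ ^ 8 + (-1) * ω ^ 5 * τ ^ 8 + (1) * ω ^ 6 * τ ^ 8) * hω + ((-2) + (-1) * τ + (1) * τ ^ 2 + (1) * τ ^ 3 + (-1) * τ ^ 5 + (-2) * ω + (-1) * ω * τ + (1) * ω * τ ^ 2 + (1) * ω * τ ^ 3 + (-1) * ω * τ ^ 5) * hτ + ((1) + (1) * τ + (1) * ω + (1) * ω * τ) * h2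
    have hν4 : (τ * ω) ^ 4 - τ * ω - τ ^ 2 * ω = 0 := by
      linear_combination ((-1) * ω * τ ^ 4 + (1) * ω ^ 2 * τ ^ 4) * hω + ((1) * ω * τ) * hτ + ((-1) * ω * τ + (-1) * ω * τ ^ 2) * h2
    apply irr_of_subfield hF
    intro κ r hr hκr hcon
    rcases pow_eq_64 κ r hr hκr with rfl | rfl | rfl
    · -- `κ = 2`
      have h3 : τ * ω * (τ * ω - 1) = 0 := by linear_combination hcon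
      rcases mul_eq_zero.mp h3 with h | h
      · exact mul_ne_zero hτ0 hω0 h
      · have h4 : τ * ω = 1 := by linear_combination h
        rw [h4] at hν8
        apply hτ0
        linear_combination (-1 : F) * hν8
    · -- `κ = 4`
      have h3 : τ ^ 2 * ω = 0 := by linear_combination hcon - hν4
      exact mul_ne_zero (pow_ne_zero _ hτ0) hω0 h3
    · -- `κ = 8`
      apply hτ0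
      linear_combination hcon - hν8

end Cfsg.Agent.Lib.Helper23.SU3U
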