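import Mathlib
import Cfsg.Agent.Lib.Helper23.SU3UCoord
import Cfsg.Agent.Lib.Helper23.SU3UIrr

/-!
# S2283: the special case `q = 5` (`W = y y x y`)
-/

set_option autoImplicit false

namespace Cfsg.Agent.Lib.Helper23.SU3U

open Matrix Cfsg.Agent.Lib.Helper6 Cfsg.Agent.S0779 Cfsg.Agent.S0781
open Cfsg.Agent.Lib.Helper6.SUG Cfsg.Agent.Lib.Helper13 Cfsg.Agent.Lib.Helper9.SUGen

variable {F : Type*} [Field F] [Fintype F]

/-- a primitive cube root of unity in the field with 25 elements -/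
theorem exists_omega_five (hF : Fintype.card F = 5 ^ 2) :
    (5 : F) = 0 ∧ ∃ ω : F, ω ^ 2 + ω + 1 = 0 := by
  constructor
  · have := cast_q_eq_zero hF
    exact_mod_cast this
  · obtain ⟨μ, hμ0, -, hord⟩ := exists_gen hF
    refine ⟨μ ^ 8, ?_⟩
    have h1 : μ ^ 24 = 1 := by
      have := FiniteField.pow_card_sub_one_eq_one μ hμ0
      rw [hF] at this
      exact this
    have h2 : μ ^ 8 ≠ 1 := by
      intro h
      have := hord 8 h
      norm_num at this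
    have h3 : (μ ^ 8 - 1) * ((μ ^ 8) ^ 2 + μ ^ 8 + 1) = 0 := by
      have : (μ ^ 8 - 1) * ((μ ^ 8) ^ 2 + μ ^ 8 + 1) = μ ^ 24 - 1 := by ring
      rw [this, h1, sub_self]
    rcases mul_eq_zero.mp h3 with h | h
    · exact absurd (sub_eq_zero.mp h) h2
    · exact h

theorem pow_eq_25 (κ r : ℕ) (hr : 2 ≤ r) (h : κ ^ r = 5 ^ 2) : κ = 5 := by
  have hκ2 : 2 ≤ κ := by
    by_contra hh
    have hκ : κ = 0 ∨ κ = 1 := by omega
    rcases hκ with rfl | rfl
    · rw [zero_pow (by omega)] at h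
      omega
    · rw [one_pow] at h
      omega
  have h1 : κ ^ 2 ≤ κ ^ r := Nat.pow_le_pow_right (by omega) hr
  have h2 : κ ≤ 5 := by
    by_contra hh
    push Not at hh
    have : 6 ^ 2 ≤ κ ^ 2 := Nat.pow_le_pow_left hh 2
    omega
  have h3 : 2 ^ r ≤ κ ^ r := Nat.pow_le_pow_left hκ2 r
  have h4 : r ≤ 4 := by
    by_contra hh
    push Not at hh
    have : 2 ^ 5 ≤ 2 ^ r := Nat.pow_le_pow_right (by omega) hh
    omega
  interval_cases κ <;> interval_cases r <;> omega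

/-- the design for `q = 5` -/
theorem good_five (C : Hyp F 5) (hF : Fintype.card F = 5 ^ 2) : Good C hF := by
  obtain ⟨h5, ω, hω⟩ := exists_omega_five hF
  have hcd : HP 5 (2 : F) (ω ^ 2) := by
    unfold HP
    linear_combination ((1) + (-1) * ω + (1) * ω ^ 2 + (-1) * ω ^ 4 + (1) * ω ^ 5 + (-1) * ω ^ 7 + (1) * ω ^ 8) * hω + ((-13)) * h5
  have hab : HP 5 (4 + 3 * ω) (2 + ω) := by
    unfold HP
    linear_combination ((-5062) + (-15819) * ω + (-13599) * ω ^ 2 + (-5102) * ω ^ 3 + (-729) * ω ^ 4) * hω + ((200) + (506) * ω) * h5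
  have hlam : (4 + 3 * ω) * (3 + ω) = -(((3 + ω) ^ 5) ^ 2) * 2 := by
    linear_combination ((154815) + (246298) * ω + (189380) * ω ^ 2 + (89202) * ω ^ 3 + (27598) * ω ^ 4 + (5672) * ω ^ 5 + (750) * ω ^ 6 + (58) * ω ^ 7 + (2) * ω ^ 8) * hω + ((-7341) + (-1488) * ω) * h5
  -- `ω` is not in the prime field
  have h2ne : (2 : F) ≠ 0 := by
    intro h2
    have : (1 : F) = 0 := by linear_combination h5 - 2 * h2
    exact one_ne_zero this
  have hω3 : (3 : F) + ω ≠ 0 := by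
    intro h
    have hω' : ω = -3 := by linear_combination h
    rw [hω'] at hω
    apply h2ne
    linear_combination hω - h5
  have ha0 : (4 : F) + 3 * ω ≠ 0 := by
    intro h
    -- `3 (4 + 3ω) = 12 + 9ω = 2 + 4ω`, times `4`: `8 + 16ω = 3 + ω`
    apply hω3
    linear_combination 2 * h - (1 + ω) * h5
  have hWe : av (yF C hF 2 (ω ^ 2) * yF C hF 2 (ω ^ 2) * xE C hF (4 + 3 * ω) (2 + ω) *
      yF C hF 2 (ω ^ 2)) (e3 C) = (3 + 4 * ω) • e3 C := by
    have h1 : av (yF C hF 2 (ω ^ 2) * yF C hF 2 (ω ^ 2) * xE C hF (4 + 3 * ω) (2 + ω) *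
        yF C hF 2 (ω ^ 2)) (vec C 1 0 0) = vec C (3 + 4 * ω) 0 0 := by
      rw [av_mul, av_mul, av_mul, av_yF_vec C hF hcd, av_xE_vec C hF hab, av_yF_vec C hF hcd,
        av_yF_vec C hF hcd]
      apply vec_congr
      · linear_combination ((-3365) + (-5399) * ω + (-2754) * ω ^ 2 + (-486) * ω ^ 3) * hω + ((263) + (216) * ω) * h5
      · linear_combination ((214955) + (343560) * ω + (182986) * ω ^ 2 + (41902) * ω ^ 3 + (5508) * ω ^ 4 + (972) * ω ^ 5) * hω + ((-16815) + (-13399) * ω) * h5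
      · linear_combination ((-13461) + (-21599) * ω + (-11016) * ω ^ 2 + (-1944) * ω ^ 3) * hω + ((1055) + (868) * ω) * h5
    conv_lhs => rw [vec_e C]
    rw [h1, vec_eq_smul_e]
  have hWw : av (yF C hF 2 (ω ^ 2) * yF C hF 2 (ω ^ 2) * xE C hF (4 + 3 * ω) (2 + ω) *
      yF C hF 2 (ω ^ 2)) (wv F 2) = (4 * ω) • wv F 2 + (3 : F) • e3 C := by
    have h1 : av (yF C hF 2 (ω ^ 2) * yF C hF 2 (ω ^ 2) * xE C hF (4 + 3 * ω) (2 + ω) *
        yF C hF 2 (ω ^ 2)) (vec C 0 0 1) = vec C 3 0 (4 * ω) := by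
      rw [av_mul, av_mul, av_mul, av_yF_vec C hF hcd, av_xE_vec C hF hab, av_yF_vec C hF hcd,
        av_yF_vec C hF hcd]
      apply vec_congr
      · linear_combination ((-1683) + (-2700) * ω + (-1377) * ω ^ 2 + (-243) * ω ^ 3) * hω + ((144) + (115) * ω) * h5
      · linear_combination ((107416) + (171650) * ω + (91494) * ω ^ 2 + (20952) * ω ^ 3 + (2754) * ω ^ 4 + (486) * ω ^ 5) * hω + ((-7576) + (-5842) * ω) * h5
      · linear_combination ((-6732) + (-10800) * ω + (-5508) * ω ^ 2 + (-972) * ω ^ 3) * hω + ((553) + (440) * ω) * h5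
    conv_lhs => rw [vec_w C]
    rw [h1, vec_eq_w_e]
  refine ⟨4 + 3 * ω, 2 + ω, 2, ω ^ 2, 3 + ω, 3 + 4 * ω, 4 * ω, 3,
    yF C hF 2 (ω ^ 2) * yF C hF 2 (ω ^ 2) * xE C hF (4 + 3 * ω) (2 + ω) * yF C hF 2 (ω ^ 2),
    hab, ha0, hcd, h2ne, hω3, hlam, ?_, hWe, hWw, ?_⟩
  · have hyL : yF C hF 2 (ω ^ 2) ∈ Subgroup.closure
        ({yF C hF 2 (ω ^ 2), xE C hF (4 + 3 * ω) (2 + ω)} : Set ↥(Cfsg.SU (2 + 1) F 5)) :=
      Subgroup.subset_closure (by simp)
    have hxL : xE C hF (4 + 3 * ω) (2 + ω) ∈ Subgroup.closure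
        ({yF C hF 2 (ω ^ 2), xE C hF (4 + 3 * ω) (2 + ω)} : Set ↥(Cfsg.SU (2 + 1) F 5)) :=
      Subgroup.subset_closure (by simp)
    exact Subgroup.mul_mem _ (Subgroup.mul_mem _ (Subgroup.mul_mem _ hyL hyL) hxL) hyL
  · have hν : (3 + 4 * ω) ^ 5 * (4 * ω) = 1 + 2 * ω := by
      linear_combination ((464) + (-1664) * ω + (7680) * ω ^ 2 + (11264) * ω ^ 3 + (4096) * ω ^ 4) * hω + ((-93) + (434) * ω) * h5
    rw [hν]
    apply irr_of_subfield hF
    intro κ r hr hκr hcon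
    obtain rfl := pow_eq_25 κ r hr hκr
    apply hω3
    have hν5 : (1 + 2 * ω) ^ 5 - (1 + 2 * ω) - (3 + ω) = 0 := by
      linear_combination ((-8) + (48) * ω ^ 2 + (32) * ω ^ 3) * hω + ((1) + (3) * ω) * h5
    linear_combination hcon - hν5

end Cfsg.Agent.Lib.Helper23.SU3U
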