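import Mathlib
import Cfsg.Agent.Lib.Helper23.SU3UCoord

/-!
# S2283: the generic design `W = y x y`
-/

set_option autoImplicit false

namespace Cfsg.Agent.Lib.Helper23.SU3U

open Matrix Cfsg.Agent.Lib.Helper6 Cfsg.Agent.S0779 Cfsg.Agent.S0781
open Cfsg.Agent.Lib.Helper6.SUG Cfsg.Agent.Lib.Helper13 Cfsg.Agent.Lib.Helper9.SUGen

variable {F : Type*} [Field F] [Fintype F] {q : ℕ}

/-- the generic design -/
theorem good_generic_core (C : Hyp F q) (hF : Fintype.card F = q ^ 2) (δ : F)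
    (hδ : δ * δ ^ q = 1) (hδ1 : 1 + δ ≠ 0) (hirr : Irr ((δ ^ 3)⁻¹)) : Good C hF := by
  have hδ0 : δ ≠ 0 := by
    rintro rfl
    rw [zero_mul] at hδ
    exact zero_ne_one hδ
  have hδq : δ ^ q = δ⁻¹ := eq_inv_of_mul_eq_one_right hδ
  obtain ⟨d, hd⟩ : ∃ d : F, d = δ / (1 + δ) := ⟨_, rfl⟩
  obtain ⟨a, ha⟩ : ∃ a : F, a = (1 + δ) * (1 + δ) / δ := ⟨_, rfl⟩
  obtain ⟨b, hb⟩ : ∃ b : F, b = (δ - 1 + a) / d := ⟨_, rfl⟩
  have hδ1' : δ + 1 ≠ 0 := by rwa [add_comm] at hδ1
  have hd0 : d ≠ 0 := by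
    rw [hd]
    exact div_ne_zero hδ0 hδ1
  have ha0 : a ≠ 0 := by
    rw [ha]
    exact div_ne_zero (mul_ne_zero hδ1 hδ1) hδ0
  have hdq : d ^ q = 1 / (1 + δ) := by
    rw [hd, div_pow, add_pow_q hF, one_pow, hδq]
    field_simp
    ring
  have haq : a ^ q = a := by
    rw [ha, div_pow, mul_pow, add_pow_q hF, one_pow, hδq]
    field_simp
    ring
  have hbq : b ^ q = (δ⁻¹ - 1 + a) * (1 + δ) := by
    rw [hb, div_pow, add_pow_q hF, sub_pow_q hF, one_pow, hδq, haq, hdq]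
    field_simp
  have hda : d * a = 1 + δ := by
    rw [hd, ha]
    field_simp
  have hdb : d * b = δ - 1 + a := by
    rw [hb]
    field_simp
  have hdδ : d * δ + d = δ := by
    rw [hd]
    field_simp
    ring
  have hcd : HP q (1 : F) d := by
    unfold HP
    rw [hdq, hd, one_pow]
    field_simp
    ring
  have hab : HP q a b := by
    unfold HP
    rw [hbq, haq, hb, hd, ha]
    field_simp
    ring
  have hε : 1 - 2 * a + b = (δ ^ 2)⁻¹ := by
    rw [hb, hd, ha]
    field_simp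
    ring
  have hlamq : (-a) ^ q = -a := by rw [neg_pow_q hF, haq]
  -- the action of `W` on `e3`
  have hWe : av (yF C hF 1 d * xE C hF a b * yF C hF 1 d) (e3 C) = δ • e3 C := by
    have h1 : av (yF C hF 1 d * xE C hF a b * yF C hF 1 d) (vec C 1 0 0) = vec C δ 0 0 := by
      rw [av_mul, av_mul, av_yF_vec C hF hcd, av_xE_vec C hF hab, av_yF_vec C hF hcd]
      apply vec_congr
      · rw [haq, one_pow]
        linear_combination hdb
      · rw [haq, one_pow]
        linear_combination (-d) * hdb + hda - hdδ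
      · rw [haq, one_pow]
        linear_combination hdb - hda
    conv_lhs => rw [vec_e C]
    rw [h1, vec_eq_smul_e]
  -- the action of `W` on `w`
  have hWw : av (yF C hF 1 d * xE C hF a b * yF C hF 1 d) (wv F 2) =
      (δ ^ 2)⁻¹ • wv F 2 + (b - a) • e3 C := by
    have h1 : av (yF C hF 1 d * xE C hF a b * yF C hF 1 d) (vec C 0 0 1) =
        vec C (b - a) 0 (δ ^ 2)⁻¹ := by
      rw [av_mul, av_mul, av_yF_vec C hF hcd, av_xE_vec C hF hab, av_yF_vec C hF hcd]
      apply vec_congr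
      · rw [haq, one_pow]
        ring
      · rw [haq, one_pow]
        linear_combination (-1 : F) * hdb + hda
      · rw [haq, one_pow, ← hε]
        ring
    conv_lhs => rw [vec_w C]
    rw [h1, vec_eq_w_e]
  refine ⟨a, b, 1, d, -a, δ, (δ ^ 2)⁻¹, b - a, yF C hF 1 d * xE C hF a b * yF C hF 1 d,
    hab, ha0, hcd, one_ne_zero, neg_ne_zero.mpr ha0, ?_, ?_, hWe, hWw, ?_⟩
  · rw [hlamq]
    ring
  · have hyL : yF C hF 1 d ∈ Subgroup.closure
        ({yF C hF 1 d, xE C hF a b} : Set ↥(Cfsg.SU (2 + 1) F q)) :=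
      Subgroup.subset_closure (by simp)
    have hxL : xE C hF a b ∈ Subgroup.closure
        ({yF C hF 1 d, xE C hF a b} : Set ↥(Cfsg.SU (2 + 1) F q)) :=
      Subgroup.subset_closure (by simp)
    exact Subgroup.mul_mem _ (Subgroup.mul_mem _ hyL hxL) hyL
  · have e : δ ^ q * (δ ^ 2)⁻¹ = (δ ^ 3)⁻¹ := by
      rw [hδq]
      field_simp
    rw [e]
    exact hirr

end Cfsg.Agent.Lib.Helper23.SU3U
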