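import Mathlib
import Cfsg.Agent.Lib.Helper23.SU3UDefs

/-!
# S2283: `yF c d` with `c ≠ 0` is a regular unipotent element
-/

set_option autoImplicit false

namespace Cfsg.Agent.Lib.Helper23.SU3U

open Matrix Cfsg.Agent.Lib.Helper6 Cfsg.Agent.S0779 Cfsg.Agent.S0781
open Cfsg.Agent.Lib.Helper6.SUG Cfsg.Agent.Lib.Helper13 Cfsg.Agent.Lib.Helper9.SUGen

variable {F : Type*} [Field F] [Fintype F] {q : ℕ}

theorem regular_yF (C : Hyp F q) (hF : Fintype.card F = q ^ 2) {c d : F} (hd : HP q c d)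
    (hc : c ≠ 0) :
    IsNilpotent ((((yF C hF c d : ↥(Cfsg.SU (2 + 1) F q)) :
        Matrix.SpecialLinearGroup (Fin (2 + 1)) F) : Matrix (Fin (2 + 1)) (Fin (2 + 1)) F) - 1) ∧
      ((((yF C hF c d : ↥(Cfsg.SU (2 + 1) F q)) :
        Matrix.SpecialLinearGroup (Fin (2 + 1)) F) : Matrix (Fin (2 + 1)) (Fin (2 + 1)) F) - 1) ^
          (3 - 1) ≠ 0 := by
  have hff := h_ff C
  have hef := h_ef C
  have hfw := h_fw C hF
  have hwf := h_wf C hF
  have hww := h_ww (F := F) hF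
  obtain ⟨M, hM⟩ : ∃ M : Matrix (Fin (2 + 1)) (Fin (2 + 1)) F,
      M = (((yF C hF c d : ↥(Cfsg.SU (2 + 1) F q)) :
        Matrix.SpecialLinearGroup (Fin (2 + 1)) F) : Matrix (Fin (2 + 1)) (Fin (2 + 1)) F) :=
    ⟨_, rfl⟩
  rw [← hM]
  have hMv : ∀ x, M *ᵥ x = av (yF C hF c d) x := by
    intro x
    rw [hM]
    rfl
  have hN : ∀ x, (M - 1) *ᵥ x =
      Cfsg.hermForm (2 + 1) F q x (f3 C) • (c • wv F 2 - d • f3 C) -
        (c ^ q * Cfsg.hermForm (2 + 1) F q x (wv F 2)) • f3 C := by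
    intro x
    rw [sub_mulVec, one_mulVec, hMv, av_yF C hF hd]
    abel
  have hN2 : ∀ x, (M - 1) *ᵥ ((M - 1) *ᵥ x) =
      (-(c * c ^ q * Cfsg.hermForm (2 + 1) F q x (f3 C))) • f3 C := by
    intro x
    rw [hN x, hN]
    simp only [herm_sub_left', herm_smul_left, hff, hfw, hwf, hww]
    module
  have hNf : (M - 1) *ᵥ f3 C = 0 := by
    rw [hN, hff, hfw]
    module
  have hf0 : f3 C ≠ 0 := by
    intro h
    rw [h, herm_zero_right hF] at hef
    exact zero_ne_one hef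
  constructor
  · refine ⟨3, ?_⟩
    apply mat_ext
    intro x
    rw [pow_succ, pow_two, ← mulVec_mulVec, ← mulVec_mulVec, hN2, zero_mulVec, hN x]
    simp only [herm_sub_left', herm_smul_left, hff, hwf]
    simp
  · have e : (3 - 1 : ℕ) = 2 := by norm_num
    rw [e]
    intro h0
    have h1 : ((M - 1) ^ 2) *ᵥ e3 C = 0 := by rw [h0, zero_mulVec]
    rw [pow_two, ← mulVec_mulVec, hN2, hef, mul_one] at h1
    have h2 : -(c * c ^ q) ≠ 0 := neg_ne_zero.mpr (mul_ne_zero hc (pow_ne_zero _ hc))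
    rcases smul_eq_zero.mp h1 with h | h
    · exact h2 h
    · exact hf0 h

end Cfsg.Agent.Lib.Helper23.SU3U
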