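import Mathlib
import Cfsg.Agent.Lib.Helper23.SU3UClosure
import Cfsg.Agent.Lib.Helper23.SU3UGeneric
import Cfsg.Agent.Lib.Helper23.SU3UIrr
import Cfsg.Agent.Lib.Helper23.SU3UConj
import Cfsg.Agent.Lib.Helper23.SU3URegular
import Cfsg.Agent.Lib.Helper23.SU3UFive
import Cfsg.Agent.Lib.Helper23.SU3UEight

/-!
# S2283: `SU_3(q)`, `q ≥ 3`, is generated by two conjugate regular unipotent elements
-/

set_option autoImplicit false

namespace Cfsg.Agent.Lib.Helper23.SU3U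

open Matrix Cfsg.Agent.Lib.Helper6 Cfsg.Agent.S0779 Cfsg.Agent.S0781
open Cfsg.Agent.Lib.Helper6.SUG Cfsg.Agent.Lib.Helper13 Cfsg.Agent.Lib.Helper9.SUGen

variable {F : Type*} [Field F] [Fintype F] {q : ℕ}

/-- the norm-one generator `δ = μ^(q-1)` -/
theorem delta_props (hF : Fintype.card F = q ^ 2) (hq : 3 ≤ q) (μ : F) (hμ0 : μ ≠ 0)
    (hord : ∀ k : ℕ, μ ^ k = 1 → (q ^ 2 - 1) ∣ k) :
    μ ^ (q - 1) * (μ ^ (q - 1)) ^ q = 1 ∧ 1 + μ ^ (q - 1) ≠ 0 := by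
  have h1 : μ ^ (q ^ 2 - 1) = 1 := by
    rw [← hF]
    exact FiniteField.pow_card_sub_one_eq_one μ hμ0
  obtain ⟨k, rfl⟩ : ∃ k, q = k + 3 := ⟨q - 3, by omega⟩
  have e1 : (k + 3) ^ 2 - 1 = (k + 2) * (k + 4) := by
    have : (k + 3) ^ 2 = (k + 2) * (k + 4) + 1 := by ring
    omega
  have e2 : k + 3 - 1 = k + 2 := by omega
  rw [e2]
  constructor
  · rw [← pow_mul, ← pow_add]
    have e3 : k + 2 + (k + 2) * (k + 3) = (k + 2) * (k + 4) := by ring
    rw [e3, ← e1]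
    exact h1
  · intro h
    have h2 : μ ^ (k + 2) = -1 := by linear_combination h
    have h3 : μ ^ (2 * (k + 2)) = 1 := by
      rw [mul_comm, pow_mul, h2]
      ring
    have h4 := hord _ h3
    rw [e1] at h4
    have h5 := Nat.le_of_dvd (by omega) h4
    nlinarith

/-- a good design exists for every `q ≥ 3` -/
theorem good_all (C : Hyp F q) (hF : Fintype.card F = q ^ 2) (hq : 3 ≤ q) : Good C hF := by
  by_cases h5 : q = 5
  · subst h5
    exact good_five C hF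
  by_cases h8 : q = 8
  · subst h8
    exact good_eight C hF
  obtain ⟨μ, hμ0, -, hord⟩ := exists_gen hF
  obtain ⟨hδ, hδ1⟩ := delta_props hF hq μ hμ0 hord
  exact good_generic_core C hF _ hδ hδ1 (irr_generic hF hq h5 h8 μ hμ0 hord)

/-- **S2283** in the form over `Fin (2 + 1)` -/
theorem main (hF : Fintype.card F = q ^ 2) (hq : 3 ≤ q) :
    ∃ u g : ↥(Cfsg.SU (2 + 1) F q),
      (IsNilpotent (((u : Matrix.SpecialLinearGroup (Fin (2 + 1)) F) :
          Matrix (Fin (2 + 1)) (Fin (2 + 1)) F) - 1) ∧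
        (((u : Matrix.SpecialLinearGroup (Fin (2 + 1)) F) :
          Matrix (Fin (2 + 1)) (Fin (2 + 1)) F) - 1) ^ (3 - 1) ≠ 0) ∧
      Subgroup.closure ({u, g * u * g⁻¹} : Set ↥(Cfsg.SU (2 + 1) F q)) = ⊤ := by
  obtain ⟨C⟩ := exists_hyp hF
  obtain ⟨a, b, c, d, lam, l, ε, c', W, hab, ha, hcd, hc, hlam, hal, hWmem, hWe, hWw, hirr⟩ :=
    good_all C hF hq
  obtain ⟨g, hg⟩ := exists_conj C hF hab hcd hc hlam hal
  refine ⟨yF C hF c d, g, regular_yF C hF hcd hc, ?_⟩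
  rw [hg]
  exact closure_top_of C hF hq _ hab ha (Subgroup.subset_closure (by simp)) hcd hc
    (Subgroup.subset_closure (by simp)) W hWmem l ε c' hWe hWw hirr

/-- the three-conjugates corollary (the case `n = 3` of S2282) -/
theorem main3 (hF : Fintype.card F = q ^ 2) (hq : 3 ≤ q) :
    ∃ u g h : ↥(Cfsg.SU (2 + 1) F q),
      (IsNilpotent (((u : Matrix.SpecialLinearGroup (Fin (2 + 1)) F) :
          Matrix (Fin (2 + 1)) (Fin (2 + 1)) F) - 1) ∧
        (((u : Matrix.SpecialLinearGroup (Fin (2 + 1)) F) :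
          Matrix (Fin (2 + 1)) (Fin (2 + 1)) F) - 1) ^ (3 - 1) ≠ 0) ∧
      Subgroup.closure ({u, g * u * g⁻¹, h * u * h⁻¹} : Set ↥(Cfsg.SU (2 + 1) F q)) = ⊤ := by
  obtain ⟨u, g, hu, hgen⟩ := main hF hq
  refine ⟨u, g, g, hu, ?_⟩
  rw [Set.pair_eq_singleton]
  exact hgen

end Cfsg.Agent.Lib.Helper23.SU3U
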