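import Mathlib

/-!
# P. Hall's theorem, the easy case (helper23)

A finite `r`-group `G` of exponent `r gcd(2, r)` whose centre has order `r gcd(2, r)` and in which every
characteristic abelian subgroup is cyclic has class at most two: every commutator is central.
-/

set_option autoImplicit false

namespace Cfsg.Agent.Lib.Helper23.SUCorC6A

open scoped commutatorElement

variable {G : Type*} [Group G]

/-- In a finite `p`-group a nontrivial normal subgroup meets the centre nontrivially. -/
theorem normal_inf_center_ne_bot [Finite G] {p : ℕ} [Fact p.Prime]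
    (hG : IsPGroup p G) (N : Subgroup G) [N.Normal] (hN : N ≠ ⊥) :
    N ⊓ Subgroup.center G ≠ ⊥ := by
  have hGc : IsPGroup p (ConjAct G) := hG.of_equiv ConjAct.toConjAct
  have hNp : IsPGroup p N := hG.to_subgroup N
  have hdvd : p ∣ Nat.card N := by
    rcases hNp.card_eq_or_dvd with h | h
    · exfalso
      apply hN
      exact (Subgroup.card_eq_one).mp h
    · exact h
  have h1 : (1 : N) ∈ MulAction.fixedPoints (ConjAct G) N := by
    intro g
    exact smul_one g
  obtain ⟨b, hb, hb1⟩ := hGc.exists_fixed_point_of_prime_dvd_card_of_fixed_point N hdvd h1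
  intro hbot
  apply hb1
  have hbc : (b : G) ∈ N ⊓ Subgroup.center G := by
    refine Subgroup.mem_inf.mpr ⟨b.2, ?_⟩
    rw [Subgroup.mem_center_iff]
    intro g
    have := hb (ConjAct.toConjAct g)
    have h2 := congrArg Subtype.val this
    rw [ConjAct.Subgroup.val_conj_smul, ConjAct.toConjAct_smul] at h2
    calc g * (b : G) = (g * (b : G) * g⁻¹) * g := by group
      _ = (b : G) * g := by rw [h2]
  rw [hbot, Subgroup.mem_bot] at hbc
  exact (Subtype.ext hbc).symm

/-- bilinearity of the commutator in the first variable, central values -/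
theorem comm_mul_left (u u' g : G) (h : ⁅u', g⁆ ∈ Subgroup.center G) :
    ⁅u * u', g⁆ = ⁅u, g⁆ * ⁅u', g⁆ := by
  have hc : ∀ x, ⁅u', g⁆ * x = x * ⁅u', g⁆ := fun x => (Subgroup.mem_center_iff.mp h x).symm
  have e1 : ⁅u * u', g⁆ = u * ⁅u', g⁆ * u⁻¹ * ⁅u, g⁆ := by
    simp only [commutatorElement_def]; group
  rw [e1, ← hc u, mul_inv_cancel_right, hc]

/-- bilinearity of the commutator in the second variable, central values -/
theorem comm_mul_right (u g g' : G) (h : ⁅u, g'⁆ ∈ Subgroup.center G) :
    ⁅u, g * g'⁆ = ⁅u, g⁆ * ⁅u, g'⁆ := by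
  have hc : ∀ x, ⁅u, g'⁆ * x = x * ⁅u, g'⁆ := fun x => (Subgroup.mem_center_iff.mp h x).symm
  have e1 : ⁅u, g * g'⁆ = u * g * u⁻¹ * ⁅u, g'⁆ * g⁻¹ := by
    simp only [commutatorElement_def]; group
  rw [e1, mul_assoc (u * g * u⁻¹), hc, ← mul_assoc]
  simp only [commutatorElement_def]

/-- membership in the second centre -/
theorem mem_U_iff {x : G} :
    x ∈ Subgroup.upperCentralSeries G 2 ↔ ∀ y : G, ⁅x, y⁆ ∈ Subgroup.center G := by
  rw [show (2 : ℕ) = 1 + 1 from rfl, Subgroup.mem_upperCentralSeries_succ_iff,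
    Subgroup.upperCentralSeries_one]

/-- in exponent `4`, commutators with elements of the second centre have order at most two -/
theorem comm_sq_eq_one (h4 : ∀ x : G, x ^ 4 = 1) (u g : G)
    (hu : u ∈ Subgroup.upperCentralSeries G 2) : ⁅u, g⁆ ^ 2 = 1 := by
  have hU := mem_U_iff.mp hu
  have huu : u * u ∈ Subgroup.upperCentralSeries G 2 := Subgroup.mul_mem _ hu hu
  have hUU := mem_U_iff.mp huu
  set c := ⁅u, g⁆ with hc_def
  have hcz : c ∈ Subgroup.center G := hU g
  have hc : ∀ x, c * x = x * c := fun x => (Subgroup.mem_center_iff.mp hcz x).symm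
  have e1 : ⁅u * u, g⁆ = c * c := comm_mul_left u u g (hU g)
  have e2 : ⁅u * u, g * g⁆ = (c * c) * (c * c) := by
    rw [comm_mul_right (u * u) g g (hUU g), e1]
  have e3 : ⁅u * u, g * g⁆ = 1 := by
    rw [e2]
    have := h4 c
    rw [show (4 : ℕ) = 2 + 2 from rfl, pow_add, pow_two] at this
    exact this
  have hab : (u * u) * (g * g) = (g * g) * (u * u) :=
    (commutatorElement_eq_one_iff_commute.mp e3).eq
  -- `g * u = c⁻¹ * u * g`
  have hgu : g * u = c⁻¹ * (u * g) := by
    rw [hc_def, commutatorElement_def]; group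
  have hci : ∀ x, c⁻¹ * x = x * c⁻¹ := by
    intro x
    have := hc x
    calc c⁻¹ * x = c⁻¹ * (x * c) * c⁻¹ := by group
      _ = c⁻¹ * (c * x) * c⁻¹ := by rw [this]
      _ = x * c⁻¹ := by group
  have hsq : (u * g) * (u * g) = c⁻¹ * ((u * u) * (g * g)) := by
    calc (u * g) * (u * g) = u * (g * u) * g := by group
      _ = u * (c⁻¹ * (u * g)) * g := by rw [hgu]
      _ = (u * c⁻¹) * (u * g) * g := by group
      _ = (c⁻¹ * u) * (u * g) * g := by rw [hci u]
      _ = c⁻¹ * ((u * u) * (g * g)) := by group
  have h4ug := h4 (u * g)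
  rw [show (4 : ℕ) = 2 + 2 from rfl, pow_add, pow_two, hsq] at h4ug
  have hu4 : (u * u) * (u * u) = 1 := by
    have := h4 u
    rw [show (4 : ℕ) = 2 + 2 from rfl, pow_add, pow_two] at this
    exact this
  have hg4 : (g * g) * (g * g) = 1 := by
    have := h4 g
    rw [show (4 : ℕ) = 2 + 2 from rfl, pow_add, pow_two] at this
    exact this
  have h5 : c⁻¹ * ((u * u) * (g * g)) * (c⁻¹ * ((u * u) * (g * g))) = c⁻¹ * c⁻¹ := by
    calc c⁻¹ * ((u * u) * (g * g)) * (c⁻¹ * ((u * u) * (g * g)))
        = c⁻¹ * (((u * u) * (g * g)) * c⁻¹) * ((u * u) * (g * g)) := by group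
      _ = c⁻¹ * (c⁻¹ * ((u * u) * (g * g))) * ((u * u) * (g * g)) := by
          rw [← hci ((u * u) * (g * g))]
      _ = c⁻¹ * c⁻¹ * ((u * u) * ((g * g) * (u * u)) * (g * g)) := by group
      _ = c⁻¹ * c⁻¹ * ((u * u) * ((u * u) * (g * g)) * (g * g)) := by rw [hab]
      _ = c⁻¹ * c⁻¹ * (((u * u) * (u * u)) * ((g * g) * (g * g))) := by group
      _ = c⁻¹ * c⁻¹ := by rw [hu4, hg4]; group
  rw [h5] at h4ug
  have h6 : c * c = 1 := by
    have := congrArg (fun x => x⁻¹) h4ug
    simpa using this
  rw [pow_two]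
  exact h6

/-- commutators with elements of the second centre have order dividing `r` -/
theorem comm_pow_eq_one (r : ℕ) (hr : r.Prime) (hexp : Monoid.exponent G = r * Nat.gcd 2 r)
    (u g : G) (hu : u ∈ Subgroup.upperCentralSeries G 2) : ⁅u, g⁆ ^ r = 1 := by
  by_cases h2 : r = 2
  · subst h2
    have h4 : ∀ x : G, x ^ 4 = 1 := by
      intro x
      have := Monoid.pow_exponent_eq_one x
      rw [hexp] at this
      simpa using this
    exact comm_sq_eq_one h4 u g hu
  · have hco : Nat.gcd 2 r = 1 := (Nat.coprime_primes Nat.prime_two hr).mpr (Ne.symm h2)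
    have := Monoid.pow_exponent_eq_one ⁅u, g⁆
    rw [hexp, hco, mul_one] at this
    exact this

/-- the centre of the second centre is the centre -/
theorem U_inf_centralizer_eq [Finite G] (r : ℕ)
    (hcyc : ∀ A : Subgroup G, A.Characteristic → IsMulCommutative A → IsCyclic A)
    (hexp : Monoid.exponent G = r * Nat.gcd 2 r)
    (hZ : Nat.card (Subgroup.center G) = r * Nat.gcd 2 r) :
    Subgroup.upperCentralSeries G 2 ⊓
      Subgroup.centralizer (Subgroup.upperCentralSeries G 2 : Set G) = Subgroup.center G := by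
  set U := Subgroup.upperCentralSeries G 2 with hU
  set ZU := U ⊓ Subgroup.centralizer (U : Set G) with hZU
  have hchar : ZU.Characteristic := inferInstance
  have hcomm : IsMulCommutative ZU := by
    refine ⟨⟨fun a b => ?_⟩⟩
    apply Subtype.ext
    have ha := (Subgroup.mem_inf.mp a.2).2
    have hb := (Subgroup.mem_inf.mp b.2).1
    have := Subgroup.mem_centralizer_iff.mp ha b hb
    simpa using this.symm
  have hcy : IsCyclic ZU := hcyc ZU hchar hcomm
  obtain ⟨g, hg⟩ := hcy.exists_generator
  have hord : orderOf g = Nat.card ZU := orderOf_eq_card_of_forall_mem_zpowers hg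
  have hdvd : Nat.card ZU ∣ r * Nat.gcd 2 r := by
    rw [← hord, ← Subgroup.orderOf_coe, ← hexp]
    exact Monoid.order_dvd_exponent _
  have hle : Subgroup.center G ≤ ZU := by
    refine le_inf ?_ (Subgroup.center_le_centralizer _)
    intro z hz
    rw [hU, mem_U_iff]
    intro y
    have : ⁅z, y⁆ = 1 := by
      rw [commutatorElement_eq_one_iff_commute]
      exact (Subgroup.mem_center_iff.mp hz y).symm
    rw [this]
    exact Subgroup.one_mem _
  have hpos : 0 < r * Nat.gcd 2 r := by
    rw [← hZ]; exact Nat.card_pos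
  have hcard : Nat.card ZU ≤ Nat.card (Subgroup.center G) := by
    rw [hZ]; exact Nat.le_of_dvd hpos hdvd
  exact (Subgroup.eq_of_le_of_card_ge hle hcard).symm

/-- the centraliser of the second centre is the centre -/
theorem centralizer_U_eq [Finite G] (r : ℕ) (hr : r.Prime) (hG : IsPGroup r G)
    (hcyc : ∀ A : Subgroup G, A.Characteristic → IsMulCommutative A → IsCyclic A)
    (hexp : Monoid.exponent G = r * Nat.gcd 2 r)
    (hZ : Nat.card (Subgroup.center G) = r * Nat.gcd 2 r) :
    Subgroup.centralizer (Subgroup.upperCentralSeries G 2 : Set G) = Subgroup.center G := by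
  haveI : Fact r.Prime := ⟨hr⟩
  have hB := U_inf_centralizer_eq r hcyc hexp hZ
  set U := Subgroup.upperCentralSeries G 2 with hU
  set C := Subgroup.centralizer (U : Set G) with hC
  refine le_antisymm ?_ (Subgroup.center_le_centralizer _)
  by_contra hnot
  obtain ⟨x, hxC, hxZ⟩ := SetLike.not_le_iff_exists.mp hnot
  set Z := Subgroup.center G with hZdef
  have hQ : IsPGroup r (G ⧸ Z) := hG.to_quotient Z
  set N : Subgroup (G ⧸ Z) := C.map (QuotientGroup.mk' Z) with hN
  haveI : C.Normal := by rw [hC]; infer_instance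
  haveI : N.Normal := Subgroup.Normal.map inferInstance _ (QuotientGroup.mk'_surjective Z)
  have hNne : N ≠ ⊥ := by
    intro h
    have h1 : (QuotientGroup.mk' Z x) ∈ N := Subgroup.mem_map_of_mem _ hxC
    rw [h, Subgroup.mem_bot] at h1
    exact hxZ ((QuotientGroup.eq_one_iff x).mp h1)
  have hmeet := normal_inf_center_ne_bot hQ N hNne
  obtain ⟨y, hy1⟩ := (Subgroup.ne_bot_iff_exists_ne_one).mp hmeet
  have hyN : (y : G ⧸ Z) ∈ N := (Subgroup.mem_inf.mp y.2).1
  have hyc : (y : G ⧸ Z) ∈ Subgroup.center (G ⧸ Z) := (Subgroup.mem_inf.mp y.2).2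
  obtain ⟨x', hx'C, hx'y⟩ := Subgroup.mem_map.mp hyN
  have hx'U : x' ∈ U := by
    rw [hU, mem_U_iff]
    intro g
    have : (QuotientGroup.mk' Z) ⁅x', g⁆ = 1 := by
      rw [map_commutatorElement, hx'y, commutatorElement_eq_one_iff_commute]
      exact (Subgroup.mem_center_iff.mp hyc _).symm
    exact (QuotientGroup.eq_one_iff _).mp this
  have hx'Z : x' ∈ Z := by
    rw [← hB]
    exact Subgroup.mem_inf.mpr ⟨hx'U, hx'C⟩
  apply hy1
  apply Subtype.ext
  rw [Subgroup.coe_one, ← hx'y]
  exact (QuotientGroup.eq_one_iff x').mpr hx'Z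

/-- the class of an element of the second centre has at most `r` elements -/
theorem index_centralizer_le [Finite G] (r : ℕ) (hr : r.Prime)
    (hcyc : ∀ A : Subgroup G, A.Characteristic → IsMulCommutative A → IsCyclic A)
    (hexp : Monoid.exponent G = r * Nat.gcd 2 r)
    (v : G) (hv : v ∈ Subgroup.upperCentralSeries G 2) :
    (Subgroup.centralizer ({v} : Set G)).index ≤ r := by
  classical
  set Z := Subgroup.center G with hZdef
  haveI : IsCyclic Z := hcyc Z inferInstance inferInstance
  haveI : Fintype Z := Fintype.ofFinite Z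
  have hU := mem_U_iff.mp hv
  let f : G → {a : Z // a ^ r = 1} := fun g => ⟨⟨⁅v, g⁆, hU g⟩, by
    apply Subtype.ext
    simp [comm_pow_eq_one r hr hexp v g hv]⟩
  have hf : ∀ a b : G, a⁻¹ * b ∈ Subgroup.centralizer ({v} : Set G) → f a = f b := by
    intro a b hab
    have hk : v * (a⁻¹ * b) = (a⁻¹ * b) * v :=
      Subgroup.mem_centralizer_iff.mp hab v (Set.mem_singleton v)
    apply Subtype.ext
    apply Subtype.ext
    show ⁅v, a⁆ = ⁅v, b⁆
    set k := a⁻¹ * b with hkdef
    have hb : b = a * k := by rw [hkdef]; group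
    have hk' : k * v⁻¹ * k⁻¹ = v⁻¹ := by
      calc k * v⁻¹ * k⁻¹ = v⁻¹ * (v * k) * v⁻¹ * k⁻¹ := by group
        _ = v⁻¹ * (k * v) * v⁻¹ * k⁻¹ := by rw [hk]
        _ = v⁻¹ := by group
    rw [hb]
    calc ⁅v, a⁆ = v * a * v⁻¹ * a⁻¹ := by rw [commutatorElement_def]
      _ = v * a * (k * v⁻¹ * k⁻¹) * a⁻¹ := by rw [hk']
      _ = ⁅v, a * k⁆ := by rw [commutatorElement_def]; group
  let φ : G ⧸ Subgroup.centralizer ({v} : Set G) → {a : Z // a ^ r = 1} :=
    Quotient.lift f (fun a b hab => hf a b (QuotientGroup.leftRel_apply.mp hab))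
  have hφ : Function.Injective φ := by
    intro x y
    induction x using Quotient.inductionOn with
    | h a =>
      induction y using Quotient.inductionOn with
      | h b =>
        intro h
        have h' : ⁅v, a⁆ = ⁅v, b⁆ := by
          have := congrArg (fun t : {a : Z // a ^ r = 1} => ((t : Z) : G)) h
          exact this
        apply Quotient.sound
        apply QuotientGroup.leftRel_apply.mpr
        rw [Subgroup.mem_centralizer_iff]
        intro w hw
        rw [Set.mem_singleton_iff] at hw
        subst hw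
        rw [commutatorElement_def, commutatorElement_def] at h'
        have h4 : a * w * a⁻¹ * b * w⁻¹ * b⁻¹ = 1 := by
          calc a * w * a⁻¹ * b * w⁻¹ * b⁻¹
              = (w * a * w⁻¹ * a⁻¹)⁻¹ * (w * b * w⁻¹ * b⁻¹) := by group
            _ = 1 := by rw [h', inv_mul_cancel]
        calc w * (a⁻¹ * b) = a⁻¹ * (a * w * a⁻¹ * b * w⁻¹ * b⁻¹) * b * w := by group
          _ = a⁻¹ * 1 * b * w := by rw [h4]
          _ = a⁻¹ * b * w := by group
  have h1 : (Subgroup.centralizer ({v} : Set G)).index ≤ Nat.card {a : Z // a ^ r = 1} := by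
    rw [Subgroup.index_eq_card]
    exact Nat.card_le_card_of_injective φ hφ
  have h2 : Nat.card {a : Z // a ^ r = 1} ≤ r := by
    rw [Nat.card_eq_fintype_card, Fintype.card_subtype]
    exact IsCyclic.card_pow_eq_one_le hr.pos
  exact h1.trans h2

/-- a proper subgroup of a finite `r`-group has at most `1/r` of its elements -/
theorem card_mul_le_of_lt [Finite G] (r : ℕ) (hr : r.Prime) (hG : IsPGroup r G)
    (W V : Subgroup G) (hWV : W < V) : Nat.card W * r ≤ Nat.card V := by
  haveI : Fact r.Prime := ⟨hr⟩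
  obtain ⟨m, hm⟩ := Subgroup.card_dvd_of_le hWV.le
  obtain ⟨a, ha⟩ := (IsPGroup.iff_card).mp (hG.to_subgroup V)
  have hm1 : m ≠ 1 := by
    intro h
    rw [h, mul_one] at hm
    exact absurd (Subgroup.eq_of_le_of_card_ge hWV.le hm.le) hWV.ne
  have hmd : m ∣ r ^ a := by rw [← ha, hm]; exact dvd_mul_left _ _
  obtain ⟨c, -, hc⟩ := (Nat.dvd_prime_pow hr).mp hmd
  have hc0 : c ≠ 0 := by
    intro h; rw [h, pow_zero] at hc; exact hm1 hc
  have hrm : r ≤ m := by
    rw [hc]
    calc r = r ^ 1 := (pow_one r).symm
      _ ≤ r ^ c := Nat.pow_le_pow_right hr.pos (Nat.one_le_iff_ne_zero.mpr hc0)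
  rw [hm]
  exact Nat.mul_le_mul_left _ hrm

/-- the key counting estimate: `|G : C_G(V)| ≤ |V : Z|` for `Z ≤ V ≤ Z₂` -/
theorem index_centralizer_mul_le [Finite G] (r : ℕ) (hr : r.Prime) (hG : IsPGroup r G)
    (hcyc : ∀ A : Subgroup G, A.Characteristic → IsMulCommutative A → IsCyclic A)
    (hexp : Monoid.exponent G = r * Nat.gcd 2 r) :
    ∀ V : Subgroup G, Subgroup.center G ≤ V → V ≤ Subgroup.upperCentralSeries G 2 →
      (Subgroup.centralizer (V : Set G)).index * Nat.card (Subgroup.center G) ≤ Nat.card V := by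
  intro V
  induction V using WellFoundedLT.induction with
  | ind V ih =>
    intro hZV hVU
    by_cases hV : V = Subgroup.center G
    · rw [hV, Subgroup.centralizer_center, Subgroup.index_top, one_mul]
    · have hlt : Subgroup.center G < V := lt_of_le_of_ne hZV (Ne.symm hV)
      obtain ⟨W, ⟨hZW, hWV⟩, hmax⟩ := (wellFounded_gt (α := Subgroup G)).has_min
        {W | Subgroup.center G ≤ W ∧ W < V} ⟨Subgroup.center G, le_refl _, hlt⟩
      obtain ⟨v, hvV, hvW⟩ := SetLike.exists_of_lt hWV
      have hsup : W ⊔ Subgroup.zpowers v = V := by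
        by_contra hne
        have h1 : W ⊔ Subgroup.zpowers v ≤ V :=
          sup_le hWV.le ((Subgroup.zpowers_le).mpr hvV)
        have h2 : W ⊔ Subgroup.zpowers v < V := lt_of_le_of_ne h1 hne
        have h3 : W < W ⊔ Subgroup.zpowers v := by
          refine lt_of_le_of_ne le_sup_left ?_
          intro h
          apply hvW
          rw [h]
          exact Subgroup.mem_sup_right (Subgroup.mem_zpowers v)
        exact hmax (W ⊔ Subgroup.zpowers v) ⟨hZW.trans le_sup_left, h2⟩ h3
      have hcent : Subgroup.centralizer (V : Set G) =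
          Subgroup.centralizer (W : Set G) ⊓ Subgroup.centralizer ({v} : Set G) := by
        apply le_antisymm
        · exact le_inf (Subgroup.centralizer_le hWV.le)
            (Subgroup.centralizer_le (Set.singleton_subset_iff.mpr hvV))
        · intro x hx
          obtain ⟨hxW, hxv⟩ := Subgroup.mem_inf.mp hx
          have hVx : V ≤ Subgroup.centralizer ({x} : Set G) := by
            rw [← hsup]
            refine sup_le ?_ ?_
            · intro w hw
              rw [Subgroup.mem_centralizer_iff]
              intro y hy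
              rw [Set.mem_singleton_iff] at hy
              subst hy
              exact (Subgroup.mem_centralizer_iff.mp hxW w hw).symm
            · rw [Subgroup.zpowers_le, Subgroup.mem_centralizer_iff]
              intro y hy
              rw [Set.mem_singleton_iff] at hy
              subst hy
              exact (Subgroup.mem_centralizer_iff.mp hxv v (Set.mem_singleton v)).symm
          rw [Subgroup.mem_centralizer_iff]
          intro y hy
          exact (Subgroup.mem_centralizer_iff.mp (hVx hy) x (Set.mem_singleton x)).symm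
      have ihW := ih W hWV hZW (hWV.le.trans hVU)
      have hv_idx := index_centralizer_le r hr hcyc hexp v (hVU hvV)
      have hcardWV := card_mul_le_of_lt r hr hG W V hWV
      calc (Subgroup.centralizer (V : Set G)).index * Nat.card (Subgroup.center G)
          = (Subgroup.centralizer (W : Set G) ⊓ Subgroup.centralizer ({v} : Set G)).index *
              Nat.card (Subgroup.center G) := by rw [hcent]
        _ ≤ ((Subgroup.centralizer (W : Set G)).index *
              (Subgroup.centralizer ({v} : Set G)).index) * Nat.card (Subgroup.center G) :=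
            Nat.mul_le_mul_right _ (Subgroup.index_inf_le)
        _ = ((Subgroup.centralizer (W : Set G)).index * Nat.card (Subgroup.center G)) *
              (Subgroup.centralizer ({v} : Set G)).index := by ring
        _ ≤ Nat.card W * r := Nat.mul_le_mul ihW hv_idx
        _ ≤ Nat.card V := hcardWV

/-- **P. Hall's theorem, the easy case**: a finite `r`-group of exponent `r gcd(2, r)` with centre of that
order in which every characteristic abelian subgroup is cyclic has class at most two. -/
theorem class_two_of_symplecticType [Finite G] (r : ℕ) (hr : r.Prime) (hG : IsPGroup r G)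
    (hcyc : ∀ A : Subgroup G, A.Characteristic → IsMulCommutative A → IsCyclic A)
    (hexp : Monoid.exponent G = r * Nat.gcd 2 r)
    (hZ : Nat.card (Subgroup.center G) = r * Nat.gcd 2 r) :
    ∀ x g : G, ⁅x, g⁆ ∈ Subgroup.center G := by
  have hC := centralizer_U_eq r hr hG hcyc hexp hZ
  have hZU : Subgroup.center G ≤ Subgroup.upperCentralSeries G 2 := by
    intro z hz
    rw [mem_U_iff]
    intro y
    have : ⁅z, y⁆ = 1 := by
      rw [commutatorElement_eq_one_iff_commute]
      exact (Subgroup.mem_center_iff.mp hz y).symm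
    rw [this]
    exact Subgroup.one_mem _
  have hE := index_centralizer_mul_le r hr hG hcyc hexp (Subgroup.upperCentralSeries G 2) hZU le_rfl
  rw [hC] at hE
  -- `|G : Z| * |Z| = |G| ≤ |U|`
  rw [Subgroup.index_mul_card] at hE
  have htop : Subgroup.upperCentralSeries G 2 = ⊤ := by
    apply Subgroup.eq_top_of_le_card
    exact hE
  intro x g
  have hx : x ∈ Subgroup.upperCentralSeries G 2 := by rw [htop]; exact Subgroup.mem_top x
  exact mem_U_iff.mp hx g

end Cfsg.Agent.Lib.Helper23.SUCorC6A
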