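import Mathlib
import Cfsg.Prelude.Def_GeometricClasses
import Cfsg.Agent.Lib.Helper23.SUCorC6A

/-!
# P. Hall's theorem, the easy case, for `IsSymplecticTypeGroup` (helper23)
-/

set_option autoImplicit false

namespace Cfsg.Agent.Lib.Helper23.SUCorC6A

open Cfsg Cfsg.Geo
open scoped commutatorElement MatrixGroups

/-- a group of symplectic type whose centre has order `r gcd(2, r)` has class at most two -/
theorem class_two_of_isSymplecticTypeGroup {F : Type*} [Field F] {ι : Type} [Fintype ι] [DecidableEq ι]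
    (r : ℕ) (R : Subgroup (GL ι F)) [Finite R] (hR : IsSymplecticTypeGroup r R)
    (hZ : Nat.card (Subgroup.center R) = r * Nat.gcd 2 r) :
    ∀ x g : R, ⁅x, g⁆ ∈ Subgroup.center R :=
  class_two_of_symplecticType r hR.prime hR.pGroup hR.cyclic_of_characteristic hR.exponent_eq hZ

/-- the same with the case distinction of the unitary class 6 -/
theorem class_two_of_hcase {F : Type*} [Field F] [Fintype F] {n : ℕ} (r : ℕ)
    (R : Subgroup (GL (Fin n) F)) (e k : ℕ) (hR : IsSymplecticTypeGroup r R)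
    (hcase : (Odd r ∧ Nat.card (Subgroup.center R) = r ∧ 1 ≤ k ∧ Nat.card R = r ^ (1 + 2 * k)) ∨
      (r = 2 ∧ e = 2 ∧ Nat.card (Subgroup.center R) = 4 ∧ Nat.card R = 2 ^ (2 + 2 * k))) :
    ∀ x g : R, ⁅x, g⁆ ∈ Subgroup.center R := by
  apply class_two_of_isSymplecticTypeGroup r R hR
  rcases hcase with ⟨hodd, hZ, -, -⟩ | ⟨h2, -, hZ, -⟩
  · have h2 : r ≠ 2 := by
      rintro rfl
      exact absurd hodd (by decide)
    have hco : Nat.gcd 2 r = 1 := (Nat.coprime_primes Nat.prime_two hR.prime).mpr (Ne.symm h2)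
    rw [hZ, hco, mul_one]
  · subst h2
    rw [hZ]
    rfl

end Cfsg.Agent.Lib.Helper23.SUCorC6A
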