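import Cfsg.Agent.Lib.Helper23.Sp62EGen
import Cfsg.Agent.Lib.Helper5.Sp62C
import Cfsg.Agent.Lib.Helper5.Sp62Model
import Cfsg.Agent.Lib.Helper21.Sp62P

/-!
# S2093 piece [E] (for helper5): the cover `2 · Sp₆(2)` as the group presented by `relsK`

`Helper23.exists_cover_of` (generic, `Sp62EGen`) fed with [C] (`Helper5.Sp62C`), [M] (`Helper5.Sp62Model`)
and [P] (`Helper21.Sp62P`).
-/

set_option autoImplicit false

namespace Cfsg.Agent.Lib.Helper5.Sp62

open Cfsg Cfsg.H5.TCk

universe u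

/-- [E] the cover: the group presented by `relsK` -/
theorem exists_cover {G : Type u} [Group G] (g : ℕ → G) (hg : IsSp62Triple g) :
    ∃ (Γ : Type u) (_ : Group Γ) (_ : Finite Γ) (σ : Γ →* G), IsStemExtension σ ∧
      Nonempty (σ.ker ≃* Multiplicative (ZMod 2)) :=
  Helper23.exists_cover_of (fun γ h1 h2 => card_le_of_relsK γ h1 h2) exists_model
    (fun g h1 h2 => commutator_eq_top_of_relsK g h1 h2) g hg

end Cfsg.Agent.Lib.Helper5.Sp62
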