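import Mathlib
import Cfsg.Prelude.Def_KGroupFacts
import Cfsg.Agent.H5.StemTC
import Cfsg.Agent.Lib.Helper5.Sp62Data

/-!
# S2093 piece [E], generic part (for helper5): the group presented by `relsK` is a stem extension of
`Sp₆(2)` with kernel of order `2`

`Helper23.exists_cover_of` takes the statements of the pieces [C] (Todd–Coxeter bound), [M] (permutation
model) and [P] (perfectness) as hypotheses.  Port of `L34GC` / helper20's `Sz8E`.
-/

set_option autoImplicit false
set_option linter.style.haveILetI false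
set_option linter.unusedSectionVars false
set_option linter.unusedVariables false

namespace Cfsg.Agent.Lib.Helper5.Sp62

open Cfsg Cfsg.H5.TCk

universe u

namespace Helper23

/-! ### words -/

theorem ev_congr' {Γ : Type*} [Group Γ] (g g' : ℕ → Γ) (t : ℕ) (h : ∀ i < t, g i = g' i)
    (w : List ℕ) (hw : w.all (fun l => decide (l < 2 * t)) = true) : ev g w = ev g' w := by
  induction w with
  | nil => rfl
  | cons l w ih =>
    rw [List.all_cons, Bool.and_eq_true] at hw
    have hl : l < 2 * t := of_decide_eq_true hw.1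
    have hl2 : l / 2 < t := by omega
    simp only [ev]
    rw [ih hw.2]
    congr 1
    unfold gl
    rw [h _ hl2]

theorem relsK_all : ∀ r ∈ relsK, r.all (fun l => decide (l < 2 * 3)) = true := by decide

theorem wordZ_all : wordZ.all (fun l => decide (l < 2 * 3)) = true := by decide

/-! ### the presented group -/

/-- the free generators as a sequence -/
def fgen : ℕ → FreeGroup (ULift.{u} (Fin 3)) :=
  fun i => if h : i < 3 then FreeGroup.of (ULift.up ⟨i, h⟩) else 1

/-- the relators as elements of the free group -/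
def relSet : Set (FreeGroup (ULift.{u} (Fin 3))) := {x | ∃ r ∈ relsK, x = ev fgen r}

/-- the group presented by `relsK` -/
abbrev Cover : Type u := PresentedGroup relSet.{u}

/-- its generators as a sequence -/
def cgen : ℕ → Cover.{u} := fun i => PresentedGroup.mk relSet (fgen i)

theorem cgen_rel (r : List ℕ) (hr : r ∈ relsK) : ev cgen.{u} r = 1 := by
  have h1 := Cfsg.H5.StemTC.map_ev (PresentedGroup.mk relSet.{u}) fgen r
  have h2 : ev cgen.{u} r = PresentedGroup.mk relSet.{u} (ev fgen r) := h1.symm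
  rw [h2]
  exact PresentedGroup.one_of_mem ⟨r, hr, rfl⟩

theorem closure_cgen :
    Subgroup.closure (Set.range fun i : Fin 3 => cgen.{u} i.val) = ⊤ := by
  rw [← PresentedGroup.closure_range_of relSet.{u}]
  congr 1
  ext x
  constructor
  · rintro ⟨i, rfl⟩
    refine ⟨ULift.up i, ?_⟩
    show PresentedGroup.of (ULift.up i) = PresentedGroup.mk relSet (fgen i.val)
    unfold fgen
    rw [dif_pos i.2]
    rfl
  · rintro ⟨j, rfl⟩
    refine ⟨j.down, ?_⟩
    show PresentedGroup.mk relSet (fgen j.down.val) = PresentedGroup.of j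
    unfold fgen
    rw [dif_pos j.down.2]
    rfl

/-- the universal property -/
theorem exists_hom {H : Type*} [Group H] (h : ℕ → H) (hrel : ∀ r ∈ relsK, ev h r = 1) :
    ∃ ψ : Cover.{u} →* H, ∀ w : List ℕ, w.all (fun l => decide (l < 2 * 3)) = true →
      ψ (ev cgen w) = ev h w := by
  have hlift : ∀ i < 3, FreeGroup.lift (fun j : ULift.{u} (Fin 3) => h j.down.val) (fgen i) = h i := by
    intro i hi
    unfold fgen
    rw [dif_pos hi, FreeGroup.lift_apply_of]
  have hr : ∀ x ∈ relSet.{u}, FreeGroup.lift (fun j : ULift.{u} (Fin 3) => h j.down.val) x = 1 := by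
    rintro x ⟨r, hr, rfl⟩
    rw [Cfsg.H5.StemTC.map_ev, ev_congr' _ h 3 hlift r (relsK_all r hr)]
    exact hrel r hr
  refine ⟨PresentedGroup.toGroup hr, fun w hw => ?_⟩
  rw [Cfsg.H5.StemTC.map_ev]
  apply ev_congr' _ h 3 _ w hw
  intro i hi
  show PresentedGroup.toGroup hr (PresentedGroup.mk relSet (fgen i)) = h i
  unfold fgen
  rw [dif_pos hi]
  exact PresentedGroup.toGroup.of hr

/-- **[E]**, generic form: existence of the cover from the Todd–Coxeter bound [C], the permutation model
[M] and perfectness [P] -/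
theorem exists_cover_of
    (hC : ∀ {Γ : Type u} [Group Γ] (γ : ℕ → Γ), (∀ r ∈ relsK, ev γ r = 1) →
      Subgroup.closure (Set.range fun i : Fin 3 => γ i.val) = ⊤ → Finite Γ ∧ Nat.card Γ ≤ 2903040)
    (hM : ∃ p : ℕ → Equiv.Perm (Fin 480), (∀ r ∈ relsK, ev p r = 1) ∧ ev p wordZ ≠ 1)
    (hP : ∀ {G : Type u} [Group G] (g : ℕ → G),
      Subgroup.closure (Set.range fun i : Fin 3 => g i.val) = ⊤ → (∀ r ∈ relsK, ev g r = 1) →
      commutator G = ⊤)
    {G : Type u} [Group G] (g : ℕ → G) (hg : IsSp62Triple g) :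
    ∃ (Γ : Type u) (_ : Group Γ) (_ : Finite Γ) (σ : Γ →* G), IsStemExtension σ ∧
      Nonempty (σ.ker ≃* Multiplicative (ZMod 2)) := by
  classical
  obtain ⟨hcard, hgen, hrel, hz⟩ := hg
  obtain ⟨z, hzdef⟩ : ∃ z : Cover.{u}, z = ev cgen wordZ := ⟨_, rfl⟩
  -- the homomorphism onto `G`
  obtain ⟨φ, hφ⟩ := exists_hom.{u} g hrel
  have hφgen : ∀ i : Fin 3, φ (cgen i.val) = g i.val := by
    intro i
    have := hφ [2 * i.val] (by fin_cases i <;> decide)
    simpa [ev, gl_even] using this
  have hφsurj : Function.Surjective φ := by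
    rw [← MonoidHom.range_eq_top, eq_top_iff, ← hgen, Subgroup.closure_le]
    rintro _ ⟨i, rfl⟩
    exact ⟨cgen i.val, hφgen i⟩
  have hzker : z ∈ φ.ker := by
    rw [MonoidHom.mem_ker, hzdef, hφ _ wordZ_all]; exact hz
  -- the order of the cover
  obtain ⟨hfin, hcardC⟩ := hC (Γ := Cover.{u}) cgen (fun r hr => cgen_rel r hr) closure_cgen
  have hcardker : Nat.card Cover.{u} = Nat.card G * Nat.card φ.ker := by
    rw [Subgroup.card_eq_card_quotient_mul_card_subgroup φ.ker,
      Nat.card_congr (QuotientGroup.quotientKerEquivOfSurjective φ hφsurj).toEquiv]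
  have hkerle : Nat.card φ.ker ≤ 2 := by
    rw [hcard] at hcardker
    have h3 : 1451520 * Nat.card φ.ker ≤ 1451520 * 2 := by
      rw [← hcardker]; exact hcardC
    exact Nat.le_of_mul_le_mul_left h3 (by norm_num)
  -- `z ≠ 1` from the model
  obtain ⟨p, hprel, hpz⟩ := hM
  obtain ⟨ψ, hψ⟩ := exists_hom.{u} p hprel
  have hzne : z ≠ 1 := by
    intro h
    apply hpz
    rw [← hψ _ wordZ_all, ← hzdef, h, map_one]
  -- the kernel has order two
  haveI : Finite φ.ker := inferInstance
  have hker2 : Nat.card φ.ker = 2 := by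
    apply le_antisymm hkerle
    have hne : (⟨z, hzker⟩ : φ.ker) ≠ 1 := by
      intro h
      exact hzne (congrArg Subtype.val h)
    have : Nontrivial φ.ker := ⟨⟨_, _, hne⟩⟩
    exact Finite.one_lt_card
  have hmem : ∀ k ∈ φ.ker, k = 1 ∨ k = z := by
    intro k hk
    by_contra hcon
    rw [not_or] at hcon
    obtain ⟨y, -, hy⟩ := (Nat.card_eq_two_iff' (1 : φ.ker)).mp hker2
    have h1 : (⟨k, hk⟩ : φ.ker) = y := hy _ (fun h => hcon.1 (congrArg Subtype.val h))
    have h2 : (⟨z, hzker⟩ : φ.ker) = y := hy _ (fun h => hzne (congrArg Subtype.val h))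
    exact hcon.2 (congrArg Subtype.val (h1.trans h2.symm))
  -- centrality
  have hkercen : φ.ker ≤ Subgroup.center Cover.{u} := by
    intro k hk
    rw [Subgroup.mem_center_iff]
    intro x
    rcases hmem k hk with hk1 | hk1
    · rw [hk1, mul_one, one_mul]
    · rw [hk1]
      have hconj : x * z * x⁻¹ ∈ φ.ker := (inferInstance : φ.ker.Normal).conj_mem z hzker x
      rcases hmem _ hconj with h | h
      · exfalso
        apply hzne
        have := congrArg (fun y => x⁻¹ * y * x) h
        simpa [mul_assoc] using this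
      · have := congrArg (· * x) h
        simpa [mul_assoc] using this
  -- perfectness
  have hperf : commutator Cover.{u} = ⊤ := hP cgen closure_cgen (fun r hr => cgen_rel r hr)
  haveI : Fact (Nat.Prime 2) := ⟨Nat.prime_two⟩
  have hcard2 : Nat.card (Multiplicative (ZMod 2)) = 2 := by
    rw [Nat.card_eq_fintype_card, Fintype.card_multiplicative, ZMod.card]
  refine ⟨Cover.{u}, inferInstance, hfin, φ, ⟨hφsurj, hkercen, ?_⟩,
    ⟨mulEquivOfPrimeCardEq hker2 hcard2⟩⟩
  rw [hperf]; exact le_top

end Helper23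

end Cfsg.Agent.Lib.Helper5.Sp62
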