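import Cfsg.Agent.Lib.Helper28.BSGSCore

/-!
# Element orders from a verified stabiliser chain: the abstract part

For a good chain (in the sense of `Helper28.BSGS.GoodChain`) every element of the group is a
product of transversal elements, an element fixing all base points is trivial, and every element
is conjugate (under the first stabiliser) to `x * s` with `x` one of finitely many representatives
of the orbits of the first stabiliser on the first basic orbit and `s` in the first stabiliser.
-/

set_option autoImplicit false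

namespace Cfsg.Agent.Lib.Helper23.Spec

open Cfsg.Agent.Lib.Helper28.BSGS MulAction

variable {G₀ : Type*} [Group G₀] {X : Type*} [MulAction G₀ X]

/-- `h` is a product of transversal elements along the chain -/
def Prods : List (SLevel G₀ X) → G₀ → Prop
  | [], h => h = 1
  | lv :: rest, h => ∃ x ∈ lv.O, ∃ h', Prods rest h' ∧ h = lv.u x * h'

theorem good_step [Finite G₀] (lv : SLevel G₀ X) (rest : List (SLevel G₀ X)) (S : List G₀)
    (hS : GoodChain S (lv :: rest)) :
    ∀ g ∈ Subgroup.closure {s | s ∈ S},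
      g • lv.b ∈ lv.O ∧ (lv.u (g • lv.b))⁻¹ * g ∈ Subgroup.closure {s | s ∈ lv.S'} := by
  classical
  obtain ⟨hS', hnd, hb, hub, hu, hO, hsift, hrest⟩ := hS
  obtain ⟨ihcard, ihsift⟩ := chain_main rest lv.S' hrest
  have hL : Subgroup.closure {s | s ∈ lv.S'} ≤ Subgroup.closure {s | s ∈ S} :=
    Subgroup.closure_mono (fun s hs => (hS' s hs).1)
  have hLb : ∀ l ∈ Subgroup.closure {s | s ∈ lv.S'}, l • lv.b = lv.b := by
    intro l hl
    have hle : Subgroup.closure {s | s ∈ lv.S'} ≤ stabilizer G₀ lv.b := by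
      rw [Subgroup.closure_le]
      intro s hs
      exact mem_stabilizer_iff.mpr (hS' s hs).2
    exact mem_stabilizer_iff.mp (hle hl)
  have hstep := level_step {s | s ∈ S} (Subgroup.closure {s | s ∈ lv.S'}) lv.b lv.O.toFinset lv.u
    hL hLb (fun x hx => hO x (List.mem_toFinset.mp hx)) (List.mem_toFinset.mpr hb) hub
    (fun x hx => hu x (List.mem_toFinset.mp hx))
    (by
      intro s hs x hx
      have hx' := List.mem_toFinset.mp hx
      have h1 := hsift s hs x hx'
      obtain ⟨h2, h3⟩ := h1
      rw [mul_smul, hu x hx'] at h2 h3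
      refine ⟨List.mem_toFinset.mpr h2, ?_⟩
      have h4 := ihsift _ h3
      rwa [← mul_assoc] at h4)
  intro g hg
  obtain ⟨h1, h2⟩ := hstep.1 g hg
  exact ⟨List.mem_toFinset.mp h1, h2⟩

theorem good_sub (lv : SLevel G₀ X) (rest : List (SLevel G₀ X)) (S : List G₀)
    (hS : GoodChain S (lv :: rest)) :
    Subgroup.closure {s | s ∈ lv.S'} ≤ Subgroup.closure {s | s ∈ S} ∧
    ∀ l ∈ Subgroup.closure {s | s ∈ lv.S'}, l • lv.b = lv.b := by
  obtain ⟨hS', -⟩ := hS
  refine ⟨Subgroup.closure_mono (fun s hs => (hS' s hs).1), ?_⟩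
  intro l hl
  have hle : Subgroup.closure {s | s ∈ lv.S'} ≤ stabilizer G₀ lv.b := by
    rw [Subgroup.closure_le]
    intro s hs
    exact mem_stabilizer_iff.mpr (hS' s hs).2
  exact mem_stabilizer_iff.mp (hle hl)

theorem good_tail (lv : SLevel G₀ X) (rest : List (SLevel G₀ X)) (S : List G₀)
    (hS : GoodChain S (lv :: rest)) : GoodChain lv.S' rest := by
  obtain ⟨-, -, -, -, -, -, -, hrest⟩ := hS
  exact hrest

/-- every element of the group is a product of transversal elements -/
theorem chain_prods [Finite G₀] : ∀ (levels : List (SLevel G₀ X)) (S : List G₀),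
    GoodChain S levels → ∀ g ∈ Subgroup.closure {s | s ∈ S}, Prods levels g := by
  intro levels
  induction levels with
  | nil =>
    intro S hS g hg
    have hS' : S = [] := hS
    subst hS'
    have hbot : Subgroup.closure {s : G₀ | s ∈ ([] : List G₀)} = ⊥ := by
      have : {s : G₀ | s ∈ ([] : List G₀)} = ∅ := by
        ext s; simp
      rw [this, Subgroup.closure_empty]
    rw [hbot, Subgroup.mem_bot] at hg
    exact hg
  | cons lv rest ih =>
    intro S hS g hg
    obtain ⟨h1, h2⟩ := good_step lv rest S hS g hg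
    refine ⟨g • lv.b, h1, (lv.u (g • lv.b))⁻¹ * g, ih lv.S' (good_tail lv rest S hS) _ h2, ?_⟩
    rw [mul_inv_cancel_left]

/-- an element of the group fixing all base points is trivial -/
theorem eq_one_of_fix_base [Finite G₀] : ∀ (levels : List (SLevel G₀ X)) (S : List G₀),
    GoodChain S levels → ∀ g ∈ Subgroup.closure {s | s ∈ S},
      (∀ lv ∈ levels, g • lv.b = lv.b) → g = 1 := by
  intro levels
  induction levels with
  | nil =>
    intro S hS g hg _
    have hS' : S = [] := hS
    subst hS'
    have hbot : Subgroup.closure {s : G₀ | s ∈ ([] : List G₀)} = ⊥ := by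
      have : {s : G₀ | s ∈ ([] : List G₀)} = ∅ := by
        ext s; simp
      rw [this, Subgroup.closure_empty]
    rw [hbot, Subgroup.mem_bot] at hg
    exact hg
  | cons lv rest ih =>
    intro S hS g hg hfix
    have h1 := chain_stab lv rest S hS g hg (hfix lv List.mem_cons_self)
    exact ih lv.S' (good_tail lv rest S hS) g h1
      (fun lv' hlv' => hfix lv' (List.mem_cons_of_mem _ hlv'))

/-- reduction to the products `x * s`, `x` a representative, `s` in the first stabiliser -/
theorem conj_reduce [Finite G₀] (lv : SLevel G₀ X) (rest : List (SLevel G₀ X)) (S : List G₀)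
    (hS : GoodChain S (lv :: rest)) (reps : List G₀)
    (hreps : ∀ x ∈ reps, x ∈ Subgroup.closure {s | s ∈ S})
    (hcov : ∀ y ∈ lv.O, ∃ x ∈ reps, ∃ h ∈ Subgroup.closure {s | s ∈ lv.S'},
      h • (x • lv.b) = y) :
    ∀ g ∈ Subgroup.closure {s | s ∈ S}, ∃ x ∈ reps, ∃ s ∈ Subgroup.closure {s | s ∈ lv.S'},
      orderOf g = orderOf (x * s) := by
  intro g hg
  obtain ⟨hsub, hfix⟩ := good_sub lv rest S hS
  obtain ⟨h1, -⟩ := good_step lv rest S hS g hg
  obtain ⟨x, hx, h, hh, hy⟩ := hcov _ h1
  have hmem : (h * x)⁻¹ * g ∈ Subgroup.closure {s | s ∈ S} :=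
    Subgroup.mul_mem _ (Subgroup.inv_mem _ (Subgroup.mul_mem _ (hsub hh) (hreps x hx))) hg
  have hfx : ((h * x)⁻¹ * g) • lv.b = lv.b := by
    rw [mul_smul, ← hy, ← mul_smul h x, inv_smul_smul]
  have h2 := chain_stab lv rest S hS _ hmem hfx
  refine ⟨x, hx, ((h * x)⁻¹ * g) * h, Subgroup.mul_mem _ h2 hh, ?_⟩
  have h3 : x * ((h * x)⁻¹ * g * h) = h⁻¹ * g * h := by group
  rw [h3]
  have h4 : h⁻¹ * g * h = MulAut.conj h⁻¹ g := by
    rw [MulAut.conj_apply, inv_inv]
  rw [h4]
  exact (orderOf_injective (MulAut.conj h⁻¹).toMonoidHom (MulAut.conj h⁻¹).injective g).symm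

end Cfsg.Agent.Lib.Helper23.Spec
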