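import Cfsg.Agent.Lib.Helper28.BSGSPerm
import Cfsg.Agent.Lib.Helper23.Spec1

/-!
# Element orders from a verified stabiliser chain: the checker

`specOK` checks, for finitely many products `x * s` (`x` a representative of an orbit of the first
stabiliser, `s` a product of transversal elements of the remaining levels), that the least common
multiple of the cycle lengths of the base points lies in `spec`.  If it succeeds, every element of
the group has order in `spec`.
-/

set_option autoImplicit false
set_option linter.unusedSectionVars false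

namespace Cfsg.Agent.Lib.Helper23.Spec

open Cfsg.Agent.Lib.Helper28.BSGS MulAction

/-- force the evaluation of a natural number -/
def withNat {β : Type} (x : ℕ) (f : ℕ → β) : β :=
  match x with
  | 0 => f 0
  | k + 1 => f (k + 1)

theorem withNat_eq {β : Type} (x : ℕ) (f : ℕ → β) : withNat x f = f x := by
  cases x <;> rfl

/-- apply a reversed word: the head acts first -/
def evalR (w : ℕ) (rws : List ℕ) (a : ℕ) : ℕ := rws.foldl (fun acc t => look w t acc) a

theorem evalR_eq (w : ℕ) (rws : List ℕ) (a : ℕ) : evalR w rws a = evalW w rws.reverse a := by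
  unfold evalR evalW
  rw [List.foldr_reverse]

/-- follow the cycle of `b` -/
def cycGo (w : ℕ) (rws : List ℕ) (b : ℕ) : ℕ → ℕ → ℕ → ℕ
  | 0, _, _ => 0
  | fuel + 1, cur, len =>
    withNat cur fun c => if c == b then len else cycGo w rws b fuel (evalR w rws c) (len + 1)

/-- length of the cycle of `b` (or `0` if it is longer than `fuel`) -/
def cycLen (w fuel : ℕ) (rws : List ℕ) (b : ℕ) : ℕ := cycGo w rws b fuel (evalR w rws b) 1

/-- the least common multiple of the cycle lengths of the base points lies in `spec` -/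
def leafOK (w fuel : ℕ) (bases spec : List ℕ) (rws : List ℕ) : Bool :=
  withNat (bases.foldl (fun L b => Nat.lcm L (cycLen w fuel rws b)) 1) fun L => spec.contains L

/-- all products of transversal elements below a prefix -/
def treeOK (w fuel : ℕ) (bases spec : List ℕ) : List CLevel → List ℕ → Bool
  | [], rws => leafOK w fuel bases spec rws
  | lv :: rest, rws => lv.2.all fun e => treeOK w fuel bases spec rest (e.2.1 :: rws)

/-- the check for one orbit representative -/
def repOK (w fuel : ℕ) (bases spec : List ℕ) (tr : List Entry) (rest : List CLevel) (y : ℕ) :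
    Bool :=
  match findE tr y with
  | none => false
  | some e => treeOK w fuel bases spec rest [e.2.1]

/-- the full check -/
def specOK (w fuel : ℕ) (spec : List ℕ) (b : ℕ) (tr : List Entry) (rest : List CLevel)
    (rpts : List ℕ) : Bool :=
  rpts.all fun y => repOK w fuel (b :: rest.map fun lv => lv.1) spec tr rest y

/-- orbit certificates for the first stabiliser and the covering of the first basic orbit -/
def orbsOK (n w : ℕ) (gens0 : List (ℕ × ℕ)) (tr : List Entry) (orbs : List (ℕ × List ℕ)) : Bool :=
  (orbs.all fun o => decide (o.1 < n) && orbitOK w gens0 [o.1] o.2) &&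
  tr.all fun e => orbs.any fun o => (o.1 == e.1) || o.2.contains e.1

section Sem

variable (n w : ℕ) [NeZero n]

theorem foldl_lcm_dvd (f : ℕ → ℕ) : ∀ (bases : List ℕ) (L0 : ℕ),
    L0 ∣ bases.foldl (fun L b => Nat.lcm L (f b)) L0 ∧
    ∀ b ∈ bases, f b ∣ bases.foldl (fun L b => Nat.lcm L (f b)) L0 := by
  intro bases
  induction bases with
  | nil => intro L0; exact ⟨dvd_refl _, fun b hb => by simp at hb⟩
  | cons c cs ih =>
    intro L0
    rw [List.foldl_cons]
    obtain ⟨h1, h2⟩ := ih (Nat.lcm L0 (f c))
    refine ⟨dvd_trans (Nat.dvd_lcm_left _ _) h1, ?_⟩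
    intro b hb
    rcases List.mem_cons.mp hb with rfl | hb'
    · exact dvd_trans (Nat.dvd_lcm_right _ _) h1
    · exact h2 b hb'

theorem cycGo_spec {g : Equiv.Perm (Fin n)} {rws : List ℕ}
    (hact : ∀ a : Fin n, (g a).val = evalR w rws a.val) (b : Fin n) :
    ∀ (fuel : ℕ) (cur : Fin n) (len : ℕ), cur = (g ^ len) b →
      cycGo w rws b.val fuel cur.val len ≠ 0 →
      (g ^ (cycGo w rws b.val fuel cur.val len)) b = b := by
  intro fuel
  induction fuel with
  | zero => intro cur len _ h; exact absurd rfl h
  | succ fuel ih =>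
    intro cur len hcur h
    unfold cycGo at h ⊢
    rw [withNat_eq] at h ⊢
    by_cases hc : (cur.val == b.val) = true
    · rw [if_pos hc]
      have : cur = b := Fin.ext (beq_iff_eq.mp hc)
      rw [← hcur, this]
    · rw [if_neg hc] at h ⊢
      have h1 : evalR w rws cur.val = (g cur).val := (hact cur).symm
      rw [h1] at h ⊢
      apply ih (g cur) (len + 1) _ h
      rw [pow_succ', Equiv.Perm.mul_apply, hcur]

theorem cycLen_spec {g : Equiv.Perm (Fin n)} {rws : List ℕ}
    (hact : ∀ a : Fin n, (g a).val = evalR w rws a.val) (b : Fin n) (fuel : ℕ)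
    (h : cycLen w fuel rws b.val ≠ 0) : (g ^ (cycLen w fuel rws b.val)) b = b := by
  unfold cycLen at h ⊢
  have h1 : evalR w rws b.val = (g b).val := (hact b).symm
  rw [h1] at h ⊢
  apply cycGo_spec n w hact b fuel (g b) 1 _ h
  rw [pow_one]

theorem mem_semLevels : ∀ (levels : List CLevel) (gens : List (ℕ × ℕ))
    (lv' : SLevel (Equiv.Perm (Fin n)) (Fin n)), lv' ∈ semLevels n w gens levels →
    ∃ lv ∈ levels, lv'.b = pt n lv.1 := by
  intro levels
  induction levels with
  | nil => intro gens lv' h; simp [semLevels] at h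
  | cons lv rest ih =>
    intro gens lv' h
    unfold semLevels at h
    rcases List.mem_cons.mp h with rfl | h'
    · exact ⟨lv, List.mem_cons_self, rfl⟩
    · obtain ⟨lv0, h0, h1⟩ := ih _ lv' h'
      exact ⟨lv0, List.mem_cons_of_mem _ h0, h1⟩

/-- soundness of the leaf check -/
theorem leaf_sound (gens : List (ℕ × ℕ)) (levels : List CLevel)
    (hgood : GoodChain (semGens n w gens) (semLevels n w gens levels))
    (hwf : LevelsWF n w levels) (spec : List ℕ) (hspec0 : ∀ L ∈ spec, L ≠ 0)
    (hdiv : ∀ L ∈ spec, ∀ d, d ∣ L → d ∈ spec) (fuel : ℕ)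
    (g : Equiv.Perm (Fin n)) (hg : g ∈ genGroup n w gens) (rws : List ℕ)
    (hact : ActsByW n w g rws.reverse)
    (hleaf : leafOK w fuel (levels.map fun lv => lv.1) spec rws = true) :
    orderOf g ∈ spec := by
  unfold leafOK at hleaf
  rw [withNat_eq, List.contains_iff_mem] at hleaf
  set L := (levels.map fun lv => lv.1).foldl (fun L b => Nat.lcm L (cycLen w fuel rws b)) 1
    with hL
  have hL0 : L ≠ 0 := hspec0 L hleaf
  have hact' : ∀ a : Fin n, (g a).val = evalR w rws a.val := by
    intro a
    rw [evalR_eq]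
    exact hact a
  obtain ⟨-, hdvd⟩ := foldl_lcm_dvd (fun b => cycLen w fuel rws b) (levels.map fun lv => lv.1) 1
  have hfix : ∀ lv' ∈ semLevels n w gens levels, (g ^ L) • lv'.b = lv'.b := by
    intro lv' hlv'
    obtain ⟨lv, hlv, hb⟩ := mem_semLevels n w levels gens lv' hlv'
    have hlt : lv.1 < n := (hwf lv hlv).1
    have hd : cycLen w fuel rws lv.1 ∣ L := hdvd lv.1 (List.mem_map.mpr ⟨lv, hlv, rfl⟩)
    have hne : cycLen w fuel rws lv.1 ≠ 0 := by
      intro h0
      rw [h0] at hd
      exact hL0 (Nat.eq_zero_of_zero_dvd hd)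
    have hv : (pt n lv.1).val = lv.1 := pt_val n hlt
    have h1 := cycLen_spec n w hact' (pt n lv.1) fuel (by rw [hv]; exact hne)
    rw [hv] at h1
    obtain ⟨k, hk⟩ := hd
    rw [hb, Equiv.Perm.smul_def, hk, pow_mul]
    exact Equiv.Perm.pow_apply_eq_self_of_apply_eq_self h1 k
  have hone : g ^ L = 1 :=
    eq_one_of_fix_base _ _ hgood (g ^ L) (Subgroup.pow_mem _ hg L) hfix
  exact hdiv L hleaf _ (orderOf_dvd_of_pow_eq_one hone)

theorem actsByW_append {g h : Equiv.Perm (Fin n)} {t : ℕ} {ws : List ℕ}
    (hg : ActsByW n w g ws) (hh : ∀ a : Fin n, (h a).val = look w t a.val) :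
    ActsByW n w (g * h) (ws ++ [t]) := by
  intro a
  show (g (h a)).val = evalW w (ws ++ [t]) a.val
  rw [hg (h a), hh a]
  unfold evalW
  rw [List.foldr_append]
  rfl

/-- soundness of the tree check -/
theorem tree_sound (P : Equiv.Perm (Fin n) → Prop) (fuel : ℕ) (bases spec : List ℕ)
    (hleaf : ∀ (g : Equiv.Perm (Fin n)) (rws : List ℕ), ActsByW n w g rws.reverse →
      leafOK w fuel bases spec rws = true → P g) :
    ∀ (rest : List CLevel) (gens' : List (ℕ × ℕ)) (rws : List ℕ) (p : Equiv.Perm (Fin n)),
      LevelsWF n w rest → ActsByW n w p rws.reverse →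
      treeOK w fuel bases spec rest rws = true →
      ∀ s, Prods (semLevels n w gens' rest) s → P (p * s) := by
  intro rest
  induction rest with
  | nil =>
    intro gens' rws p _ hp ht s hs
    have hs1 : s = 1 := hs
    rw [hs1, mul_one]
    exact hleaf p rws hp ht
  | cons lv rest ih =>
    intro gens' rws p hwf hp ht s hs
    unfold semLevels at hs
    obtain ⟨x, hx, s', hs', rfl⟩ := hs
    have hxO : x ∈ lv.2.map fun e => pt n e.1 := hx
    obtain ⟨e, he, rfl⟩ := List.mem_map.mp hxO
    have hwfl := hwf lv List.mem_cons_self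
    have he1 : e.1 < n := (hwfl.2 e he).1
    obtain ⟨e', hf⟩ := findE_of_mem he
    obtain ⟨he', _⟩ := findE_some hf
    have hpair : pairOK n w e'.2.1 e'.2.2 = true := (hwfl.2 e' he').2
    have hu : (semLevel n w (nextGens w gens' lv.1) lv).u (pt n e.1) =
        permOf n w e'.2.1 e'.2.2 := by
      show semU n w lv.2 (pt n e.1) = _
      unfold semU
      rw [pt_val n he1, hf]
    rw [hu, ← mul_assoc]
    unfold treeOK at ht
    rw [List.all_eq_true] at ht
    apply ih (nextGens w gens' lv.1) (e'.2.1 :: rws) (p * permOf n w e'.2.1 e'.2.2)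
      (fun lv' hlv' => hwf lv' (List.mem_cons_of_mem _ hlv')) _ (ht e' he') s' hs'
    rw [List.reverse_cons]
    exact actsByW_append n w hp (permOf_apply hpair)

theorem sifts_one : ∀ (levels : List (SLevel (Equiv.Perm (Fin n)) (Fin n)))
    (S : List (Equiv.Perm (Fin n))), GoodChain S levels → Sifts levels 1 := by
  intro levels
  induction levels with
  | nil => intro S _; rfl
  | cons lv rest ih =>
    intro S hS
    obtain ⟨-, -, hb, hub, -, -, -, hrest⟩ := hS
    refine ⟨?_, ?_⟩
    · rw [one_smul]; exact hb
    · rw [one_smul, hub, inv_one, one_mul]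
      exact ih _ hrest

/-- transversal elements belong to the group -/
theorem semU_mem (gens : List (ℕ × ℕ)) (lv : CLevel) (rest : List CLevel)
    (hgood : GoodChain (semGens n w gens) (semLevels n w gens (lv :: rest)))
    (x : Fin n) (hx : x ∈ lv.2.map fun e => pt n e.1) :
    semU n w lv.2 x ∈ genGroup n w gens := by
  have hgood' := hgood
  unfold semLevels at hgood'
  obtain ⟨-, -, hb, hub, hu, -, -, hrest⟩ := hgood'
  have h2 := (chain_main _ _ hgood).2
  apply h2
  unfold semLevels
  refine ⟨?_, ?_⟩
  · show (semU n w lv.2 x) • (pt n lv.1) ∈ lv.2.map fun e => pt n e.1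
    have := hu x hx
    rw [show (semLevel n w (nextGens w gens lv.1) lv).u x • (semLevel n w (nextGens w gens lv.1) lv).b
      = semU n w lv.2 x • pt n lv.1 from rfl] at this
    rw [this]
    exact hx
  · have h3 : (semLevel n w (nextGens w gens lv.1) lv).u
        ((semU n w lv.2 x) • (semLevel n w (nextGens w gens lv.1) lv).b) = semU n w lv.2 x := by
      have := hu x hx
      rw [show (semLevel n w (nextGens w gens lv.1) lv).u x = semU n w lv.2 x from rfl] at this
      rw [this]
      rfl
    rw [h3, inv_mul_cancel]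
    exact sifts_one n _ _ hrest

end Sem

end Cfsg.Agent.Lib.Helper23.Spec
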