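import Cfsg.Agent.Lib.Helper23.Spec2

/-!
# Element orders from a verified stabiliser chain: the main theorems

`spec_main`: if the certificate checks succeed, every element of `genGroup n w gens` has order in
`spec`.  `exists_orderOf`: an explicit table of order `k` in the group.
-/

set_option autoImplicit false
set_option linter.unusedSectionVars false

namespace Cfsg.Agent.Lib.Helper23.Spec

open Cfsg.Agent.Lib.Helper28.BSGS MulAction

section Sem

variable (n w : ℕ) [NeZero n]

theorem spec_main (gens : List (ℕ × ℕ)) (b : ℕ) (tr : List Entry) (rest : List CLevel)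
    (hg : gensOK n w gens = true) (hc : checkChain n w gens ((b, tr) :: rest) = true)
    (orbs : List (ℕ × List ℕ)) (horb : orbsOK n w (nextGens w gens b) tr orbs = true)
    (spec : List ℕ) (hspec0 : ∀ L ∈ spec, L ≠ 0) (hdiv : ∀ L ∈ spec, ∀ d, d ∣ L → d ∈ spec)
    (fuel : ℕ) (hchk : specOK w fuel spec b tr rest (orbs.map fun o => o.1) = true) :
    ∀ g ∈ genGroup n w gens, orderOf g ∈ spec := by
  have hgood := checkChain_sound n w ((b, tr) :: rest) gens (gensOK_spec n w hg) hc
  have hwf := checkChain_wf n w _ _ hc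
  have hwfl := hwf (b, tr) List.mem_cons_self
  have hsem : semLevels n w gens ((b, tr) :: rest) =
      semLevel n w (nextGens w gens b) (b, tr) :: semLevels n w (nextGens w gens b) rest := rfl
  rw [hsem] at hgood
  set lv' := semLevel n w (nextGens w gens b) (b, tr) with hlv'
  have hgood2 := hgood
  obtain ⟨-, -, -, -, hu, -, -, -⟩ := hgood2
  -- the checks
  unfold orbsOK at horb
  rw [Bool.and_eq_true, List.all_eq_true, List.all_eq_true] at horb
  obtain ⟨horb1, horb2⟩ := horb
  unfold specOK at hchk
  rw [List.all_eq_true] at hchk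
  -- entries of the representatives
  have hrep : ∀ o ∈ orbs, ∃ e ∈ tr, e.1 = o.1 ∧ findE tr o.1 = some e ∧
      treeOK w fuel (b :: rest.map fun lv => lv.1) spec rest [e.2.1] = true := by
    intro o ho
    have h1 := hchk o.1 (List.mem_map.mpr ⟨o, ho, rfl⟩)
    unfold repOK at h1
    cases hf : findE tr o.1 with
    | none => rw [hf] at h1; exact absurd h1 (by simp)
    | some e =>
      rw [hf] at h1
      obtain ⟨he, he1⟩ := findE_some hf
      exact ⟨e, he, he1, rfl, h1⟩
  have hrepU : ∀ o ∈ orbs, ∀ e ∈ tr, e.1 = o.1 → findE tr o.1 = some e →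
      semU n w tr (pt n o.1) = permOf n w e.2.1 e.2.2 := by
    intro o _ e he he1 hf
    have hlt : o.1 < n := by rw [← he1]; exact (hwfl.2 e he).1
    unfold semU
    rw [pt_val n hlt, hf]
  have hrepO : ∀ o ∈ orbs, pt n o.1 ∈ lv'.O := by
    intro o ho
    obtain ⟨e, he, he1, -, -⟩ := hrep o ho
    show pt n o.1 ∈ tr.map fun e => pt n e.1
    exact List.mem_map.mpr ⟨e, he, by rw [he1]⟩
  -- apply the reduction
  have hred := conj_reduce lv' (semLevels n w (nextGens w gens b) rest) (semGens n w gens) hgood
    (orbs.map fun o => semU n w tr (pt n o.1))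
    (by
      intro x hx
      obtain ⟨o, ho, rfl⟩ := List.mem_map.mp hx
      have hgood3 := checkChain_sound n w ((b, tr) :: rest) gens (gensOK_spec n w hg) hc
      exact semU_mem n w gens (b, tr) rest hgood3 (pt n o.1) (hrepO o ho))
    (by
      intro y hy
      have hy' : y ∈ tr.map fun e => pt n e.1 := hy
      obtain ⟨e, he, rfl⟩ := List.mem_map.mp hy'
      have h1 := horb2 e he
      rw [List.any_eq_true] at h1
      obtain ⟨o, ho, h2⟩ := h1
      have hxb : (semU n w tr (pt n o.1)) • lv'.b = pt n o.1 := hu (pt n o.1) (hrepO o ho)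
      refine ⟨semU n w tr (pt n o.1), List.mem_map.mpr ⟨o, ho, rfl⟩, ?_⟩
      rw [hxb]
      rw [Bool.or_eq_true] at h2
      rcases h2 with h2 | h2
      · refine ⟨1, Subgroup.one_mem _, ?_⟩
        rw [one_smul, beq_iff_eq.mp h2]
      · have h3 := horb1 o ho
        rw [Bool.and_eq_true, decide_eq_true_eq] at h3
        obtain ⟨_, g0, hg0, hg0b⟩ := perm_orbit n w (nextGens w gens b) (gensOK_next n w hg b) o.1
          h3.1 o.2 h3.2 e.1 (List.contains_iff_mem.mp h2)
        exact ⟨g0, hg0, hg0b⟩)
  intro g hgm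
  obtain ⟨x, hx, s, hs, hord⟩ := hred g hgm
  obtain ⟨o, ho, rfl⟩ := List.mem_map.mp hx
  obtain ⟨e, he, he1, hf, htree⟩ := hrep o ho
  have hpair : pairOK n w e.2.1 e.2.2 = true := (hwfl.2 e he).2
  rw [hrepU o ho e he he1 hf] at hord
  have hprods := chain_prods _ _ (good_tail _ _ _ hgood) s hs
  have hsub := (good_sub _ _ _ hgood).1
  have hgood3 := checkChain_sound n w ((b, tr) :: rest) gens (gensOK_spec n w hg) hc
  have hxmem : permOf n w e.2.1 e.2.2 ∈ genGroup n w gens := by
    rw [← hrepU o ho e he he1 hf]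
    exact semU_mem n w gens (b, tr) rest hgood3 (pt n o.1) (hrepO o ho)
  have hmem : permOf n w e.2.1 e.2.2 * s ∈ genGroup n w gens :=
    Subgroup.mul_mem _ hxmem (hsub hs)
  have hP := tree_sound n w (fun g' => g' ∈ genGroup n w gens → orderOf g' ∈ spec) fuel
    (b :: rest.map fun lv => lv.1) spec
    (by
      intro g' rws hact hleaf hg'
      exact leaf_sound n w gens ((b, tr) :: rest) hgood3 hwf spec hspec0 hdiv fuel g' hg' rws hact
        hleaf)
    rest (nextGens w gens b) [e.2.1] (permOf n w e.2.1 e.2.2)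
    (fun lv hlv => hwf lv (List.mem_cons_of_mem _ hlv))
    (actsByW_single (permOf_apply hpair)) htree s hprods
  rw [hord]
  exact hP hmem

theorem wordId_of_eq_one {g : Equiv.Perm (Fin n)} {ws : List ℕ} (hg : ActsByW n w g ws)
    (h : g = 1) : wordId n w ws = true := by
  unfold wordId
  rw [List.all_eq_true]
  intro a ha
  have ha' : a < n := List.mem_range.mp ha
  have := hg ⟨a, ha'⟩
  rw [h] at this
  rw [beq_iff_eq]
  exact this.symm

/-- an explicit element of order `k` -/
theorem exists_orderOf (gens : List (ℕ × ℕ)) (levels : List CLevel)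
    (hg : gensOK n w gens = true) (hc : checkChain n w gens levels = true)
    (t tv k : ℕ) (hk : 0 < k) (hpair : pairOK n w t tv = true)
    (hsift : siftB n w levels [t] = true)
    (hid : wordId n w (List.replicate k t) = true) (ps : List ℕ)
    (hps : ∀ p, p.Prime → p ∣ k → p ∈ ps)
    (hne : (ps.all fun p => !(wordId n w (List.replicate (k / p) t))) = true) :
    ∃ g ∈ genGroup n w gens, orderOf g = k := by
  refine ⟨permOf n w t tv, ?_, ?_⟩
  · exact (perm_main n w gens levels hg hc).2 _ _ (actsByW_single (permOf_apply hpair)) hsift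
  · apply orderOf_eq_of_pow_and_pow_div_prime hk
    · exact eq_one_of_wordId n w (actsByW_pow n w (permOf_apply hpair) k) hid
    · intro p hp hpk h1
      rw [List.all_eq_true] at hne
      have h2 := hne p (hps p hp hpk)
      have h3 := wordId_of_eq_one n w (actsByW_pow n w (permOf_apply hpair) (k / p)) h1
      rw [h3] at h2
      exact absurd h2 (by simp)

end Sem

end Cfsg.Agent.Lib.Helper23.Spec
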