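import Cfsg.Agent.Lib.Helper23.SpecJ2d

/-!
# Element orders of the degree-315 Hall–Janko group: kernel checks, part 1
-/

set_option autoImplicit false

namespace Cfsg.Agent.Lib.Helper23.SpecJ2

set_option maxRecDepth 1000000 in
theorem rep_0 : rep 0 = true := by decide +kernel

set_option maxRecDepth 1000000 in
theorem rep_A : rep 1 = true := by decide +kernel

set_option maxRecDepth 1000000 in
theorem rep_B : rep 4 = true := by decide +kernel

end Cfsg.Agent.Lib.Helper23.SpecJ2
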