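import Cfsg.Agent.Lib.Helper23.SpecJ2d

/-!
# Element orders of the degree-315 Hall–Janko group: kernel checks, part 2
-/

set_option autoImplicit false

namespace Cfsg.Agent.Lib.Helper23.SpecJ2

set_option maxRecDepth 1000000 in
theorem rep_C : rep 15 = true := by decide +kernel

set_option maxRecDepth 1000000 in
theorem rep_D : rep 20 = true := by decide +kernel

set_option maxRecDepth 1000000 in
theorem rep_E : rep 26 = true := by decide +kernel

end Cfsg.Agent.Lib.Helper23.SpecJ2
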