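import Cfsg.Agent.Lib.Helper11.IcoPermCert
import Cfsg.Agent.Lib.Helper23.SpecJ2a
import Cfsg.Agent.Lib.Helper23.SpecJ2b
import Cfsg.Agent.Lib.Helper23.SpecJ2c

/-!
# The element orders of the degree-315 Hall–Janko group

`G = genGroup 315 9 gens` (helper11's certified group of order `604800`) has
`Set.range orderOf = {1, 2, 3, 4, 5, 6, 7, 8, 10, 12, 15}`, the same as `S₈`.
-/

set_option autoImplicit false

namespace Cfsg.Agent.Lib.Helper23.SpecJ2

open Cfsg.Agent.Lib.Helper28.BSGS Cfsg.Agent.Lib.Helper11.Ico.PD Cfsg.Agent.Lib.Helper23.Spec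
open Cfsg.Agent.Lib.Helper23.SpecS8 (spec)

theorem chk_ok : specOK 9 15 spec 0 tr0 rest1 (orbs.map fun o => o.1) = true := by
  unfold specOK
  rw [List.all_eq_true]
  intro y hy
  have hy' : y = 0 ∨ y = 1 ∨ y = 4 ∨ y = 15 ∨ y = 20 ∨ y = 26 := by
    simpa [orbs, orbA0, orbB0, orbC0, orbD0, orbE0] using hy
  rcases hy' with rfl | rfl | rfl | rfl | rfl | rfl
  · exact rep_0
  · exact rep_A
  · exact rep_B
  · exact rep_C
  · exact rep_D
  · exact rep_E

/-- every element of the group has order in `spec` -/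
theorem order_mem : ∀ g ∈ genGroup 315 9 gens, orderOf g ∈ spec :=
  spec_main 315 9 gens 0 tr0 rest1 gens_ok chain_ok orbs orbs_ok spec
    Cfsg.Agent.Lib.Helper23.SpecS8.spec_ne_zero Cfsg.Agent.Lib.Helper23.SpecS8.spec_dvd 15 chk_ok

/-- the listed primes are all the prime divisors -/
def psOK (k : ℕ) (ps : List ℕ) : Bool :=
  (List.range (k + 1)).all fun p =>
    !(decide (2 ≤ p) && (k % p == 0)) || ps.any fun q => decide (2 ≤ q) && (p % q == 0)

theorem psOK_sound {k : ℕ} {ps : List ℕ} (hk : 0 < k) (h : psOK k ps = true) :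
    ∀ p, p.Prime → p ∣ k → p ∈ ps := by
  intro p hp hpk
  unfold psOK at h
  rw [List.all_eq_true] at h
  have hle : p ≤ k := Nat.le_of_dvd hk hpk
  have h1 := h p (List.mem_range.mpr (by omega))
  have h2 : (decide (2 ≤ p) && (k % p == 0)) = true := by
    rw [Bool.and_eq_true, decide_eq_true_eq, beq_iff_eq]
    exact ⟨hp.two_le, Nat.mod_eq_zero_of_dvd hpk⟩
  rw [h2] at h1
  simp only [Bool.not_true, Bool.false_or, List.any_eq_true, Bool.and_eq_true,
    decide_eq_true_eq, beq_iff_eq] at h1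
  obtain ⟨q, hq, hq2, hqp⟩ := h1
  have hdvd : q ∣ p := Nat.dvd_of_mod_eq_zero hqp
  rcases (Nat.dvd_prime hp).mp hdvd with h3 | h3
  · omega
  · rw [← h3]; exact hq

theorem elems_ps : (elems.all fun e => psOK e.2.2.1 e.2.2.2) = true := by decide +kernel

theorem elems_orders : (spec.all fun k => elems.any fun e => e.2.2.1 == k) = true := by
  decide +kernel

/-- every number in `spec` is the order of an element of the group -/
theorem exists_order : ∀ k ∈ spec, ∃ g ∈ genGroup 315 9 gens, orderOf g = k := by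
  intro k hk
  have h1 := elems_orders
  rw [List.all_eq_true] at h1
  have h2 := h1 k hk
  rw [List.any_eq_true] at h2
  obtain ⟨e, he, hek⟩ := h2
  have hek' : e.2.2.1 = k := beq_iff_eq.mp hek
  have h3 := elems_ok
  rw [List.all_eq_true] at h3
  have h4 := h3 e he
  unfold elemOK at h4
  simp only [Bool.and_eq_true, decide_eq_true_eq] at h4
  obtain ⟨⟨⟨⟨k1, k2⟩, k3⟩, k4⟩, k5⟩ := h4
  have h5 := elems_ps
  rw [List.all_eq_true] at h5
  have h6 := psOK_sound k1 (h5 e he)
  rw [← hek']
  exact exists_orderOf 315 9 gens levels gens_ok chain_ok e.1 e.2.1 e.2.2.1 k1 k2 k3 k4 e.2.2.2 h6 k5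

/-- the set of element orders of the certified group -/
theorem range_orderOf :
    Set.range (orderOf : ↥(genGroup 315 9 gens) → ℕ) = {k | k ∈ spec} := by
  ext k
  constructor
  · rintro ⟨g, rfl⟩
    rw [← Subgroup.orderOf_coe]
    exact order_mem g.1 g.2
  · intro hk
    obtain ⟨g, hg, ho⟩ := exists_order k hk
    exact ⟨⟨g, hg⟩, by rw [← Subgroup.orderOf_coe]; exact ho⟩

/-- **S3485 up to an isomorphism**: any group isomorphic to the certified group has the same set of
element orders as the symmetric group of degree `8`. -/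
theorem final {J : Type*} [Group J] (φ : J ≃* ↥(genGroup 315 9 gens)) :
    Set.range (orderOf : Equiv.Perm (Fin 8) → ℕ) = Set.range (orderOf : J → ℕ) := by
  rw [Cfsg.Agent.Lib.Helper23.SpecS8.range_orderOf, ← range_orderOf]
  ext k
  constructor
  · rintro ⟨g, rfl⟩
    exact ⟨φ.symm g, by rw [MulEquiv.orderOf_eq]⟩
  · rintro ⟨x, rfl⟩
    exact ⟨φ x, by rw [MulEquiv.orderOf_eq]⟩

end Cfsg.Agent.Lib.Helper23.SpecJ2
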