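import Mathlib

/-!
# The element orders of the symmetric group of degree 8

`Set.range (orderOf : Equiv.Perm (Fin 8) → ℕ) = {k | k ∈ spec}` with
`spec = [1, 2, 3, 4, 5, 6, 7, 8, 10, 12, 15]`.
-/

set_option autoImplicit false

namespace Cfsg.Agent.Lib.Helper23.SpecS8

/-- the common spectrum of `S₈` and `J₂` -/
def spec : List ℕ := [1, 2, 3, 4, 5, 6, 7, 8, 10, 12, 15]

/-- the least common multiples of at most `k` parts `≥ 2` of sum at most `N` -/
def PfL : ℕ → ℕ → List ℕ
  | 0, _ => [1]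
  | k + 1, N => 1 :: (List.range (N + 1)).flatMap fun a =>
      if 2 ≤ a then (PfL k (N - a)).map (Nat.lcm a) else []

theorem lcm_mem_PfL : ∀ (k N : ℕ) (m : Multiset ℕ), Multiset.card m ≤ k → (∀ x ∈ m, 2 ≤ x) →
    m.sum ≤ N → m.lcm ∈ PfL k N := by
  intro k
  induction k with
  | zero =>
    intro N m hc _ _
    have : m = 0 := Multiset.card_eq_zero.mp (Nat.le_zero.mp hc)
    subst this
    simp [PfL]
  | succ k ih =>
    intro N m hc h2 hs
    rcases Multiset.empty_or_exists_mem m with rfl | ⟨a, ha⟩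
    · simp [PfL]
    · obtain ⟨m', rfl⟩ := Multiset.exists_cons_of_mem ha
      rw [Multiset.lcm_cons]
      rw [Multiset.sum_cons] at hs
      rw [Multiset.card_cons] at hc
      have h2a : 2 ≤ a := h2 a ha
      have haN : a ≤ N := by omega
      have hm' : m'.lcm ∈ PfL k (N - a) :=
        ih (N - a) m' (by omega) (fun x hx => h2 x (Multiset.mem_cons_of_mem hx)) (by omega)
      unfold PfL
      apply List.mem_cons_of_mem
      rw [List.mem_flatMap]
      refine ⟨a, List.mem_range.mpr (by omega), ?_⟩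
      rw [if_pos h2a]
      exact List.mem_map.mpr ⟨m'.lcm, hm', rfl⟩

theorem PfL_sub : ∀ x ∈ PfL 4 8, x ∈ spec := by decide

theorem orderOf_mem_spec (σ : Equiv.Perm (Fin 8)) : orderOf σ ∈ spec := by
  rw [← Equiv.Perm.lcm_cycleType]
  apply PfL_sub
  have h2 : ∀ x ∈ σ.cycleType, 2 ≤ x := fun x hx => Equiv.Perm.two_le_of_mem_cycleType hx
  have hs : σ.cycleType.sum ≤ 8 := by
    rw [Equiv.Perm.sum_cycleType]
    exact le_trans (Finset.card_le_univ _) (by simp)
  have hc : Multiset.card σ.cycleType ≤ 4 := by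
    have := Multiset.card_nsmul_le_sum h2
    rw [smul_eq_mul] at this
    omega
  exact lcm_mem_PfL 4 8 _ hc h2 hs

set_option maxRecDepth 100000 in
theorem exists_orderOf : ∀ k ∈ spec, ∃ σ : Equiv.Perm (Fin 8), orderOf σ = k := by
  have key : ∀ (σ : Equiv.Perm (Fin 8)) (k : ℕ), 0 < k → σ ^ k = 1 →
      (∀ m, m < k → 0 < m → σ ^ m ≠ 1) → orderOf σ = k := by
    intro σ k hk h1 h2
    rw [orderOf_eq_iff hk]
    exact ⟨h1, h2⟩
  intro k hk
  simp only [spec, List.mem_cons, List.not_mem_nil, or_false] at hk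
  rcases hk with rfl | rfl | rfl | rfl | rfl | rfl | rfl | rfl | rfl | rfl | rfl
  · exact ⟨1, orderOf_one⟩
  · refine ⟨c[0, 1], key _ _ (by norm_num) (by decide +kernel) ?_⟩
    intro m hm hpos; interval_cases m <;> decide +kernel
  · refine ⟨c[0, 1, 2], key _ _ (by norm_num) (by decide +kernel) ?_⟩
    intro m hm hpos; interval_cases m <;> decide +kernel
  · refine ⟨c[0, 1, 2, 3], key _ _ (by norm_num) (by decide +kernel) ?_⟩
    intro m hm hpos; interval_cases m <;> decide +kernel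
  · refine ⟨c[0, 1, 2, 3, 4], key _ _ (by norm_num) (by decide +kernel) ?_⟩
    intro m hm hpos; interval_cases m <;> decide +kernel
  · refine ⟨c[0, 1, 2] * c[3, 4], key _ _ (by norm_num) (by decide +kernel) ?_⟩
    intro m hm hpos; interval_cases m <;> decide +kernel
  · refine ⟨c[0, 1, 2, 3, 4, 5, 6], key _ _ (by norm_num) (by decide +kernel) ?_⟩
    intro m hm hpos; interval_cases m <;> decide +kernel
  · refine ⟨c[0, 1, 2, 3, 4, 5, 6, 7], key _ _ (by norm_num) (by decide +kernel) ?_⟩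
    intro m hm hpos; interval_cases m <;> decide +kernel
  · refine ⟨c[0, 1, 2, 3, 4] * c[5, 6], key _ _ (by norm_num) (by decide +kernel) ?_⟩
    intro m hm hpos; interval_cases m <;> decide +kernel
  · refine ⟨c[0, 1, 2, 3] * c[4, 5, 6], key _ _ (by norm_num) (by decide +kernel) ?_⟩
    intro m hm hpos; interval_cases m <;> decide +kernel
  · refine ⟨c[0, 1, 2, 3, 4] * c[5, 6, 7], key _ _ (by norm_num) (by decide +kernel) ?_⟩
    intro m hm hpos; interval_cases m <;> decide +kernel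

theorem range_orderOf : Set.range (orderOf : Equiv.Perm (Fin 8) → ℕ) = {k | k ∈ spec} := by
  ext k
  constructor
  · rintro ⟨σ, rfl⟩
    exact orderOf_mem_spec σ
  · intro hk
    obtain ⟨σ, hσ⟩ := exists_orderOf k hk
    exact ⟨σ, hσ⟩

theorem spec_ne_zero : ∀ L ∈ spec, L ≠ 0 := by decide

theorem spec_dvd : ∀ L ∈ spec, ∀ d, d ∣ L → d ∈ spec := by
  have h : ∀ L ∈ spec, ∀ d ∈ List.range 16, d ∣ L → d ∈ spec := by decide
  intro L hL d hd
  have hL15 : L ≤ 15 := by
    have : ∀ L ∈ spec, L ≤ 15 := by decide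
    exact this L hL
  have hLpos : 0 < L := Nat.pos_of_ne_zero (spec_ne_zero L hL)
  exact h L hL d (List.mem_range.mpr (by have := Nat.le_of_dvd hLpos hd; omega)) hd

end Cfsg.Agent.Lib.Helper23.SpecS8
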