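import Cfsg.Agent.Lib.Helper11.IcoPermData
import Cfsg.Agent.Lib.Helper23.Spec3
import Cfsg.Agent.Lib.Helper23.SpecS8

/-!
# Element orders of the degree-315 Hall–Janko group: definitions of the kernel checks
-/

set_option autoImplicit false

namespace Cfsg.Agent.Lib.Helper23.SpecJ2

open Cfsg.Agent.Lib.Helper28.BSGS Cfsg.Agent.Lib.Helper11.Ico.PD Cfsg.Agent.Lib.Helper23.Spec

/-- the base points -/
def bases : List ℕ := 0 :: rest1.map fun lv => lv.1

/-- the order check of all `1920` products `u_y * s`, `s` in the stabiliser of `0` -/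
def rep (y : ℕ) : Bool := repOK 9 15 bases Cfsg.Agent.Lib.Helper23.SpecS8.spec tr0 rest1 y

end Cfsg.Agent.Lib.Helper23.SpecJ2
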