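import Mathlib
import Cfsg.Agent.Lib.Helper13.ZassB

set_option autoImplicit false

/-!
(B) of helper28's S1666 farm-out: a strongly regular graph with `n = 100`, `k = 22` has
`λ = 0`, `μ = 6` (integrality of the eigenvalue multiplicities).
-/

namespace Cfsg.Agent.Lib.Helper23.Srg100

open Matrix

/-- multiplication in the span of `1, A, J` -/
theorem lin_mul {ι : Type*} [Fintype ι] [DecidableEq ι] (A J : Matrix ι ι ℝ) (c p q k v : ℝ)
    (hAA : A * A = c • (1 : Matrix ι ι ℝ) + p • A + q • J)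
    (hAJ : A * J = k • J) (hJA : J * A = k • J) (hJJ : J * J = v • J)
    (a1 a2 a3 b1 b2 b3 : ℝ) :
    (a1 • (1 : Matrix ι ι ℝ) + a2 • A + a3 • J) * (b1 • (1 : Matrix ι ι ℝ) + b2 • A + b3 • J) =
      (a1 * b1 + a2 * b2 * c) • (1 : Matrix ι ι ℝ) + (a1 * b2 + a2 * b1 + a2 * b2 * p) • A +
      (a1 * b3 + a3 * b1 + q * (a2 * b2) + a2 * b3 * k + a3 * b2 * k + a3 * b3 * v) • J := by
  simp only [add_mul, mul_add, smul_mul_assoc, mul_smul_comm, one_mul, mul_one, hAA, hAJ, hJA,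
    hJJ, smul_add, smul_smul]
  module

/-- the multiplicity of the eigenvalue `θ` is a natural number -/
theorem idem_trace {ι : Type*} [Fintype ι] [DecidableEq ι] (A J : Matrix ι ι ℝ) (c p q s : ℝ)
    (hAA : A * A = c • (1 : Matrix ι ι ℝ) + p • A + q • J)
    (hAJ : A * J = (22 : ℝ) • J) (hJA : J * A = (22 : ℝ) • J) (hJJ : J * J = (100 : ℝ) • J)
    (htrA : A.trace = 0) (htrJ : J.trace = 100) (htr1 : (1 : Matrix ι ι ℝ).trace = 100)
    (hs : s * s = p ^ 2 + 4 * c) (hspos : 0 < s) (hk : 484 = c + 22 * p + 100 * q) :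
    ∃ m' : ℕ, (m' : ℝ) * (2 * s) = 99 * s - 99 * p - 44 := by
  obtain ⟨t, ht⟩ : ∃ t : ℝ, t = (p - s) / 2 := ⟨_, rfl⟩
  obtain ⟨N, hN⟩ : ∃ N : Matrix ι ι ℝ,
      N = (-(t * 100)) • (1 : Matrix ι ι ℝ) + (100 : ℝ) • A + (-(22 - t)) • J := ⟨_, rfl⟩
  have hNN : N * N = (100 * s) • N := by
    rw [hN, lin_mul A J c p q 22 100 hAA hAJ hJA hJJ]
    have e1 : -(t * 100) * -(t * 100) + 100 * 100 * c = (100 * s) * (-(t * 100)) := by
      rw [ht]
      linear_combination (-2500 : ℝ) * hs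
    have e2 : -(t * 100) * 100 + 100 * -(t * 100) + 100 * 100 * p = (100 * s) * 100 := by
      rw [ht]
      ring
    have e3 : -(t * 100) * -(22 - t) + -(22 - t) * -(t * 100) + q * (100 * 100) +
        100 * -(22 - t) * 22 + -(22 - t) * 100 * 22 + -(22 - t) * -(22 - t) * 100 =
        (100 * s) * (-(22 - t)) := by
      rw [ht]
      linear_combination (-100 : ℝ) * hk + (25 : ℝ) * hs
    rw [e1, e2, e3]
    module
  have h100s : (100 * s) ≠ 0 := by positivity
  have hE : ((1 / (100 * s)) • N) * ((1 / (100 * s)) • N) = (1 / (100 * s)) • N := by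
    rw [smul_mul_assoc, mul_smul_comm, hNN, smul_smul, smul_smul]
    congr 1
    field_simp
  obtain ⟨m', hm'⟩ := Cfsg.Agent.Lib.Helper13.ZassB.trace_idem_nat _ hE
  refine ⟨m', ?_⟩
  have htr : ((1 / (100 * s)) • N).trace =
      (1 / (100 * s)) * (-(t * 100) * 100 + -(22 - t) * 100) := by
    rw [Matrix.trace_smul, hN, Matrix.trace_add, Matrix.trace_add, Matrix.trace_smul,
      Matrix.trace_smul, Matrix.trace_smul, htrA, htrJ, htr1]
    simp only [smul_eq_mul]
    ring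
  rw [htr, ht] at hm'
  rw [← hm']
  field_simp
  ring

theorem srg_100_22_params {V : Type*} [Fintype V] [DecidableEq V] (Γ : SimpleGraph V)
    [DecidableRel Γ.Adj] (l m : ℕ) (h : Γ.IsSRGWith 100 22 l m) : l = 0 ∧ m = 6 := by
  obtain ⟨A, hA⟩ : ∃ A : Matrix V V ℝ, A = Γ.adjMatrix ℝ := ⟨_, rfl⟩
  obtain ⟨J, hJ⟩ : ∃ J : Matrix V V ℝ, J = Matrix.of (fun _ _ => (1 : ℝ)) := ⟨_, rfl⟩
  have hJapp : ∀ i j, J i j = 1 := fun i j => by rw [hJ]; rfl
  have hcard : Fintype.card V = 100 := h.card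
  have hne : Nonempty V := by
    rw [← Fintype.card_pos_iff, hcard]
    norm_num
  have hC : Γᶜ.adjMatrix ℝ = J - 1 - A := by
    ext v w
    rw [hA]
    simp only [SimpleGraph.adjMatrix_apply, SimpleGraph.compl_adj, Matrix.sub_apply, hJapp,
      Matrix.one_apply]
    by_cases hvw : v = w
    · subst hvw
      simp
    · by_cases hadj : Γ.Adj v w
      · simp [hvw, hadj]
      · simp [hvw, hadj]
  have hsq : A * A = (22 : ℝ) • (1 : Matrix V V ℝ) + (l : ℝ) • A + (m : ℝ) • (J - 1 - A) := by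
    have := h.matrix_eq (α := ℝ)
    rw [hC, ← hA, pow_two] at this
    rw [this]
    simp only [← Nat.cast_smul_eq_nsmul ℝ]
    norm_num
  have hAA : A * A = ((22 : ℝ) - m) • (1 : Matrix V V ℝ) + ((l : ℝ) - m) • A + (m : ℝ) • J := by
    rw [hsq]
    module
  have hdeg : ∀ v, ((Γ.neighborFinset v).card : ℝ) = 22 := by
    intro v
    have := h.regular v
    rw [SimpleGraph.degree] at this
    rw [this]
    norm_num
  have hAJ : A * J = (22 : ℝ) • J := by
    ext v w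
    rw [hA, SimpleGraph.adjMatrix_mul_apply, Matrix.smul_apply, hJapp, smul_eq_mul, mul_one]
    simp only [hJapp]
    rw [Finset.sum_const, nsmul_eq_mul, mul_one, hdeg]
  have hJA : J * A = (22 : ℝ) • J := by
    ext v w
    rw [hA, SimpleGraph.mul_adjMatrix_apply, Matrix.smul_apply, hJapp, smul_eq_mul, mul_one]
    simp only [hJapp]
    rw [Finset.sum_const, nsmul_eq_mul, mul_one, hdeg]
  have hJJ : J * J = (100 : ℝ) • J := by
    ext v w
    rw [Matrix.mul_apply, Matrix.smul_apply, hJapp, smul_eq_mul, mul_one]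
    simp only [hJapp]
    rw [Finset.sum_const, nsmul_eq_mul, mul_one, Finset.card_univ, hcard]
    norm_num
  have htrA : A.trace = 0 := by
    rw [hA]
    exact SimpleGraph.trace_adjMatrix (α := ℝ) Γ
  have htrJ : J.trace = 100 := by
    simp only [Matrix.trace, Matrix.diag_apply, hJapp]
    rw [Finset.sum_const, nsmul_eq_mul, mul_one, Finset.card_univ, hcard]
    norm_num
  have htr1 : (1 : Matrix V V ℝ).trace = 100 := by
    rw [Matrix.trace_one, hcard]
    norm_num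
  -- the parameter equation
  have hpar : (484 : ℝ) = ((22 : ℝ) - m) + 22 * ((l : ℝ) - m) + 100 * (m : ℝ) := by
    have h1 : (A * A) * J = ((22 : ℝ) * 22) • J := by
      rw [Matrix.mul_assoc, hAJ, Matrix.mul_smul, hAJ, smul_smul]
    have h2 : (A * A) * J = (((22 : ℝ) - m) + ((l : ℝ) - m) * 22 + (m : ℝ) * 100) • J := by
      rw [hAA, add_mul, add_mul, smul_mul_assoc, smul_mul_assoc, smul_mul_assoc, one_mul, hAJ,
        hJJ, smul_smul, smul_smul, ← add_smul, ← add_smul]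
    obtain ⟨i⟩ := hne
    have h3 := congrFun (congrFun (h1.symm.trans h2) i) i
    simp only [Matrix.smul_apply, hJapp, smul_eq_mul, mul_one] at h3
    linarith
  have hparN : 2 * l + 7 * m = 42 := by
    have : (2 * (l : ℝ) + 7 * m) = 42 := by linarith
    exact_mod_cast this
  have hcases : (l = 0 ∧ m = 6) ∨ (l = 7 ∧ m = 4) ∨ (l = 14 ∧ m = 2) ∨ (l = 21 ∧ m = 0) := by
    omega
  rcases hcases with hgood | ⟨rfl, rfl⟩ | ⟨rfl, rfl⟩ | ⟨rfl, rfl⟩
  · exact hgood
  · -- (7,4): c = 18, p = 3, q = 4, D = 81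
    exfalso
    have hspos : (0 : ℝ) < Real.sqrt 81 := Real.sqrt_pos.mpr (by norm_num)
    have hs : Real.sqrt 81 * Real.sqrt 81 = (((7 : ℕ) : ℝ) - ((4 : ℕ) : ℝ)) ^ 2 +
        4 * ((22 : ℝ) - ((4 : ℕ) : ℝ)) := by
      rw [Real.mul_self_sqrt (by norm_num)]
      norm_num
    obtain ⟨m', hm'⟩ := idem_trace A J _ _ _ _ hAA hAJ hJA hJJ htrA htrJ htr1 hs hspos hpar
    have hs' : Real.sqrt 81 * Real.sqrt 81 = 81 := Real.mul_self_sqrt (by norm_num)
    have hz : ((99 : ℝ) - 2 * m') * Real.sqrt 81 = 341 := by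
      push_cast at hm'
      linarith
    have hz2 : ((99 : ℝ) - 2 * m') ^ 2 * 81 = 116281 := by
      have : (((99 : ℝ) - 2 * m') * Real.sqrt 81) ^ 2 = 341 ^ 2 := by rw [hz]
      rw [mul_pow, pow_two (Real.sqrt 81), hs'] at this
      rw [this]
      norm_num
    have hz3 : ((99 : ℤ) - 2 * m') ^ 2 * 81 = 116281 := by exact_mod_cast hz2
    generalize ((99 : ℤ) - 2 * m') ^ 2 = w at hz3
    omega
  · -- (14,2): c = 20, p = 12, q = 2, D = 224
    exfalso
    have hspos : (0 : ℝ) < Real.sqrt 224 := Real.sqrt_pos.mpr (by norm_num)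
    have hs : Real.sqrt 224 * Real.sqrt 224 = (((14 : ℕ) : ℝ) - ((2 : ℕ) : ℝ)) ^ 2 +
        4 * ((22 : ℝ) - ((2 : ℕ) : ℝ)) := by
      rw [Real.mul_self_sqrt (by norm_num)]
      norm_num
    obtain ⟨m', hm'⟩ := idem_trace A J _ _ _ _ hAA hAJ hJA hJJ htrA htrJ htr1 hs hspos hpar
    have hs' : Real.sqrt 224 * Real.sqrt 224 = 224 := Real.mul_self_sqrt (by norm_num)
    have hz : ((99 : ℝ) - 2 * m') * Real.sqrt 224 = 1232 := by
      push_cast at hm'
      linarith
    have hz2 : ((99 : ℝ) - 2 * m') ^ 2 * 224 = 1517824 := by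
      have : (((99 : ℝ) - 2 * m') * Real.sqrt 224) ^ 2 = 1232 ^ 2 := by rw [hz]
      rw [mul_pow, pow_two (Real.sqrt 224), hs'] at this
      rw [this]
      norm_num
    have hz3 : ((99 : ℤ) - 2 * m') ^ 2 * 224 = 1517824 := by exact_mod_cast hz2
    obtain ⟨z, hzdef⟩ : ∃ z : ℤ, z = (99 : ℤ) - 2 * m' := ⟨_, rfl⟩
    rw [← hzdef] at hz3
    have hzz : z * z = 6776 := by nlinarith
    have h1 : z ≤ 83 := by nlinarith
    have h2 : -83 ≤ z := by nlinarith
    interval_cases z <;> omega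
  · -- (21,0): c = 22, p = 21, q = 0, D = 529
    exfalso
    have hspos : (0 : ℝ) < Real.sqrt 529 := Real.sqrt_pos.mpr (by norm_num)
    have hs : Real.sqrt 529 * Real.sqrt 529 = (((21 : ℕ) : ℝ) - ((0 : ℕ) : ℝ)) ^ 2 +
        4 * ((22 : ℝ) - ((0 : ℕ) : ℝ)) := by
      rw [Real.mul_self_sqrt (by norm_num)]
      norm_num
    obtain ⟨m', hm'⟩ := idem_trace A J _ _ _ _ hAA hAJ hJA hJJ htrA htrJ htr1 hs hspos hpar
    have hs' : Real.sqrt 529 * Real.sqrt 529 = 529 := Real.mul_self_sqrt (by norm_num)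
    have hz : ((99 : ℝ) - 2 * m') * Real.sqrt 529 = 2123 := by
      push_cast at hm'
      linarith
    have hz2 : ((99 : ℝ) - 2 * m') ^ 2 * 529 = 4507129 := by
      have : (((99 : ℝ) - 2 * m') * Real.sqrt 529) ^ 2 = 2123 ^ 2 := by rw [hz]
      rw [mul_pow, pow_two (Real.sqrt 529), hs'] at this
      rw [this]
      norm_num
    have hz3 : ((99 : ℤ) - 2 * m') ^ 2 * 529 = 4507129 := by exact_mod_cast hz2
    generalize ((99 : ℤ) - 2 * m') ^ 2 = w at hz3
    omega

end Cfsg.Agent.Lib.Helper23.Srg100
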