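import Mathlib
import Cfsg.Agent.Lib.Helper1.CoprimeSylow
import Cfsg.Agent.Lib.Helper23.SylowCount

/-!
# Sylow numbers of `p`-nilpotent groups (helper23 library)

If `G = K P` with `K` a normal `p'`-subgroup and `P` a Sylow `p`-subgroup, then every
prime-power part `q ^ v_q(n_p(G))` of the number of Sylow `p`-subgroups is `≡ 1 (mod p)`.
-/

set_option autoImplicit false

namespace Cfsg.Agent.Lib.Helper23

open Subgroup Pointwise
open Cfsg.Agent.Lib.Helper1 (CoprimeAct)

universe u

variable {G : Type u} [Group G]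

theorem map_subtype_conj_smul (K : Subgroup G) (c : K) (H : Subgroup K) :
    (MulAut.conj c • H).map K.subtype = MulAut.conj (c : G) • H.map K.subtype := by
  ext x
  simp only [Subgroup.mem_map, Subgroup.mem_pointwise_smul_iff_inv_smul_mem, MulAut.smul_def,
    MulAut.conj_inv_apply, Subgroup.coe_subtype]
  constructor
  · rintro ⟨y, hy, rfl⟩
    exact ⟨c⁻¹ * y * c, hy, by simp⟩
  · rintro ⟨y, hy, hyx⟩
    refine ⟨c * y * c⁻¹, by simpa [mul_assoc] using hy, ?_⟩
    simp only [Subgroup.coe_mul, Subgroup.coe_inv, hyx]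
    group

variable [Finite G] {p : ℕ} [Fact p.Prime]

theorem coprimeAct_sylow (P : Sylow p G) (K : Subgroup G) [K.Normal] (hK : ¬ p ∣ Nat.card K) :
    CoprimeAct (P : Subgroup G) K where
  norm := by rw [normalizer_eq_top]; exact le_top
  cop := by
    obtain ⟨n, hn⟩ := IsPGroup.iff_card.1 P.isPGroup'
    rw [hn]
    exact Nat.Coprime.pow_left n ((Nat.Prime.coprime_iff_not_dvd Fact.out).2 hK)
  solv := Or.inl (by
    have : Group.IsNilpotent (P : Subgroup G) := P.isPGroup'.isNilpotent
    infer_instance)

/-- Sylow numbers of a `p`-nilpotent group: each prime-power part is `≡ 1 (mod p)`. -/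
theorem pnil_pow_factorization_modEq_one (P : Sylow p G) (K : Subgroup G) [K.Normal]
    (hK : ¬ p ∣ Nat.card K) (hPK : (P : Subgroup G) ⊔ K = ⊤) (q : ℕ) (hq : q.Prime) :
    q ^ (Nat.card (Sylow p G)).factorization q ≡ 1 [MOD p] := by
  have hp : p.Prime := Fact.out
  set NP : Subgroup G := normalizer ((P : Subgroup G) : Set G) with hNP
  set C : Subgroup G := K ⊓ centralizer ((P : Subgroup G) : Set G) with hC
  have h := coprimeAct_sylow P K hK
  have hNPK : NP ⊓ K = C := by
    ext x
    rw [hC, mem_inf, mem_inf]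
    constructor
    · rintro ⟨h1, h2⟩
      exact ⟨h2, h.mem_centralizer_of_mem_normalizer h2 h1⟩
    · rintro ⟨h1, h2⟩
      exact ⟨Subgroup.centralizer_le_normalizer _ h2, h1⟩
  have hCK : C ≤ K := inf_le_left
  have hn : Nat.card (Sylow p G) = NP.relIndex K := by
    have NPK : NP ⊔ K = ⊤ := by
      rw [eq_top_iff, ← hPK]
      exact sup_le_sup_right le_normalizer K
    have h1 : NP.relIndex (K ⊔ NP) = NP.relIndex K :=
      relIndex_sup_of_le_normalizer' (A := K) (by rw [normalizer_eq_top]; exact le_top)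
    rw [sup_comm, NPK, relIndex_top_right] at h1
    rw [← h1]
    exact P.card_eq_index_normalizer
  have hnC : Nat.card (Sylow p G) * Nat.card C = Nat.card K := by
    rw [hn, ← Subgroup.inf_relIndex_right, hNPK]
    exact relIndex_mul_card' hCK
  have hn0 : Nat.card (Sylow p G) ≠ 0 := by
    have : Nonempty (Sylow p G) := Sylow.nonempty
    exact Nat.card_pos.ne'
  have hC0 : Nat.card C ≠ 0 := Nat.card_pos.ne'
  have hK0 : Nat.card K ≠ 0 := Nat.card_pos.ne'
  by_cases hqp : q = p
  · subst hqp
    have : ¬ q ∣ Nat.card (Sylow q G) := fun hd => hK (hd.trans (Dvd.intro _ hnC))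
    rw [Nat.factorization_eq_zero_of_not_dvd this, pow_zero]
  have : Fact q.Prime := ⟨hq⟩
  obtain ⟨Q, hQ⟩ := h.exists_invariant_sylow q
  set Qg : Subgroup G := (Q : Subgroup K).map K.subtype with hQg
  have hQgK : Qg ≤ K := Subgroup.map_subtype_le _
  have hQgcard : Nat.card Qg = q ^ (Nat.card K).factorization q := by
    rw [hQg, ← Nat.card_congr ((Q : Subgroup K).equivMapOfInjective _ K.subtype_injective).toEquiv]
    exact Q.card_eq_multiplicity
  have hQgq : IsPGroup q Qg := Q.isPGroup'.map _
  set T : Subgroup G := Qg ⊓ C with hT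
  have hTC : T ≤ C := inf_le_right
  have hTQ : T ≤ Qg := inf_le_left
  -- the key claim
  have hTcard : Nat.card T = q ^ (Nat.card C).factorization q := by
    obtain ⟨t, ht⟩ := IsPGroup.iff_card.1 (hQgq.to_le hTQ)
    have hle1 : t ≤ (Nat.card C).factorization q := by
      rw [← Nat.Prime.pow_dvd_iff_le_factorization hq hC0, ← ht]
      exact Subgroup.card_dvd_of_le hTC
    have hle2 : (Nat.card C).factorization q ≤ t := by
      obtain ⟨R0⟩ : Nonempty (Sylow q C) := Sylow.nonempty
      set R : Subgroup G := (R0 : Subgroup C).map C.subtype with hR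
      have hRC : R ≤ C := Subgroup.map_subtype_le _
      have hRcard : Nat.card R = q ^ (Nat.card C).factorization q := by
        rw [hR, ← Nat.card_congr ((R0 : Subgroup C).equivMapOfInjective _ C.subtype_injective).toEquiv]
        exact R0.card_eq_multiplicity
      have hRq : IsPGroup q R := R0.isPGroup'.map _
      have hRA : (P : Subgroup G) ≤ normalizer (R : Set G) := by
        refine le_trans ?_ (Subgroup.centralizer_le_normalizer _)
        intro a ha
        rw [Subgroup.mem_centralizer_iff]
        intro r hr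
        have hrC : r ∈ centralizer ((P : Subgroup G) : Set G) := (hRC hr).2
        exact (Subgroup.mem_centralizer_iff.1 hrC a ha).symm
      obtain ⟨Q', hRQ', hQ'⟩ := h.exists_invariant_sylow_ge R (hRC.trans hCK) hRq hRA
      obtain ⟨c, hc, hcQ⟩ := h.exists_conj_sylow Q Q' hQ hQ'
      have hQ'eq : (Q' : Subgroup K).map K.subtype = MulAut.conj (c : G) • Qg := by
        rw [← hcQ, Sylow.pointwise_smul_def, map_subtype_conj_smul]
      have hcC : (c : G) ∈ C := ⟨c.2, hc⟩
      have hRT : R ≤ MulAut.conj (c : G) • T := by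
        intro r hr
        rw [Subgroup.mem_pointwise_smul_iff_inv_smul_mem]
        simp only [MulAut.smul_def, MulAut.conj_inv_apply]
        rw [hT, Subgroup.mem_inf]
        refine ⟨?_, ?_⟩
        · have := hRQ' hr
          rw [hQ'eq, Subgroup.mem_pointwise_smul_iff_inv_smul_mem] at this
          simpa only [MulAut.smul_def, MulAut.conj_inv_apply] using this
        · exact C.mul_mem (C.mul_mem (C.inv_mem hcC) (hRC hr)) hcC
      have hcard : Nat.card R ≤ Nat.card (MulAut.conj (c : G) • T : Subgroup G) :=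
        Subgroup.card_le_of_le hRT
      rw [← Nat.card_congr (Subgroup.equivSMul (MulAut.conj (c : G)) T).toEquiv, hRcard, ht] at hcard
      exact (Nat.pow_le_pow_iff_right hq.one_lt).1 hcard
    rw [ht, le_antisymm hle1 hle2]
  -- `[Qg : T] = n_p(Qg P) ≡ 1`
  have hmod : T.relIndex Qg ≡ 1 [MOD p] := by
    set D : Subgroup G := Qg ⊔ (P : Subgroup G) with hD
    have hPD : (P : Subgroup G) ≤ D := le_sup_right
    have hQD : Qg ≤ D := le_sup_left
    have hDN : D ≤ normalizer (Qg : Set G) := sup_le le_normalizer hQ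
    have h1 := card_sylow_of_le P D hPD
    have h2 : (NP ⊓ D).relIndex (Qg ⊔ (NP ⊓ D)) = (NP ⊓ D).relIndex Qg :=
      relIndex_sup_of_le_normalizer' (A := Qg) (B := NP ⊓ D) (inf_le_right.trans hDN)
    have h3 : Qg ⊔ (NP ⊓ D) = D := by
      apply le_antisymm (sup_le hQD inf_le_right)
      rw [hD]
      exact sup_le_sup_left (le_inf le_normalizer hPD) Qg
    rw [h3, Subgroup.inf_relIndex_right, ← Subgroup.inf_relIndex_right (NP ⊓ D) Qg,
      inf_assoc, inf_of_le_right hQD] at h2
    have h4 : NP ⊓ Qg = T := by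
      rw [hT, ← hNPK, inf_comm Qg, inf_assoc, inf_of_le_right hQgK]
    rw [h4] at h2
    rw [← h2, ← h1]
    exact card_sylow_modEq_one p D
  -- arithmetic
  have hfac : (Nat.card (Sylow p G)).factorization q + (Nat.card C).factorization q =
      (Nat.card K).factorization q := by
    rw [← hnC, Nat.factorization_mul hn0 hC0, Finsupp.add_apply]
  have hrel : T.relIndex Qg = q ^ (Nat.card (Sylow p G)).factorization q := by
    have e := relIndex_mul_card' hTQ
    rw [hTcard, hQgcard, ← hfac, pow_add] at e
    exact Nat.eq_of_mul_eq_mul_right (pow_pos hq.pos _) e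
  rw [← hrel]
  exact hmod

end Cfsg.Agent.Lib.Helper23
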