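import Mathlib

/-!
# S2112 piece [S2] (helper23, for architect helper7): odd-order lifts through a `2`-group kernel
-/

set_option autoImplicit false

namespace Cfsg.Agent.Lib.Helper7.Sz8

universe u v

namespace Helper23

theorem pow_eq_self_of_mod {G : Type*} [Group G] (x : G) {n e : ℕ} (hx : x ^ n = 1) (he : e % n = 1) :
    x ^ e = x := by
  have h := Nat.div_add_mod e n
  rw [he] at h
  rw [← h, pow_add, pow_mul, hx, one_pow, one_mul, pow_one]

end Helper23

/-- [S2a] elements of odd order lift to elements of the same odd order -/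
theorem exists_lift_pow_eq_one {Γ : Type u} {G : Type v} [Group Γ] [Finite Γ] [Group G] (σ : Γ →* G)
    (hs : Function.Surjective σ) (h2 : IsPGroup 2 σ.ker) (x : G) {n : ℕ} (hn : Odd n)
    (hx : x ^ n = 1) : ∃ y : Γ, σ y = x ∧ y ^ n = 1 := by
  obtain ⟨y0, hy0⟩ := hs x
  have hmem : y0 ^ n ∈ σ.ker := by
    rw [MonoidHom.mem_ker, map_pow, hy0, hx]
  obtain ⟨k, hk⟩ := h2 ⟨y0 ^ n, hmem⟩
  have hk' : (y0 ^ n) ^ (2 ^ k) = 1 := by
    have := congrArg Subtype.val hk
    simpa using this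
  by_cases h1 : n = 1
  · subst h1
    refine ⟨1, ?_, by simp⟩
    rw [map_one]
    simpa using hx.symm
  · have hn1 : 1 < n := by
      rcases hn with ⟨m, rfl⟩
      omega
    have hcop : Nat.Coprime (2 ^ k) n := by
      apply Nat.Coprime.pow_left
      exact (Nat.coprime_two_left.mpr hn)
    obtain ⟨c, -, hc⟩ := Nat.exists_mul_mod_eq_one_of_coprime hcop hn1
    refine ⟨y0 ^ (2 ^ k * c), ?_, ?_⟩
    · rw [map_pow, hy0]
      exact Helper23.pow_eq_self_of_mod x hx hc
    · rw [← pow_mul, mul_comm (2 ^ k * c) n, ← mul_assoc, pow_mul, pow_mul, hk', one_pow]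

/-- [S2b] ... uniquely, when the kernel is central -/
theorem lift_unique {Γ : Type u} {G : Type v} [Group Γ] [Group G] (σ : Γ →* G)
    (hc : σ.ker ≤ Subgroup.center Γ) (h2 : IsPGroup 2 σ.ker) {n : ℕ} (hn : Odd n) {y y' : Γ}
    (hy : y ^ n = 1) (hy' : y' ^ n = 1) (h : σ y = σ y') : y = y' := by
  set z : Γ := y⁻¹ * y' with hz
  have hzk : z ∈ σ.ker := by
    rw [MonoidHom.mem_ker, hz, map_mul, map_inv, h, inv_mul_cancel]
  have hzc : z ∈ Subgroup.center Γ := hc hzk
  have hcomm : Commute y z := by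
    have := Subgroup.mem_center_iff.mp hzc y
    exact this
  have hyz : y' = y * z := by rw [hz]; group
  have hzn : z ^ n = 1 := by
    have h3 : (y * z) ^ n = y ^ n * z ^ n := hcomm.mul_pow n
    rw [← hyz, hy', hy, one_mul] at h3
    exact h3.symm
  obtain ⟨k, hk⟩ := h2 ⟨z, hzk⟩
  have hk' : z ^ (2 ^ k) = 1 := by
    have := congrArg Subtype.val hk
    simpa using this
  have hd1 : orderOf z ∣ n := orderOf_dvd_of_pow_eq_one hzn
  have hd2 : orderOf z ∣ 2 ^ k := orderOf_dvd_of_pow_eq_one hk'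
  have hcop : Nat.Coprime n (2 ^ k) := by
    apply Nat.Coprime.pow_right
    exact (Nat.coprime_two_right.mpr hn)
  have h1 : orderOf z = 1 := Nat.eq_one_of_dvd_coprimes hcop hd1 hd2
  have hz1 : z = 1 := orderOf_eq_one_iff.mp h1
  rw [hyz, hz1, mul_one]

end Cfsg.Agent.Lib.Helper7.Sz8
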