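import Mathlib
import Cfsg.Agent.H5.TCkSound

/-!
# S2112 pieces [S4] and [S5] (helper23, for architect helper7)
-/

set_option autoImplicit false

namespace Cfsg.Agent.Lib.Helper7.Sz8

open Cfsg Cfsg.H5.TCk
open scoped commutatorElement

universe u v

/-- [S4] a central commutator `[a,b]` with `a²` central is an involution -/
theorem comm_sq_eq_one {Γ : Type u} [Group Γ] {a b : Γ} (hab : ⁅a, b⁆ ∈ Subgroup.center Γ)
    (ha : a * a ∈ Subgroup.center Γ) : ⁅a, b⁆ * ⁅a, b⁆ = 1 := by
  have hc : ∀ g : Γ, g * ⁅a, b⁆ = ⁅a, b⁆ * g := Subgroup.mem_center_iff.mp hab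
  have ha2 : ∀ g : Γ, g * (a * a) = a * a * g := Subgroup.mem_center_iff.mp ha
  have e1 : (a * a) * b * (a * a)⁻¹ * b⁻¹ = a * ⁅a, b⁆ * a⁻¹ * ⁅a, b⁆ := by
    rw [commutatorElement_def]; group
  have e2 : (a * a) * b * (a * a)⁻¹ * b⁻¹ = 1 := by
    rw [← ha2 b]; group
  rw [e2, hc a] at e1
  rw [e1]; group

/-- [S5] words only see the generators whose letters occur -/
theorem ev_congr {Γ : Type u} [Group Γ] (g g' : ℕ → Γ) (t : ℕ) (h : ∀ i < t, g i = g' i) (w : List ℕ)
    (hw : w.all (fun l => decide (l < 2 * t)) = true) : ev g w = ev g' w := by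
  induction w with
  | nil => simp [ev]
  | cons l w ih =>
    rw [List.all_cons, Bool.and_eq_true] at hw
    have hl : l < 2 * t := by simpa using hw.1
    have hl2 : l / 2 < t := by omega
    have hgl : gl g l = gl g' l := by
      unfold gl
      rw [h _ hl2]
    simp only [ev]
    rw [hgl, ih hw.2]

end Cfsg.Agent.Lib.Helper7.Sz8
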