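import Mathlib
import Cfsg.Agent.H5.TCkSound

/-!
# S2112 piece [S5] alone (helper23, for architect helper7); same proof as in `Sz8S45`, which must not be
imported together with this file.
-/

set_option autoImplicit false

namespace Cfsg.Agent.Lib.Helper7.Sz8

open Cfsg Cfsg.H5.TCk

universe u

/-- [S5] words only see the generators whose letters occur -/
theorem ev_congr {Γ : Type u} [Group Γ] (g g' : ℕ → Γ) (t : ℕ) (h : ∀ i < t, g i = g' i) (w : List ℕ)
    (hw : w.all (fun l => decide (l < 2 * t)) = true) : ev g w = ev g' w := by
  induction w with
  | nil => simp [ev]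
  | cons l w ih =>
    rw [List.all_cons, Bool.and_eq_true] at hw
    have hl : l < 2 * t := by simpa using hw.1
    have hl2 : l / 2 < t := by omega
    have hgl : gl g l = gl g' l := by
      unfold gl
      rw [h _ hl2]
    simp only [ev]
    rw [hgl, ih hw.2]

end Cfsg.Agent.Lib.Helper7.Sz8
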