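import Mathlib
import Cfsg.Agent.Lib.Helper23.HHAuto

/-!
# A minimal configuration for a `p`-group acting on a `p'`-group

`MinAct p φ`: the `p`-group `P` acts (through `φ : P →* MulAut Q`) on the finite group `Q` of
order prime to `p`, nontrivially, but trivially on every proper `P`-invariant subgroup.
Then `Q` is a `q`-group, and `C_Q(P)` is central and contains `Q'`.
-/

set_option autoImplicit false

namespace Cfsg.Agent.Lib.Helper23.TI

open Cfsg.Agent.Lib.Helper23.HH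
open scoped Pointwise

variable {Q : Type*} [Group Q] {P : Type*} [Group P]

/-- The subgroup of common fixed points. -/
def fixedSub (φ : P →* MulAut Q) : Subgroup Q where
  carrier := {x | ∀ a, φ a x = x}
  mul_mem' := by
    intro x y hx hy a
    change ∀ a, φ a x = x at hx
    change ∀ a, φ a y = y at hy
    rw [map_mul, hx a, hy a]
  one_mem' := fun a => map_one _
  inv_mem' := by
    intro x hx a
    change ∀ a, φ a x = x at hx
    rw [map_inv, hx a]

theorem mem_fixedSub (φ : P →* MulAut Q) (x : Q) : x ∈ fixedSub φ ↔ ∀ a, φ a x = x := Iff.rfl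

/-- The minimal configuration. -/
structure MinAct (p : ℕ) (φ : P →* MulAut Q) : Prop where
  cop : ¬ p ∣ Nat.card Q
  pgrp : IsPGroup p P
  min : ∀ Q₁ : Subgroup Q, Q₁ ≠ ⊤ → (∀ a, ∀ x ∈ Q₁, φ a x ∈ Q₁) → ∀ a, ∀ x ∈ Q₁, φ a x = x
  nc : ∃ a x, φ a x ≠ x

variable {p : ℕ} [hp : Fact p.Prime] {φ : P →* MulAut Q}

theorem MinAct.eq_one_of_fixed [Finite Q] (h : MinAct p φ) {a : P} {g u : Q}
    (h1 : φ a g = u * g) (h2 : φ a u = u) : u = 1 := by
  obtain ⟨k, hk⟩ := h.pgrp a
  have h3 := pow_apply_of_fixed (φ a) h1 h2 (p ^ k)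
  rw [← map_pow, hk, map_one, MulAut.one_apply] at h3
  have h4 : u ^ (p ^ k) = 1 := by
    have h5 : 1 * g = u ^ p ^ k * g := by rw [one_mul]; exact h3
    exact (mul_right_cancel h5).symm
  have h5 : orderOf u ∣ p ^ k := orderOf_dvd_of_pow_eq_one h4
  have h6 : orderOf u ∣ Nat.card Q := orderOf_dvd_natCard u
  have h7 : Nat.Coprime (p ^ k) (Nat.card Q) :=
    Nat.Coprime.pow_left k ((Nat.Prime.coprime_iff_not_dvd hp.out).mpr h.cop)
  have h8 : orderOf u = 1 := Nat.eq_one_of_dvd_coprimes h7 h5 h6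
  exact orderOf_eq_one_iff.mp h8

omit hp in
theorem MinAct.fixedSub_ne_top (h : MinAct p φ) : fixedSub φ ≠ ⊤ := by
  intro htop
  obtain ⟨a, x, hx⟩ := h.nc
  exact hx ((mem_fixedSub φ x).mp (htop ▸ Subgroup.mem_top x) a)

omit hp in
theorem MinAct.le_fixedSub (h : MinAct p φ) (Q₁ : Subgroup Q) (h1 : Q₁ ≠ ⊤)
    (h2 : ∀ a, ∀ x ∈ Q₁, φ a x ∈ Q₁) : Q₁ ≤ fixedSub φ :=
  fun x hx a => h.min Q₁ h1 h2 a x hx

theorem MinAct.exists_div_not_mem [Finite Q] (h : MinAct p φ) (K : Subgroup Q) (hK : K ≠ ⊤)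
    (hKinv : ∀ a, ∀ x ∈ K, φ a x ∈ K) : ∃ a g, φ a g * g⁻¹ ∉ K := by
  by_contra hcon
  push Not at hcon
  obtain ⟨a, x, hx⟩ := h.nc
  apply hx
  have h1 : φ a x = (φ a x * x⁻¹) * x := by group
  have h2 : φ a (φ a x * x⁻¹) = φ a x * x⁻¹ := h.min K hK hKinv a _ (hcon a x)
  have h3 := h.eq_one_of_fixed h1 h2
  exact mul_inv_eq_one.mp h3

omit hp in
theorem MinAct.nontrivial (h : MinAct p φ) : Nontrivial Q := by
  obtain ⟨a, x, hx⟩ := h.nc
  refine ⟨⟨x, 1, ?_⟩⟩
  rintro rfl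
  exact hx (map_one _)

omit hp in
theorem MinAct.commutator_le_fixedSub (h : MinAct p φ) (hsol : Group.IsSolvable Q) :
    commutator Q ≤ fixedSub φ := by
  haveI := h.nontrivial
  haveI := hsol
  apply h.le_fixedSub
  · exact (Group.IsSolvable.commutator_lt_top_of_nontrivial Q).ne
  · intro a x hx
    have hchar : (commutator Q).Characteristic := by
      rw [commutator_def]; infer_instance
    have h1 := (Subgroup.characteristic_iff_map_eq.mp hchar) (φ a)
    rw [← h1]
    exact Subgroup.mem_map_of_mem _ hx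

theorem MinAct.fixedSub_le_center [Finite Q] (h : MinAct p φ) (hsol : Group.IsSolvable Q) :
    fixedSub φ ≤ Subgroup.center Q := by
  intro c hc
  rw [mem_fixedSub] at hc
  have hcomm := h.commutator_le_fixedSub hsol
  have hu : ∀ (a : P) (g : Q), (φ a g * g⁻¹) * c = c * (φ a g * g⁻¹) := by
    intro a g
    have ht : g⁻¹ * c⁻¹ * g * c ∈ commutator Q := by
      have h0 := Subgroup.commutator_mem_commutator (Subgroup.mem_top g⁻¹) (Subgroup.mem_top c⁻¹)
      rw [commutatorElement_def, inv_inv, inv_inv] at h0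
      rw [commutator_def]
      exact h0
    have h1 : φ a (g⁻¹ * c⁻¹ * g * c) = g⁻¹ * c⁻¹ * g * c := hcomm ht a
    rw [map_mul, map_mul, map_mul, map_inv, map_inv, hc a] at h1
    have h2 : (φ a g)⁻¹ * c⁻¹ * φ a g = g⁻¹ * c⁻¹ * g := mul_right_cancel h1
    have h3 : c⁻¹ * (φ a g * g⁻¹) = (φ a g * g⁻¹) * c⁻¹ := by
      calc c⁻¹ * (φ a g * g⁻¹) = φ a g * ((φ a g)⁻¹ * c⁻¹ * φ a g) * g⁻¹ := by group
        _ = φ a g * (g⁻¹ * c⁻¹ * g) * g⁻¹ := by rw [h2]
        _ = (φ a g * g⁻¹) * c⁻¹ := by group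
    calc (φ a g * g⁻¹) * c = c * (c⁻¹ * (φ a g * g⁻¹)) * c := by group
      _ = c * ((φ a g * g⁻¹) * c⁻¹) * c := by rw [h3]
      _ = c * (φ a g * g⁻¹) := by group
  by_contra hcen
  have hD : Subgroup.centralizer ({c} : Set Q) ≠ ⊤ := by
    intro htop
    apply hcen
    rw [Subgroup.mem_center_iff]
    intro g
    have h1 : g ∈ Subgroup.centralizer ({c} : Set Q) := htop ▸ Subgroup.mem_top g
    rw [Subgroup.mem_centralizer_iff] at h1
    exact (h1 c rfl).symm
  have hDinv : ∀ a, ∀ x ∈ Subgroup.centralizer ({c} : Set Q),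
      φ a x ∈ Subgroup.centralizer ({c} : Set Q) := by
    intro a x hx
    rw [Subgroup.mem_centralizer_iff] at hx ⊢
    intro y hy
    rw [Set.mem_singleton_iff] at hy
    rw [hy]
    have h1 := hx c rfl
    have h2 := congrArg (φ a) h1
    rw [map_mul, map_mul, hc a] at h2
    exact h2
  obtain ⟨a, g, hg⟩ := h.exists_div_not_mem _ hD hDinv
  apply hg
  rw [Subgroup.mem_centralizer_iff]
  intro y hy
  rw [Set.mem_singleton_iff] at hy
  rw [hy]
  exact (hu a g).symm

/-- In the minimal configuration `Q` is a group of prime power order. -/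
theorem MinAct.exists_isPGroup [Finite Q] (h : MinAct p φ) :
    ∃ q : ℕ, q.Prime ∧ IsPGroup q Q := by
  by_contra hcon
  push Not at hcon
  have hfix := h.fixedSub_ne_top
  have hidx : (fixedSub φ).index ≠ 1 := fun h1 => hfix (Subgroup.index_eq_one.mp h1)
  obtain ⟨q, hq, hqd⟩ := Nat.exists_prime_and_dvd hidx
  haveI : Fact q.Prime := ⟨hq⟩
  letI : MulAction P (Sylow q Q) := MulAction.compHom (Sylow q Q) φ
  have hcard : ¬ p ∣ Nat.card (Sylow q Q) := by
    intro hd
    obtain ⟨S₀⟩ := (inferInstance : Nonempty (Sylow q Q))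
    exact h.cop (dvd_trans hd (dvd_trans S₀.card_dvd_index (Subgroup.index_dvd_card _)))
  obtain ⟨S, hS⟩ := h.pgrp.nonempty_fixed_point_of_prime_not_dvd_card (Sylow q Q) hcard
  have hinv : ∀ a, ∀ x ∈ (S : Subgroup Q), φ a x ∈ (S : Subgroup Q) := by
    intro a x hx
    have hSa : φ a • S = S := hS a
    have h1 : φ a • x ∈ ((φ a • S : Sylow q Q) : Subgroup Q) := by
      rw [Sylow.pointwise_smul_def]
      exact Subgroup.smul_mem_pointwise_smul x (φ a) S hx
    rw [hSa] at h1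
    exact h1
  have hStop : (S : Subgroup Q) ≠ ⊤ := by
    intro htop
    apply hcon q hq
    have h1 := S.isPGroup'
    rw [htop] at h1
    exact h1.of_equiv Subgroup.topEquiv
  have hSfix : (S : Subgroup Q) ≤ fixedSub φ := h.le_fixedSub _ hStop hinv
  exact S.not_dvd_index (dvd_trans hqd (Subgroup.index_dvd_of_le hSfix))

end Cfsg.Agent.Lib.Helper23.TI
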