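import Mathlib
import Cfsg.Agent.Lib.Helper23.TIAct

/-!
# The minimal configuration `MinAct` with `Q` abelian: there are no fixed points
-/

set_option autoImplicit false

namespace Cfsg.Agent.Lib.Helper23.TI

section Comm

variable {Q : Type*} [CommGroup Q] [Finite Q] {P : Type*} [Group P] [Finite P] {p : ℕ}
  [hp : Fact p.Prime] {φ : P →* MulAut Q}

theorem MinAct.fixed_eq_one_of_commGroup (h : MinAct p φ) (c : Q) (hc : ∀ a, φ a c = c) :
    c = 1 := by
  classical
  haveI := Fintype.ofFinite P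
  obtain ⟨N, hN⟩ : ∃ N : Q →* Q, ∀ x, N x = ∏ a : P, φ a x :=
    ⟨∏ a : P, (φ a).toMonoidHom, fun x => by rw [MonoidHom.finsetProd_apply]; rfl⟩
  have hNφ : ∀ b x, N (φ b x) = N x := by
    intro b x
    rw [hN, hN]
    have h1 : ∀ a, φ a (φ b x) = φ (a * b) x := fun a => by rw [map_mul, MulAut.mul_apply]
    simp_rw [h1]
    exact Fintype.prod_equiv (Equiv.mulRight b) _ _ (fun a => rfl)
  have hφN : ∀ b x, φ b (N x) = N x := by
    intro b x
    rw [hN, map_prod]
    have h1 : ∀ a, φ b (φ a x) = φ (b * a) x := fun a => by rw [map_mul, MulAut.mul_apply]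
    simp_rw [h1]
    exact Fintype.prod_equiv (Equiv.mulLeft b) _ _ (fun a => rfl)
  have hNfix : ∀ k, (∀ a, φ a k = k) → N k = k ^ Nat.card P := by
    intro k hk
    rw [hN]
    simp_rw [hk]
    rw [Finset.prod_const, Finset.card_univ, Nat.card_eq_fintype_card]
  have hpow_one : ∀ k : Q, k ^ Nat.card P = 1 → k = 1 := by
    intro k hk
    obtain ⟨j, hj⟩ := IsPGroup.iff_card.mp h.pgrp
    rw [hj] at hk
    have h5 : orderOf k ∣ p ^ j := orderOf_dvd_of_pow_eq_one hk
    have h6 : orderOf k ∣ Nat.card Q := orderOf_dvd_natCard k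
    have h7 : Nat.Coprime (p ^ j) (Nat.card Q) :=
      Nat.Coprime.pow_left j ((Nat.Prime.coprime_iff_not_dvd hp.out).mpr h.cop)
    exact orderOf_eq_one_iff.mp (Nat.eq_one_of_dvd_coprimes h7 h5 h6)
  by_cases hker : N.ker = ⊤
  · apply hpow_one
    rw [← hNfix c hc]
    exact MonoidHom.mem_ker.mp (hker ▸ Subgroup.mem_top c)
  · exfalso
    have hkfix : N.ker ≤ fixedSub φ := h.le_fixedSub _ hker (fun a x hx => by
      rw [MonoidHom.mem_ker] at hx ⊢
      rw [hNφ, hx])
    have hinj : Function.Injective N := by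
      rw [← MonoidHom.ker_eq_bot_iff, eq_bot_iff]
      intro k hk
      rw [Subgroup.mem_bot]
      apply hpow_one
      rw [← hNfix k (hkfix hk)]
      exact MonoidHom.mem_ker.mp hk
    have hsurj : Function.Surjective N := Finite.injective_iff_surjective.mp hinj
    obtain ⟨a, x, hx⟩ := h.nc
    obtain ⟨y, rfl⟩ := hsurj x
    exact hx (hφN a y)

theorem MinAct.surjective_div_of_commGroup (h : MinAct p φ)
    (hstar : ∀ a : P, a ≠ 1 → ∀ x, φ a x = x → ∀ b, φ b x = x) (s : P) (hs : s ≠ 1) :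
    Function.Surjective (fun x : Q => φ s x * x⁻¹) := by
  apply Finite.injective_iff_surjective.mp
  intro x y hxy
  have hxy' : φ s x * x⁻¹ = φ s y * y⁻¹ := hxy
  have h1 : φ s (x * y⁻¹) = x * y⁻¹ := by
    rw [map_mul, map_inv, mul_inv_eq_iff_eq_mul]
    rw [mul_inv_eq_iff_eq_mul] at hxy'
    rw [hxy']
    ac_rfl
  have h2 := h.fixed_eq_one_of_commGroup (x * y⁻¹) (hstar s hs _ h1)
  exact mul_inv_eq_one.mp h2

end Comm

section Group

variable {Q : Type*} [Group Q] [Finite Q] {P : Type*} [Group P] [Finite P] {p : ℕ}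
  [hp : Fact p.Prime] {φ : P →* MulAut Q}

theorem MinAct.surjective_div_of_comm (hcomm : ∀ x y : Q, x * y = y * x) (h : MinAct p φ)
    (hstar : ∀ a : P, a ≠ 1 → ∀ x, φ a x = x → ∀ b, φ b x = x) (s : P) (hs : s ≠ 1) :
    Function.Surjective (fun x : Q => φ s x * x⁻¹) := by
  letI : CommGroup Q := { (inferInstance : Group Q) with mul_comm := hcomm }
  exact MinAct.surjective_div_of_commGroup (Q := Q) (φ := φ) h hstar s hs

end Group

end Cfsg.Agent.Lib.Helper23.TI
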