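import Mathlib
import Cfsg.Agent.Lib.Helper23.HHChar

/-!
# Irreducible characters of groups of class at most two, and free actions

* `card_eq_card_commSubgroup_mul_sq`: if `Q' ≤ Z(Q)` and `σ` is irreducible of degree `m`, then
  `|Q| = |Z(σ)| m²`, where `Z(σ) = commSubgroup σ`.
* `commSubgroup_map_mem`: `Z(σ)` is invariant under automorphisms fixing the character.
* `card_dvd_of_free`: a group acting by automorphisms on `Q`, freely off an invariant subgroup `Z`,
  has order dividing `|Q| - |Z|`.
-/

set_option autoImplicit false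

namespace Cfsg.Agent.Lib.Helper23.TI

open Module Cfsg Cfsg.Agent.Lib.Helper2 Cfsg.Agent.Lib.Helper25 Cfsg.Agent.Lib.Helper23.HH
open scoped ComplexConjugate

variable {Q : Type*} [Group Q] [Finite Q]
variable {V : Type*} [AddCommGroup V] [Module ℂ V] [FiniteDimensional ℂ V]

/-- Central type over `Z(σ)` for groups of class at most two. -/
theorem card_eq_card_commSubgroup_mul_sq (hcl : commutator Q ≤ Subgroup.center Q)
    (σ : Representation ℂ Q V) (hirr : σ.IsIrreducible) :
    Nat.card Q = Nat.card (commSubgroup σ) * (finrank ℂ V) ^ 2 := by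
  classical
  haveI := hirr
  haveI : Nontrivial V := nontrivial_of_isIrreducible σ
  haveI := Fintype.ofFinite Q
  have hcz : Subgroup.center Q ≤ commSubgroup σ := center_le_commSubgroup σ
  have hvan : ∀ g, g ∉ commSubgroup σ → σ.character g = 0 := by
    intro g hgZ
    rw [mem_commSubgroup] at hgZ
    push Not at hgZ
    obtain ⟨k, hk⟩ := hgZ
    have hz : g⁻¹ * k * g * k⁻¹ ∈ commutator Q := by
      have h0 := Subgroup.commutator_mem_commutator (Subgroup.mem_top g⁻¹) (Subgroup.mem_top k)
      rw [commutatorElement_def, inv_inv] at h0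
      rw [commutator_def]
      exact h0
    have hzZ : g⁻¹ * k * g * k⁻¹ ∈ commSubgroup σ := hcz (hcl hz)
    obtain ⟨c, hc⟩ := exists_smul_of_mem_commSubgroup σ hirr hzZ
    have hconj : k * g * k⁻¹ = g * (g⁻¹ * k * g * k⁻¹) := by group
    have h1 : σ.character g = c * σ.character g := by
      calc σ.character g = σ.character (k * g * k⁻¹) := (σ.char_conj g k).symm
        _ = σ.character (g * (g⁻¹ * k * g * k⁻¹)) := by rw [hconj]
        _ = c * σ.character g := by
          rw [Representation.character, Representation.character, map_mul, hc, mul_smul_comm,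
            mul_one, map_smul, smul_eq_mul]
    have hc1 : c ≠ 1 := by
      rintro rfl
      rw [one_smul] at hc
      apply hk
      have h2 : σ (k * g * k⁻¹) = σ g := by
        rw [hconj, map_mul, hc, mul_one]
      calc σ g * σ k = σ (k * g * k⁻¹) * σ k := by rw [h2]
        _ = σ k * σ g := by rw [← map_mul, inv_mul_cancel_right, map_mul]
    have h3 : (1 - c) * σ.character g = 0 := by rw [sub_mul, one_mul, ← h1, sub_self]
    rcases mul_eq_zero.mp h3 with h4 | h4
    · exact absurd (sub_eq_zero.mp h4).symm hc1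
    · exact h4
  have hcen : ∀ z ∈ commSubgroup σ,
      σ.character z * conj (σ.character z) = (finrank ℂ V : ℂ) ^ 2 := by
    intro z hz
    obtain ⟨c, hc⟩ := exists_smul_of_mem_commSubgroup σ hirr hz
    have h1 : c ^ orderOf z = 1 := by
      have h2 : σ (z ^ orderOf z) = 1 := by rw [pow_orderOf_eq_one, map_one]
      rw [map_pow, hc, smul_pow, one_pow] at h2
      have h3 : (c ^ orderOf z) • (1 : Module.End ℂ V) = (1 : ℂ) • 1 := by rw [h2, one_smul]
      exact smul_one_injective' h3
    have h4 : ‖c‖ = 1 := Complex.norm_eq_one_of_pow_eq_one h1 (orderOf_pos z).ne'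
    have h5 : c * conj c = 1 := by
      rw [Complex.mul_conj, Complex.normSq_eq_norm_sq, h4]; norm_num
    rw [character_of_smul σ hc, map_mul, Complex.conj_natCast]
    calc c * (finrank ℂ V : ℂ) * (conj c * (finrank ℂ V : ℂ))
        = (c * conj c) * (finrank ℂ V : ℂ) ^ 2 := by ring
      _ = (finrank ℂ V : ℂ) ^ 2 := by rw [h5, one_mul]
  have hirrc : Cfsg.IsIrrCharacter Q σ.character := isIrrCharacter_of_rep σ
  have hinner := classInner_irrCharacter_self (⟨σ.character, hirrc⟩ : Cfsg.IrrCharacter Q)
  rw [classInner_def] at hinner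
  have hsum : ∑ g : Q, σ.character g * conj (σ.character g) =
      (Nat.card (commSubgroup σ) : ℂ) * (finrank ℂ V : ℂ) ^ 2 := by
    have h1 : ∀ g : Q, σ.character g * conj (σ.character g) =
        if g ∈ commSubgroup σ then (finrank ℂ V : ℂ) ^ 2 else 0 := by
      intro g
      split_ifs with hg
      · exact hcen g hg
      · rw [hvan g hg, zero_mul]
    have hcard : (Finset.univ.filter (fun g : Q => g ∈ commSubgroup σ)).card =
        Nat.card (commSubgroup σ) := by
      rw [Nat.card_eq_fintype_card, Fintype.card_subtype]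
    rw [Finset.sum_congr rfl (fun g _ => h1 g), ← Finset.sum_filter, Finset.sum_const,
      nsmul_eq_mul, hcard]
  have hcardQ : (Nat.card Q : ℂ) ≠ 0 := Nat.cast_ne_zero.mpr Nat.card_pos.ne'
  have hQeq : (Nat.card Q : ℂ) =
      (Nat.card (commSubgroup σ) : ℂ) * (finrank ℂ V : ℂ) ^ 2 := by
    have h1 : (Nat.card Q : ℂ)⁻¹ * ∑ g : Q, σ.character g * conj (σ.character g) = 1 := hinner
    rw [hsum] at h1
    exact (inv_mul_eq_one₀ hcardQ).mp h1
  exact_mod_cast hQeq

/-- `Z(σ)` is invariant under automorphisms fixing the character of `σ`. -/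
theorem commSubgroup_map_mem (σ : Representation ℂ Q V) (α : MulAut Q)
    (hinv : ∀ x, σ.character (α x) = σ.character x) :
    ∀ x ∈ commSubgroup σ, α x ∈ commSubgroup σ := by
  have hK : ∀ x, σ x = 1 ↔ σ.character x = σ.character 1 := rep_apply_eq_one_iff σ
  have hKα : ∀ x, σ x = 1 → σ (α x) = 1 := by
    intro x hx
    rw [hK] at hx ⊢
    rw [hinv, hx]
  have hσα : ∀ a b, σ a = σ b → σ (α a) = σ (α b) := by
    intro a b hab
    have h1 : σ (a * b⁻¹) = 1 := by
      rw [map_mul, hab, ← map_mul, mul_inv_cancel, map_one]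
    have h2 := hKα _ h1
    have h3 : α a = α (a * b⁻¹) * α b := by rw [← map_mul, inv_mul_cancel_right]
    rw [h3, map_mul, h2, one_mul]
  intro x hx k
  obtain ⟨k', rfl⟩ := α.surjective k
  have e1 : σ (α x) * σ (α k') = σ (α (x * k')) := by rw [map_mul, map_mul]
  have e2 : σ (α k') * σ (α x) = σ (α (k' * x)) := by rw [map_mul, map_mul]
  rw [e1, e2]
  apply hσα
  rw [map_mul, map_mul]
  exact hx k'

omit [Finite Q] in
/-- A group acting by automorphisms, freely off an invariant subgroup `Z`. -/
theorem card_dvd_of_free [Finite Q] {S : Type*} [Group S] [Finite S] (ψ : S →* MulAut Q)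
    (Z : Subgroup Q) (hZ : ∀ s, ∀ x ∈ Z, ψ s x ∈ Z)
    (hfree : ∀ s : S, s ≠ 1 → ∀ x, ψ s x = x → x ∈ Z) :
    Nat.card S ∣ Nat.card Q - Nat.card Z := by
  classical
  haveI := Fintype.ofFinite Q
  letI : MulAction S {x : Q // x ∉ Z} :=
    { smul := fun s x => ⟨ψ s x, fun hx => x.2 (by
        have h1 := hZ s⁻¹ _ hx
        rw [← MulAut.mul_apply, ← map_mul, inv_mul_cancel, map_one, MulAut.one_apply] at h1
        exact h1)⟩
      one_smul := fun x => Subtype.ext (by
        change ψ 1 x.1 = x.1
        rw [map_one, MulAut.one_apply])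
      mul_smul := fun s t x => Subtype.ext (by
        change ψ (s * t) x.1 = ψ s (ψ t x.1)
        rw [map_mul, MulAut.mul_apply]) }
  have hstab : ∀ x : {x : Q // x ∉ Z}, MulAction.stabilizer S x = ⊥ := by
    intro x
    rw [eq_bot_iff]
    intro s hs
    rw [Subgroup.mem_bot]
    by_contra hs1
    rw [MulAction.mem_stabilizer_iff] at hs
    have h1 : ψ s x.1 = x.1 := congrArg Subtype.val hs
    exact x.2 (hfree s hs1 x.1 h1)
  have e := MulAction.selfEquivOrbitsQuotientProd hstab
  have h1 : Nat.card {x : Q // x ∉ Z} =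
      Nat.card (Quotient (MulAction.orbitRel S {x : Q // x ∉ Z})) * Nat.card S := by
    rw [Nat.card_congr e, Nat.card_prod]
  have h2 : Nat.card {x : Q // x ∉ Z} = Nat.card Q - Nat.card Z := by
    rw [Nat.card_eq_fintype_card, Nat.card_eq_fintype_card, Nat.card_eq_fintype_card]
    exact Fintype.card_subtype_compl (fun x => x ∈ Z)
  rw [← h2, h1]
  exact Dvd.intro_left _ rfl

end Cfsg.Agent.Lib.Helper23.TI
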