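import Mathlib
import Cfsg.Prelude.Def_Characters
import Cfsg.Agent.Lib.Helper23.TIAct
import Cfsg.Agent.Lib.Helper23.TIAbel
import Cfsg.Agent.Lib.Helper23.TIChar
import Cfsg.Agent.Lib.Helper23.HHMain
import Cfsg.Agent.Lib.Helper2.Linear

/-!
# Faithful characters in the minimal configuration with Frobenius-like fixed points

Let the `p`-group `P` act on the `p'`-group `Q` in the minimal configuration `MinAct p φ`, and
suppose that all nonidentity elements of `P` have the same fixed points on `Q`.  Then every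
faithful `P`-invariant character of `Q` has degree `n` with `n² > |P|`.
-/

set_option autoImplicit false

namespace Cfsg.Agent.Lib.Helper23.TI

open Module Cfsg Cfsg.Agent.Lib.Helper2 Cfsg.Agent.Lib.Helper25 Cfsg.Agent.Lib.Helper23.HH
open scoped ComplexConjugate

universe u

variable {Q : Type u} [Group Q] [Finite Q] {P : Type*} [Group P] [Finite P] {p : ℕ}
  [hp : Fact p.Prime] {φ : P →* MulAut Q}
variable {V : Type*} [AddCommGroup V] [Module ℂ V] [FiniteDimensional ℂ V]

theorem MinAct.card_lt_sq (h : MinAct p φ)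
    (hstar : ∀ a : P, a ≠ 1 → ∀ x, φ a x = x → ∀ b, φ b x = x)
    {n : ℕ} (ρ : Representation ℂ Q V) (hρ : Function.Injective ρ) (hn : finrank ℂ V = n)
    (hinv : ∀ a x, ρ.character (φ a x) = ρ.character x) :
    Nat.card P < n ^ 2 := by
  classical
  haveI := Fintype.ofFinite Q
  obtain ⟨m, hm⟩ := exists_multiset_irr_of_rep ρ
  have hdeg : ∀ θ : IrrCharacter Q, ∃ d : ℕ, 0 < d ∧ (θ : Q → ℂ) 1 = d :=
    fun θ => IsIrrCharacter.apply_one θ.2
  choose deg hdegpos hdegeq using hdeg
  have happ : ∀ g : Q, ρ.character g =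
      (m.map (fun θ : IrrCharacter Q => (θ : Q → ℂ) g)).sum := by
    intro g
    rw [hm, msum_apply]
  have hsumdeg : (m.map deg).sum = n := by
    have h1 := happ 1
    rw [Representation.char_one, hn] at h1
    have h2 : (m.map (fun θ : IrrCharacter Q => (θ : Q → ℂ) 1)) =
        m.map (fun θ => ((deg θ : ℕ) : ℂ)) :=
      Multiset.map_congr rfl (fun θ _ => hdegeq θ)
    rw [h2] at h1
    have h3 : (m.map (fun θ => ((deg θ : ℕ) : ℂ))).sum = (((m.map deg).sum : ℕ) : ℂ) := by
      rw [Nat.cast_multiset_sum, Multiset.map_map]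
      rfl
    rw [h3] at h1
    exact_mod_cast h1.symm
  -- the action on irreducible characters
  letI : MulAction (MulAut Q) (IrrCharacter Q) := irrMulAction
  letI : MulAction P (IrrCharacter Q) := MulAction.compHom (IrrCharacter Q) φ
  have hsmul : ∀ (a : P) (θ : IrrCharacter Q) (x : Q),
      ((a • θ : IrrCharacter Q) : Q → ℂ) x = (θ : Q → ℂ) ((φ a)⁻¹ x) := fun a θ x => rfl
  have hdegsmul : ∀ (a : P) (θ : IrrCharacter Q), deg (a • θ) = deg θ := by
    intro a θ
    have h1 := hdegeq (a • θ)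
    rw [hsmul, map_one, hdegeq θ] at h1
    exact_mod_cast h1.symm
  have hcount : ∀ (a : P) (θ' : IrrCharacter Q), m.count (a • θ') = m.count θ' := by
    intro a θ'
    have h1 := classInner_msum m (a • θ')
    have h2 := classInner_msum m θ'
    rw [← hm] at h1 h2
    have hβ' : ∀ x, ρ.character ((φ a)⁻¹ x) = ρ.character x := by
      intro x
      have h3 := hinv a ((φ a)⁻¹ x)
      rw [MulAut.apply_inv_self] at h3
      exact h3.symm
    have h3 : classInner ρ.character ((a • θ' : IrrCharacter Q) : Q → ℂ) =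
        classInner ρ.character (θ' : Q → ℂ) := by
      have h4 := classInner_comp_aut (φ a)⁻¹ ρ.character (θ' : Q → ℂ)
      have h5 : (fun x => ρ.character ((φ a)⁻¹ x)) = ρ.character := funext hβ'
      rw [h5] at h4
      exact h4
    rw [h3, h2] at h1
    exact_mod_cast h1.symm
  have hmem : ∀ (a : P) (θ : IrrCharacter Q), θ ∈ m → a • θ ∈ m := by
    intro a θ hθ
    rw [← Multiset.count_pos, hcount a θ, Multiset.count_pos]
    exact hθ
  -- the orbit bound
  have horb : ∀ θ ∈ m, Nat.card (MulAction.orbit P θ) * deg θ ≤ n := by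
    intro θ hθ
    haveI : Fintype (MulAction.orbit P θ) := Fintype.ofFinite _
    have hsub : (MulAction.orbit P θ).toFinset.val ⊆ m := by
      intro χ hχ
      rw [Finset.mem_val, Set.mem_toFinset] at hχ
      obtain ⟨a, rfl⟩ := hχ
      exact hmem a θ hθ
    have hle : (MulAction.orbit P θ).toFinset.val ≤ m :=
      (Multiset.le_iff_subset (MulAction.orbit P θ).toFinset.nodup).mpr hsub
    obtain ⟨u, hu⟩ := Multiset.le_iff_exists_add.mp hle
    have h1 : ((MulAction.orbit P θ).toFinset.val.map deg).sum ≤ (m.map deg).sum := by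
      rw [hu, Multiset.map_add, Multiset.sum_add]
      exact Nat.le_add_right _ _
    have h2 : ((MulAction.orbit P θ).toFinset.val.map deg).sum =
        (MulAction.orbit P θ).toFinset.card * deg θ := by
      change ∑ χ ∈ (MulAction.orbit P θ).toFinset, deg χ = _
      apply Finset.sum_const_nat
      intro χ hχ
      rw [Set.mem_toFinset] at hχ
      obtain ⟨a, rfl⟩ := hχ
      exact hdegsmul a θ
    have h3 : (MulAction.orbit P θ).toFinset.card = Nat.card (MulAction.orbit P θ) := by
      rw [Set.toFinset_card, Nat.card_eq_fintype_card]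
    rw [h2, h3, hsumdeg] at h1
    exact h1
  have hos : ∀ θ : IrrCharacter Q, Nat.card (MulAction.orbit P θ) *
      Nat.card (MulAction.stabilizer P θ) = Nat.card P := by
    intro θ
    rw [← Nat.card_prod]
    exact Nat.card_congr (MulAction.orbitProdStabilizerEquivGroup P θ)
  -- a constituent separating a given nonidentity element
  have hsep : ∀ x₀ : Q, x₀ ≠ 1 → ∃ θ ∈ m, (θ : Q → ℂ) x₀ ≠ (θ : Q → ℂ) 1 := by
    intro x₀ hx₀
    by_contra hcon
    push Not at hcon
    apply hx₀
    apply hρ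
    rw [map_one, rep_apply_eq_one_iff, happ, happ]
    exact congrArg Multiset.sum (Multiset.map_congr rfl (fun θ hθ => hcon θ hθ))
  have hPnt : 1 < Nat.card P := by
    rw [Finite.one_lt_card_iff_nontrivial]
    obtain ⟨a, x, hx⟩ := h.nc
    refine ⟨⟨a, 1, ?_⟩⟩
    rintro rfl
    rw [map_one, MulAut.one_apply] at hx
    exact hx rfl
  have hstabinv : ∀ (θ : IrrCharacter Q) (s : P), s • θ = θ →
      ∀ x, (θ : Q → ℂ) (φ s x) = (θ : Q → ℂ) x := by
    intro θ s hs x
    have h1 := congrArg (fun θ' : IrrCharacter Q => (θ' : Q → ℂ) (φ s x)) hs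
    change (θ : Q → ℂ) ((φ s)⁻¹ (φ s x)) = (θ : Q → ℂ) (φ s x) at h1
    rw [MulAut.inv_apply_self] at h1
    exact h1.symm
  by_cases hcomm : ∀ x y : Q, x * y = y * x
  · -- abelian case
    haveI := h.nontrivial
    obtain ⟨x₀, hx₀⟩ := exists_ne (1 : Q)
    obtain ⟨θ, hθm, hθx⟩ := hsep x₀ hx₀
    have hθ1 : (θ : Q → ℂ) 1 = 1 := IsIrrCharacter.apply_one_of_comm hcomm θ.2
    obtain ⟨ψ, hψ⟩ := exists_monoidHom_of_isIrrCharacter_of_apply_one θ.2 hθ1
    have hstab : MulAction.stabilizer P θ = ⊥ := by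
      rw [eq_bot_iff]
      intro s hs
      rw [Subgroup.mem_bot]
      by_contra hs1
      rw [MulAction.mem_stabilizer_iff] at hs
      have h1 := hstabinv θ s hs
      obtain ⟨x, hx⟩ := MinAct.surjective_div_of_comm hcomm h hstar s hs1 x₀
      have hx' : φ s x * x⁻¹ = x₀ := hx
      have h2 : (ψ (φ s x) : ℂ) = (ψ x : ℂ) := by
        have h3 := h1 x
        rw [hψ] at h3
        exact h3
      have h3 : ψ (φ s x) = ψ x := Units.ext h2
      have h4 : ψ x₀ = 1 := by
        rw [← hx', map_mul, map_inv, h3, mul_inv_cancel]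
      apply hθx
      rw [hθ1, hψ]
      simp [h4]
    have h1 := hos θ
    rw [hstab, Subgroup.card_bot, mul_one] at h1
    have h2 := horb θ hθm
    rw [h1] at h2
    have h3 : 0 < deg θ := hdegpos θ
    have h4 : Nat.card P ≤ n := le_trans (Nat.le_mul_of_pos_right _ h3) h2
    nlinarith
  · -- nonabelian case
    push Not at hcomm
    obtain ⟨x, y, hxy⟩ := hcomm
    obtain ⟨q, hq, hQq⟩ := h.exists_isPGroup
    haveI : Fact q.Prime := ⟨hq⟩
    have hsol : Group.IsSolvable Q := by
      haveI := hQq.isNilpotent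
      infer_instance
    have hcf := h.commutator_le_fixedSub hsol
    have hfc := h.fixedSub_le_center hsol
    have hcl : commutator Q ≤ Subgroup.center Q := hcf.trans hfc
    have hx₀mem : x * y * x⁻¹ * y⁻¹ ∈ commutator Q := by
      rw [commutator_def]
      exact Subgroup.commutator_mem_commutator (Subgroup.mem_top x) (Subgroup.mem_top y)
    have hx₀ : x * y * x⁻¹ * y⁻¹ ≠ 1 := by
      intro h1
      apply hxy
      have h2 : x * y * x⁻¹ = y := mul_inv_eq_one.mp h1
      calc x * y = x * y * x⁻¹ * x := by group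
        _ = y * x := by rw [h2]
    obtain ⟨θ, hθm, hθx⟩ := hsep _ hx₀
    have hθ1 : deg θ ≠ 1 := by
      intro h1
      have h2 : (θ : Q → ℂ) 1 = 1 := by rw [hdegeq θ, h1, Nat.cast_one]
      obtain ⟨ψ, hψ⟩ := exists_monoidHom_of_isIrrCharacter_of_apply_one θ.2 h2
      have hk := Abelianization.commutator_subset_ker ψ hx₀mem
      rw [MonoidHom.mem_ker] at hk
      apply hθx
      rw [h2, hψ]
      simp [hk]
    have hθ2 : 2 ≤ deg θ := by
      have := hdegpos θ
      omega
    obtain ⟨d, σ, hσirr, hσ⟩ := θ.2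
    have hd : finrank ℂ (Fin d → ℂ) = deg θ := by
      have h1 := hdegeq θ
      rw [← hσ, Representation.char_one] at h1
      exact_mod_cast h1
    have hCT := card_eq_card_commSubgroup_mul_sq hcl σ hσirr
    rw [hd] at hCT
    obtain ⟨ψ, hψdef⟩ : ∃ ψ : (MulAction.stabilizer P θ) →* MulAut Q,
        ψ = φ.comp (MulAction.stabilizer P θ).subtype := ⟨_, rfl⟩
    have hψapp : ∀ (s : MulAction.stabilizer P θ) (x : Q), ψ s x = φ (s : P) x := by
      intro s x
      rw [hψdef]
      rfl
    have hZinv : ∀ s : MulAction.stabilizer P θ, ∀ x ∈ commSubgroup σ,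
        ψ s x ∈ commSubgroup σ := by
      intro s x hx
      rw [hψapp]
      apply commSubgroup_map_mem σ (φ (s : P)) _ x hx
      intro z
      rw [hσ]
      exact hstabinv θ (s : P) (MulAction.mem_stabilizer_iff.mp s.2) z
    have hfree : ∀ s : MulAction.stabilizer P θ, s ≠ 1 → ∀ x, ψ s x = x →
        x ∈ commSubgroup σ := by
      intro s hs x hx
      rw [hψapp] at hx
      have hs' : (s : P) ≠ 1 := fun h1 => hs (Subtype.ext h1)
      have h1 : x ∈ fixedSub φ := fun b => hstar (s : P) hs' x hx b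
      exact center_le_commSubgroup σ (hfc h1)
    have hdvd := card_dvd_of_free ψ (commSubgroup σ) hZinv hfree
    have hZpos : 0 < Nat.card (commSubgroup σ) := Nat.card_pos
    have hsq : 1 ≤ deg θ ^ 2 := Nat.one_le_pow _ _ (hdegpos θ)
    have hrw : Nat.card Q - Nat.card (commSubgroup σ) =
        Nat.card (commSubgroup σ) * (deg θ ^ 2 - 1) := by
      rw [hCT, Nat.mul_sub, mul_one]
    rw [hrw] at hdvd
    have hcop : Nat.Coprime (Nat.card (MulAction.stabilizer P θ))
        (Nat.card (commSubgroup σ)) := by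
      obtain ⟨j, hj⟩ := IsPGroup.iff_card.mp (h.pgrp.to_subgroup (MulAction.stabilizer P θ))
      rw [hj]
      apply Nat.Coprime.pow_left
      rw [Nat.Prime.coprime_iff_not_dvd hp.out]
      intro hd'
      exact h.cop (dvd_trans hd' (Subgroup.card_subgroup_dvd_card _))
    have hdvd2 : Nat.card (MulAction.stabilizer P θ) ∣ deg θ ^ 2 - 1 :=
      hcop.dvd_of_dvd_mul_left hdvd
    have hpos : 0 < deg θ ^ 2 - 1 := by
      have : 2 ^ 2 ≤ deg θ ^ 2 := Nat.pow_le_pow_left hθ2 2
      omega
    have hle : Nat.card (MulAction.stabilizer P θ) ≤ deg θ ^ 2 - 1 := Nat.le_of_dvd hpos hdvd2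
    have h1 := hos θ
    have h2 := horb θ hθm
    have ho : 0 < Nat.card (MulAction.orbit P θ) := by
      rcases Nat.eq_zero_or_pos (Nat.card (MulAction.orbit P θ)) with h0 | h0
      · rw [h0, zero_mul] at h1
        omega
      · exact h0
    -- n² ≥ o² d² ≥ o² (s + 1) > o s
    have h3 : (Nat.card (MulAction.orbit P θ) * deg θ) ^ 2 ≤ n ^ 2 := Nat.pow_le_pow_left h2 2
    have h4 : Nat.card (MulAction.stabilizer P θ) + 1 ≤ deg θ ^ 2 := by omega
    have h5 : Nat.card (MulAction.orbit P θ) ^ 2 * (Nat.card (MulAction.stabilizer P θ) + 1) ≤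
        (Nat.card (MulAction.orbit P θ) * deg θ) ^ 2 := by
      rw [mul_pow]
      exact Nat.mul_le_mul_left _ h4
    have h6 : Nat.card P + 1 ≤
        Nat.card (MulAction.orbit P θ) ^ 2 * (Nat.card (MulAction.stabilizer P θ) + 1) := by
      rw [← h1]
      nlinarith
    omega

end Cfsg.Agent.Lib.Helper23.TI
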