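import Mathlib
import Cfsg.Prelude.Def_Local
import Cfsg.Agent.Lib.Helper23.TIMain
import Cfsg.Agent.Lib.Helper23.HHGroup
import Cfsg.Agent.Lib.Helper1.Cores
import Cfsg.Agent.H5.PSolvable2

/-!
# `p`-solvable groups with a TI Sylow `p`-subgroup and a faithful character of small degree
-/

set_option autoImplicit false

namespace Cfsg.Agent.Lib.Helper23.TI

open Module Cfsg Cfsg.Agent.Lib.Helper1
open scoped Pointwise

universe u

variable {G : Type u} [Group G]

/-- The action of a subgroup `P` by conjugation on a finite `P`-invariant subgroup `Q`. -/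
noncomputable def conjHom (P Q : Subgroup G) [Finite Q]
    (h : ∀ z ∈ P, ∀ x ∈ Q, z * x * z⁻¹ ∈ Q) : P →* MulAut Q where
  toFun a := HH.conjAut Q (a : G) (h a a.2)
  map_one' := by
    ext x
    rw [HH.conjAut_apply]
    simp
  map_mul' a b := by
    ext x
    rw [MulAut.mul_apply, HH.conjAut_apply, HH.conjAut_apply, HH.conjAut_apply]
    simp [mul_assoc]

theorem conjHom_apply (P Q : Subgroup G) [Finite Q]
    (h : ∀ z ∈ P, ∀ x ∈ Q, z * x * z⁻¹ ∈ Q) (a : P) (x : Q) :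
    ((conjHom P Q h a x : Q) : G) = (a : G) * x * (a : G)⁻¹ := rfl

variable [Finite G] {p : ℕ} [hp : Fact p.Prime]
variable {V : Type*} [AddCommGroup V] [Module ℂ V] [FiniteDimensional ℂ V]

omit [Finite G] in
/-- For a TI Sylow `p`-subgroup `P` and a `P`-invariant `p'`-subgroup `Q`, all nonidentity
elements of `P` have the same fixed points on `Q`. -/
theorem ti_star (P : Sylow p G)
    (hTI : ∀ g : G, g ∉ Subgroup.normalizer ((P : Subgroup G) : Set G) →
      (P : Subgroup G) ⊓ (MulAut.conj g • (P : Subgroup G)) = ⊥)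
    (Q : Subgroup G) (hQ : ¬ p ∣ Nat.card Q)
    (hQinv : ∀ z ∈ (P : Subgroup G), ∀ x ∈ Q, z * x * z⁻¹ ∈ Q)
    (a : G) (ha : a ∈ (P : Subgroup G)) (ha1 : a ≠ 1) (x : G) (hx : x ∈ Q)
    (hax : a * x * a⁻¹ = x) (b : G) (hb : b ∈ (P : Subgroup G)) : b * x * b⁻¹ = x := by
  have hxN : x ∈ Subgroup.normalizer ((P : Subgroup G) : Set G) := by
    by_contra hxN
    have h1 := hTI x hxN
    apply ha1
    have h2 : a ∈ (P : Subgroup G) ⊓ (MulAut.conj x • (P : Subgroup G)) := by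
      refine Subgroup.mem_inf.mpr ⟨ha, ?_⟩
      have h3 : MulAut.conj x • a ∈ MulAut.conj x • (P : Subgroup G) :=
        Subgroup.smul_mem_pointwise_smul a _ _ ha
      have h4 : MulAut.conj x • a = a := by
        rw [MulAut.smul_def, MulAut.conj_apply]
        calc x * a * x⁻¹ = (a * x * a⁻¹) * a * x⁻¹ := by rw [hax]
          _ = a * (x * (a⁻¹ * a) * x⁻¹) := by group
          _ = a := by group
      rw [h4] at h3
      exact h3
    rw [h1, Subgroup.mem_bot] at h2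
    exact h2
  have hcP : b * x * b⁻¹ * x⁻¹ ∈ (P : Subgroup G) := by
    have h1 : x * b⁻¹ * x⁻¹ ∈ (P : Subgroup G) :=
      (Subgroup.mem_normalizer_iff.mp hxN b⁻¹).mp (inv_mem hb)
    have h2 : b * x * b⁻¹ * x⁻¹ = b * (x * b⁻¹ * x⁻¹) := by group
    rw [h2]
    exact mul_mem hb h1
  have hcQ : b * x * b⁻¹ * x⁻¹ ∈ Q := mul_mem (hQinv b hb x hx) (inv_mem hx)
  obtain ⟨k, hk⟩ := P.isPGroup' ⟨_, hcP⟩
  have h3 : (b * x * b⁻¹ * x⁻¹) ^ (p ^ k) = 1 := by
    have h3' := congrArg Subtype.val hk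
    simpa using h3'
  have h5 : orderOf (b * x * b⁻¹ * x⁻¹) ∣ p ^ k := orderOf_dvd_of_pow_eq_one h3
  have h6 : orderOf (b * x * b⁻¹ * x⁻¹) ∣ Nat.card Q := by
    have h6' := orderOf_dvd_natCard (⟨_, hcQ⟩ : Q)
    rwa [Subgroup.orderOf_mk] at h6'
  have h7 : Nat.Coprime (p ^ k) (Nat.card Q) :=
    Nat.Coprime.pow_left k ((Nat.Prime.coprime_iff_not_dvd hp.out).mpr hQ)
  have h8 : b * x * b⁻¹ * x⁻¹ = 1 := orderOf_eq_one_iff.mp (Nat.eq_one_of_dvd_coprimes h7 h5 h6)
  exact mul_inv_eq_one.mp h8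

/-- **Leonard's conjecture for `p`-solvable groups**: a `p`-solvable group with a TI Sylow
`p`-subgroup `P` and a faithful representation of degree `n` with `n² ≤ |P|` has `P` normal. -/
theorem ti_sylow_normal (hsolv : IsPSolvable p G) (P : Sylow p G)
    (hTI : ∀ g : G, g ∉ Subgroup.normalizer ((P : Subgroup G) : Set G) →
      (P : Subgroup G) ⊓ (MulAut.conj g • (P : Subgroup G)) = ⊥)
    (ρ : Representation ℂ G V) (hρ : Function.Injective ρ) {n : ℕ} (hn : finrank ℂ V = n)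
    (hdeg : n ^ 2 ≤ Nat.card (P : Subgroup G)) : (P : Subgroup G).Normal := by
  classical
  by_contra hP
  obtain ⟨g₀, hg₀⟩ : ∃ g₀ : G, g₀ ∉ Subgroup.normalizer ((P : Subgroup G) : Set G) := by
    by_contra hcon
    push Not at hcon
    apply hP
    rw [← Subgroup.normalizer_eq_top_iff, eq_top_iff]
    intro g _
    exact hcon g
  have hO : pCore p G = ⊥ := by
    rw [eq_bot_iff, ← hTI g₀ hg₀]
    exact le_inf (pCore_le_sylow P) (pCore_le_sylow (g₀ • P))
  have hC := Cfsg.H5.centralizer_pPrimeCore_le_of_isPSolvable hsolv hO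
  have hXcop : ¬ p ∣ Nat.card (pPrimeCore p G) := by
    have h1 := Cfsg.H5.coprime_card_pPrimeCore p G
    exact (Nat.Prime.coprime_iff_not_dvd hp.out).mp h1.symm
  have hXn : (pPrimeCore p G).Normal := inferInstance
  -- a nonidentity element of P
  obtain ⟨y, hy, hy1⟩ : ∃ y ∈ (P : Subgroup G), y ≠ 1 := by
    by_contra hcon
    push Not at hcon
    apply hP
    have hbot : (P : Subgroup G) = ⊥ := by
      rw [eq_bot_iff]
      intro z hz
      rw [Subgroup.mem_bot]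
      exact hcon z hz
    rw [hbot]
    infer_instance
  have hyX : ∃ x ∈ pPrimeCore p G, y * x * y⁻¹ ≠ x := by
    by_contra hcon
    push Not at hcon
    apply hy1
    have hyc : y ∈ Subgroup.centralizer (pPrimeCore p G : Set G) := by
      rw [Subgroup.mem_centralizer_iff]
      intro x hx
      have h1 := hcon x hx
      calc x * y = (y * x * y⁻¹) * y := by rw [h1]
        _ = y * x := by group
    have hyX' : y ∈ pPrimeCore p G := hC hyc
    obtain ⟨k, hk⟩ := P.isPGroup' ⟨y, hy⟩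
    have h3 : y ^ (p ^ k) = 1 := by
      have h3' := congrArg Subtype.val hk
      simpa using h3'
    have h5 : orderOf y ∣ p ^ k := orderOf_dvd_of_pow_eq_one h3
    have h6 : orderOf y ∣ Nat.card (pPrimeCore p G) := by
      have h6' := orderOf_dvd_natCard (⟨y, hyX'⟩ : pPrimeCore p G)
      rwa [Subgroup.orderOf_mk] at h6'
    have h7 : Nat.Coprime (p ^ k) (Nat.card (pPrimeCore p G)) :=
      Nat.Coprime.pow_left k ((Nat.Prime.coprime_iff_not_dvd hp.out).mpr hXcop)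
    exact orderOf_eq_one_iff.mp (Nat.eq_one_of_dvd_coprimes h7 h5 h6)
  -- minimal invariant subgroup
  have hne : ∃ k : ℕ, ∃ Q : Subgroup G, (¬ p ∣ Nat.card Q ∧
      (∀ z ∈ (P : Subgroup G), ∀ x ∈ Q, z * x * z⁻¹ ∈ Q) ∧
      ∃ z ∈ (P : Subgroup G), ∃ x ∈ Q, z * x * z⁻¹ ≠ x) ∧ Nat.card Q = k := by
    obtain ⟨x, hx, hyx⟩ := hyX
    exact ⟨_, pPrimeCore p G, ⟨hXcop, fun z _ x hx => hXn.conj_mem x hx z,
      ⟨y, hy, x, hx, hyx⟩⟩, rfl⟩
  obtain ⟨Q, ⟨hQp, hQinv, hQnc⟩, hk⟩ := Nat.find_spec hne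
  have hQmin : ∀ Q' : Subgroup G, ¬ p ∣ Nat.card Q' →
      (∀ z ∈ (P : Subgroup G), ∀ x ∈ Q', z * x * z⁻¹ ∈ Q') →
      (∃ z ∈ (P : Subgroup G), ∃ x ∈ Q', z * x * z⁻¹ ≠ x) → Nat.card Q ≤ Nat.card Q' := by
    intro Q' h1 h2 h3
    rw [hk]
    exact Nat.find_min' hne ⟨Q', ⟨h1, h2, h3⟩, rfl⟩
  obtain ⟨φ, hφ⟩ : ∃ φ : (P : Subgroup G) →* MulAut Q, φ = conjHom (P : Subgroup G) Q hQinv :=
    ⟨_, rfl⟩
  have hφapp : ∀ (a : (P : Subgroup G)) (x : Q), ((φ a x : Q) : G) = (a : G) * x * (a : G)⁻¹ := by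
    intro a x
    rw [hφ]
    rfl
  have hmin : MinAct p φ := by
    refine ⟨hQp, P.isPGroup', ?_, ?_⟩
    · intro Q₁ hQ₁ hQ₁inv a x hx
      by_contra hxne
      have hcard : Nat.card (Q₁.map Q.subtype) = Nat.card Q₁ :=
        Subgroup.card_map_of_injective Q.subtype_injective
      have hlt : Nat.card Q₁ < Nat.card Q :=
        lt_of_le_of_ne (Subgroup.card_le_card_group Q₁)
          (fun h => hQ₁ ((Subgroup.card_eq_iff_eq_top Q₁).mp h))
      have h4 := hQmin (Q₁.map Q.subtype) ?_ ?_ ?_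
      · omega
      · rw [hcard]
        intro hd
        exact hQp (dvd_trans hd (Subgroup.card_subgroup_dvd_card Q₁))
      · rintro z hz _ ⟨x', hx', rfl⟩
        exact ⟨φ ⟨z, hz⟩ x', hQ₁inv ⟨z, hz⟩ x' hx', hφapp ⟨z, hz⟩ x'⟩
      · refine ⟨a, a.2, x, ⟨x, hx, rfl⟩, fun h => hxne (Subtype.ext ?_)⟩
        rw [hφapp]
        exact h
    · obtain ⟨z, hz, x, hx, hzx⟩ := hQnc
      refine ⟨⟨z, hz⟩, ⟨x, hx⟩, fun h => hzx ?_⟩
      have h5 := congrArg Subtype.val h
      rw [hφapp] at h5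
      exact h5
  have hstar : ∀ a : (P : Subgroup G), a ≠ 1 → ∀ x : Q, φ a x = x → ∀ b, φ b x = x := by
    intro a ha x hax b
    apply Subtype.ext
    rw [hφapp]
    have hax' := congrArg Subtype.val hax
    rw [hφapp] at hax'
    exact ti_star P hTI Q hQp hQinv (a : G) a.2 (fun h => ha (Subtype.ext h)) (x : G) x.2 hax'
      (b : G) b.2
  obtain ⟨ρQ, hρQdef⟩ : ∃ ρQ : Representation ℂ Q V, ρQ = MonoidHom.comp ρ Q.subtype := ⟨_, rfl⟩
  have hρQapp : ∀ x : Q, ρQ x = ρ (x : G) := by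
    intro x
    rw [hρQdef]
    rfl
  have hρQ : Function.Injective ρQ := by
    intro a b hab
    rw [hρQapp, hρQapp] at hab
    exact Subtype.ext (hρ hab)
  have hinv : ∀ (a : (P : Subgroup G)) (x : Q), ρQ.character (φ a x) = ρQ.character x := by
    intro a x
    have e1 : ρQ.character (φ a x) = ρ.character ((φ a x : Q) : G) := by
      rw [Representation.character, Representation.character, hρQapp]
    have e2 : ρQ.character x = ρ.character (x : G) := by
      rw [Representation.character, Representation.character, hρQapp]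
    rw [e1, e2, hφapp, Representation.char_conj]
  have hfin := hmin.card_lt_sq hstar ρQ hρQ hn hinv
  omega

end Cfsg.Agent.Lib.Helper23.TI
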