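import Mathlib
set_option autoImplicit false

/-! Lemma Q of helper13's S3117 farm-out (msg 2035): in a "reduced" 2-group, a subgroup `Y`
all of whose elements outside `N` have squares outside an index-2 subgroup `M` of `Ω₁` has
order at most `4 |N|`. -/

namespace Cfsg.Agent.Lib.Helper23.ThreeInvQ

theorem pick {G : Type*} [Group G] [Finite G] (Y : Subgroup G) (N : Set G)
    (hlt : 4 * N.ncard < Nat.card Y) (a b c d : G) :
    ∃ x ∈ Y, a * x ∉ N ∧ b * x ∉ N ∧ c * x ∉ N ∧ d * x ∉ N := by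
  by_contra hcon
  push Not at hcon
  have hsub : (Y : Set G) ⊆ ((fun x => a⁻¹ * x) '' N) ∪ ((fun x => b⁻¹ * x) '' N) ∪
      ((fun x => c⁻¹ * x) '' N) ∪ ((fun x => d⁻¹ * x) '' N) := by
    intro x hx
    by_cases ha : a * x ∈ N
    · left; left; left; exact ⟨a * x, ha, by group⟩
    by_cases hb : b * x ∈ N
    · left; left; right; exact ⟨b * x, hb, by group⟩
    by_cases hc : c * x ∈ N
    · left; right; exact ⟨c * x, hc, by group⟩
    · right; exact ⟨d * x, hcon x hx ha hb hc, by group⟩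
  have hfin : ∀ s : Set G, s.Finite := fun s => Set.toFinite s
  have h1 := Set.ncard_le_ncard hsub (hfin _)
  have hcard : Nat.card Y = (Y : Set G).ncard := (Nat.card_coe_set_eq (Y : Set G))
  have hi : ∀ g : G, ((fun x => g * x) '' N).ncard ≤ N.ncard :=
    fun g => Set.ncard_image_le (hfin _)
  have u1 := Set.ncard_union_le (((fun x => a⁻¹ * x) '' N) ∪ ((fun x => b⁻¹ * x) '' N) ∪
      ((fun x => c⁻¹ * x) '' N)) ((fun x => d⁻¹ * x) '' N)
  have u2 := Set.ncard_union_le (((fun x => a⁻¹ * x) '' N) ∪ ((fun x => b⁻¹ * x) '' N))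
      ((fun x => c⁻¹ * x) '' N)
  have u3 := Set.ncard_union_le ((fun x => a⁻¹ * x) '' N) ((fun x => b⁻¹ * x) '' N)
  have := hi a⁻¹; have := hi b⁻¹; have := hi c⁻¹; have := hi d⁻¹
  omega

theorem lemmaQ {G : Type*} [Group G] [Finite G] (h4 : ∀ x : G, x ^ 4 = 1)
    (hc : ∀ x y : G, y ^ 2 = 1 → x * y = y * x) (hk : ∀ x y : G, (x * y * x⁻¹ * y⁻¹) ^ 2 = 1)
    (Y : Subgroup G) (N : Set G) (M : Subgroup G) (hM : ∀ m ∈ M, m ^ 2 = 1)
    (hMidx : 2 * Nat.card M = Nat.card {x : G // x ^ 2 = 1})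
    (hYN : ∀ y ∈ Y, y ∉ N → y ^ 2 ∉ M) : Nat.card Y ≤ 4 * N.ncard := by
  by_contra hlt
  push Not at hlt
  -- the subgroup U
  have hUmul : ∀ a b : G, a ^ 2 = 1 → b ^ 2 = 1 → (a * b) ^ 2 = 1 := by
    intro a b ha hb
    have h1 : a * b = b * a := hc a b hb
    calc (a * b) ^ 2 = a * (b * a) * b := by rw [pow_two]; group
      _ = a * (a * b) * b := by rw [h1]
      _ = a ^ 2 * b ^ 2 := by rw [pow_two, pow_two]; group
      _ = 1 := by rw [ha, hb, one_mul]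
  let U : Subgroup G :=
    { carrier := {x | x ^ 2 = 1}
      mul_mem' := fun {a b} ha hb => hUmul a b ha hb
      one_mem' := by simp
      inv_mem' := fun {a} ha => by
        show (a⁻¹) ^ 2 = 1
        rw [inv_pow, ha, inv_one] }
  have hUmem : ∀ x : G, x ∈ U ↔ x ^ 2 = 1 := fun x => Iff.rfl
  have hMU : M ≤ U := fun m hm => hM m hm
  have hcardU : Nat.card U = Nat.card {x : G // x ^ 2 = 1} := rfl
  have hidx : (M.subgroupOf U).index = 2 := by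
    have h1 := Subgroup.index_mul_card (M.subgroupOf U)
    have h2 : Nat.card (M.subgroupOf U) = Nat.card M :=
      Nat.card_congr (Subgroup.subgroupOfEquivOfLe hMU).toEquiv
    have hpos : 0 < Nat.card M := Nat.card_pos
    rw [h2, hcardU, ← hMidx] at h1
    exact Nat.eq_of_mul_eq_mul_right hpos h1
  -- product of two elements of U \ M lies in M
  have hprod : ∀ a b : G, a ^ 2 = 1 → b ^ 2 = 1 → a ∉ M → b ∉ M → a * b ∈ M := by
    intro a b ha hb haM hbM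
    have := Subgroup.mul_mem_iff_of_index_two hidx (a := ⟨a, ha⟩) (b := ⟨b, hb⟩)
    simp only [Subgroup.mem_subgroupOf] at this
    exact this.2 ⟨fun h => absurd h haM, fun h => absurd h hbM⟩
  -- squares in U
  have hsq : ∀ x : G, (x ^ 2) ^ 2 = 1 := fun x => by rw [← pow_mul]; exact h4 x
  -- commutators central
  have hkc : ∀ a b : G, (b⁻¹ * a⁻¹ * b * a) ^ 2 = 1 := by
    intro a b
    have := hk b⁻¹ a⁻¹
    simpa using this
  have hkcent : ∀ a b x : G, x * (b⁻¹ * a⁻¹ * b * a) = (b⁻¹ * a⁻¹ * b * a) * x :=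
    fun a b x => hc x _ (hkc a b)
  -- (ab)^2 = a^2 b^2 κ(a,b)
  have hsqmul : ∀ a b : G, (a * b) ^ 2 = a ^ 2 * b ^ 2 * (b⁻¹ * a⁻¹ * b * a) := by
    intro a b
    have h1 : b * a = a * b * (b⁻¹ * a⁻¹ * b * a) := by group
    calc (a * b) ^ 2 = a * (b * a) * b := by rw [pow_two]; group
      _ = a * (a * b * (b⁻¹ * a⁻¹ * b * a)) * b := by rw [← h1]
      _ = a * (a * b) * ((b⁻¹ * a⁻¹ * b * a) * b) := by group
      _ = a * (a * b) * (b * (b⁻¹ * a⁻¹ * b * a)) := by rw [hkcent a b b]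
      _ = a ^ 2 * b ^ 2 * (b⁻¹ * a⁻¹ * b * a) := by rw [pow_two, pow_two]; group
  -- key: κ(a,b) ∉ M
  have hkey : ∀ a b : G, a ^ 2 ∉ M → b ^ 2 ∉ M → (a * b) ^ 2 ∉ M → (b⁻¹ * a⁻¹ * b * a) ∉ M := by
    intro a b ha hb hab hκ
    apply hab
    rw [hsqmul]
    exact M.mul_mem (hprod _ _ (hsq a) (hsq b) ha hb) hκ
  -- bimultiplicativity
  have hbimul : ∀ y z w : G, (z * w)⁻¹ * y⁻¹ * (z * w) * y =
      (z⁻¹ * y⁻¹ * z * y) * (w⁻¹ * y⁻¹ * w * y) := by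
    intro y z w
    calc (z * w)⁻¹ * y⁻¹ * (z * w) * y = w⁻¹ * (z⁻¹ * y⁻¹ * z * y) * (y⁻¹ * w * y) := by group
      _ = (z⁻¹ * y⁻¹ * z * y) * w⁻¹ * (y⁻¹ * w * y) := by rw [hkcent y z w⁻¹]
      _ = (z⁻¹ * y⁻¹ * z * y) * (w⁻¹ * y⁻¹ * w * y) := by group
  -- pick y, z, w
  obtain ⟨y, hyY, hy1, -, -, -⟩ := pick Y N hlt 1 1 1 1
  obtain ⟨z, hzY, hz1, hz2, -, -⟩ := pick Y N hlt 1 y 1 1
  obtain ⟨w, hwY, hw1, hw2, hw3, hw4⟩ := pick Y N hlt 1 y z (y * z)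
  rw [one_mul] at hy1 hz1 hw1
  have hy : y ^ 2 ∉ M := hYN y hyY hy1
  have hz : z ^ 2 ∉ M := hYN z hzY hz1
  have hw : w ^ 2 ∉ M := hYN w hwY hw1
  have hyz : (y * z) ^ 2 ∉ M := hYN _ (Y.mul_mem hyY hzY) hz2
  have hyw : (y * w) ^ 2 ∉ M := hYN _ (Y.mul_mem hyY hwY) hw2
  have hzw : (z * w) ^ 2 ∉ M := hYN _ (Y.mul_mem hzY hwY) hw3
  have hyzw : (y * (z * w)) ^ 2 ∉ M := by
    rw [← mul_assoc]; exact hYN _ (Y.mul_mem (Y.mul_mem hyY hzY) hwY) hw4
  have k1 := hkey y z hy hz hyz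
  have k2 := hkey y w hy hw hyw
  have k3 := hkey y (z * w) hy hzw hyzw
  apply k3
  rw [hbimul]
  exact hprod _ _ (hkc y z) (hkc y w) k1 k2

end Cfsg.Agent.Lib.Helper23.ThreeInvQ
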