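import Mathlib

/-!
# Arithmetic behind the odd-order-automorphism argument for 2-transitive groups

`n` points, block size `k` coprime to `n`, `lam` the intersection number, `s = k - lam`,
`k^2 = s + lam * n`; the `m`-th power of the incidence matrix (`m` odd) is `a I + b J`, so
`a^2 = s^m` and `k^m = a + b n`.  Then `k = 1` or `k = n - 1`.
-/

namespace Cfsg.Agent.Lib.Helper23.TwoTransArith

theorem key (n k lam s a b : ℤ) (m : ℕ) (hm : Odd m) (hn : 2 ≤ n) (hk1 : 1 ≤ k) (hkn : k ≤ n)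
    (hlam0 : 0 ≤ lam) (hs : s = k - lam) (hs0 : 0 ≤ s) (hksq : k ^ 2 = s + lam * n)
    (ha : a ^ 2 = s ^ m) (hkm : k ^ m = a + b * n) (hcop : IsCoprime k n) :
    k = 1 ∨ k = n - 1 := by
  obtain ⟨i, rfl⟩ := hm
  -- k < n
  have hkn' : k < n := by
    rcases lt_or_eq_of_le hkn with h | h
    · exact h
    · exfalso
      subst h
      have : IsUnit k := by
        have := hcop
        rwa [isCoprime_self] at this
      rcases Int.isUnit_iff.mp this with h | h <;> omega
  -- s ≠ 0
  have hs_ne : s ≠ 0 := by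
    intro h0
    rw [h0, zero_pow (by omega)] at ha
    have ha0 : a = 0 := by
      have := pow_eq_zero_iff (n := 2) (by norm_num) |>.mp ha
      exact this
    rw [ha0, zero_add] at hkm
    have hdvd : n ∣ k ^ (2 * i + 1) := ⟨b, by rw [hkm]; ring⟩
    have hc : IsCoprime n (k ^ (2 * i + 1)) := (hcop.symm).pow_right
    have : IsUnit n := hc.isUnit_of_dvd' (dvd_refl n) hdvd
    rcases Int.isUnit_iff.mp this with h | h <;> omega
  have hs_pos : 0 < s := lt_of_le_of_ne hs0 (Ne.symm hs_ne)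
  -- s^i ∣ a
  have hdiv : s ^ i ∣ a := by
    have h1 : (s ^ i) ^ 2 ∣ a ^ 2 := by
      rw [ha]
      exact ⟨s, by ring⟩
    exact (Int.pow_dvd_pow_iff (by norm_num)).mp h1
  obtain ⟨u, hu⟩ := hdiv
  have hsi_pos : 0 < s ^ i := pow_pos hs_pos i
  have hu2 : u ^ 2 = s := by
    have h1 : (s ^ i) ^ 2 * u ^ 2 = (s ^ i) ^ 2 * s := by
      have : a ^ 2 = (s ^ i) ^ 2 * u ^ 2 := by rw [hu]; ring
      rw [← this, ha]; ring
    have h2 : (s ^ i) ^ 2 ≠ 0 := by positivity
    exact mul_left_cancel₀ h2 h1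
  -- a = u^(2i+1)
  have hau : a = u ^ (2 * i + 1) := by
    rw [hu, ← hu2]; ring
  -- n ∣ k^(2i) * (k - u)
  have hdvd : n ∣ k ^ (2 * i) * (k - u) := by
    have h1 : k ^ (2 * i + 1) - u ^ (2 * i + 1) = b * n := by rw [hkm, hau]; ring
    have h2 : u ^ (2 * i + 1) = u * (k ^ 2 - lam * n) ^ i := by
      have : u ^ 2 = k ^ 2 - lam * n := by rw [hu2, hksq]; ring
      rw [← this]; ring
    have h3 : n ∣ (k ^ 2 - lam * n) ^ i - (k ^ 2) ^ i := by
      have : (k ^ 2 - lam * n) - k ^ 2 ∣ (k ^ 2 - lam * n) ^ i - (k ^ 2) ^ i := sub_dvd_pow_sub_pow _ _ i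
      refine dvd_trans ?_ this
      exact ⟨-lam, by ring⟩
    obtain ⟨c, hc⟩ := h3
    refine ⟨b + u * c, ?_⟩
    have : k ^ (2 * i) * (k - u) = (k ^ (2 * i + 1) - u ^ (2 * i + 1))
        + u * ((k ^ 2 - lam * n) ^ i - (k ^ 2) ^ i) := by
      rw [h2]; ring
    rw [this, h1, hc]; ring
  have hdvd2 : n ∣ k - u := by
    have hc : IsCoprime n (k ^ (2 * i)) := (hcop.symm).pow_right
    exact hc.dvd_of_dvd_mul_left hdvd
  obtain ⟨c, hc⟩ := hdvd2
  -- bounds on u
  have hu_le : u ^ 2 ≤ k := by rw [hu2, hs]; omega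
  have hu_ne : u ≠ 0 := by
    intro h0
    rw [h0] at hu2
    apply hs_ne
    rw [← hu2]; norm_num
  have hu_abs1 : u ≤ k := by nlinarith [sq_nonneg (u - 1)]
  have hu_abs2 : -k ≤ u := by nlinarith [sq_nonneg (u + 1)]
  -- c = 0 or c = 1
  have hc0 : 0 ≤ c := by
    by_contra h
    push Not at h
    have : n * c ≤ -n := by nlinarith
    omega
  have hc1 : c ≤ 1 := by
    by_contra h
    push Not at h
    have : 2 * n ≤ n * c := by nlinarith
    omega
  rcases (by omega : c = 0 ∨ c = 1) with h | h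
  · left
    subst h
    have huk : u = k := by linarith
    rw [huk] at hu_le
    nlinarith
  · right
    subst h
    have huk : u = k - n := by linarith
    -- lam = 2k - n
    have h1 : k ^ 2 = (k - n) ^ 2 + lam * n := by rw [← huk, hu2]; exact hksq
    have h2 : n * (n - 2 * k + lam) = 0 := by nlinarith
    have h3 : n - 2 * k + lam = 0 := by
      rcases mul_eq_zero.mp h2 with h | h
      · omega
      · exact h
    have h4 : (n - k) ^ 2 = n - k := by
      have : u ^ 2 = (n - k) ^ 2 := by rw [huk]; ring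
      rw [← this, hu2, hs]; omega
    have h5 : n - k = 1 := by
      have hpos : 0 < n - k := by omega
      nlinarith
    omega

end Cfsg.Agent.Lib.Helper23.TwoTransArith
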