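import Mathlib
import Cfsg.Agent.Lib.Helper23.TwoTransArith

/-!
# Incidence matrices twisted by an automorphism of a 2-transitive group

`G` acts 2-transitively on `Ω`, `φ` is an automorphism of `G` of odd order and `A` is a 0/1 matrix
with `A (φ g • x) (g • y) = A x y`.  If the column sum `k` is coprime to `n = |Ω| ≥ 2` then
`k = 1` or `k = n - 1`.
-/

namespace Cfsg.Agent.Lib.Helper23.TwoTransDesign

open Matrix MulAction

variable {G Ω : Type*} [Group G] [MulAction G Ω] [Fintype Ω] [DecidableEq Ω]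

/-- The all-ones matrix. -/
def allOne (Ω : Type*) : Matrix Ω Ω ℤ := fun _ _ => 1

@[simp] theorem allOne_apply (x y : Ω) : allOne Ω x y = 1 := rfl

theorem allOne_mul (M : Matrix Ω Ω ℤ) (c : ℤ) (h : ∀ y, ∑ x, M x y = c) :
    allOne Ω * M = c • allOne Ω := by
  ext x y
  simp [Matrix.mul_apply, h]

theorem mul_allOne (M : Matrix Ω Ω ℤ) (c : ℤ) (h : ∀ x, ∑ y, M x y = c) :
    M * allOne Ω = c • allOne Ω := by
  ext x y
  simp [Matrix.mul_apply, h]

theorem allOne_mul_allOne : allOne Ω * allOne Ω = (Fintype.card Ω : ℤ) • allOne Ω := by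
  apply allOne_mul
  intro y
  simp

theorem allOne_transpose : (allOne Ω)ᵀ = allOne Ω := by
  ext x y
  simp

theorem form_apply (a b : ℤ) (x y : Ω) :
    (a • (1 : Matrix Ω Ω ℤ) + b • allOne Ω) x y = (if x = y then a else 0) + b := by
  rw [Matrix.add_apply, Matrix.smul_apply, Matrix.smul_apply, Matrix.one_apply, allOne_apply]
  by_cases h : x = y <;> simp [h]

theorem coeff_eq (hn : 2 ≤ Fintype.card Ω) {a b a' b' : ℤ}
    (h : a • (1 : Matrix Ω Ω ℤ) + b • allOne Ω = a' • 1 + b' • allOne Ω) : a = a' ∧ b = b' := by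
  obtain ⟨x, y, hxy⟩ := Fintype.one_lt_card_iff.mp (by omega : 1 < Fintype.card Ω)
  have h1 := congrFun (congrFun h x) y
  have h2 := congrFun (congrFun h x) x
  rw [form_apply, form_apply] at h1 h2
  simp only [hxy, if_false, zero_add, if_true] at h1 h2
  constructor
  · omega
  · exact h1

/-- A matrix invariant under a 2-transitive action is of the form `a I + b J`. -/
theorem invariant_form (h2 : IsMultiplyPretransitive G Ω 2) (M : Matrix Ω Ω ℤ)
    (hM : ∀ (g : G) (x y : Ω), M (g • x) (g • y) = M x y) :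
    ∃ a b : ℤ, M = a • (1 : Matrix Ω Ω ℤ) + b • allOne Ω := by
  haveI : IsPretransitive G Ω := isPretransitive_of_is_two_pretransitive
  have h2' : ∀ {a b c d : Ω}, a ≠ b → c ≠ d → ∃ g : G, g • a = c ∧ g • b = d :=
    is_two_pretransitive_iff.mp h2
  by_cases hne : ∃ p : Ω × Ω, p.1 ≠ p.2
  · obtain ⟨⟨x0, y0⟩, hxy⟩ := hne
    simp only at hxy
    refine ⟨M x0 x0 - M x0 y0, M x0 y0, ?_⟩
    ext x y
    rw [form_apply]
    by_cases h : x = y
    · subst h
      obtain ⟨g, hg⟩ := exists_smul_eq G x0 x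
      rw [if_pos rfl, ← hg, hM]
      ring
    · obtain ⟨g, hg1, hg2⟩ := h2' hxy h
      rw [if_neg h, ← hg1, ← hg2, hM]
      ring
  · push Not at hne
    by_cases hemp : Nonempty Ω
    · obtain ⟨x0⟩ := hemp
      refine ⟨M x0 x0, 0, ?_⟩
      ext x y
      rw [form_apply]
      have hx : x = x0 := hne (x, x0)
      have hy : y = x0 := hne (y, x0)
      subst hx
      subst hy
      simp
    · refine ⟨0, 0, ?_⟩
      ext x y
      exact (hemp ⟨x⟩).elim

/-- Powers of a twisted-invariant matrix are twisted-invariant for the powers of `φ`. -/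
theorem pow_invariant (φ : MulAut G) (A : Matrix Ω Ω ℤ)
    (hinv : ∀ (g : G) (x y : Ω), A (φ g • x) (g • y) = A x y) (d : ℕ) :
    ∀ (g : G) (x y : Ω), (A ^ d) ((φ ^ d) g • x) (g • y) = (A ^ d) x y := by
  induction d with
  | zero =>
    intro g x y
    simp only [pow_zero, MulAut.one_apply, Matrix.one_apply]
    by_cases h : x = y
    · simp [h]
    · have : g • x ≠ g • y := fun h' => h (MulAction.injective g h')
      simp [h, this]
  | succ d ih =>
    intro g x y
    rw [pow_succ, Matrix.mul_apply, Matrix.mul_apply]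
    rw [← Equiv.sum_comp (MulAction.toPerm (φ g)) (fun z => (A ^ d) ((φ ^ (d + 1)) g • x) z * A z (g • y))]
    apply Finset.sum_congr rfl
    intro z _
    simp only [MulAction.toPerm_apply]
    rw [hinv]
    have : (φ ^ (d + 1)) g = (φ ^ d) (φ g) := by
      rw [pow_succ, MulAut.mul_apply]
    rw [this, ih]

theorem main (h2 : IsMultiplyPretransitive G Ω 2) (φ : MulAut G) (hφ : Odd (orderOf φ))
    (A : Matrix Ω Ω ℤ) (h01 : ∀ x y, A x y = 0 ∨ A x y = 1)
    (hinv : ∀ (g : G) (x y : Ω), A (φ g • x) (g • y) = A x y)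
    (hn : 2 ≤ Fintype.card Ω) (y0 : Ω) (k : ℕ) (hk : ∑ x, A x y0 = (k : ℤ))
    (hcop : k.Coprime (Fintype.card Ω)) : k = 1 ∨ k = Fintype.card Ω - 1 := by
  haveI : IsPretransitive G Ω := isPretransitive_of_is_two_pretransitive
  set n : ℤ := (Fintype.card Ω : ℤ) with hn_def
  -- column sums
  have hcol : ∀ y, ∑ x, A x y = (k : ℤ) := by
    intro y
    obtain ⟨g, hg⟩ := exists_smul_eq G y0 y
    rw [← hk, ← hg, ← Equiv.sum_comp (MulAction.toPerm (φ g)) (fun x => A x (g • y0))]
    apply Finset.sum_congr rfl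
    intro x _
    simp only [MulAction.toPerm_apply]
    rw [hinv]
  -- row sums
  have hrow_inv : ∀ (g : G) (x : Ω), ∑ y, A (φ g • x) y = ∑ y, A x y := by
    intro g x
    rw [← Equiv.sum_comp (MulAction.toPerm g) (fun y => A (φ g • x) y)]
    apply Finset.sum_congr rfl
    intro y _
    simp only [MulAction.toPerm_apply]
    rw [hinv]
  have hrow_const : ∀ x x' : Ω, ∑ y, A x y = ∑ y, A x' y := by
    intro x x'
    obtain ⟨g, hg⟩ := exists_smul_eq G x' x
    have := hrow_inv (φ.symm g) x'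
    rw [MulEquiv.apply_symm_apply, hg] at this
    exact this
  have hrow : ∀ x, ∑ y, A x y = (k : ℤ) := by
    intro x
    have h1 : ∑ x' : Ω, ∑ y, A x' y = ∑ y : Ω, ∑ x', A x' y := Finset.sum_comm
    have h2 : ∑ x' : Ω, ∑ y, A x' y = n * ∑ y, A x y := by
      rw [Finset.sum_congr rfl (fun x' _ => hrow_const x' x)]
      simp [hn_def]
    have h3 : ∑ y : Ω, ∑ x', A x' y = n * k := by
      rw [Finset.sum_congr rfl (fun y _ => hcol y)]
      simp [hn_def]
    have hn0 : n ≠ 0 := by
      have : (2 : ℤ) ≤ n := by rw [hn_def]; exact_mod_cast hn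
      omega
    have : n * ∑ y, A x y = n * k := by rw [← h2, h1, h3]
    exact mul_left_cancel₀ hn0 this
  have hJA : allOne Ω * A = (k : ℤ) • allOne Ω := allOne_mul A k hcol
  have hAJ : A * allOne Ω = (k : ℤ) • allOne Ω := mul_allOne A k hrow
  have hJAT : allOne Ω * Aᵀ = (k : ℤ) • allOne Ω := by
    have := congrArg Matrix.transpose hAJ
    rw [Matrix.transpose_mul, allOne_transpose, Matrix.transpose_smul, allOne_transpose] at this
    exact this
  have hATJ : Aᵀ * allOne Ω = (k : ℤ) • allOne Ω := by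
    have := congrArg Matrix.transpose hJA
    rw [Matrix.transpose_mul, allOne_transpose, Matrix.transpose_smul, allOne_transpose] at this
    exact this
  -- AᵀA invariant
  have hATA_inv : ∀ (g : G) (y y' : Ω), (Aᵀ * A) (g • y) (g • y') = (Aᵀ * A) y y' := by
    intro g y y'
    rw [Matrix.mul_apply, Matrix.mul_apply]
    rw [← Equiv.sum_comp (MulAction.toPerm (φ g)) (fun x => Aᵀ (g • y) x * A x (g • y'))]
    apply Finset.sum_congr rfl
    intro x _
    simp only [MulAction.toPerm_apply, Matrix.transpose_apply]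
    rw [hinv, hinv]
  obtain ⟨s, lam, hATA⟩ := invariant_form h2 (Aᵀ * A) hATA_inv
  obtain ⟨x1, y1, hxy1⟩ := Fintype.one_lt_card_iff.mp (by omega : 1 < Fintype.card Ω)
  have hsq : ∀ x y, A x y * A x y = A x y := by
    intro x y
    rcases h01 x y with h | h <;> simp [h]
  have hdiag : s + lam = k := by
    have h1 := congrFun (congrFun hATA y1) y1
    rw [form_apply, if_pos rfl, Matrix.mul_apply] at h1
    simp only [Matrix.transpose_apply] at h1
    rw [Finset.sum_congr rfl (fun x _ => hsq x y1), hcol] at h1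
    omega
  have hlam_eq : lam = ∑ x, A x x1 * A x y1 := by
    have h1 := congrFun (congrFun hATA x1) y1
    rw [form_apply, if_neg hxy1, Matrix.mul_apply] at h1
    simp only [Matrix.transpose_apply] at h1
    omega
  have hA0 : ∀ x y, 0 ≤ A x y := by
    intro x y
    rcases h01 x y with h | h <;> simp [h]
  have hA1 : ∀ x y, A x y ≤ 1 := by
    intro x y
    rcases h01 x y with h | h <;> simp [h]
  have hlam0 : 0 ≤ lam := by
    rw [hlam_eq]
    exact Finset.sum_nonneg (fun x _ => mul_nonneg (hA0 _ _) (hA0 _ _))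
  have hlamk : lam ≤ k := by
    rw [hlam_eq, ← hcol x1]
    apply Finset.sum_le_sum
    intro x _
    nlinarith [hA0 x x1, hA1 x y1]
  -- k^2 = s + lam n
  have hksq : (k : ℤ) ^ 2 = s + lam * n := by
    have h1 : allOne Ω * (Aᵀ * A) = ((k : ℤ) ^ 2) • allOne Ω := by
      rw [← Matrix.mul_assoc, hJAT, Matrix.smul_mul, hJA, smul_smul]
      congr 1
      ring
    have h2' : allOne Ω * (Aᵀ * A) = (s + lam * n) • allOne Ω := by
      rw [hATA, Matrix.mul_add, Matrix.mul_smul, Matrix.mul_smul, Matrix.mul_one,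
        allOne_mul_allOne, smul_smul, ← add_smul]
    have h3 := congrFun (congrFun (h1.symm.trans h2') x1) x1
    simpa using h3
  -- A^m = a I + b J
  set m := orderOf φ with hm_def
  have hAm_inv : ∀ (g : G) (x y : Ω), (A ^ m) (g • x) (g • y) = (A ^ m) x y := by
    intro g x y
    have := pow_invariant φ A hinv m g x y
    rw [hm_def, pow_orderOf_eq_one, MulAut.one_apply] at this
    rw [hm_def]
    exact this
  obtain ⟨a, b, hAm⟩ := invariant_form h2 (A ^ m) hAm_inv
  -- (Aᵀ)^d A^d
  have hpow : ∀ d : ℕ, ∃ c : ℤ, (Aᵀ) ^ d * A ^ d = (s ^ d) • (1 : Matrix Ω Ω ℤ) + c • allOne Ω := by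
    intro d
    induction d with
    | zero => exact ⟨0, by simp⟩
    | succ d ih =>
      obtain ⟨c, hc⟩ := ih
      refine ⟨s ^ d * lam + c * (k : ℤ) * (k : ℤ), ?_⟩
      have e1 : (Aᵀ) ^ (d + 1) * A ^ (d + 1) = Aᵀ * ((Aᵀ) ^ d * A ^ d) * A := by
        rw [pow_succ' (Aᵀ), pow_succ A]
        simp only [Matrix.mul_assoc]
      rw [e1, hc, Matrix.mul_add, Matrix.add_mul, Matrix.mul_smul, Matrix.mul_smul, Matrix.mul_one,
        Matrix.smul_mul, Matrix.smul_mul, hATA, hATJ, Matrix.smul_mul, hJA]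
      rw [pow_succ]
      module
  obtain ⟨c, hc⟩ := hpow m
  have hAmT : (A ^ m)ᵀ = a • (1 : Matrix Ω Ω ℤ) + b • allOne Ω := by
    rw [hAm, Matrix.transpose_add, Matrix.transpose_smul, Matrix.transpose_smul,
      Matrix.transpose_one, allOne_transpose]
  have hprod : (Aᵀ) ^ m * A ^ m
      = (a ^ 2) • (1 : Matrix Ω Ω ℤ) + (2 * a * b + b ^ 2 * n) • allOne Ω := by
    rw [← Matrix.transpose_pow, hAmT, hAm]
    simp only [Matrix.add_mul, Matrix.mul_add, Matrix.smul_mul, Matrix.mul_smul, Matrix.one_mul,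
      Matrix.mul_one, allOne_mul_allOne]
    module
  have ha2 : a ^ 2 = s ^ m := (coeff_eq hn (hprod.symm.trans hc)).1
  have hJAm : allOne Ω * A ^ m = ((k : ℤ) ^ m) • allOne Ω := by
    clear hc hprod hAmT hAm hAm_inv
    induction m with
    | zero => simp
    | succ e ihe =>
      rw [pow_succ, ← Matrix.mul_assoc, ihe, Matrix.smul_mul, hJA, smul_smul, pow_succ]
  have hkm : (k : ℤ) ^ m = a + b * n := by
    have h1 : allOne Ω * A ^ m = (a + b * n) • allOne Ω := by
      rw [hAm, Matrix.mul_add, Matrix.mul_smul, Matrix.mul_smul, Matrix.mul_one,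
        allOne_mul_allOne]
      module
    have h3 := congrFun (congrFun (hJAm.symm.trans h1) x1) x1
    simpa using h3
  have hn2 : (2 : ℤ) ≤ n := by rw [hn_def]; exact_mod_cast hn
  have hk1 : (1 : ℤ) ≤ k := by
    have : k ≠ 0 := by
      intro h0
      rw [h0, Nat.coprime_zero_left] at hcop
      omega
    have : 1 ≤ k := Nat.one_le_iff_ne_zero.mpr this
    exact_mod_cast this
  have hkn : (k : ℤ) ≤ n := by
    rw [← hcol y0, hn_def]
    calc ∑ x, A x y0 ≤ ∑ _x : Ω, (1 : ℤ) := Finset.sum_le_sum (fun x _ => hA1 x y0)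
      _ = (Fintype.card Ω : ℤ) := by simp
  have hcop' : IsCoprime (k : ℤ) n := by
    rw [hn_def]
    exact Nat.isCoprime_iff_coprime.mpr hcop
  have := TwoTransArith.key n k lam s a b m hφ hn2 hk1 hkn hlam0 (by omega) (by omega) hksq ha2 hkm
    hcop'
  rcases this with h | h
  · left
    exact_mod_cast h
  · right
    rw [hn_def] at h
    omega

end Cfsg.Agent.Lib.Helper23.TwoTransDesign
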