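import Mathlib
import Cfsg.Agent.Lib.Helper23.TwoTransDesign

/-!
# Odd-order automorphisms of 2-transitive permutation groups

If `G ≤ Sym(Ω)` is 2-transitive, `α` an automorphism of `G` of odd order and the image under `α`
of a point stabilizer has an orbit of length coprime to `|Ω|`, then `α` is induced by a permutation
normalizing `G` and the orbit length is `1` or `|Ω| - 1`.
-/

namespace Cfsg.Agent.Lib.Helper23.TwoTransAut

open MulAction

variable {Ω : Type*} [Fintype Ω]

/-- Building the permutation from a point `δ` whose stabilizer is the image of the stabilizer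
of `o`. -/
theorem exists_perm_of_stabilizer (G : Subgroup (Equiv.Perm Ω)) [IsPretransitive G Ω] (o δ : Ω)
    (α : MulAut G) (hδ : (stabilizer G o).map α.toMonoidHom = stabilizer G δ) :
    ∃ σ : Equiv.Perm Ω, σ ∈ Subgroup.normalizer (G : Set (Equiv.Perm Ω)) ∧
      ∀ g : G, ((α g : G) : Equiv.Perm Ω) = σ * (g : Equiv.Perm Ω) * σ⁻¹ := by
  classical
  have hex : ∀ x : Ω, ∃ g : G, g • o = x := fun x => exists_smul_eq G o x
  choose gx hgx using hex
  let f : Ω → Ω := fun x => α (gx x) • δ
  have hmemK : ∀ h : G, h • o = o → α h • δ = δ := by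
    intro h hh
    have : α h ∈ (stabilizer G o).map α.toMonoidHom :=
      Subgroup.mem_map.mpr ⟨h, mem_stabilizer_iff.mpr hh, rfl⟩
    rw [hδ] at this
    exact mem_stabilizer_iff.mp this
  have hkey : ∀ g : G, f (g • o) = α g • δ := by
    intro g
    have h1 : (g⁻¹ * gx (g • o)) • o = o := by
      rw [mul_smul, hgx, inv_smul_smul]
    have h2 := hmemK _ h1
    show α (gx (g • o)) • δ = α g • δ
    have : gx (g • o) = g * (g⁻¹ * gx (g • o)) := by group
    rw [this, map_mul, mul_smul, h2]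
  have hinj : Function.Injective f := by
    intro x x' hxx
    have h1 : α ((gx x)⁻¹ * gx x') • δ = δ := by
      rw [map_mul, mul_smul, map_inv]
      show (α (gx x))⁻¹ • (f x') = δ
      rw [← hxx]
      exact inv_smul_smul _ _
    have h2 : α ((gx x)⁻¹ * gx x') ∈ stabilizer G δ := mem_stabilizer_iff.mpr h1
    rw [← hδ] at h2
    obtain ⟨h, hh, hhe⟩ := Subgroup.mem_map.mp h2
    have h3 : h = (gx x)⁻¹ * gx x' := α.injective hhe
    rw [h3] at hh
    have h4 := mem_stabilizer_iff.mp hh
    rw [mul_smul, hgx] at h4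
    rw [← hgx x, ← h4, smul_inv_smul]
  have hbij : Function.Bijective f := ⟨hinj, Finite.injective_iff_surjective.mp hinj⟩
  let σ : Equiv.Perm Ω := Equiv.ofBijective f hbij
  have hσ : ∀ (g : G) (x : Ω), σ (g • x) = α g • σ x := by
    intro g x
    show f (g • x) = α g • f x
    conv_lhs => rw [← hgx x, ← mul_smul, hkey]
    rw [map_mul, mul_smul]
  have hconj : ∀ g : G, ((α g : G) : Equiv.Perm Ω) = σ * (g : Equiv.Perm Ω) * σ⁻¹ := by
    intro g
    rw [eq_mul_inv_iff_mul_eq]
    ext x
    simp only [Equiv.Perm.coe_mul, Function.comp_apply]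
    exact (hσ g x).symm
  refine ⟨σ, ?_, hconj⟩
  rw [Subgroup.mem_normalizer_iff]
  intro p
  constructor
  · intro hp
    have := hconj ⟨p, hp⟩
    simp only at this
    rw [← this]
    exact (α ⟨p, hp⟩).2
  · intro hp
    obtain ⟨g, hg⟩ := α.surjective ⟨σ * p * σ⁻¹, hp⟩
    have h1 := hconj g
    rw [hg] at h1
    simp only at h1
    have h2 : p = (g : Equiv.Perm Ω) := by
      have := mul_left_cancel (mul_right_cancel h1)
      exact this
    rw [h2]
    exact g.2

theorem main (G : Subgroup (Equiv.Perm Ω)) (h2 : IsMultiplyPretransitive G Ω 2) (o : Ω)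
    (α : MulAut G) (hα : Odd (orderOf α)) (ω : Ω)
    (hk : (Nat.card (orbit ((stabilizer G o).map α.toMonoidHom) ω)).Coprime (Fintype.card Ω)) :
    (∃ σ : Equiv.Perm Ω, σ ∈ Subgroup.normalizer (G : Set (Equiv.Perm Ω)) ∧
      ∀ g : G, ((α g : G) : Equiv.Perm Ω) = σ * (g : Equiv.Perm Ω) * σ⁻¹) ∧
    (Nat.card (orbit ((stabilizer G o).map α.toMonoidHom) ω) = 1 ∨
      Nat.card (orbit ((stabilizer G o).map α.toMonoidHom) ω) = Fintype.card Ω - 1) := by
  classical
  haveI : IsPretransitive G Ω := isPretransitive_of_is_two_pretransitive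
  set K : Subgroup G := (stabilizer G o).map α.toMonoidHom with hK
  -- the degenerate case
  by_cases hn : Fintype.card Ω ≤ 1
  · haveI : Subsingleton Ω := Fintype.card_le_one_iff_subsingleton.mp hn
    refine ⟨⟨1, Subgroup.one_mem _, fun g => Subsingleton.elim _ _⟩, Or.inl ?_⟩
    haveI : Nonempty (orbit K ω) := ⟨⟨ω, mem_orbit_self ω⟩⟩
    exact Nat.card_eq_one_iff_unique.mpr ⟨inferInstance, inferInstance⟩
  push Not at hn
  have hn2 : 2 ≤ Fintype.card Ω := hn
  -- orbit membership
  have hmem : ∀ x : Ω, x ∈ orbit K ω ↔ ∃ g : G, α g • ω = x ∧ g • o = o := by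
    intro x
    constructor
    · rintro ⟨κ, hκ⟩
      obtain ⟨h, hh, he⟩ := Subgroup.mem_map.mp κ.2
      refine ⟨h, ?_, mem_stabilizer_iff.mp hh⟩
      rw [← hκ]
      show α.toMonoidHom h • ω = (κ : G) • ω
      rw [he]
    · rintro ⟨g, hg1, hg2⟩
      refine ⟨⟨α g, Subgroup.mem_map.mpr ⟨g, mem_stabilizer_iff.mpr hg2, rfl⟩⟩, ?_⟩
      exact hg1
  -- the matrix
  let A : Matrix Ω Ω ℤ := fun x y => if ∃ g : G, α g • ω = x ∧ g • o = y then 1 else 0
  have h01 : ∀ x y, A x y = 0 ∨ A x y = 1 := by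
    intro x y
    by_cases h : ∃ g : G, α g • ω = x ∧ g • o = y
    · right; simp only [A, if_pos h]
    · left; simp only [A, if_neg h]
  have hinv : ∀ (g : G) (x y : Ω), A (α g • x) (g • y) = A x y := by
    intro g x y
    have hiff : (∃ g' : G, α g' • ω = α g • x ∧ g' • o = g • y) ↔
        (∃ g' : G, α g' • ω = x ∧ g' • o = y) := by
      constructor
      · rintro ⟨g', h1, h2⟩
        refine ⟨g⁻¹ * g', ?_, ?_⟩
        · rw [map_mul, mul_smul, h1, map_inv, inv_smul_smul]
        · rw [mul_smul, h2, inv_smul_smul]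
      · rintro ⟨g', h1, h2⟩
        refine ⟨g * g', ?_, ?_⟩
        · rw [map_mul, mul_smul, h1]
        · rw [mul_smul, h2]
    simp only [A, hiff]
  have hcol : ∑ x, A x o = ((Nat.card (orbit K ω) : ℕ) : ℤ) := by
    have h1 : ∀ x, A x o = if x ∈ orbit K ω then 1 else 0 := by
      intro x
      simp only [A, hmem x]
    rw [Finset.sum_congr rfl (fun x _ => h1 x), Finset.sum_boole]
    congr 1
    rw [Nat.card_eq_fintype_card, Fintype.card_subtype]
  have hkk := TwoTransDesign.main h2 α hα A h01 hinv hn2 o (Nat.card (orbit K ω)) hcol hk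
  -- a fixed point of K
  have hfix : ∃ δ : Ω, ∀ κ : K, κ • δ = δ := by
    rcases hkk with h1 | h1
    · refine ⟨ω, fun κ => ?_⟩
      obtain ⟨hss, _⟩ := Nat.card_eq_one_iff_unique.mp h1
      have := @Subsingleton.elim _ hss (⟨κ • ω, mem_orbit ω κ⟩ : orbit K ω) ⟨ω, mem_orbit_self ω⟩
      exact congrArg Subtype.val this
    · have h3 : (orbit K ω)ᶜ.ncard = 1 := by
        have := Set.ncard_add_ncard_compl (orbit K ω)
        rw [← Nat.card_coe_set_eq, h1, Nat.card_eq_fintype_card] at this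
        omega
      obtain ⟨δ, hδ⟩ := Set.ncard_eq_one.mp h3
      refine ⟨δ, fun κ => ?_⟩
      have hδ1 : δ ∉ orbit K ω := by
        have : δ ∈ (orbit K ω)ᶜ := by rw [hδ]; rfl
        exact this
      have hδ2 : κ • δ ∈ (orbit K ω)ᶜ := by
        intro hmem'
        apply hδ1
        obtain ⟨κ', hκ'⟩ := hmem'
        refine ⟨κ⁻¹ * κ', ?_⟩
        show (κ⁻¹ * κ') • ω = δ
        rw [mul_smul]
        have : κ' • ω = κ • δ := hκ'
        rw [this, inv_smul_smul]
      rw [hδ] at hδ2
      exact hδ2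
  obtain ⟨δ, hδ⟩ := hfix
  have hle : K ≤ stabilizer G δ := by
    intro g hg
    exact mem_stabilizer_iff.mpr (hδ ⟨g, hg⟩)
  have hcardK : Nat.card K = Nat.card (stabilizer G o) :=
    Subgroup.card_map_of_injective α.injective
  have hcardδ : Nat.card (stabilizer G δ) = Nat.card (stabilizer G o) := by
    obtain ⟨g, hg⟩ := exists_smul_eq G o δ
    rw [← hg, stabilizer_smul_eq_stabilizer_map_conj]
    exact Subgroup.card_map_of_injective (MulAut.conj g).injective
  have hKδ : K = stabilizer G δ :=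
    Subgroup.eq_of_le_of_card_ge hle (by rw [hcardK, hcardδ])
  exact ⟨exists_perm_of_stabilizer G o δ α hKδ, hkk⟩

end Cfsg.Agent.Lib.Helper23.TwoTransAut
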