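import Mathlib
import Cfsg.Agent.Lib.Helper23.CanonLift

/-!
S2091-[CL-A] (architect helper7): canonical involution lifts in a central extension and the exact
Coxeter relations between them.  Pure Mathlib + `Lib/Helper23/CanonLift.lean`.
-/

set_option autoImplicit false

namespace Cfsg.Agent.Lib.Helper7.U62M

section CLA

variable {P Γ : Type*} [Group P] [Group Γ]

/-- the subgroup generated by the elements of odd order of the centralizer of `c` -/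
def oddCent (c : P) : Subgroup P :=
  Subgroup.closure {u | u * c = c * u ∧ ∃ m : ℕ, Odd m ∧ u ^ m = 1}

open Cfsg.Agent.Lib.Helper23.CanonLift in
/-- [CL-A] -/
theorem exists_coxeter_lifts (σ : Γ →* P) (hs : Function.Surjective σ)
    (hk : σ.ker ≤ Subgroup.center Γ) (c : P) (hcc : c * c = 1)
    (x y : P) (hx : x ∈ oddCent c) (hxy : x * y * x⁻¹ * y⁻¹ = c) (hxx : x * x = 1)
    {ι : Type*} (s gw : ι → P) (hgw : ∀ i, gw i * c * (gw i)⁻¹ = s i) :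
    ∃ g : ι → Γ, (∀ i, σ (g i) = s i) ∧ (∀ i, g i * g i = 1) ∧
      (∀ i j, (gw j)⁻¹ * s i * gw j ∈ oddCent c → g i * g j = g j * g i) ∧
      (∀ i j, (gw j)⁻¹ * s i * s j * gw i ∈ oddCent c → g i * g j * g i = g j * g i * g j) := by
  obtain ⟨x', hx'⟩ := hs x
  obtain ⟨y', hy'⟩ := hs y
  set τ : Γ := cm x' y' with hτ
  have hστ : σ τ = c := by rw [hτ, map_cm, hx', hy', hxy]
  have hτ2 : σ τ ^ 2 = 1 := by rw [hστ, pow_two, hcc]
  -- every lift of every element of `oddCent c` commutes with `τ`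
  have hcomm : ∀ h : Γ, σ h ∈ oddCent c → h * τ = τ * h := by
    intro h hh
    refine commute_of_mem_closure σ hs hk hτ2
      {u | u * c = c * u ∧ ∃ m : ℕ, Odd m ∧ u ^ m = 1} ?_ hh h rfl
    intro u hu
    exact ⟨hu.2, by rw [hστ]; exact hu.1⟩
  have hxτ : x' * τ = τ * x' := hcomm x' (by rw [hx']; exact hx)
  have hτsq : τ ^ 2 = 1 :=
    cm_sq_eq_one σ hk (by rw [hx', pow_two, hxx]) hxτ
  have hττ : τ * τ = 1 := by rw [← pow_two]; exact hτsq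
  choose γ hγ using fun i => hs (gw i)
  refine ⟨fun i => γ i * τ * (γ i)⁻¹, ?_, ?_, ?_, ?_⟩
  · intro i
    simp only [map_mul, map_inv, hγ, hστ, hgw]
  · intro i
    calc γ i * τ * (γ i)⁻¹ * (γ i * τ * (γ i)⁻¹) = γ i * (τ * τ) * (γ i)⁻¹ := by
          simp [mul_assoc]
      _ = 1 := by rw [hττ]; simp
  · intro i j hij
    have h1 : σ ((γ j)⁻¹ * (γ i * τ * (γ i)⁻¹) * γ j) ∈ oddCent c := by
      have : σ ((γ j)⁻¹ * (γ i * τ * (γ i)⁻¹) * γ j) = (gw j)⁻¹ * s i * gw j := by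
        simp only [map_mul, map_inv, hγ, hστ, hgw]
      rw [this]; exact hij
    have h2 := hcomm _ h1
    -- `γ j⁻¹ g_i γ j` commutes with `τ`
    have e1 : γ i * τ * (γ i)⁻¹ * (γ j * τ * (γ j)⁻¹)
        = γ j * (((γ j)⁻¹ * (γ i * τ * (γ i)⁻¹) * γ j) * τ) * (γ j)⁻¹ := by
      simp [mul_assoc]
    have e2 : γ j * τ * (γ j)⁻¹ * (γ i * τ * (γ i)⁻¹)
        = γ j * (τ * ((γ j)⁻¹ * (γ i * τ * (γ i)⁻¹) * γ j)) * (γ j)⁻¹ := by
      simp [mul_assoc]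
    show γ i * τ * (γ i)⁻¹ * (γ j * τ * (γ j)⁻¹) = γ j * τ * (γ j)⁻¹ * (γ i * τ * (γ i)⁻¹)
    rw [e1, e2, h2]
  · intro i j hij
    have h1 : σ ((γ j)⁻¹ * (γ i * τ * (γ i)⁻¹) * (γ j * τ * (γ j)⁻¹) * γ i) ∈ oddCent c := by
      have : σ ((γ j)⁻¹ * (γ i * τ * (γ i)⁻¹) * (γ j * τ * (γ j)⁻¹) * γ i)
          = (gw j)⁻¹ * s i * s j * gw i := by
        simp only [map_mul, map_inv, hγ, hστ, hgw]
      rw [this]; exact hij
    have h2 := hcomm _ h1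
    show γ i * τ * (γ i)⁻¹ * (γ j * τ * (γ j)⁻¹) * (γ i * τ * (γ i)⁻¹)
      = γ j * τ * (γ j)⁻¹ * (γ i * τ * (γ i)⁻¹) * (γ j * τ * (γ j)⁻¹)
    set gi := γ i * τ * (γ i)⁻¹ with hgi
    set gj := γ j * τ * (γ j)⁻¹ with hgj
    -- `h2 : γ j⁻¹ gi gj γ i τ = τ γ j⁻¹ gi gj γ i`
    have e1 : gi * gj * gi = γ j * (((γ j)⁻¹ * gi * gj * γ i) * τ) * (γ i)⁻¹ := by
      rw [hgi]; simp [mul_assoc]
    have e2 : gj * gi * gj = γ j * (τ * ((γ j)⁻¹ * gi * gj * γ i)) * (γ i)⁻¹ := by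
      have : gj * gi * gj = γ j * τ * (γ j)⁻¹ * gi * gj := by rw [← hgj]
      rw [this]; simp [mul_assoc]
    rw [e1, e2, h2]

end CLA

end Cfsg.Agent.Lib.Helper7.U62M
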