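import Cfsg.Agent.Lib.Helper7.U62M.Defs
import Cfsg.Agent.Lib.Helper23.U62MR
import Cfsg.Agent.Lib.Helper3.U62MEXK

set_option autoImplicit false
set_option maxRecDepth 100000
set_option linter.unusedVariables false
set_option linter.style.haveILetI false

/-! S2091-[EX] (architect helper7): the covering group `PW1` is a stem extension of `P ≅ PSU₆(2)`
with kernel `C3 × C2 × C2`.  Assembly of [EX-card], [EX-perf], [EX-K], [EX-SU], [EX-FiB], [EX-FiC].
This file proves the statement from the statements of the other pieces as hypotheses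
(`Helper23.exists_stem_of`). -/

namespace Cfsg.Agent.Lib.Helper7.U62M

open Cfsg Cfsg.Agent.Helper4.TC

namespace Helper23

/-! ### the homomorphism onto `P` -/

theorem mem_centL_of (b : List ℕ) (hb : b ∈ coxL ++ [rho1, rho4]) : b ∈ coxL ++ centL := by
  rcases List.mem_append.mp hb with h | h
  · exact List.mem_append_left _ h
  · apply List.mem_append_right
    unfold centL
    simp only [List.mem_cons, List.not_mem_nil, or_false] at h ⊢
    rcases h with h | h
    · exact Or.inl h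
    · exact Or.inr (Or.inr (Or.inr (Or.inl h)))

theorem mem_centL_of' (b : List ℕ) (hb : b ∈ [rho2, rho3, rho5]) : b ∈ coxL ++ centL := by
  apply List.mem_append_right
  unfold centL
  simp only [List.mem_cons, List.not_mem_nil, or_false] at hb ⊢
  rcases hb with h | h | h
  · exact Or.inr (Or.inl h)
  · exact Or.inr (Or.inr (Or.inl h))
  · exact Or.inr (Or.inr (Or.inr (Or.inr h)))

theorem exists_tau : ∃ τ : PW1 →* P, ∀ x, τ (PresentedGroup.of x) = PresentedGroup.of x :=
  Schur.exists_hom_weak0 U62QCod.coding (⊥ : Subgroup P) bot_le (PresentedGroup.of (rels := RP))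
    (coxL ++ [rho1, rho4]) [rho2, rho3, rho5] gensL
    (fun b hb => evc_of_eq_one b (mem_centL_of b hb))
    (fun ρ hρ => by
      rw [Subgroup.mem_bot]
      exact evc_of_eq_one ρ (mem_centL_of' ρ hρ))

theorem relW1_one (b : List ℕ) (hb : b ∈ relW1) :
    evc (PresentedGroup.of (rels := RW1)) dec b = 1 := by
  rw [evc_of]
  exact PresentedGroup.one_of_mem (mem_relSet _ b hb)

/-! ### centrality of the three words in `PW1` -/

/-- a commutator word which is trivial: the two elements commute -/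
theorem commute_of_comm_word {Q : Type*} [Group Q] (f : Gen → Q) (x ρ : List ℕ)
    (h : evc f dec (invW x ++ invW ρ ++ x ++ ρ) = 1) :
    evc f dec ρ * evc f dec x = evc f dec x * evc f dec ρ := by
  rw [evc_append, evc_append, evc_append, evc_invW f U62QCod.coding,
    evc_invW f U62QCod.coding] at h
  have h2 : evc f dec ρ * evc f dec x * (evc f dec ρ)⁻¹ * (evc f dec x)⁻¹ = 1 := by
    rw [← h]
    group
  calc evc f dec ρ * evc f dec x
      = (evc f dec ρ * evc f dec x * (evc f dec ρ)⁻¹ * (evc f dec x)⁻¹) *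
          (evc f dec x * evc f dec ρ) := by group
    _ = evc f dec x * evc f dec ρ := by rw [h2, one_mul]

theorem evc_letter {Q : Type*} [Group Q] (f : Gen → Q) (c : ℕ) :
    evc f dec [c] = gl f (dec c) := by
  rw [evc_cons, evc_nil, one_mul]

/-- the words of the generators -/
def gw : Gen → List ℕ
  | .c => [0]
  | .d => [2]
  | .e => [4]
  | .f => [6]
  | .g => [8]
  | .h => [10]
  | .i => [12]
  | .x => [14]

theorem evc_gw {Q : Type*} [Group Q] (f : Gen → Q) (k : Gen) : evc f dec (gw k) = f k := by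
  cases k <;> rw [gw, evc_letter] <;> rfl

theorem gw_mem (k : Gen) : gw k ∈ gensL := by
  cases k <;> decide

theorem comm_word_mem (k : Gen) (ρ : List ℕ) (L : List (List ℕ)) (hρ : ρ ∈ L) :
    invW (gw k) ++ invW ρ ++ gw k ++ ρ ∈ Schur.weakify0 gensL L := by
  unfold Schur.weakify0
  exact List.mem_flatMap.mpr ⟨ρ, hρ, List.mem_map.mpr ⟨gw k, gw_mem k, rfl⟩⟩

noncomputable def cW (w : List ℕ) : PW1 := evc (PresentedGroup.of (rels := RW1)) dec w

theorem cW_comm (ρ : List ℕ) (hρ : ρ ∈ [rho2, rho3, rho5]) (k : Gen) :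
    cW ρ * PresentedGroup.of k = PresentedGroup.of k * cW ρ := by
  have h := commute_of_comm_word (PresentedGroup.of (rels := RW1)) (gw k) ρ
    (relW1_one _ (List.mem_append_right _ (comm_word_mem k ρ _ hρ)))
  rw [evc_gw] at h
  exact h

theorem center_of_comm_W (g : PW1) (hg : ∀ k, g * PresentedGroup.of k = PresentedGroup.of k * g) :
    g ∈ Subgroup.center PW1 := by
  have h : (⊤ : Subgroup PW1) ≤ Subgroup.centralizer {g} := by
    rw [← PresentedGroup.closure_range_of RW1, Subgroup.closure_le]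
    rintro _ ⟨k, rfl⟩
    rw [SetLike.mem_coe, Subgroup.mem_centralizer_iff]
    intro h hh
    rw [Set.mem_singleton_iff.mp hh]
    exact hg k
  rw [Subgroup.mem_center_iff]
  intro x
  have hx := Subgroup.mem_centralizer_iff.mp (h (Subgroup.mem_top x)) g (Set.mem_singleton _)
  exact hx.symm

theorem cW_center (ρ : List ℕ) (hρ : ρ ∈ [rho2, rho3, rho5]) : cW ρ ∈ Subgroup.center PW1 :=
  center_of_comm_W _ (cW_comm ρ hρ)

theorem r2_center : r2 ∈ Subgroup.center PW1 := cW_center rho2 (by simp)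
theorem r3_center : r3 ∈ Subgroup.center PW1 := cW_center rho3 (by simp)
theorem r5_center : r5 ∈ Subgroup.center PW1 := cW_center rho5 (by simp)

theorem cW_mem_ker (τ : PW1 →* P) (hτ : ∀ x, τ (PresentedGroup.of x) = PresentedGroup.of x)
    (ρ : List ℕ) (hρ : ρ ∈ [rho2, rho3, rho5]) : cW ρ ∈ τ.ker := by
  rw [MonoidHom.mem_ker]
  unfold cW
  rw [Schur.map_evc]
  have h2 : (fun x => τ (PresentedGroup.of x)) = PresentedGroup.of (rels := RP) := funext hτ
  rw [h2]
  exact evc_of_eq_one ρ (mem_centL_of' ρ hρ)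

/-! ### separation of the twelve products -/

theorem pow_eq_of_order {Δ : Type*} [Group Δ] (a : Δ) (p : ℕ) [hp : Fact p.Prime] (ha : a ≠ 1)
    (hap : a ^ p = 1) (i j : Fin p) (h : a ^ i.val = a ^ j.val) : i = j := by
  have ho : orderOf a = p := orderOf_eq_prime hap ha
  have hinj := pow_injOn_Iio_orderOf (x := a)
  apply Fin.ext
  apply hinj
  · rw [Set.mem_Iio, ho]; exact i.2
  · rw [Set.mem_Iio, ho]; exact j.2
  · exact h

/-- [EX] from the statements of the other pieces -/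
theorem exists_stem_of
    (hcard : Finite PW1 ∧ Nat.card PW1 ≤ 12 * 9196830720)
    (hperf : commutator PW1 = ⊤)
    (hA : ∃ (Δ : Type) (_ : Group Δ) (φ : PW1 →* Δ),
      φ r2 ≠ 1 ∧ φ r2 ^ 3 = 1 ∧ φ r3 = 1 ∧ φ r5 = 1)
    (hB : ∃ (Δ : Type) (_ : Group Δ) (φ : PW1 →* Δ),
      φ r5 ≠ 1 ∧ φ r5 ^ 2 = 1 ∧ φ r2 = 1 ∧ φ r3 = 1)
    (hC : ∃ (Δ : Type) (_ : Group Δ) (φ : PW1 →* Δ),
      φ r3 ≠ 1 ∧ φ r3 ^ 2 = 1 ∧ φ r2 = 1 ∧ φ r5 = 1) :
    ∃ τ : PW1 →* P, IsStemExtension τ ∧
      Nonempty (τ.ker ≃* Multiplicative (ZMod 3 × ZMod 2 × ZMod 2)) := by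
  haveI : Finite PW1 := hcard.1
  obtain ⟨τ, hτ⟩ := exists_tau
  obtain ⟨ΔA, _, φA, hA1, hA2, hA3, hA4⟩ := hA
  obtain ⟨ΔB, _, φB, hB1, hB2, hB3, hB4⟩ := hB
  obtain ⟨ΔC, _, φC, hC1, hC2, hC3, hC4⟩ := hC
  have hsurj : Function.Surjective τ := by
    rw [← MonoidHom.range_eq_top, eq_top_iff, ← PresentedGroup.closure_range_of RP,
      Subgroup.closure_le]
    rintro _ ⟨k, rfl⟩
    exact ⟨PresentedGroup.of k, hτ k⟩
  have hcardP : Nat.card P = 9196830720 := U62QS.main.2
  have hcardK : Nat.card τ.ker ≤ 12 := by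
    have h1 : Nat.card PW1 = Nat.card τ.ker * Nat.card P := by
      rw [← Subgroup.card_mul_index τ.ker, Subgroup.index_ker,
        MonoidHom.range_eq_top.mpr hsurj, Subgroup.card_top]
    have h2 := hcard.2
    rw [h1, hcardP] at h2
    omega
  have hxk : r2 ∈ τ.ker := cW_mem_ker τ hτ rho2 (by simp)
  have hyk : r3 ∈ τ.ker := cW_mem_ker τ hτ rho3 (by simp)
  have hzk : r5 ∈ τ.ker := cW_mem_ker τ hτ rho5 (by simp)
  have hxy : Commute r2 r3 := (Subgroup.mem_center_iff.mp r2_center r3).symm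
  have hxz : Commute r2 r5 := (Subgroup.mem_center_iff.mp r2_center r5).symm
  have hyz : Commute r3 r5 := (Subgroup.mem_center_iff.mp r3_center r5).symm
  -- the product homomorphism
  let φ : PW1 →* ΔA × ΔC × ΔB := φA.prod (φC.prod φB)
  have hφ2 : φ r2 = (φA r2, 1, 1) := by
    show (φA r2, φC r2, φB r2) = _
    rw [hC3, hB3]
  have hφ3 : φ r3 = (1, φC r3, 1) := by
    show (φA r3, φC r3, φB r3) = _
    rw [hA3, hB4]
  have hφ5 : φ r5 = (1, 1, φB r5) := by
    show (φA r5, φC r5, φB r5) = _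
    rw [hA4, hC4]
  have h3 : φ r2 ^ 3 = 1 := by
    rw [hφ2]
    ext
    · exact hA2
    · simp
    · simp
  have h2 : φ r3 ^ 2 = 1 := by
    rw [hφ3]
    ext
    · simp
    · exact hC2
    · simp
  have h2' : φ r5 ^ 2 = 1 := by
    rw [hφ5]
    ext
    · simp
    · simp
    · exact hB2
  have hinj : Function.Injective
      (fun t : Fin 3 × Fin 2 × Fin 2 => φ r2 ^ t.1.val * φ r3 ^ t.2.1.val * φ r5 ^ t.2.2.val) := by
    have hval : ∀ t : Fin 3 × Fin 2 × Fin 2,
        φ r2 ^ t.1.val * φ r3 ^ t.2.1.val * φ r5 ^ t.2.2.val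
          = (φA r2 ^ t.1.val, φC r3 ^ t.2.1.val, φB r5 ^ t.2.2.val) := by
      intro t
      rw [hφ2, hφ3, hφ5]
      ext <;> simp
    intro t t' htt
    simp only at htt
    rw [hval t, hval t'] at htt
    have e1 := congrArg Prod.fst htt
    have e2 := congrArg (fun p => p.2.1) htt
    have e3 := congrArg (fun p => p.2.2) htt
    simp only at e1 e2 e3
    haveI : Fact (Nat.Prime 3) := ⟨by norm_num⟩
    haveI : Fact (Nat.Prime 2) := ⟨by norm_num⟩
    have f1 := pow_eq_of_order (φA r2) 3 hA1 hA2 t.1 t'.1 e1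
    have f2 := pow_eq_of_order (φC r3) 2 hC1 hC2 t.2.1 t'.2.1 e2
    have f3 := pow_eq_of_order (φB r5) 2 hB1 hB2 t.2.2 t'.2.2 e3
    exact Prod.ext f1 (Prod.ext f2 f3)
  haveI : Finite τ.ker := inferInstance
  obtain ⟨hgen, ⟨e⟩⟩ := kernel_c3c2c2 τ.ker hcardK φ r2 r3 r5 hxk hyk hzk hxy hxz hyz
    h3 h2 h2' hinj
  have hcen : τ.ker ≤ Subgroup.center PW1 := by
    intro g hg
    obtain ⟨i, j, k, rfl⟩ := hgen g hg
    exact Subgroup.mul_mem _ (Subgroup.mul_mem _ (Subgroup.pow_mem _ r2_center i)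
      (Subgroup.pow_mem _ r3_center j)) (Subgroup.pow_mem _ r5_center k)
  have hcomm : τ.ker ≤ commutator PW1 := by
    rw [hperf]; exact le_top
  exact ⟨τ, ⟨hsurj, hcen, hcomm⟩, ⟨e⟩⟩

end Helper23

end Cfsg.Agent.Lib.Helper7.U62M
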