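import Mathlib
import Cfsg.Prelude
import Cfsg.Agent.Lib.Helper22.TWCore

/-!
Wielandt's index bound `d! * ((d-1)!)^d` for the second iterated core of a pair of subgroups.
-/

set_option autoImplicit false

namespace Cfsg.Agent.Lib.Helper23.WInd

open Subgroup Cfsg.Agent.Lib.Helper22.TW

variable {G : Type*} [Group G] [Finite G]

omit [Finite G] in
theorem subgroupOf_coreIn (M Y : Subgroup G) :
    (coreIn M Y).subgroupOf M = (Y.subgroupOf M).normalCore := by
  unfold coreIn
  exact Subgroup.comap_map_eq_self_of_injective M.subtype_injective _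

/-- The index of a relative core divides the factorial of the index. -/
theorem relIndex_coreIn_dvd (M Y : Subgroup G) :
    (coreIn M Y).relIndex M ∣ (Y.relIndex M).factorial := by
  unfold relIndex
  rw [subgroupOf_coreIn, normalCore_eq_ker, index_ker, index_eq_card, ← Nat.card_perm]
  exact Subgroup.card_subgroup_dvd_card _

/-- `K₂ = core_L(D)` has index in `K₁ ≤ D` dividing `(d-1)!`, where `d = |L : D|`. -/
theorem relIndex_coreIn_dvd_pred (K₁ D L : Subgroup G) (hK₁ : K₁ ≤ D) (hDL : D ≤ L) :
    (coreIn L D).relIndex K₁ ∣ (D.relIndex L - 1).factorial := by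
  set K₂ := coreIn L D with hK₂
  have hK₂D : K₂ ≤ D := coreIn_le_right _ _
  have hnorm : D ≤ normalizer (K₂ : Set G) := hDL.trans (le_normalizer_coreIn _ _)
  haveI : (K₂.subgroupOf D).Normal := (normal_subgroupOf_iff_le_normalizer hK₂D).mpr hnorm
  have h1 : K₂.relIndex K₁ ∣ K₂.relIndex D := by
    have := relIndex_dvd_index_of_normal (H := K₂.subgroupOf D) (K := K₁.subgroupOf D)
    rwa [relIndex_subgroupOf hK₁] at this
  have h2 : K₂.relIndex D * D.relIndex L = K₂.relIndex L := relIndex_mul_relIndex _ _ _ hK₂D hDL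
  have h3 : K₂.relIndex L ∣ (D.relIndex L).factorial := relIndex_coreIn_dvd L D
  have hpos : 0 < D.relIndex L := by
    unfold relIndex
    exact Nat.pos_of_ne_zero index_ne_zero_of_finite
  have h4 : (D.relIndex L).factorial = D.relIndex L * (D.relIndex L - 1).factorial := by
    obtain ⟨k, hk⟩ := Nat.exists_eq_succ_of_ne_zero hpos.ne'
    rw [hk, Nat.factorial_succ]
    simp
  rw [← h2, h4, mul_comm] at h3
  exact h1.trans (Nat.dvd_of_mul_dvd_mul_left hpos h3)


/-- The index of an intersection of finitely many normal subgroups, each of index dividing `f`,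
divides a power of `f`. -/
theorem index_iInf_dvd_pow {K : Type*} [Group K] [Finite K] {ι : Type*} [Finite ι]
    (N : ι → Subgroup K) (hN : ∀ q, (N q).Normal) (f : ℕ) (hf : ∀ q, (N q).index ∣ f) :
    (⨅ q, N q).index ∣ f ^ Nat.card ι := by
  classical
  haveI := Fintype.ofFinite ι
  have key : ∀ s : Finset ι, (⨅ q ∈ s, N q).index ∣ f ^ s.card := by
    intro s
    induction s using Finset.induction_on with
    | empty => simp
    | insert a s ha ih =>
      rw [Finset.iInf_insert, Finset.card_insert_of_notMem ha, pow_succ']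
      set T := ⨅ q ∈ s, N q with hT
      have h1 : (N a ⊓ T).relIndex T * T.index = (N a ⊓ T).index :=
        relIndex_mul_index inf_le_right
      rw [← h1, inf_relIndex_right]
      haveI := hN a
      exact mul_dvd_mul ((relIndex_dvd_index_of_normal (H := N a) (K := T)).trans (hf a)) ih
  have := key Finset.univ
  simpa [Nat.card_eq_fintype_card] using this

omit [Finite G] in
theorem le_map_conj_of_mem_normalizer {K : Subgroup G} {m : G} (hm : m ∈ normalizer (K : Set G)) :
    K ≤ K.map (MulAut.conj m).toMonoidHom := by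
  intro k hk
  refine ⟨m⁻¹ * k * m, ?_, ?_⟩
  · have := (mem_normalizer_iff.mp (inv_mem hm) k).mp hk
    simpa using this
  · simp only [MulEquiv.coe_toMonoidHom, MulAut.conj_apply]
    group

omit [Finite G] in
theorem map_conj_le_of_mem_normalizer {K : Subgroup G} {m : G} (hm : m ∈ normalizer (K : Set G)) :
    K.map (MulAut.conj m).toMonoidHom ≤ K := by
  rintro _ ⟨k, hk, rfl⟩
  simp only [MulEquiv.coe_toMonoidHom, MulAut.conj_apply]
  exact (mem_normalizer_iff.mp hm k).mp hk

/-- `core_M(X)` has index in `K` dividing `|K : X| ^ |M : D|`, when `X ≤ K ≤ D ≤ M`, `M`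
normalizes `K` and `D` normalizes `X`. -/
theorem relIndex_coreIn_dvd_pow (M D K X : Subgroup G) (hDM : D ≤ M) (hKD : K ≤ D) (hXK : X ≤ K)
    (hKn : M ≤ normalizer (K : Set G)) (hXn : D ≤ normalizer (X : Set G)) :
    (coreIn M X).relIndex K ∣ (X.relIndex K) ^ (D.relIndex M) := by
  classical
  let ι := ↥M ⧸ D.subgroupOf M
  let m : ι → G := fun q => ((Quotient.out q : ↥M) : G)
  have hmM : ∀ q, m q ∈ M := fun q => (Quotient.out q : ↥M).2
  let N : ι → Subgroup ↥K := fun q => (X.map (MulAut.conj (m q)).toMonoidHom).subgroupOf K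
  have hle : ∀ q, X.map (MulAut.conj (m q)).toMonoidHom ≤ K := fun q =>
    (Subgroup.map_mono hXK).trans (map_conj_le_of_mem_normalizer (hKn (hmM q)))
  have hcard : Nat.card ι = D.relIndex M := by
    unfold relIndex
    rw [index_eq_card]
  have hA : (coreIn M X).subgroupOf K = ⨅ q, N q := by
    ext ⟨x, hxK⟩
    simp only [mem_subgroupOf, mem_iInf, N, mem_coreIn_iff]
    constructor
    · rintro ⟨_, h⟩ q
      refine ⟨(m q)⁻¹ * x * (m q), ?_, ?_⟩
      · have := h (m q)⁻¹ (M.inv_mem (hmM q))
        simpa using this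
      · simp only [MulEquiv.coe_toMonoidHom, MulAut.conj_apply]
        group
    · intro h
      refine ⟨hDM (hKD hxK), ?_⟩
      intro g hg
      let g' : ↥M := ⟨g⁻¹, M.inv_mem hg⟩
      obtain ⟨δ, hδ⟩ := QuotientGroup.mk_out_eq_mul (D.subgroupOf M) g'
      obtain ⟨z, hz, hzx⟩ := h (QuotientGroup.mk g' : ι)
      have hm : m (QuotientGroup.mk g' : ι) = g⁻¹ * (δ : ↥M) := by
        simp only [m]
        have := congrArg (fun t : ↥M => (t : G)) hδ
        simpa [g'] using this
      have hδD : ((δ : ↥M) : G) ∈ D := δ.2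
      simp only [MulEquiv.coe_toMonoidHom, MulAut.conj_apply] at hzx
      rw [hm] at hzx
      -- x = g⁻¹ δ z δ⁻¹ g
      have hx : g * x * g⁻¹ = ((δ : ↥M) : G) * z * ((δ : ↥M) : G)⁻¹ := by
        rw [← hzx]; group
      rw [hx]
      exact (mem_normalizer_iff.mp (hXn hδD) z).mp hz
  have hN : ∀ q, (N q).Normal := by
    intro q
    apply (normal_subgroupOf_iff_le_normalizer (hle q)).mpr
    have h1 : K ≤ (normalizer (X : Set G)).map (MulAut.conj (m q)).toMonoidHom :=
      (le_map_conj_of_mem_normalizer (hKn (hmM q))).trans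
        (Subgroup.map_mono (hKD.trans hXn))
    have h2 := map_equiv_normalizer_eq X (MulAut.conj (m q))
    rw [h2] at h1
    exact h1
  have hidx : ∀ q, (N q).index ∣ X.relIndex K := by
    intro q
    have h1 : (N q).index = (X.map (MulAut.conj (m q)).toMonoidHom).relIndex K := rfl
    have h2 : K.map (MulAut.conj (m q)).toMonoidHom = K :=
      le_antisymm (map_conj_le_of_mem_normalizer (hKn (hmM q)))
        (le_map_conj_of_mem_normalizer (hKn (hmM q)))
    have h3 := relIndex_map_map_of_injective (f := (MulAut.conj (m q)).toMonoidHom) X K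
      (MulAut.conj (m q)).injective
    rw [h1]
    have h4 : (X.map (MulAut.conj (m q)).toMonoidHom).relIndex K = X.relIndex K := by
      conv_lhs => rw [← h2]
      exact h3
    rw [h4]
  have := index_iInf_dvd_pow N hN (X.relIndex K) hidx
  rw [← hA, hcard] at this
  exact this


/-- **Wielandt's index bound.** If `|M : M ∩ L| = |L : M ∩ L| = d`, then the second iterated core
`A₂ = core_M(core_M(M ∩ L) ∩ core_L(M ∩ L))` has index in `M` dividing `d! * ((d-1)!)^d`. -/
theorem wielandt_index (M L : Subgroup G) (d : ℕ) (hdM : (M ⊓ L).relIndex M = d)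
    (hdL : (M ⊓ L).relIndex L = d) :
    (coreIn M (coreIn M (M ⊓ L) ⊓ coreIn L (M ⊓ L))).relIndex M ∣
      d.factorial * ((d - 1).factorial) ^ d := by
  set D := M ⊓ L with hD
  set K₁ := coreIn M D with hK₁
  set K₂ := coreIn L D with hK₂
  set A₂ := coreIn M (K₁ ⊓ K₂) with hA₂
  have hDM : D ≤ M := inf_le_left
  have hDL : D ≤ L := inf_le_right
  have hK₁D : K₁ ≤ D := coreIn_le_right _ _
  have hK₁M : K₁ ≤ M := coreIn_le_left _ _
  have hA₂K₁ : A₂ ≤ K₁ := (coreIn_le_right _ _).trans inf_le_left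
  have h1 : K₁.relIndex M ∣ d.factorial := by
    have := relIndex_coreIn_dvd M D
    rwa [hdM] at this
  have h2 : (K₁ ⊓ K₂).relIndex K₁ ∣ (d - 1).factorial := by
    rw [inf_relIndex_left]
    have := relIndex_coreIn_dvd_pred K₁ D L hK₁D hDL
    rwa [hdL] at this
  have hXn : D ≤ normalizer ((K₁ ⊓ K₂ : Subgroup G) : Set G) := by
    intro x hx
    have hx1 := (le_normalizer_coreIn M D) (hDM hx)
    have hx2 := (le_normalizer_coreIn L D) (hDL hx)
    rw [mem_normalizer_iff] at hx1 hx2 ⊢
    intro n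
    rw [mem_inf, mem_inf, ← hx1 n, ← hx2 n]
  have h3 : A₂.relIndex K₁ ∣ ((K₁ ⊓ K₂).relIndex K₁) ^ d := by
    have := relIndex_coreIn_dvd_pow M D K₁ (K₁ ⊓ K₂) hDM hK₁D inf_le_left
      (le_normalizer_coreIn M D) hXn
    rwa [hdM] at this
  have h4 : A₂.relIndex K₁ * K₁.relIndex M = A₂.relIndex M :=
    relIndex_mul_relIndex _ _ _ hA₂K₁ hK₁M
  rw [← h4, mul_comm]
  exact mul_dvd_mul h1 (h3.trans (pow_dvd_pow_of_dvd h2 d))

end Cfsg.Agent.Lib.Helper23.WInd
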