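import Mathlib
import Cfsg.Prelude
import Cfsg.Agent.S5752
import Cfsg.Agent.Lib.Helper23.WInd
import Cfsg.Agent.Lib.Helper9.Misc

/-!
Wielandt's theorem on the point stabilizer of a primitive permutation group: setup from a
primitive action, and consequences of the Thompson–Wielandt theorem (helper22's `S5752`).
-/

set_option autoImplicit false

namespace Cfsg.Agent.Lib.Helper23.WPerm

open Subgroup MulAction Cfsg Cfsg.Agent.Lib.Helper22.TW Cfsg.Agent.Lib.Helper20
  Cfsg.Agent.Lib.Helper17

section setup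

variable {G Ω : Type*} [Group G] [Finite G] [MulAction G Ω] [FaithfulSMul G Ω] [Finite Ω]

omit [Finite G] [FaithfulSMul G Ω] [Finite Ω] in
theorem stabilizer_subgroup_eq (H : Subgroup G) (b : Ω) :
    stabilizer ↥H b = (stabilizer G b).subgroupOf H := by
  ext x
  simp [mem_stabilizer_iff, mem_subgroupOf, Subgroup.smul_def]

omit [Finite G] [FaithfulSMul G Ω] [Finite Ω] in
theorem relIndex_stabilizer_eq (H : Subgroup G) (b : Ω) :
    (H ⊓ stabilizer G b).relIndex H = Nat.card (orbit ↥H b) := by
  rw [inf_relIndex_left]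
  unfold relIndex
  rw [← stabilizer_subgroup_eq, index_stabilizer, Nat.card_coe_set_eq]

theorem setup (hprim : IsPreprimitive G Ω) (a b : Ω) (d : ℕ)
    (hd : Nat.card (orbit (stabilizer G a) b) = d) (h2 : 2 ≤ d) :
    IsCoatom (stabilizer G a) ∧
    (∃ g : G, stabilizer G b = (stabilizer G a).map (MulAut.conj g).toMonoidHom) ∧
    stabilizer G a ≠ stabilizer G b ∧ (stabilizer G a).normalCore = ⊥ ∧
    (stabilizer G a ⊓ stabilizer G b).relIndex (stabilizer G a) = d ∧
    (stabilizer G a ⊓ stabilizer G b).relIndex (stabilizer G b) = d ∧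
    Nat.card (stabilizer G a) = Nat.card (stabilizer G b) := by
  haveI := hprim
  have hnt : Nontrivial (orbit (stabilizer G a) b) := by
    rw [← Finite.one_lt_card_iff_nontrivial, hd]
    omega
  haveI : Nontrivial Ω :=
    (Subtype.coe_injective : Function.Injective
      (fun x : orbit (stabilizer G a) b => (x : Ω))).nontrivial
  obtain ⟨g, hg⟩ := exists_smul_eq G a b
  have hconj : stabilizer G b = (stabilizer G a).map (MulAut.conj g).toMonoidHom := by
    rw [← hg]
    exact stabilizer_smul_eq_stabilizer_map_conj g a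
  have hcard : Nat.card (stabilizer G a) = Nat.card (stabilizer G b) := by
    rw [hconj]
    exact (Nat.card_congr ((stabilizer G a).equivMapOfInjective _
      (MulAut.conj g).injective).toEquiv)
  have hne : stabilizer G a ≠ stabilizer G b := by
    intro h
    obtain ⟨⟨y, hy⟩, hyb⟩ := exists_ne (⟨b, mem_orbit_self b⟩ : orbit (stabilizer G a) b)
    obtain ⟨m, hm⟩ := hy
    have hm' : (m : G) • b = y := hm
    have : (m : G) ∈ stabilizer G b := h ▸ m.2
    apply hyb
    ext
    simp only
    rw [← hm', mem_stabilizer_iff.mp this]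
  have hcore : (stabilizer G a).normalCore = ⊥ := by
    rw [eq_bot_iff]
    intro x hx
    rw [mem_bot]
    apply FaithfulSMul.eq_of_smul_eq_smul (α := Ω)
    intro c
    obtain ⟨k, hk⟩ := exists_smul_eq G a c
    have h1 : k⁻¹ * x * k⁻¹⁻¹ ∈ stabilizer G a := hx k⁻¹
    rw [mem_stabilizer_iff] at h1
    rw [one_smul, ← hk]
    have h2 : x • k • a = k • ((k⁻¹ * x * k⁻¹⁻¹) • a) := by
      rw [smul_smul, smul_smul]
      congr 1
      group
    rw [h2, h1]
  have hdM : (stabilizer G a ⊓ stabilizer G b).relIndex (stabilizer G a) = d := by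
    rw [relIndex_stabilizer_eq, hd]
  refine ⟨(isCoatom_stabilizer_iff_preprimitive G a).mpr hprim, ⟨g, hconj⟩, hne, hcore, hdM,
    ?_, hcard⟩
  -- index in the stabilizer of `b`
  have h3 : (stabilizer G a ⊓ stabilizer G b).relIndex (stabilizer G a) *
      Nat.card ↥(stabilizer G a ⊓ stabilizer G b) = Nat.card (stabilizer G a) := by
    unfold relIndex
    rw [← index_mul_card ((stabilizer G a ⊓ stabilizer G b).subgroupOf (stabilizer G a))]
    congr 1
    exact Nat.card_congr (subgroupOfEquivOfLe inf_le_left).toEquiv.symm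
  have h4 : (stabilizer G a ⊓ stabilizer G b).relIndex (stabilizer G b) *
      Nat.card ↥(stabilizer G a ⊓ stabilizer G b) = Nat.card (stabilizer G b) := by
    unfold relIndex
    rw [← index_mul_card ((stabilizer G a ⊓ stabilizer G b).subgroupOf (stabilizer G b))]
    congr 1
    exact Nat.card_congr (subgroupOfEquivOfLe inf_le_right).toEquiv.symm
  rw [hdM] at h3
  rw [← hcard, ← h3] at h4
  exact Nat.eq_of_mul_eq_mul_right Nat.card_pos h4

end setup


section tw

variable {G : Type*} [Group G] [Finite G]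

/-- The second iterated cores of a pair of subgroups. -/
def A₂ (M L : Subgroup G) : Subgroup G := coreIn M (coreIn M (M ⊓ L) ⊓ coreIn L (M ⊓ L))

/-- The second iterated cores of a pair of subgroups. -/
def B₂ (M L : Subgroup G) : Subgroup G := coreIn L (coreIn M (M ⊓ L) ⊓ coreIn L (M ⊓ L))

omit [Finite G] in
theorem A₂_le (M L : Subgroup G) : A₂ M L ≤ M ⊓ L :=
  (coreIn_le_right _ _).trans (inf_le_left.trans (coreIn_le_right _ _))

omit [Finite G] in
theorem B₂_le (M L : Subgroup G) : B₂ M L ≤ M ⊓ L :=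
  (coreIn_le_right _ _).trans (inf_le_left.trans (coreIn_le_right _ _))

omit [Finite G] in
theorem A₂_norm (M L : Subgroup G) : M ≤ normalizer (A₂ M L : Set G) := le_normalizer_coreIn _ _

omit [Finite G] in
theorem B₂_norm (M L : Subgroup G) : L ≤ normalizer (B₂ M L : Set G) := le_normalizer_coreIn _ _

theorem A₂_relIndex (M L : Subgroup G) (d : ℕ) (hdM : (M ⊓ L).relIndex M = d)
    (hdL : (M ⊓ L).relIndex L = d) :
    (A₂ M L).relIndex M ∣ d.factorial * ((d - 1).factorial) ^ d :=
  WInd.wielandt_index M L d hdM hdL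

theorem B₂_relIndex (M L : Subgroup G) (d : ℕ) (hdM : (M ⊓ L).relIndex M = d)
    (hdL : (M ⊓ L).relIndex L = d) :
    (B₂ M L).relIndex L ∣ d.factorial * ((d - 1).factorial) ^ d := by
  have := WInd.wielandt_index L M d (by rwa [inf_comm]) (by rwa [inf_comm])
  unfold B₂
  rwa [inf_comm L M, inf_comm (coreIn L (M ⊓ L))] at this

/-- Thompson–Wielandt for the second cores (from helper22's `S5752`). -/
theorem tw (M L : Subgroup G) (hmax : IsCoatom M) (g : G)
    (hconj : L = M.map (MulAut.conj g).toMonoidHom) (hne : M ≠ L) (hcore : M.normalCore = ⊥)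
    (hA : A₂ M L ≠ ⊥) (hB : B₂ M L ≠ ⊥) :
    ∃ p : ℕ, p.Prime ∧ IsPGroup p ↥(A₂ M L ⊔ B₂ M L) ∧
      Cfsg.generalizedFittingSubgroup ↥M = Cfsg.pCore p ↥M ∧
      Cfsg.generalizedFittingSubgroup ↥L = Cfsg.pCore p ↥L := by
  have hcfg := Cfsg.Agent.S5752.config_of M L hmax g hconj hne hcore hA hB
  obtain ⟨p, hp, h1, h2, _, h4, _⟩ := hcfg.main
  exact ⟨p, hp, h1, Cfsg.Agent.S5752.eq_of_gfsOf_eq h2, Cfsg.Agent.S5752.eq_of_gfsOf_eq h4⟩

/-- If one of the second cores is trivial, the order of `M` divides the bound. -/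
theorem card_dvd_of_eq_bot (M L : Subgroup G) (d : ℕ) (hdM : (M ⊓ L).relIndex M = d)
    (hdL : (M ⊓ L).relIndex L = d) (hcard : Nat.card M = Nat.card L)
    (h : A₂ M L = ⊥ ∨ B₂ M L = ⊥) :
    Nat.card M ∣ d.factorial * ((d - 1).factorial) ^ d := by
  rcases h with h | h
  · have := A₂_relIndex M L d hdM hdL
    rwa [h, relIndex_bot_left] at this
  · have := B₂_relIndex M L d hdM hdL
    rwa [h, relIndex_bot_left, ← hcard] at this

end tw

end Cfsg.Agent.Lib.Helper23.WPerm
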