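import Mathlib
import Cfsg.Prelude
import Cfsg.Agent.Lib.Helper23.WPerm

/-!
Primitive groups: if the two-point stabilizer induces a group with trivial Fitting subgroup on a
suborbit, then the two-point stabilizer has trivial Fitting subgroup.
-/

set_option autoImplicit false

namespace Cfsg.Agent.Lib.Helper23.WFit

open Subgroup MulAction Cfsg Cfsg.Agent.Lib.Helper22.TW Cfsg.Agent.Lib.Helper20
  Cfsg.Agent.Lib.Helper17

section abstract

variable {G : Type*} [Group G] [Finite G]

omit [Finite G] in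
theorem le_normalizer_inf {X A B : Subgroup G} (hA : X ≤ normalizer (A : Set G))
    (hB : X ≤ normalizer (B : Set G)) : X ≤ normalizer ((A ⊓ B : Subgroup G) : Set G) := by
  intro x hx
  have hx1 := hA hx
  have hx2 := hB hx
  rw [mem_normalizer_iff] at hx1 hx2 ⊢
  intro n
  rw [mem_inf, mem_inf, ← hx1 n, ← hx2 n]

/-- A normal `r`-subgroup of `H ∩ L` contained in `core_H(H ∩ L)` is trivial, for conjugate
core-free maximal subgroups `H ≠ L`. -/
theorem pCoreOf_inf_eq_bot (H L : Subgroup G) (hmax : IsCoatom H) (g : G)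
    (hconj : L = H.map (MulAut.conj g).toMonoidHom) (hne : H ≠ L) (hcore : H.normalCore = ⊥)
    (r : ℕ) [Fact r.Prime] (hA : pCoreOf r (H ⊓ L) ≤ coreIn H (H ⊓ L)) :
    pCoreOf r (H ⊓ L) = ⊥ := by
  set D := H ⊓ L with hD
  set K₁ := coreIn H D with hK₁
  set R := pCoreOf r D with hR
  have hDH : D ≤ H := inf_le_left
  have hDL : D ≤ L := inf_le_right
  have hK₁D : K₁ ≤ D := coreIn_le_right _ _
  have hK₁n : H ≤ normalizer (K₁ : Set G) := le_normalizer_coreIn _ _
  have hReq : R = pCoreOf r K₁ := pCoreOf_eq_of_normal_of_le hK₁D (hDH.trans hK₁n) hA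
  have hRn : H ≤ normalizer (R : Set G) := by
    rw [hReq]
    exact hK₁n.trans (normalizer_le_normalizer_pCoreOf K₁)
  have hRD : R ≤ D := pCoreOf_le D
  have hRp : IsPGroup r R := pCoreOf_isPGroup D
  by_contra hRne
  have hNR : normalizer (R : Set G) ≤ H :=
    Cfsg.Agent.S5752.prim_of_coatom hmax hcore R hRne (hRD.trans hDH) hRn
  set Q := pCoreOf r L with hQ
  have hQp : IsPGroup r Q := pCoreOf_isPGroup L
  have hQn : L ≤ normalizer (Q : Set G) := le_normalizer_pCoreOf L
  have hQH : Q ⊓ H ≤ R := by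
    apply le_pCoreOf
    · exact le_inf inf_le_right ((inf_le_left).trans (pCoreOf_le L))
    · exact le_normalizer_inf (hDL.trans hQn) (hDH.trans le_normalizer)
    · exact hQp.to_le inf_le_left
  have hQR : Q ≤ R := by
    by_contra hcon
    have hRQ : R ≤ normalizer (Q : Set G) := (hRD.trans hDL).trans hQn
    have hT : IsPGroup r ↥(Q ⊔ R) := IsPGroup.to_sup_of_normal_left' hQp hRp hRQ
    obtain ⟨x, hxT, hxN, hxR⟩ := exists_mem_normalizer_not_mem hT le_sup_right
      (fun h => hcon (le_sup_left.trans h))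
    obtain ⟨q, hq, ρ, hρ, rfl⟩ := (Cfsg.Agent.Lib.Helper9.mem_sup_of_le_normalizer hRQ).mp hxT
    have hxH : q * ρ ∈ H := hNR hxN
    have hρH : ρ ∈ H := hDH (hRD hρ)
    have hqH : q ∈ H := by
      have := H.mul_mem hxH (H.inv_mem hρH)
      simpa using this
    exact hxR (R.mul_mem (hQH ⟨hq, hqH⟩) hρ)
  set QH := pCoreOf r H with hQHdef
  have hRQH : R ≤ QH := le_pCoreOf (hRD.trans hDH) hRn hRp
  have hcardQ : Nat.card Q = Nat.card QH := by
    have h1 := Cfsg.Agent.Lib.Helper10.map_pCore_subgroup (MulAut.conj g) r H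
    have h2 : Q = QH.map (MulAut.conj g).toMonoidHom := by
      rw [hQ, hconj]
      exact h1.symm
    rw [h2, card_map_conj]
  have hQeq : Q = QH := by
    apply Subgroup.eq_of_le_of_card_ge (hQR.trans hRQH)
    rw [hcardQ]
  have hRQ' : R = Q := le_antisymm (hRQH.trans hQeq.ge) hQR
  have hLH : L ≤ H := by
    have : L ≤ normalizer (R : Set G) := by rw [hRQ']; exact hQn
    exact this.trans hNR
  apply hne
  symm
  apply Subgroup.eq_of_le_of_card_ge hLH
  rw [hconj, card_map_conj]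

end abstract


section image

/-- A normal `r`-subgroup of `D'` is killed by `φ` if the image `φ(D')` has trivial Fitting
subgroup. -/
theorem le_ker_of_fitting_image_eq_bot {H P : Type*} [Group H] [Finite H] [Group P] [Finite P]
    (φ : H →* P) (D' R' : Subgroup H) (hRD : R' ≤ D') (hn : D' ≤ normalizer (R' : Set H))
    {r : ℕ} [Fact r.Prime] (hR : IsPGroup r R')
    (hF : Cfsg.fittingSubgroup ↥(D'.map φ) = ⊥) : R' ≤ φ.ker := by
  set I := D'.map φ with hI
  have hle : R'.map φ ≤ I := Subgroup.map_mono hRD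
  have hIn : I ≤ normalizer ((R'.map φ : Subgroup P) : Set P) :=
    (Subgroup.map_mono hn).trans (Subgroup.le_normalizer_map φ)
  set S := (R'.map φ).subgroupOf I with hS
  haveI : S.Normal := (normal_subgroupOf_iff_le_normalizer hle).mpr hIn
  have hSp : IsPGroup r ↥S := (hR.map φ).comap_of_injective I.subtype I.subtype_injective
  have hSnil : Group.IsNilpotent ↥S := hSp.isNilpotent
  have hSle : S ≤ Cfsg.fittingSubgroup ↥I := le_sSup ⟨inferInstance, hSnil⟩
  rw [hF, le_bot_iff] at hSle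
  intro x hx
  rw [MonoidHom.mem_ker]
  have h1 : φ x ∈ R'.map φ := ⟨x, hx, rfl⟩
  have h2 : (⟨φ x, hle h1⟩ : ↥I) ∈ S := Subgroup.mem_subgroupOf.mpr h1
  rw [hSle, Subgroup.mem_bot] at h2
  exact congrArg Subtype.val h2

variable {G Ω : Type*} [Group G] [MulAction G Ω]

/-- The kernel of `H` on the `H`-orbit of `b` is the core in `H` of `H ∩ G_b`. -/
theorem mem_coreIn_of_mem_ker (H : Subgroup G) (b : Ω) (x : ↥H)
    (hx : x ∈ (MulAction.toPermHom ↥H (orbit ↥H b)).ker) :
    (x : G) ∈ coreIn H (H ⊓ stabilizer G b) := by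
  rw [mem_coreIn_iff]
  refine ⟨x.2, fun m hm => Subgroup.mem_inf.mpr
    ⟨H.mul_mem (H.mul_mem hm x.2) (H.inv_mem hm), ?_⟩⟩
  rw [mem_stabilizer_iff]
  rw [MonoidHom.mem_ker] at hx
  let m' : ↥H := ⟨m, hm⟩
  have h1 := congrArg (fun σ : Equiv.Perm (orbit ↥H b) =>
    ((σ ⟨m'⁻¹ • b, mem_orbit b m'⁻¹⟩ : orbit ↥H b) : Ω)) hx
  simp only [MulAction.toPermHom_apply, MulAction.toPerm_apply, Equiv.Perm.coe_one, id_eq] at h1
  have h2 : ((x : G) * m⁻¹) • b = m⁻¹ • b := by
    have : (x • (m'⁻¹ • b) : Ω) = m'⁻¹ • b := h1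
    rw [mul_smul]
    exact this
  rw [mul_assoc, mul_smul, h2, smul_smul, mul_inv_cancel, one_smul]

end image

end Cfsg.Agent.Lib.Helper23.WFit
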