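import Mathlib
import Cfsg.Agent.Lib.Helper23.WardBasic
import Cfsg.Agent.Lib.Helper29.KWReduce

/-!
# Helper23 library: the key configuration of Ward's theorem (S3796)

`Data p V H A`: `V` normal abelian, `H` acting faithfully on `V`, `A ≅ Z_p × Z_p` acting on both
without fixed points, `V` minimal. Then `H` is nilpotent (`Data.isNilpotent`).
-/

set_option autoImplicit false

open Subgroup
open scoped commutatorElement

namespace Cfsg.Agent.Lib.Helper23.Ward

variable {G : Type*} [Group G]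

open scoped Pointwise in
theorem le_normalizer_sup {X H₁ H₂ : Subgroup G} (h₁ : X ≤ normalizer (H₁ : Set G))
    (h₂ : X ≤ normalizer (H₂ : Set G)) : X ≤ normalizer ((H₁ ⊔ H₂ : Subgroup G) : Set G) := by
  intro x hx
  rw [← Helper1.conj_smul_eq_self_iff_mem_normalizer, Subgroup.smul_sup,
    Helper1.conj_smul_eq_self_iff_mem_normalizer.mpr (h₁ hx),
    Helper1.conj_smul_eq_self_iff_mem_normalizer.mpr (h₂ hx)]

theorem le_normalizer_inf {X H₁ H₂ : Subgroup G} (h₁ : X ≤ normalizer (H₁ : Set G))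
    (h₂ : X ≤ normalizer (H₂ : Set G)) : X ≤ normalizer ((H₁ ⊓ H₂ : Subgroup G) : Set G) :=
  (le_inf h₁ h₂).trans Subgroup.inf_normalizer_le_normalizer_inf

/-- A subgroup normalizing `Z` normalizes its centralizer. -/
theorem le_normalizer_centralizer {X Z : Subgroup G} (h : X ≤ normalizer (Z : Set G)) :
    X ≤ normalizer ((centralizer (Z : Set G) : Subgroup G) : Set G) := by
  apply Helper1.le_normalizer_of_forall_conj_mem
  intro x hx n hn
  rw [Subgroup.mem_centralizer_iff] at hn ⊢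
  intro z hz
  have hz' : x⁻¹ * z * x ∈ Z := by
    have := (Subgroup.mem_normalizer_iff.mp (inv_mem (h hx)) z).mp hz
    simpa using this
  have := hn _ hz'
  calc z * (x * n * x⁻¹) = x * ((x⁻¹ * z * x) * n) * x⁻¹ := by group
    _ = x * (n * (x⁻¹ * z * x)) * x⁻¹ := by rw [this]
    _ = x * n * x⁻¹ * z := by group

/-- An element commuting with `a` normalizes `C(a)`. -/
theorem mem_normalizer_centralizer_singleton {x a : G} (h : x * a = a * x) :
    x ∈ normalizer ((centralizer ({a} : Set G) : Subgroup G) : Set G) :=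
  Subgroup.le_normalizer (Subgroup.mem_centralizer_singleton_iff.mpr h)

/-- The key configuration. -/
structure Data (p : ℕ) (V H A : Subgroup G) : Prop where
  hp : p.Prime
  hVn : V.Normal
  hVc : ∀ x ∈ V, ∀ y ∈ V, x * y = y * x
  hAH : A ≤ normalizer (H : Set G)
  hAc : ∀ x ∈ A, ∀ y ∈ A, x * y = y * x
  hAe : ∀ x ∈ A, x ^ p = 1
  hAcard : Nat.card A = p ^ 2
  hpV : ¬ p ∣ Nat.card V
  hpH : ¬ p ∣ Nat.card H
  hfaith : H ⊓ centralizer (V : Set G) = ⊥
  hVA : V ⊓ centralizer (A : Set G) = ⊥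
  hHA : H ⊓ centralizer (A : Set G) = ⊥
  hVH : V ⊓ H = ⊥
  hV1 : V ≠ ⊥
  hmin : ∀ W : Subgroup G, W ≤ V → H ≤ normalizer (W : Set G) → A ≤ normalizer (W : Set G) →
    W = ⊥ ∨ W = V

namespace Data

variable {p : ℕ} {V H A : Subgroup G}

theorem normalizer_V (D : Data p V H A) : normalizer (V : Set G) = ⊤ :=
  haveI := D.hVn
  Subgroup.normalizer_eq_top_iff.mpr inferInstance

theorem le_normalizer_V (D : Data p V H A) (X : Subgroup G) : X ≤ normalizer (V : Set G) := by
  rw [D.normalizer_V]; exact le_top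

theorem normalizes_sup (D : Data p V H A) : A ≤ normalizer ((V ⊔ H : Subgroup G) : Set G) := by
  intro a ha
  have h1 : a ∈ normalizer (V : Set G) := D.le_normalizer_V A ha
  have h2 : a ∈ normalizer (H : Set G) := D.hAH ha
  exact le_normalizer_sup (X := zpowers a) (zpowers_le.mpr h1) (zpowers_le.mpr h2) (mem_zpowers a)

/-- No fixed points of `A` on `V ⊔ H`. -/
theorem fix_sup (D : Data p V H A) : (V ⊔ H) ⊓ centralizer (A : Set G) = ⊥ := by
  haveI := D.hVn
  rw [eq_bot_iff]
  intro x hx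
  obtain ⟨hxVH, hxC⟩ := Subgroup.mem_inf.mp hx
  rw [Subgroup.mem_bot]
  have : x ∈ ((V ⊔ H : Subgroup G) : Set G) := hxVH
  rw [Subgroup.normal_mul] at this
  obtain ⟨v, hv, h, hh, rfl⟩ := Set.mem_mul.mp this
  have hkey : ∀ a ∈ A, a * v * a⁻¹ = v ∧ a * h * a⁻¹ = h := by
    intro a ha
    have hva : a * v * a⁻¹ ∈ V := D.hVn.conj_mem v hv a
    have hha : a * h * a⁻¹ ∈ H := (Subgroup.mem_normalizer_iff.mp (D.hAH ha) h).mp hh
    have hc : a * (v * h) = (v * h) * a := Subgroup.mem_centralizer_iff.mp hxC a ha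
    have e1 : (a * v * a⁻¹) * (a * h * a⁻¹) = v * h := by
      calc (a * v * a⁻¹) * (a * h * a⁻¹) = a * (v * h) * a⁻¹ := by group
        _ = v * h := by rw [hc]; group
    have e2 : v⁻¹ * (a * v * a⁻¹) = h * (a * h * a⁻¹)⁻¹ := by
      calc v⁻¹ * (a * v * a⁻¹)
          = v⁻¹ * ((a * v * a⁻¹) * (a * h * a⁻¹)) * (a * h * a⁻¹)⁻¹ := by group
        _ = v⁻¹ * (v * h) * (a * h * a⁻¹)⁻¹ := by rw [e1]
        _ = h * (a * h * a⁻¹)⁻¹ := by group
    have e3 : v⁻¹ * (a * v * a⁻¹) ∈ V ⊓ H := by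
      refine Subgroup.mem_inf.mpr ⟨mul_mem (inv_mem hv) hva, ?_⟩
      rw [e2]; exact mul_mem hh (inv_mem hha)
    rw [D.hVH, Subgroup.mem_bot] at e3
    have e4 : a * v * a⁻¹ = v := by
      have := inv_mul_eq_one.mp e3
      exact this.symm
    refine ⟨e4, ?_⟩
    rw [e4] at e1
    exact mul_left_cancel e1
  have hv1 : v ∈ V ⊓ centralizer (A : Set G) := by
    refine Subgroup.mem_inf.mpr ⟨hv, ?_⟩
    rw [Subgroup.mem_centralizer_iff]
    intro a ha
    have := (hkey a ha).1
    calc a * v = a * v * a⁻¹ * a := by group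
      _ = v * a := by rw [this]
  have hh1 : h ∈ H ⊓ centralizer (A : Set G) := by
    refine Subgroup.mem_inf.mpr ⟨hh, ?_⟩
    rw [Subgroup.mem_centralizer_iff]
    intro a ha
    have := (hkey a ha).2
    calc a * h = a * h * a⁻¹ * a := by group
      _ = h * a := by rw [this]
  rw [D.hVA, Subgroup.mem_bot] at hv1
  rw [D.hHA, Subgroup.mem_bot] at hh1
  rw [hv1, hh1, one_mul]

/-- Thompson: `C_H(a)` centralizes `C_V(a)` for elements of coprime orders. -/
theorem commute_T [Finite G] (D : Data p V H A) {a : G} (ha : a ∈ A) (ha1 : a ≠ 1) {x v : G}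
    (hx : x ∈ H ⊓ centralizer ({a} : Set G)) (hv : v ∈ V ⊓ centralizer ({a} : Set G))
    (hxv : (orderOf x).Coprime (orderOf v)) : x * v = v * x := by
  apply commute_of_coprime_cent D.hp D.hAe D.hAc D.hAcard D.normalizes_sup D.fix_sup ha ha1 _ _ hxv
  · exact Subgroup.mem_inf.mpr ⟨(le_sup_right : H ≤ V ⊔ H) (Subgroup.mem_inf.mp hx).1,
      (Subgroup.mem_inf.mp hx).2⟩
  · exact Subgroup.mem_inf.mpr ⟨(le_sup_left : V ≤ V ⊔ H) (Subgroup.mem_inf.mp hv).1,
      (Subgroup.mem_inf.mp hv).2⟩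
 
/-- `V` is a `q`-group for some prime `q`. -/
theorem exists_q [Finite G] (D : Data p V H A) : ∃ q : ℕ, q.Prime ∧ IsPGroup q V := by
  haveI := D.hVn
  have hcard : Nat.card V ≠ 1 := by
    rw [Ne, Subgroup.card_eq_one]; exact D.hV1
  set q := (Nat.card V).minFac with hq
  have hqp : q.Prime := Nat.minFac_prime hcard
  haveI : Fact q.Prime := ⟨hqp⟩
  obtain ⟨v, hv⟩ := exists_prime_orderOf_dvd_card' (G := V) q (Nat.minFac_dvd _)
  let Ω : Subgroup G :=
    { carrier := {x | x ∈ V ∧ x ^ q = 1}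
      mul_mem' := by
        rintro x y ⟨hx, hxq⟩ ⟨hy, hyq⟩
        refine ⟨mul_mem hx hy, ?_⟩
        have hc : Commute x y := D.hVc x hx y hy
        rw [hc.mul_pow, hxq, hyq, one_mul]
      one_mem' := ⟨one_mem _, one_pow _⟩
      inv_mem' := by
        rintro x ⟨hx, hxq⟩
        exact ⟨inv_mem hx, by rw [inv_pow, hxq, inv_one]⟩ }
  have hΩV : Ω ≤ V := fun x hx => hx.1
  have hΩn : ∀ X : Subgroup G, X ≤ normalizer (Ω : Set G) := by
    intro X
    apply Helper1.le_normalizer_of_forall_conj_mem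
    rintro g - x ⟨hx, hxq⟩
    exact ⟨D.hVn.conj_mem x hx g, by rw [conj_pow, hxq]; group⟩
  have hΩ1 : Ω ≠ ⊥ := by
    intro h
    have hvΩ : (v : G) ∈ Ω := ⟨v.2, by
      have := pow_orderOf_eq_one v
      rw [hv] at this
      have := congrArg (fun x : V => (x : G)) this
      simpa using this⟩
    rw [h, Subgroup.mem_bot] at hvΩ
    have : v = 1 := Subtype.ext hvΩ
    rw [this, orderOf_one] at hv
    exact hqp.one_lt.ne hv
  rcases D.hmin Ω hΩV (hΩn H) (hΩn A) with h | h
  · exact absurd h hΩ1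
  · refine ⟨q, hqp, ?_⟩
    intro x
    refine ⟨1, ?_⟩
    have : (x : G) ∈ Ω := by rw [h]; exact x.2
    apply Subtype.ext
    rw [pow_one]
    simpa using this.2

/-- An `(H, A)`-invariant nontrivial `r`-subgroup of `H` has order coprime to `|V|`. -/
theorem coprime_of_pgroup [Finite G] (D : Data p V H A) {r : ℕ} [hr : Fact r.Prime]
    {R : Subgroup G} (hRH : R ≤ H) (hR : IsPGroup r R) (hR1 : R ≠ ⊥)
    (hHR : H ≤ normalizer (R : Set G)) (hAR : A ≤ normalizer (R : Set G)) :
    (Nat.card R).Coprime (Nat.card V) := by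
  haveI := D.hVn
  obtain ⟨q, hqp, hVq⟩ := D.exists_q
  haveI : Fact q.Prime := ⟨hqp⟩
  obtain ⟨k, hk⟩ := IsPGroup.iff_card.mp hR
  obtain ⟨m, hm⟩ := IsPGroup.iff_card.mp hVq
  rw [hk, hm]
  by_cases hrq : r = q
  · exfalso
    subst hrq
    have hW1 := Cfsg.Agent.Lib.Helper29.KW.inf_centralizer_ne_bot R V hR hVq D.hV1
    have hWn : ∀ X : Subgroup G, X ≤ normalizer (R : Set G) →
        X ≤ normalizer ((V ⊓ centralizer (R : Set G) : Subgroup G) : Set G) := fun X hX =>
      le_normalizer_inf (D.le_normalizer_V X) (le_normalizer_centralizer hX)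
    rcases D.hmin _ inf_le_left (hWn H hHR) (hWn A hAR) with h | h
    · exact hW1 h
    · have hVR : V ≤ centralizer (R : Set G) := by
        rw [← h]; exact inf_le_right
      have hRV : R ≤ H ⊓ centralizer (V : Set G) :=
        le_inf hRH (Subgroup.le_centralizer_iff.mp hVR)
      rw [D.hfaith] at hRV
      exact hR1 (le_bot_iff.mp hRV)
  · exact Nat.Coprime.pow _ _ ((Nat.coprime_primes hr.out hqp).mpr hrq)

end Data

/-- The data attached to an invariant nilpotent piece `R` of `H` and a central abelian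
subgroup `Z`. -/
structure ZData (V H A R Z : Subgroup G) : Prop where
  hZR : Z ≤ R
  hRH : R ≤ H
  hZc : ∀ x ∈ Z, ∀ y ∈ Z, x * y = y * x
  hRZ : R ≤ centralizer (Z : Set G)
  hHZ : H ≤ normalizer (Z : Set G)
  hAZ : A ≤ normalizer (Z : Set G)
  hAR : A ≤ normalizer (R : Set G)
  hcop : (Nat.card R).Coprime (Nat.card V)
  hVZ : V ⊓ centralizer (Z : Set G) = ⊥

namespace Data

variable {p : ℕ} {V H A : Subgroup G}

/-- Build the `ZData` from an invariant `r`-subgroup: `Z = Z(R)`. -/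
theorem zData_of_pgroup [Finite G] (D : Data p V H A) {r : ℕ} [hr : Fact r.Prime]
    {R : Subgroup G} (hRH : R ≤ H) (hR : IsPGroup r R) (hR1 : R ≠ ⊥)
    (hHR : H ≤ normalizer (R : Set G)) (hAR : A ≤ normalizer (R : Set G)) :
    ZData V H A R (R ⊓ centralizer (R : Set G)) := by
  have hZ1 : R ⊓ centralizer (R : Set G) ≠ ⊥ := by
    haveI : Nontrivial R := (Subgroup.nontrivial_iff_ne_bot R).mpr hR1
    haveI := hR.center_nontrivial
    obtain ⟨z, hz⟩ := exists_ne (1 : center R)
    intro h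
    have hzR : ((z : R) : G) ∈ R ⊓ centralizer (R : Set G) := by
      refine Subgroup.mem_inf.mpr ⟨(z : R).2, ?_⟩
      rw [Subgroup.mem_centralizer_iff]
      intro y hy
      have := Subgroup.mem_center_iff.mp z.2 ⟨y, hy⟩
      exact congrArg (fun x : R => (x : G)) this
    rw [h, Subgroup.mem_bot] at hzR
    apply hz
    apply Subtype.ext
    apply Subtype.ext
    exact hzR
  have hn : ∀ X : Subgroup G, X ≤ normalizer (R : Set G) →
      X ≤ normalizer ((R ⊓ centralizer (R : Set G) : Subgroup G) : Set G) := fun X hX =>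
    le_normalizer_inf hX (le_normalizer_centralizer hX)
  refine ⟨inf_le_left, hRH, ?_, ?_, hn H hHR, hn A hAR, hAR,
    D.coprime_of_pgroup hRH hR hR1 hHR hAR, ?_⟩
  · intro x hx y hy
    exact (Subgroup.mem_centralizer_iff.mp (Subgroup.mem_inf.mp hy).2 x (Subgroup.mem_inf.mp hx).1)
  · rw [Subgroup.le_centralizer_iff]
    exact inf_le_right
  · have hWn : ∀ X : Subgroup G, X ≤ normalizer (R : Set G) →
        X ≤ normalizer ((V ⊓ centralizer ((R ⊓ centralizer (R : Set G) : Subgroup G) : Set G) :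
          Subgroup G) : Set G) := fun X hX =>
      le_normalizer_inf (D.le_normalizer_V X) (le_normalizer_centralizer (hn X hX))
    rcases D.hmin _ inf_le_left (hWn H hHR) (hWn A hAR) with h | h
    · exact h
    · exfalso
      have hVZ : V ≤ centralizer ((R ⊓ centralizer (R : Set G) : Subgroup G) : Set G) := by
        rw [← h]; exact inf_le_right
      have hZV : R ⊓ centralizer (R : Set G) ≤ H ⊓ centralizer (V : Set G) :=
        le_inf (inf_le_left.trans hRH) (Subgroup.le_centralizer_iff.mp hVZ)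
      rw [D.hfaith] at hZV
      exact hZ1 (le_bot_iff.mp hZV)

end Data

end Cfsg.Agent.Lib.Helper23.Ward
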