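import Mathlib
import Cfsg.Agent.Lib.Helper23.WardKey

/-!
# Helper23 library: Ward's theorem (S3796), the weight-space analysis

For `ZData V H A R Z` we study `Zc Z a = C_Z(a)` and `Wc V Z a = [V, C_Z(a)]` for `a ∈ A#`.
-/

set_option autoImplicit false

open Subgroup
open scoped commutatorElement

namespace Cfsg.Agent.Lib.Helper23.Ward

variable {G : Type*} [Group G]

/-- `C_Z(a)`. -/
def Zc (Z : Subgroup G) (a : G) : Subgroup G := Z ⊓ centralizer ({a} : Set G)

/-- `[V, C_Z(a)]`. -/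
def Wc (V Z : Subgroup G) (a : G) : Subgroup G := ⁅V, Zc Z a⁆

theorem isMulCommutative_of_le {V W : Subgroup G} (hVc : ∀ x ∈ V, ∀ y ∈ V, x * y = y * x)
    (hW : W ≤ V) : IsMulCommutative W :=
  ⟨⟨fun x y => Subtype.ext (hVc x (hW x.2) y (hW y.2))⟩⟩

theorem centralizer_singleton_le_centralizer_zpowers (a : G) :
    centralizer ({a} : Set G) ≤ centralizer ((zpowers a : Subgroup G) : Set G) := by
  intro x hx
  rw [Subgroup.mem_centralizer_iff]
  intro y hy
  have := centralizer_singleton_le_of_mem_zpowers hy hx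
  exact (Subgroup.mem_centralizer_singleton_iff.mp this).symm

theorem not_mem_zpowers_symm [Finite G] {p : ℕ} (hp : p.Prime) {a b : G} (hbp : b ^ p = 1)
    (ha1 : a ≠ 1) (hba : b ∉ zpowers a) : a ∉ zpowers b := by
  intro h
  apply hba
  rw [zpowers_eq_of_mem hp hbp h ha1]
  exact mem_zpowers b

theorem pow_ne_one_of_prime [Finite G] {p : ℕ} (hp : p.Prime) {c : G} (hcp : c ^ p = 1)
    (hc1 : c ≠ 1) {j : ℕ} (hj0 : 0 < j) (hjp : j < p) : c ^ j ≠ 1 := by
  have hoc : orderOf c = p := by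
    rcases (Nat.dvd_prime hp).mp (orderOf_dvd_of_pow_eq_one hcp) with h | h
    · exact absurd (orderOf_eq_one_iff.mp h) hc1
    · exact h
  apply pow_ne_one_of_lt_orderOf hj0.ne'
  rw [hoc]; exact hjp

namespace Data

variable {p : ℕ} {V H A : Subgroup G}

/-- Fixed-point-freeness in the form needed by `frob_fixed`. -/
theorem fpf_aux [Finite G] (D : Data p V H A) {c d : G} (hc : c ∈ A) (hc1 : c ≠ 1) (hd : d ∈ A)
    (hdc : d ∉ zpowers c) (j : ℕ) (hj0 : 0 < j) (hjp : j < p) (x : G)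
    (hx : x ∈ H ⊓ centralizer ({d} : Set G)) (hxc : c ^ j * x = x * c ^ j) : x = 1 := by
  have hcp : c ^ p = 1 := D.hAe c hc
  have h1 : x ∈ centralizer ({c ^ j} : Set G) := by
    rw [Subgroup.mem_centralizer_singleton_iff]; exact hxc.symm
  rw [centralizer_singleton_eq_of_mem_zpowers D.hp hcp (Subgroup.pow_mem _ (mem_zpowers c) j)
    (pow_ne_one_of_prime D.hp hcp hc1 hj0 hjp)] at h1
  have hxc' : c * x = x * c := (Subgroup.mem_centralizer_singleton_iff.mp h1).symm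
  have hxd : d * x = x * d :=
    (Subgroup.mem_centralizer_singleton_iff.mp (Subgroup.mem_inf.mp hx).2).symm
  have h2 := mem_centralizer_of_commute_pair D.hp D.hAe D.hAcard hc hc1 hd hdc hxc' hxd
  have h3 : x ∈ H ⊓ centralizer (A : Set G) := Subgroup.mem_inf.mpr ⟨(Subgroup.mem_inf.mp hx).1, h2⟩
  rw [D.hHA, Subgroup.mem_bot] at h3
  exact h3

theorem A_le_normalizer_centralizer_singleton (D : Data p V H A) {a : G} (ha : a ∈ A) :
    A ≤ normalizer ((centralizer ({a} : Set G) : Subgroup G) : Set G) := by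
  intro x hx
  exact mem_normalizer_centralizer_singleton (D.hAc x hx a ha)

theorem A_le_normalizer_zpowers (D : Data p V H A) {a : G} (ha : a ∈ A) :
    A ≤ normalizer ((zpowers a : Subgroup G) : Set G) := by
  refine le_trans ?_ (Subgroup.centralizer_le_normalizer _)
  rw [Subgroup.le_centralizer_iff]
  rw [zpowers_le]
  rw [Subgroup.mem_centralizer_iff]
  intro x hx
  exact D.hAc x hx a ha

end Data

namespace ZData

variable {p : ℕ} {V H A R Z : Subgroup G}

theorem Zc_le (Z : Subgroup G) (a : G) : Zc Z a ≤ Z := inf_le_left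

theorem Zc_le_H (ZD : ZData V H A R Z) (a : G) : Zc Z a ≤ H :=
  (Zc_le Z a).trans (ZD.hZR.trans ZD.hRH)

theorem Zc_le_CH (ZD : ZData V H A R Z) (a : G) : Zc Z a ≤ H ⊓ centralizer ({a} : Set G) :=
  le_inf (ZD.Zc_le_H a) inf_le_right

theorem A_le_normalizer_Zc (ZD : ZData V H A R Z) (D : Data p V H A) {a : G} (ha : a ∈ A) :
    A ≤ normalizer ((Zc Z a : Subgroup G) : Set G) :=
  le_normalizer_inf ZD.hAZ (D.A_le_normalizer_centralizer_singleton ha)

theorem R_le_centralizer_Zc (ZD : ZData V H A R Z) (a : G) :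
    R ≤ centralizer ((Zc Z a : Subgroup G) : Set G) :=
  ZD.hRZ.trans (Subgroup.centralizer_le (Zc_le Z a))

theorem R_le_normalizer_Zc (ZD : ZData V H A R Z) (a : G) :
    R ≤ normalizer ((Zc Z a : Subgroup G) : Set G) :=
  (ZD.R_le_centralizer_Zc a).trans (Subgroup.centralizer_le_normalizer _)

theorem Z_le_normalizer_Zc (ZD : ZData V H A R Z) (a : G) :
    Z ≤ normalizer ((Zc Z a : Subgroup G) : Set G) :=
  ZD.hZR.trans (ZD.R_le_normalizer_Zc a)

theorem CH_le_normalizer_Zc (ZD : ZData V H A R Z) (a : G) :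
    H ⊓ centralizer ({a} : Set G) ≤ normalizer ((Zc Z a : Subgroup G) : Set G) :=
  le_normalizer_inf (inf_le_left.trans ZD.hHZ) (inf_le_right.trans Subgroup.le_normalizer)

theorem Wc_le_V (D : Data p V H A) (Z : Subgroup G) (a : G) : Wc V Z a ≤ V :=
  haveI := D.hVn
  Subgroup.commutator_le_left V _

theorem le_normalizer_Wc (D : Data p V H A) {X Z : Subgroup G} {a : G}
    (hX : X ≤ normalizer ((Zc Z a : Subgroup G) : Set G)) :
    X ≤ normalizer ((Wc V Z a : Subgroup G) : Set G) :=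
  le_normalizer_commutator (D.le_normalizer_V X) hX

theorem card_coprime [Finite G] (ZD : ZData V H A R Z) {E W : Subgroup G} (hE : E ≤ R) (hW : W ≤ V) :
    (Nat.card E).Coprime (Nat.card W) :=
  Nat.Coprime.coprime_dvd_left (Subgroup.card_dvd_of_le hE)
    (Nat.Coprime.coprime_dvd_right (Subgroup.card_dvd_of_le hW) ZD.hcop)

theorem orderOf_coprime [Finite G] (ZD : ZData V H A R Z) {x v : G} (hx : x ∈ R) (hv : v ∈ V) :
    (orderOf x).Coprime (orderOf v) :=
  Nat.Coprime.coprime_dvd_left (Subgroup.orderOf_dvd_natCard R hx)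
    (Nat.Coprime.coprime_dvd_right (Subgroup.orderOf_dvd_natCard V hv) ZD.hcop)

/-- Elements of `R ⊓ C(a)` centralize `V ⊓ C(a)`. -/
theorem CV_le_centralizer [Finite G] (ZD : ZData V H A R Z) (D : Data p V H A) {a : G} (ha : a ∈ A)
    (ha1 : a ≠ 1) {E : Subgroup G} (hER : E ≤ R) (hEa : E ≤ centralizer ({a} : Set G)) :
    V ⊓ centralizer ({a} : Set G) ≤ centralizer (E : Set G) := by
  intro v hv
  rw [Subgroup.mem_centralizer_iff]
  intro x hx
  exact D.commute_T ha ha1 (Subgroup.mem_inf.mpr ⟨ZD.hRH (hER hx), hEa hx⟩) hv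
    (ZD.orderOf_coprime (hER hx) (Subgroup.mem_inf.mp hv).1)

/-- **F1**: `[V, C_Z(a)] ∩ C(a) = 1`. -/
theorem Wc_inf_centralizer [Finite G] (ZD : ZData V H A R Z) (D : Data p V H A) {a : G}
    (ha : a ∈ A) (ha1 : a ≠ 1) : Wc V Z a ⊓ centralizer ({a} : Set G) = ⊥ := by
  haveI : IsMulCommutative V := isMulCommutative_of_le D.hVc le_rfl
  have h := Helper1.abelian_centralizer_inf_commutator_eq_bot (Zc Z a) V
    (D.le_normalizer_V _) (ZD.card_coprime ((Zc_le Z a).trans ZD.hZR) le_rfl)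
  rw [eq_bot_iff, ← h]
  intro w hw
  obtain ⟨hwW, hwa⟩ := Subgroup.mem_inf.mp hw
  refine Subgroup.mem_inf.mpr ⟨Subgroup.mem_inf.mpr ⟨Wc_le_V D Z a hwW, ?_⟩, hwW⟩
  exact ZD.CV_le_centralizer D ha ha1 ((Zc_le Z a).trans ZD.hZR) inf_le_right
    (Subgroup.mem_inf.mpr ⟨Wc_le_V D Z a hwW, hwa⟩)

/-- **F2**: `C_Z(b)` centralizes `[V, C_Z(a)]` for independent `a, b`. -/
theorem commutator_Wc_Zc [Finite G] (ZD : ZData V H A R Z) (D : Data p V H A) {a b : G}
    (ha : a ∈ A) (ha1 : a ≠ 1) (hb : b ∈ A) (hba : b ∉ zpowers a) :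
    ⁅Wc V Z a, Zc Z b⁆ = ⊥ := by
  haveI := D.hVn
  haveI : IsMulCommutative V := isMulCommutative_of_le D.hVc le_rfl
  haveI : IsMulCommutative (Wc V Z a) := isMulCommutative_of_le D.hVc (Wc_le_V D Z a)
  have hZbW : Zc Z b ≤ normalizer ((Wc V Z a : Subgroup G) : Set G) :=
    (Zc_le Z b).trans (le_normalizer_Wc D (ZD.Z_le_normalizer_Zc a))
  have hWle : ⁅Wc V Z a, Zc Z b⁆ ≤ Wc V Z a := Helper1.commutator_le_of_le_normalizer hZbW
  apply frob_fixed D.hp.pos V ⁅Wc V Z a, Zc Z b⁆ (Zc Z b) a (hWle.trans (Wc_le_V D Z a))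
  · exact le_normalizer_commutator hZbW Subgroup.le_normalizer
  · have h1 : zpowers a ≤ normalizer ((Wc V Z a : Subgroup G) : Set G) :=
      (zpowers_le.mpr ha).trans (le_normalizer_Wc D (ZD.A_le_normalizer_Zc D ha))
    have h2 : zpowers a ≤ normalizer ((Zc Z b : Subgroup G) : Set G) :=
      (zpowers_le.mpr ha).trans (ZD.A_le_normalizer_Zc D hb)
    exact le_normalizer_commutator h1 h2 (mem_zpowers a)
  · exact ZD.A_le_normalizer_Zc D hb ha
  · exact D.hAe a ha
  · intro j hj0 hjp x hx hxc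
    exact D.fpf_aux ha ha1 hb hba j hj0 hjp x (ZD.Zc_le_CH b hx) hxc
  · have h := Helper1.abelian_centralizer_inf_commutator_eq_bot (Zc Z b) (Wc V Z a) hZbW
      (ZD.card_coprime ((Zc_le Z b).trans ZD.hZR) (Wc_le_V D Z a))
    rw [eq_bot_iff, ← h]
    exact le_inf (le_inf (inf_le_left.trans hWle) inf_le_right) inf_le_left
  · rw [eq_bot_iff, ← ZD.Wc_inf_centralizer D ha ha1]
    exact inf_le_inf_right _ hWle
  · exact ZD.card_coprime ((Zc_le Z b).trans ZD.hZR) (hWle.trans (Wc_le_V D Z a))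

/-- `C_Z(b)` centralizes `[V, C_Z(a)]`. -/
theorem Zc_le_centralizer_Wc [Finite G] (ZD : ZData V H A R Z) (D : Data p V H A) {a b : G}
    (ha : a ∈ A) (ha1 : a ≠ 1) (hb : b ∈ A) (hba : b ∉ zpowers a) :
    Zc Z b ≤ centralizer ((Wc V Z a : Subgroup G) : Set G) := by
  rw [Subgroup.le_centralizer_iff, ← Subgroup.commutator_eq_bot_iff_le_centralizer]
  exact ZD.commutator_Wc_Zc D ha ha1 hb hba

theorem not_dvd_card_of_le (D : Data p V H A) {K : Subgroup G} (hK : K ≤ H) :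
    ¬ p ∣ Nat.card K := fun h => D.hpH (h.trans (Subgroup.card_dvd_of_le hK))

/-- **F2'**: `[Z, a]` centralizes `[V, C_Z(a)]`. -/
theorem commutator_Z_zpowers_le [Finite G] (ZD : ZData V H A R Z) (D : Data p V H A) {a : G}
    (ha : a ∈ A) (ha1 : a ≠ 1) :
    ⁅Z, zpowers a⁆ ≤ centralizer ((Wc V Z a : Subgroup G) : Set G) := by
  set Z₁ := ⁅Z, zpowers a⁆ with hZ₁
  have hZ₁Z : Z₁ ≤ Z := Helper1.commutator_le_of_le_normalizer ((zpowers_le.mpr ha).trans ZD.hAZ)
  have hAZ₁ : A ≤ normalizer ((Z₁ : Subgroup G) : Set G) :=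
    le_normalizer_commutator ZD.hAZ (D.A_le_normalizer_zpowers ha)
  have hpZ₁ : ¬ p ∣ Nat.card Z₁ := not_dvd_card_of_le D (hZ₁Z.trans (ZD.hZR.trans ZD.hRH))
  rw [eq_iSup_centralizer D.hp D.hAc D.hAe D.hAcard hAZ₁ hpZ₁]
  apply iSup_le
  rintro ⟨b, hb, hb1⟩
  show Z₁ ⊓ centralizer ({b} : Set G) ≤ _
  by_cases hba : b ∈ zpowers a
  · rw [centralizer_singleton_eq_of_mem_zpowers D.hp (D.hAe a ha) hba hb1]
    haveI : IsMulCommutative Z := ⟨⟨fun x y => Subtype.ext (ZD.hZc x x.2 y y.2)⟩⟩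
    have hcop : (Nat.card (zpowers a)).Coprime (Nat.card Z) := by
      rw [Nat.card_zpowers]
      have h1 : orderOf a ∣ p := orderOf_dvd_of_pow_eq_one (D.hAe a ha)
      apply Nat.Coprime.coprime_dvd_left h1
      exact (Nat.Prime.coprime_iff_not_dvd D.hp).mpr
        (not_dvd_card_of_le D (ZD.hZR.trans ZD.hRH))
    have h := Helper1.abelian_centralizer_inf_commutator_eq_bot (zpowers a) Z
      ((zpowers_le.mpr ha).trans ZD.hAZ) hcop
    have : Z₁ ⊓ centralizer ({a} : Set G) ≤ ⊥ := by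
      rw [← h]
      exact le_inf (le_inf (inf_le_left.trans hZ₁Z)
        (inf_le_right.trans (centralizer_singleton_le_centralizer_zpowers a))) inf_le_left
    exact this.trans bot_le
  · exact (inf_le_inf_right _ hZ₁Z).trans (ZD.Zc_le_centralizer_Wc D ha ha1 hb hba)

/-- `Z` is generated by the `C_Z(a)`. -/
theorem Z_eq_iSup [Finite G] (ZD : ZData V H A R Z) (D : Data p V H A) :
    Z = ⨆ a : {a : G // a ∈ A ∧ a ≠ 1}, Zc Z (a : G) :=
  eq_iSup_centralizer D.hp D.hAc D.hAe D.hAcard ZD.hAZ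
    (not_dvd_card_of_le D (ZD.hZR.trans ZD.hRH))

/-- For a `Z`-invariant subgroup `X` of `V`: `X ≤ ⨆ a, [X, C_Z(a)]`. -/
theorem le_iSup_commutator [Finite G] (ZD : ZData V H A R Z) (D : Data p V H A) {X : Subgroup G}
    (hXV : X ≤ V) (hZX : Z ≤ normalizer (X : Set G)) :
    X ≤ ⨆ a : {a : G // a ∈ A ∧ a ≠ 1}, ⁅X, Zc Z (a : G)⁆ := by
  haveI : IsMulCommutative X := isMulCommutative_of_le D.hVc hXV
  have h := Helper1.abelian_centralizer_sup_commutator_eq Z X hZX (ZD.card_coprime ZD.hZR hXV)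
  have h0 : X ⊓ centralizer (Z : Set G) = ⊥ := by
    rw [eq_bot_iff, ← ZD.hVZ]
    exact inf_le_inf_right _ hXV
  rw [h0, bot_sup_eq] at h
  have h2 := commutator_iSup_le X Z (fun a : {a : G // a ∈ A ∧ a ≠ 1} => Zc Z (a : G))
    (fun a => Zc_le Z a) ZD.hZc hZX
  rw [← ZD.Z_eq_iSup D, h] at h2
  exact h2

/-- **F3**: `V` is generated by the `[V, C_Z(a)]`. -/
theorem V_le_iSup_Wc [Finite G] (ZD : ZData V H A R Z) (D : Data p V H A) :
    V ≤ ⨆ a : {a : G // a ∈ A ∧ a ≠ 1}, Wc V Z (a : G) :=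
  ZD.le_iSup_commutator D le_rfl (D.le_normalizer_V Z)

/-- **F4**: `C_R(b)` centralizes `[V, C_Z(a)]` for independent `a, b`. -/
theorem R_inf_centralizer_le [Finite G] (ZD : ZData V H A R Z) (D : Data p V H A) {a b : G}
    (ha : a ∈ A) (ha1 : a ≠ 1) (hb : b ∈ A) (hba : b ∉ zpowers a) :
    R ⊓ centralizer ({b} : Set G) ≤ centralizer ((Wc V Z a : Subgroup G) : Set G) := by
  haveI := D.hVn
  haveI : IsMulCommutative V := isMulCommutative_of_le D.hVc le_rfl
  haveI : IsMulCommutative (Wc V Z a) := isMulCommutative_of_le D.hVc (Wc_le_V D Z a)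
  have hb1 : b ≠ 1 := fun h => hba (h ▸ one_mem _)
  set Rb := R ⊓ centralizer ({b} : Set G) with hRb
  have hRbW : Rb ≤ normalizer ((Wc V Z a : Subgroup G) : Set G) :=
    inf_le_left.trans (le_normalizer_Wc D (ZD.R_le_normalizer_Zc a))
  have hWle : ⁅Wc V Z a, Rb⁆ ≤ Wc V Z a := Helper1.commutator_le_of_le_normalizer hRbW
  have hARb : A ≤ normalizer ((Rb : Subgroup G) : Set G) :=
    le_normalizer_inf ZD.hAR (D.A_le_normalizer_centralizer_singleton hb)
  have hZRb : Zc Z a ≤ normalizer ((Rb : Subgroup G) : Set G) := by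
    refine le_trans ?_ (Subgroup.centralizer_le_normalizer _)
    rw [Subgroup.le_centralizer_iff]
    exact inf_le_left.trans (ZD.R_le_centralizer_Zc a)
  have hW : ⁅Wc V Z a, Rb⁆ = ⊥ := by
    apply frob_fixed D.hp.pos V ⁅Wc V Z a, Rb⁆ (Zc Z a) b (hWle.trans (Wc_le_V D Z a))
    · exact le_normalizer_commutator
        ((Zc_le Z a).trans (le_normalizer_Wc D (ZD.Z_le_normalizer_Zc a))) hZRb
    · have h1 : zpowers b ≤ normalizer ((Wc V Z a : Subgroup G) : Set G) :=
        (zpowers_le.mpr hb).trans (le_normalizer_Wc D (ZD.A_le_normalizer_Zc D ha))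
      have h2 : zpowers b ≤ normalizer ((Rb : Subgroup G) : Set G) :=
        (zpowers_le.mpr hb).trans hARb
      exact le_normalizer_commutator h1 h2 (mem_zpowers b)
    · exact ZD.A_le_normalizer_Zc D ha hb
    · exact D.hAe b hb
    · intro j hj0 hjp x hx hxc
      exact D.fpf_aux hb hb1 ha (not_mem_zpowers_symm D.hp (D.hAe b hb) ha1 hba) j hj0 hjp x
        (ZD.Zc_le_CH a hx) hxc
    · have h := Helper1.abelian_centralizer_inf_commutator_eq_bot (Zc Z a) V
        (D.le_normalizer_V _) (ZD.card_coprime ((Zc_le Z a).trans ZD.hZR) le_rfl)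
      rw [eq_bot_iff, ← h]
      exact le_inf (le_inf (inf_le_left.trans (hWle.trans (Wc_le_V D Z a))) inf_le_right)
        (inf_le_left.trans hWle)
    · have h := Helper1.abelian_centralizer_inf_commutator_eq_bot Rb (Wc V Z a) hRbW
        (ZD.card_coprime inf_le_left (Wc_le_V D Z a))
      rw [eq_bot_iff, ← h]
      refine le_inf (le_inf (inf_le_left.trans hWle) ?_) inf_le_left
      have h1 := ZD.CV_le_centralizer D hb hb1 (inf_le_left : Rb ≤ R) inf_le_right
      exact (inf_le_inf_right _ (hWle.trans (Wc_le_V D Z a))).trans h1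
    · exact ZD.card_coprime ((Zc_le Z a).trans ZD.hZR) (hWle.trans (Wc_le_V D Z a))
  rw [Subgroup.le_centralizer_iff, ← Subgroup.commutator_eq_bot_iff_le_centralizer]
  exact hW

end ZData

end Cfsg.Agent.Lib.Helper23.Ward
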