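import Mathlib
import Cfsg.Agent.Lib.Helper23.WardKey2

/-!
# Helper23 library: Ward's theorem (S3796), `H`-invariance of the weight spaces (F5)
-/

set_option autoImplicit false

open Subgroup
open scoped commutatorElement

namespace Cfsg.Agent.Lib.Helper23.Ward

variable {G : Type*} [Group G]

/-- The subgroup of elements of `N(Z) ∩ N(K)` acting trivially on `Z / K`. -/
def trivOn (Z K : Subgroup G) : Subgroup G where
  carrier := {x | x ∈ normalizer (Z : Set G) ∧ (∀ k ∈ K, x * k * x⁻¹ ∈ K ∧ x⁻¹ * k * x ∈ K) ∧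
    ∀ z ∈ Z, ⁅z, x⁆ ∈ K ∧ ⁅z, x⁻¹⁆ ∈ K}
  one_mem' := ⟨one_mem _, fun k hk => by simpa using hk, fun z _ => by simp⟩
  inv_mem' := by
    rintro x ⟨hx, hk, h⟩
    refine ⟨inv_mem hx, fun k hk' => ⟨?_, ?_⟩, fun z hz => ⟨(h z hz).2, ?_⟩⟩
    · rw [inv_inv]; exact (hk k hk').2
    · rw [inv_inv]; exact (hk k hk').1
    · rw [inv_inv]; exact (h z hz).1
  mul_mem' := by
    rintro x y ⟨hx, hxk, hxK⟩ ⟨hy, hyk, hyK⟩
    refine ⟨mul_mem hx hy, fun k hk => ⟨?_, ?_⟩, fun z hz => ⟨?_, ?_⟩⟩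
    · have : x * y * k * (x * y)⁻¹ = x * (y * k * y⁻¹) * x⁻¹ := by group
      rw [this]
      exact (hxk _ (hyk k hk).1).1
    · have : (x * y)⁻¹ * k * (x * y) = y⁻¹ * (x⁻¹ * k * x) * y := by group
      rw [this]
      exact (hyk _ (hxk k hk).2).2
    · have : ⁅z, x * y⁆ = ⁅z, x⁆ * (x * ⁅z, y⁆ * x⁻¹) := by
        simp only [commutatorElement_def]; group
      rw [this]
      exact mul_mem (hxK z hz).1 (hxk _ (hyK z hz).1).1
    · have : ⁅z, (x * y)⁻¹⁆ = ⁅z, y⁻¹⁆ * (y⁻¹ * ⁅z, x⁻¹⁆ * y) := by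
        simp only [commutatorElement_def]; group
      rw [this]
      exact mul_mem (hyK z hz).2 (hyk _ (hxK z hz).2).2

theorem mem_trivOn {Z K : Subgroup G} (hKZ : K ≤ Z) {x : G} (hx : x ∈ normalizer (Z : Set G))
    (h : ∀ z ∈ Z, ⁅z, x⁆ ∈ K) (h' : ∀ z ∈ Z, ⁅z, x⁻¹⁆ ∈ K) : x ∈ trivOn Z K := by
  refine ⟨hx, fun k hk => ⟨?_, ?_⟩, fun z hz => ⟨h z hz, h' z hz⟩⟩
  · have : x * k * x⁻¹ = k * ⁅k⁻¹, x⁆ := by
      simp only [commutatorElement_def]; group
    rw [this]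
    exact mul_mem hk (h _ (hKZ (inv_mem hk)))
  · have : x⁻¹ * k * x = k * ⁅k⁻¹, x⁻¹⁆ := by
      simp only [commutatorElement_def]; group
    rw [this]
    exact mul_mem hk (h' _ (hKZ (inv_mem hk)))

theorem commutator_mem_of_mem_trivOn {Z K : Subgroup G} {x z : G} (hx : x ∈ trivOn Z K)
    (hz : z ∈ Z) : ⁅z, x⁆ ∈ K := (hx.2.2 z hz).1

/-- Elements of `⟨a⟩ ⊔ ⟨b⟩` for commuting `a`, `b`. -/
theorem exists_zpow_mul_zpow {a b : G} (hab : Commute a b) {x : G}
    (hx : x ∈ zpowers a ⊔ zpowers b) : ∃ i j : ℤ, x = a ^ i * b ^ j := by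
  let B : Subgroup G :=
    { carrier := {x | ∃ i j : ℤ, x = a ^ i * b ^ j}
      one_mem' := ⟨0, 0, by simp⟩
      mul_mem' := by
        rintro x y ⟨i, j, rfl⟩ ⟨k, l, rfl⟩
        refine ⟨i + k, j + l, ?_⟩
        have h1 : Commute (b ^ j) (a ^ k) := ((hab.zpow_left k).zpow_right j).symm
        calc a ^ i * b ^ j * (a ^ k * b ^ l) = a ^ i * (b ^ j * a ^ k) * b ^ l := by group
          _ = a ^ i * (a ^ k * b ^ j) * b ^ l := by rw [h1.eq]
          _ = a ^ (i + k) * b ^ (j + l) := by rw [zpow_add, zpow_add]; group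
      inv_mem' := by
        rintro x ⟨i, j, rfl⟩
        refine ⟨-i, -j, ?_⟩
        have h1 : Commute (b ^ (-j)) (a ^ (-i)) := ((hab.zpow_left (-i)).zpow_right (-j)).symm
        calc (a ^ i * b ^ j)⁻¹ = b ^ (-j) * a ^ (-i) := by rw [mul_inv_rev, zpow_neg, zpow_neg]
          _ = a ^ (-i) * b ^ (-j) := h1.eq }
  have h1 : zpowers a ≤ B := zpowers_le.mpr ⟨1, 0, by simp⟩
  have h2 : zpowers b ≤ B := zpowers_le.mpr ⟨0, 1, by simp⟩
  exact sup_le h1 h2 hx

/-- A subgroup normalizing `M` and normalized by `s` normalizes the conjugate of `M` by `s`. -/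
theorem le_normalizer_map_conj {S M : Subgroup G} {s : G} (hSM : S ≤ normalizer (M : Set G))
    (hs : s ∈ normalizer (S : Set G)) :
    S ≤ normalizer ((M.map (MulAut.conj s).toMonoidHom : Subgroup G) : Set G) := by
  apply Helper1.le_normalizer_of_forall_conj_mem
  rintro x hx _ ⟨m, hm, rfl⟩
  have hx' : s⁻¹ * x * s ∈ S := by
    have := (Subgroup.mem_normalizer_iff.mp (inv_mem hs) x).mp hx
    simpa using this
  refine ⟨(s⁻¹ * x * s) * m * (s⁻¹ * x * s)⁻¹, ?_, ?_⟩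
  · exact (Subgroup.mem_normalizer_iff.mp (hSM hx') m).mp hm
  · simp only [MulEquiv.coe_toMonoidHom, MulAut.conj_apply]
    group

namespace ZData

variable {p : ℕ} {V H A R Z : Subgroup G}

/-- Core of F5: a subgroup `K` of `Z` containing `[Z, a]` and the `s`-conjugate of `[Z, a']`,
where `s ∈ C_H(b)` and `a'` is independent of `a`, is all of `Z`. -/
theorem Z_le_of_commutators [Finite G] (ZD : ZData V H A R Z) (D : Data p V H A) {a b a' s : G}
    (ha : a ∈ A) (ha1 : a ≠ 1) (hb : b ∈ A) (hba : b ∉ zpowers a) (ha' : a' ∈ A)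
    (ha'a : a' ∉ zpowers a) (hs : s ∈ H) (hsb : s * b = b * s) {K : Subgroup G} (hKZ : K ≤ Z)
    (h1 : ⁅Z, zpowers a⁆ ≤ K) (h2 : ∀ z ∈ Z, ∀ y ∈ zpowers a', s⁻¹ * ⁅z, y⁆ * s ∈ K) :
    Z ≤ K := by
  have hb1 : b ≠ 1 := fun h => hba (h ▸ one_mem _)
  have hbp : b ^ p = 1 := D.hAe b hb
  -- `a ∈ T`
  have haT : a ∈ trivOn Z K := by
    apply mem_trivOn hKZ (ZD.hAZ ha)
    · intro z hz
      exact h1 (Subgroup.commutator_mem_commutator hz (mem_zpowers a))
    · intro z hz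
      exact h1 (Subgroup.commutator_mem_commutator hz (inv_mem (mem_zpowers a)))
  -- `t = s⁻¹ a' s ∈ T`
  have hsZ : ∀ z ∈ Z, s * z * s⁻¹ ∈ Z := fun z hz =>
    (Subgroup.mem_normalizer_iff.mp (ZD.hHZ hs) z).mp hz
  have htT : s⁻¹ * a' * s ∈ trivOn Z K := by
    apply mem_trivOn hKZ
    · exact mul_mem (mul_mem (inv_mem (ZD.hHZ hs)) (ZD.hAZ ha')) (ZD.hHZ hs)
    · intro z hz
      have : ⁅z, s⁻¹ * a' * s⁆ = s⁻¹ * ⁅s * z * s⁻¹, a'⁆ * s := by
        simp only [commutatorElement_def]; group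
      rw [this]
      exact h2 _ (hsZ z hz) _ (mem_zpowers a')
    · intro z hz
      have : ⁅z, (s⁻¹ * a' * s)⁻¹⁆ = s⁻¹ * ⁅s * z * s⁻¹, a'⁻¹⁆ * s := by
        simp only [commutatorElement_def]; group
      rw [this]
      exact h2 _ (hsZ z hz) _ (inv_mem (mem_zpowers a'))
  -- decompose `a'`
  have hab : Commute a b := D.hAc a ha b hb
  have hA : zpowers a ⊔ zpowers b = A :=
    zpowers_sup_zpowers_eq D.hp D.hAe D.hAcard ha ha1 hb hba
  obtain ⟨i, j, hij⟩ := exists_zpow_mul_zpow hab (hA ▸ ha' : a' ∈ zpowers a ⊔ zpowers b)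
  set c := b ^ j with hc
  have hcb : c ∈ zpowers b := Subgroup.zpow_mem _ (mem_zpowers b) j
  have hc1 : c ≠ 1 := by
    intro h
    apply ha'a
    rw [hij, h, mul_one]
    exact Subgroup.zpow_mem _ (mem_zpowers a) i
  have hcp : c ^ p = 1 := D.hAe c (zpowers_le.mpr hb hcb)
  set g := a ^ (-i) * s⁻¹ * a ^ i * s with hg
  have hgH : g ∈ H := by
    have h3 : a ^ (-i) ∈ normalizer (H : Set G) := D.hAH (Subgroup.zpow_mem _ ha (-i))
    have h4 : a ^ (-i) * s⁻¹ * (a ^ (-i))⁻¹ ∈ H :=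
      (Subgroup.mem_normalizer_iff.mp h3 _).mp (inv_mem hs)
    have : g = a ^ (-i) * s⁻¹ * (a ^ (-i))⁻¹ * s := by
      rw [hg, zpow_neg, inv_inv]
    rw [this]
    exact mul_mem h4 hs
  have hsb' : Commute s b := hsb
  have hgb : Commute g b :=
    (((hab.zpow_left (-i)).mul_left hsb'.inv_left).mul_left (hab.zpow_left i)).mul_left hsb'
  have hgc : Commute g c := hgb.zpow_right j
  have hgcT : g * c ∈ trivOn Z K := by
    have h3 : a ^ (-i) * (s⁻¹ * a' * s) ∈ trivOn Z K :=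
      mul_mem (Subgroup.zpow_mem _ haT (-i)) htT
    have h4 : a ^ (-i) * (s⁻¹ * a' * s) = g * c := by
      have hsc : Commute s c := hsb'.zpow_right j
      calc a ^ (-i) * (s⁻¹ * a' * s) = a ^ (-i) * s⁻¹ * a ^ i * (c * s) := by
            rw [hij]; group
        _ = a ^ (-i) * s⁻¹ * a ^ i * (s * c) := by rw [hsc.eq]
        _ = g * c := by rw [hg]; group
    rw [← h4]; exact h3
  set n := orderOf g with hn
  have hcnT : c ^ n ∈ trivOn Z K := by
    have h3 := Subgroup.pow_mem _ hgcT n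
    rwa [hgc.mul_pow, hn, pow_orderOf_eq_one, one_mul] at h3
  have hpn : ¬ p ∣ n := by
    intro h
    exact D.hpH (h.trans (Subgroup.orderOf_dvd_natCard H hgH))
  have hoc : orderOf c = p := by
    rcases (Nat.dvd_prime D.hp).mp (orderOf_dvd_of_pow_eq_one hcp) with h | h
    · exact absurd (orderOf_eq_one_iff.mp h) hc1
    · exact h
  have hcn1 : c ^ n ≠ 1 := by
    intro h
    apply hpn
    rw [← hoc]
    exact orderOf_dvd_of_pow_eq_one h
  have hz1 : zpowers (c ^ n) = zpowers c :=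
    zpowers_eq_of_mem D.hp hcp (Subgroup.pow_mem _ (mem_zpowers c) n) hcn1
  have hz2 : zpowers c = zpowers b := zpowers_eq_of_mem D.hp hbp hcb hc1
  have hbT : zpowers b ≤ trivOn Z K := by
    rw [← hz2, ← hz1, zpowers_le]; exact hcnT
  have hAT : A ≤ trivOn Z K := by
    rw [← hA]
    exact sup_le (zpowers_le.mpr haT) hbT
  have hZA : ⁅Z, A⁆ ≤ K := by
    rw [Subgroup.commutator_le]
    intro z hz x hx
    exact commutator_mem_of_mem_trivOn (hAT hx) hz
  have hcop : Helper1.CoprimeAct A Z := by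
    refine ⟨ZD.hAZ, ?_, Or.inr ?_⟩
    · rw [D.hAcard]
      exact Nat.Coprime.pow_left 2 ((Nat.Prime.coprime_iff_not_dvd D.hp).mpr
        (not_dvd_card_of_le D (ZD.hZR.trans ZD.hRH)))
    · exact Group.isSolvable_of_comm (fun x y => Subtype.ext (ZD.hZc x x.2 y y.2))
  have h3 := hcop.commutator_sup_centralizer
  have h4 : Z ⊓ centralizer (A : Set G) = ⊥ := by
    rw [eq_bot_iff, ← D.hHA]
    exact inf_le_inf_right _ (ZD.hZR.trans ZD.hRH)
  rw [h4, sup_bot_eq] at h3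
  rw [← h3]
  exact hZA

/-- **F5** (element form): `C_H(b)` stabilizes `[V, C_Z(a)]` for `b` independent of `a`. -/
theorem conj_mem_Wc [Finite G] (ZD : ZData V H A R Z) (D : Data p V H A) {a b s : G}
    (ha : a ∈ A) (ha1 : a ≠ 1) (hb : b ∈ A) (hba : b ∉ zpowers a) (hs : s ∈ H)
    (hsb : s * b = b * s) : ∀ w ∈ Wc V Z a, s * w * s⁻¹ ∈ Wc V Z a := by
  haveI := D.hVn
  set σ : G →* G := (MulAut.conj s).toMonoidHom with hσ
  have hσa : ∀ x, σ x = s * x * s⁻¹ := fun x => by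
    simp [hσ, MulAut.conj_apply]
  set X : Subgroup G := (Wc V Z a).map σ with hX
  have hXV : X ≤ V := by
    rintro _ ⟨w, hw, rfl⟩
    rw [hσa]
    exact D.hVn.conj_mem w (Wc_le_V D Z a hw) s
  have hZX : Z ≤ normalizer (X : Set G) :=
    le_normalizer_map_conj (le_normalizer_Wc D (ZD.Z_le_normalizer_Zc a)) (ZD.hHZ hs)
  have hXle := ZD.le_iSup_commutator D hXV hZX
  have hmain : ∀ a' : {a : G // a ∈ A ∧ a ≠ 1}, ⁅X, Zc Z (a' : G)⁆ ≤ Wc V Z a := by
    rintro ⟨a', ha', ha'1⟩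
    show ⁅X, Zc Z a'⁆ ≤ Wc V Z a
    by_cases ha'a : a' ∈ zpowers a
    · have : Zc Z a' = Zc Z a := by
        unfold Zc
        rw [centralizer_singleton_eq_of_mem_zpowers D.hp (D.hAe a ha) ha'a ha'1]
      rw [this]
      exact Subgroup.commutator_mono hXV le_rfl
    · -- the intersection `X ⊓ Wc a'` is trivial
      have h1 : ⁅X, Zc Z a'⁆ ≤ X ⊓ Wc V Z a' :=
        le_inf (Helper1.commutator_le_of_le_normalizer ((Zc_le Z a').trans hZX))
          (Subgroup.commutator_mono hXV le_rfl)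
      refine h1.trans ?_
      set Y₀ : Subgroup G := Wc V Z a ⊓ (Wc V Z a').comap σ with hY₀
      have hKZ : Z ⊓ centralizer (Y₀ : Set G) ≤ Z := inf_le_left
      have hZK : Z ≤ Z ⊓ centralizer (Y₀ : Set G) := by
        apply ZD.Z_le_of_commutators D ha ha1 hb hba ha' ha'a hs hsb hKZ
        · apply le_inf
          · exact Helper1.commutator_le_of_le_normalizer ((zpowers_le.mpr ha).trans ZD.hAZ)
          · exact (ZD.commutator_Z_zpowers_le D ha ha1).trans
              (Subgroup.centralizer_le inf_le_left)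
        · intro z hz y hy
          have hu : ⁅z, y⁆ ∈ ⁅Z, zpowers a'⁆ := Subgroup.commutator_mem_commutator hz hy
          have huZ : ⁅z, y⁆ ∈ Z :=
            Helper1.commutator_le_of_le_normalizer ((zpowers_le.mpr ha').trans ZD.hAZ) hu
          have huC := ZD.commutator_Z_zpowers_le D ha' ha'1 hu
          refine Subgroup.mem_inf.mpr ⟨?_, ?_⟩
          · have := (Subgroup.mem_normalizer_iff.mp (inv_mem (ZD.hHZ hs)) _).mp huZ
            simpa using this
          · rw [Subgroup.mem_centralizer_iff]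
            intro y₀ hy₀
            have h3 : σ y₀ ∈ Wc V Z a' := (Subgroup.mem_inf.mp hy₀).2
            rw [hσa] at h3
            have h4 := Subgroup.mem_centralizer_iff.mp huC _ h3
            generalize ⁅z, y⁆ = u at h4
            calc y₀ * (s⁻¹ * u * s) = s⁻¹ * ((s * y₀ * s⁻¹) * u) * s := by group
              _ = s⁻¹ * (u * (s * y₀ * s⁻¹)) * s := by rw [h4]
              _ = s⁻¹ * u * s * y₀ := by group
      have hY₀ : Y₀ = ⊥ := by
        rw [eq_bot_iff, ← ZD.hVZ]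
        apply le_inf (inf_le_left.trans (Wc_le_V D Z a))
        rw [Subgroup.le_centralizer_iff]
        exact hZK.trans inf_le_right
      intro y hy
      obtain ⟨hyX, hyW⟩ := Subgroup.mem_inf.mp hy
      obtain ⟨w, hw, rfl⟩ := hyX
      have : w ∈ Y₀ := Subgroup.mem_inf.mpr ⟨hw, hyW⟩
      rw [hY₀, Subgroup.mem_bot] at this
      rw [this, map_one]
      exact one_mem _
  have hXW : X ≤ Wc V Z a := hXle.trans (iSup_le hmain)
  intro w hw
  rw [← hσa]
  exact hXW ⟨w, hw, rfl⟩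

/-- **F5**: `H` normalizes `[V, C_Z(a)]`. -/
theorem H_le_normalizer_Wc [Finite G] (ZD : ZData V H A R Z) (D : Data p V H A) {a : G}
    (ha : a ∈ A) (ha1 : a ≠ 1) : H ≤ normalizer ((Wc V Z a : Subgroup G) : Set G) := by
  have hH := eq_iSup_centralizer D.hp D.hAc D.hAe D.hAcard D.hAH D.hpH
  rw [hH]
  apply iSup_le
  rintro ⟨b, hb, hb1⟩
  show H ⊓ centralizer ({b} : Set G) ≤ _
  by_cases hba : b ∈ zpowers a
  · rw [centralizer_singleton_eq_of_mem_zpowers D.hp (D.hAe a ha) hba hb1]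
    exact le_normalizer_Wc D (ZD.CH_le_normalizer_Zc a)
  · apply Helper1.le_normalizer_of_forall_conj_mem
    intro s hs w hw
    obtain ⟨hsH, hsb⟩ := Subgroup.mem_inf.mp hs
    exact ZD.conj_mem_Wc D ha ha1 hb hba hsH (Subgroup.mem_centralizer_singleton_iff.mp hsb) w hw

/-- **F6**: some `a₀ ∈ A#` acts fixed-point-freely on `V` and centralizes `R`. -/
theorem exists_a0 [Finite G] (ZD : ZData V H A R Z) (D : Data p V H A) :
    ∃ a₀ ∈ A, a₀ ≠ 1 ∧ V ⊓ centralizer ({a₀} : Set G) = ⊥ ∧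
      R ≤ centralizer ({a₀} : Set G) := by
  -- some `Wc a₀` is nontrivial, hence all of `V`
  have hex : ∃ a : {a : G // a ∈ A ∧ a ≠ 1}, Wc V Z (a : G) ≠ ⊥ := by
    by_contra hcon
    push Not at hcon
    have := ZD.V_le_iSup_Wc D
    simp only [hcon, iSup_bot, le_bot_iff] at this
    exact D.hV1 this
  obtain ⟨⟨a₀, ha₀, ha₀1⟩, hW⟩ := hex
  have hWV : Wc V Z a₀ = V := by
    rcases D.hmin _ (Wc_le_V D Z a₀) (ZD.H_le_normalizer_Wc D ha₀ ha₀1)
      (le_normalizer_Wc D (ZD.A_le_normalizer_Zc D ha₀)) with h | h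
    · exact absurd h hW
    · exact h
  refine ⟨a₀, ha₀, ha₀1, ?_, ?_⟩
  · rw [← hWV]; exact ZD.Wc_inf_centralizer D ha₀ ha₀1
  · have hpR : ¬ p ∣ Nat.card R := not_dvd_card_of_le D ZD.hRH
    rw [eq_iSup_centralizer D.hp D.hAc D.hAe D.hAcard ZD.hAR hpR]
    apply iSup_le
    rintro ⟨b, hb, hb1⟩
    show R ⊓ centralizer ({b} : Set G) ≤ _
    by_cases hba : b ∈ zpowers a₀
    · rw [centralizer_singleton_eq_of_mem_zpowers D.hp (D.hAe a₀ ha₀) hba hb1]
      exact inf_le_right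
    · have h1 := ZD.R_inf_centralizer_le D ha₀ ha₀1 hb hba
      rw [hWV] at h1
      have h2 : R ⊓ centralizer ({b} : Set G) ≤ H ⊓ centralizer (V : Set G) :=
        le_inf (inf_le_left.trans ZD.hRH) h1
      rw [D.hfaith] at h2
      exact h2.trans bot_le

end ZData

end Cfsg.Agent.Lib.Helper23.Ward
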