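import Mathlib
import Cfsg.Agent.Lib.Helper23.WardKey3
import Cfsg.Agent.Lib.Helper1.Cores
import Cfsg.Agent.Lib.Helper1.Fitting
import Cfsg.Agent.Lib.Helper1.Frattini

/-!
# Helper23 library: Ward's theorem (S3796), nilpotence of `H` in the key configuration
-/

set_option autoImplicit false

open Subgroup Cfsg
open scoped commutatorElement

namespace Cfsg.Agent.Lib.Helper23.Ward

variable {G : Type*} [Group G]

namespace ZData

variable {p : ℕ} {V H A R Z : Subgroup G}

/-- **Claim B**: if `a₀ ∈ A#` is fixed-point-free on `V` then it centralizes `R`. -/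
theorem le_centralizer_of_fpf [Finite G] (ZD : ZData V H A R Z) (D : Data p V H A) {a₀ : G}
    (ha₀ : a₀ ∈ A) (ha₀1 : a₀ ≠ 1) (hV : V ⊓ centralizer ({a₀} : Set G) = ⊥) :
    R ≤ centralizer ({a₀} : Set G) := by
  haveI := D.hVn
  haveI : IsMulCommutative V := isMulCommutative_of_le D.hVc le_rfl
  obtain ⟨a', ha', ha'1, hV', hR'⟩ := ZD.exists_a0 D
  by_cases h : a' ∈ zpowers a₀
  · rw [← centralizer_singleton_eq_of_mem_zpowers D.hp (D.hAe a₀ ha₀) h ha'1]
    exact hR'
  · exfalso
    apply D.hV1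
    apply frob_fixed D.hp.pos V V Z a₀ le_rfl (D.le_normalizer_V Z) (D.le_normalizer_V A ha₀)
      (ZD.hAZ ha₀) (D.hAe a₀ ha₀)
    · intro j hj0 hjp x hx hxc
      exact D.fpf_aux ha₀ ha₀1 ha' h j hj0 hjp x
        (Subgroup.mem_inf.mpr ⟨ZD.hRH (ZD.hZR hx), hR' (ZD.hZR hx)⟩) hxc
    · exact ZD.hVZ
    · exact hV
    · exact ZD.card_coprime ZD.hZR le_rfl

end ZData

namespace Data

variable {p : ℕ} {V H A : Subgroup G}

/-- **Key proposition**: in the configuration `Data p V H A` with `H` solvable, `H` is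
nilpotent. -/
theorem isNilpotent [Finite G] (D : Data p V H A) (hsolv : Group.IsSolvable H) :
    Group.IsNilpotent H := by
  -- the `r`-cores of `H`
  set Rr : Nat.Primes → Subgroup G := fun r => (pCore (r : ℕ) ↥H).map H.subtype with hRr
  have hRH : ∀ r, Rr r ≤ H := fun r => Subgroup.map_subtype_le _
  have hRp : ∀ r : Nat.Primes, IsPGroup (r : ℕ) (Rr r) := fun r =>
    (Helper1.pCore_isPGroup (G := ↥H) (r : ℕ)).map _
  have hNR : ∀ r, normalizer (H : Set G) ≤ normalizer ((Rr r : Subgroup G) : Set G) := by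
    intro r
    haveI := Helper1.pCore_characteristic (G := ↥H) (r : ℕ)
    exact Helper1.normalizer_le_normalizer_map_of_characteristic H (pCore (r : ℕ) ↥H)
  have hHR : ∀ r, H ≤ normalizer ((Rr r : Subgroup G) : Set G) := fun r =>
    Subgroup.le_normalizer.trans (hNR r)
  have hAR : ∀ r, A ≤ normalizer ((Rr r : Subgroup G) : Set G) := fun r => D.hAH.trans (hNR r)
  have hZD : ∀ r : Nat.Primes, Rr r ≠ ⊥ →
      ZData V H A (Rr r) (Rr r ⊓ centralizer ((Rr r : Subgroup G) : Set G)) := by
    intro r hr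
    haveI : Fact (r : ℕ).Prime := ⟨r.2⟩
    exact D.zData_of_pgroup (hRH r) (hRp r) hr (hHR r) (hAR r)
  set F : Subgroup G := (fittingSubgroup ↥H).map H.subtype with hF
  have hFsup : F = ⨆ r : Nat.Primes, Rr r := by
    rw [hF, Helper1.fittingSubgroup_eq_iSup_primes, Subgroup.map_iSup]
  haveI : Group.IsSolvable ↥H := hsolv
  have hCF : H ⊓ centralizer (F : Set G) ≤ F := by
    intro x hx
    obtain ⟨hxH, hxC⟩ := Subgroup.mem_inf.mp hx
    have h1 : (⟨x, hxH⟩ : ↥H) ∈ centralizer ((fittingSubgroup ↥H : Subgroup ↥H) : Set ↥H) := by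
      rw [Subgroup.mem_centralizer_iff]
      intro y hy
      apply Subtype.ext
      exact Subgroup.mem_centralizer_iff.mp hxC (y : G) ⟨y, hy, rfl⟩
    exact ⟨⟨x, hxH⟩, Helper1.centralizer_fittingSubgroup_le h1, rfl⟩
  by_cases hall : ∀ r, Rr r = ⊥
  · -- then `F(H) = 1` hence `H = 1`
    have hF1 : F = ⊥ := by
      rw [hFsup]; simp [hall]
    have hH1 : H ≤ ⊥ := by
      rw [← hF1]
      refine le_trans ?_ hCF
      rw [hF1]
      refine le_inf le_rfl ?_
      rw [Subgroup.coe_bot, Subgroup.centralizer_eq_top_iff_subset.mpr]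
      · exact le_top
      · simp
    haveI : Subsingleton ↥H := by
      rw [le_bot_iff] at hH1
      rw [hH1]; infer_instance
    infer_instance
  · push Not at hall
    obtain ⟨r₀, hr₀⟩ := hall
    obtain ⟨a₀, ha₀, ha₀1, hV, -⟩ := (hZD r₀ hr₀).exists_a0 D
    have hRa : ∀ r, Rr r ≤ centralizer ({a₀} : Set G) := by
      intro r
      by_cases hr : Rr r = ⊥
      · rw [hr]; exact bot_le
      · exact (hZD r hr).le_centralizer_of_fpf D ha₀ ha₀1 hV
    have hFa : F ≤ centralizer ({a₀} : Set G) := by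
      rw [hFsup]; exact iSup_le hRa
    have hFa' : F ≤ centralizer ((zpowers a₀ : Subgroup G) : Set G) :=
      hFa.trans (centralizer_singleton_le_centralizer_zpowers a₀)
    have hHF : H ≤ normalizer (F : Set G) := by
      haveI := Helper1.fittingSubgroup_characteristic (G := ↥H)
      exact Subgroup.le_normalizer.trans
        (Helper1.normalizer_le_normalizer_map_of_characteristic H (fittingSubgroup ↥H))
    have hFH : F ≤ H := Subgroup.map_subtype_le _
    have h1 : ⁅zpowers a₀, F⁆ = ⊥ := by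
      rw [Subgroup.commutator_eq_bot_iff_le_centralizer, Subgroup.le_centralizer_iff]
      exact hFa'
    have h2 : ⁅F, zpowers a₀⁆ = ⊥ := by
      rw [Subgroup.commutator_comm]; exact h1
    have h3 : ⁅⁅H, zpowers a₀⁆, F⁆ = ⊥ := by
      apply Subgroup.commutator_commutator_eq_bot_of_rotate
      · rw [h1, Subgroup.commutator_bot_left]
      · rw [eq_bot_iff, ← h2]
        exact Subgroup.commutator_mono (Helper1.commutator_le_of_le_normalizer hHF) le_rfl
    have haH : zpowers a₀ ≤ normalizer (H : Set G) := (zpowers_le.mpr ha₀).trans D.hAH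
    have h4 : ⁅H, zpowers a₀⁆ ≤ F := by
      refine le_trans ?_ hCF
      apply le_inf (Helper1.commutator_le_of_le_normalizer haH)
      rw [← Subgroup.commutator_eq_bot_iff_le_centralizer]
      exact h3
    have hcop : Helper1.CoprimeAct (zpowers a₀) H := by
      refine ⟨haH, ?_, Or.inr hsolv⟩
      rw [Nat.card_zpowers]
      apply Nat.Coprime.coprime_dvd_left (orderOf_dvd_of_pow_eq_one (D.hAe a₀ ha₀))
      exact (Nat.Prime.coprime_iff_not_dvd D.hp).mpr D.hpH
    have h5 : ⁅H, zpowers a₀⁆ = ⊥ := by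
      rw [← hcop.commutator_commutator_eq, Subgroup.commutator_eq_bot_iff_le_centralizer]
      exact h4.trans hFa'
    have h6 : H ≤ centralizer ({a₀} : Set G) := by
      rw [Subgroup.commutator_eq_bot_iff_le_centralizer] at h5
      refine h5.trans (Subgroup.centralizer_le ?_)
      rw [Set.singleton_subset_iff]
      exact mem_zpowers a₀
    have h7 := thompson_cent D.hp D.hAe D.hAc D.hAcard D.hAH D.hHA ha₀ ha₀1
    have h8 : H ⊓ centralizer ({a₀} : Set G) = H := inf_eq_left.mpr h6
    rw [h8] at h7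
    exact h7

end Data

end Cfsg.Agent.Lib.Helper23.Ward
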