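import Mathlib
import Cfsg.Agent.Lib.Helper23.WardKey4

/-!
# Helper23 library: Ward's theorem (S3796), transfer to the holomorph

Given a minimal normal abelian subgroup `V ≤ N` of `X = N A`, the image of `N` in `Aut V` is
nilpotent.
-/

set_option autoImplicit false

open Subgroup Cfsg
open scoped commutatorElement

namespace Cfsg.Agent.Lib.Helper23.Ward

variable {X : Type*} [Group X]

section Hol

variable (V : Subgroup X) [hVn : V.Normal]

/-- The holomorph of `V`. -/
abbrev Hol : Type _ := ↥V ⋊[MonoidHom.id (MulAut ↥V)] MulAut ↥V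

instance [Finite X] : Finite (Hol V) := Finite.of_equiv _ SemidirectProduct.equivProd.symm

/-- The conjugation map of the ambient group into the holomorph. -/
def holMap : X →* Hol V := SemidirectProduct.inr.comp MulAut.conjNormal

/-- `V` inside its holomorph. -/
def holV : Subgroup (Hol V) := (SemidirectProduct.inl : ↥V →* Hol V).range

theorem holMap_conj (x : X) (v : V) :
    holMap V x * SemidirectProduct.inl v * (holMap V x)⁻¹ =
      SemidirectProduct.inl ⟨x * v * x⁻¹, hVn.conj_mem v v.2 x⟩ := by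
  have h := SemidirectProduct.inl_aut (φ := MonoidHom.id (MulAut ↥V)) (MulAut.conjNormal x) v
  have h2 : (MonoidHom.id (MulAut ↥V)) (MulAut.conjNormal x) v = ⟨x * v * x⁻¹, hVn.conj_mem v v.2 x⟩ := by
    apply Subtype.ext
    simp [MulAut.conjNormal_apply]
  rw [h2] at h
  rw [h, holMap, MonoidHom.comp_apply, map_inv]

theorem holMap_commute_iff (x : X) (v : V) :
    holMap V x * SemidirectProduct.inl v = SemidirectProduct.inl v * holMap V x ↔
      x * (v : X) = v * x := by
  constructor
  · intro h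
    have h1 : holMap V x * SemidirectProduct.inl v * (holMap V x)⁻¹ = SemidirectProduct.inl v := by
      rw [h]; group
    rw [holMap_conj] at h1
    have h2 := SemidirectProduct.inl_injective h1
    have h3 : x * (v : X) * x⁻¹ = v := congrArg (fun w : V => (w : X)) h2
    calc x * (v : X) = x * v * x⁻¹ * x := by group
      _ = v * x := by rw [h3]
  · intro h
    have h3 : x * (v : X) * x⁻¹ = v := by rw [h]; group
    have h1 := holMap_conj V x v
    have h2 : (⟨x * v * x⁻¹, hVn.conj_mem v v.2 x⟩ : V) = v := Subtype.ext h3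
    rw [h2] at h1
    calc holMap V x * SemidirectProduct.inl v
        = holMap V x * SemidirectProduct.inl v * (holMap V x)⁻¹ * holMap V x := by group
      _ = SemidirectProduct.inl v * holMap V x := by rw [h1]

theorem holMap_eq_one_iff (x : X) : holMap V x = 1 ↔ ∀ v ∈ V, x * v = v * x := by
  constructor
  · intro h v hv
    have := (holMap_commute_iff V x ⟨v, hv⟩).mp (by rw [h]; simp)
    exact this
  · intro h
    have h1 : (MulAut.conjNormal x : MulAut ↥V) = 1 := by
      ext v
      rw [MulAut.conjNormal_apply, MulAut.one_apply, h v v.2]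
      group
    rw [holMap, MonoidHom.comp_apply, h1, map_one]

theorem ker_holMap_le : (holMap V).ker ≤ centralizer (V : Set X) := by
  intro x hx
  rw [MonoidHom.mem_ker, holMap_eq_one_iff] at hx
  rw [Subgroup.mem_centralizer_iff]
  intro v hv
  exact (hx v hv).symm

theorem holMap_left (x : X) : (holMap V x).left = 1 := rfl

end Hol

section KP

variable [Finite X] {p : ℕ} {N A V : Subgroup X}

/-- The key configuration inside the holomorph. -/
theorem holData (hp : p.Prime) [hNn : N.Normal] [hVn : V.Normal]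
    (hNA : N ⊔ A = ⊤) (hsolv : Group.IsSolvable N)
    (hAc : ∀ x ∈ A, ∀ y ∈ A, x * y = y * x) (hAe : ∀ x ∈ A, x ^ p = 1)
    (hAcard : Nat.card A = p ^ 2) (hpN : ¬ p ∣ Nat.card N)
    (hfix : N ⊓ centralizer (A : Set X) = ⊥)
    (hVN : V ≤ N) (hV1 : V ≠ ⊥) (hVc : ∀ x ∈ V, ∀ y ∈ V, x * y = y * x)
    (hVmin : ∀ B : Subgroup X, B.Normal → B ≤ V → B = ⊥ ∨ B = V)
    (hinj : ∀ a ∈ A, holMap V a = 1 → a = 1) :
    Data p (holV V) (N.map (holMap V)) (A.map (holMap V)) := by
  set f := holMap V with hf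
  have hVnorm : (holV V).Normal := by
    rw [holV, SemidirectProduct.range_inl_eq_ker_rightHom]; infer_instance
  have hcardV : Nat.card (holV V) = Nat.card V :=
    Nat.card_congr (MonoidHom.ofInjective
      (SemidirectProduct.inl_injective (φ := MonoidHom.id (MulAut ↥V)))).toEquiv.symm
  refine ⟨hp, hVnorm, ?_, ?_, ?_, ?_, ?_, ?_, ?_, ?_, ?_, ?_, ?_, ?_, ?_⟩
  · -- `V̂` abelian
    rintro _ ⟨v, rfl⟩ _ ⟨w, rfl⟩
    rw [← map_mul, ← map_mul]
    congr 1
    exact Subtype.ext (hVc v v.2 w w.2)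
  · -- `Â` normalizes `Ĥ`
    apply Helper1.le_normalizer_of_forall_conj_mem
    rintro _ ⟨a, _, rfl⟩ _ ⟨n, hn, rfl⟩
    exact ⟨a * n * a⁻¹, hNn.conj_mem n hn a, by simp⟩
  · rintro _ ⟨a, ha, rfl⟩ _ ⟨b, hb, rfl⟩
    rw [← map_mul, ← map_mul, hAc a ha b hb]
  · rintro _ ⟨a, ha, rfl⟩
    rw [← map_pow, hAe a ha, map_one]
  · -- card
    have hinj' : Function.Injective (f.comp A.subtype) := by
      rw [injective_iff_map_eq_one]
      intro a ha
      exact Subtype.ext (hinj a a.2 ha)
    have hr : (f.comp A.subtype).range = A.map f := by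
      rw [MonoidHom.range_comp, Subgroup.range_subtype]
    rw [← hr, ← hAcard]
    exact Nat.card_congr (MonoidHom.ofInjective hinj').toEquiv.symm
  · rw [hcardV]
    exact fun h => hpN (h.trans (Subgroup.card_dvd_of_le hVN))
  · exact fun h => hpN (h.trans (Subgroup.card_map_dvd N f))
  · -- faithful
    rw [eq_bot_iff]
    rintro y hy
    obtain ⟨⟨n, hn, rfl⟩, hyC⟩ := Subgroup.mem_inf.mp hy
    rw [Subgroup.mem_bot, holMap_eq_one_iff]
    intro v hv
    apply (holMap_commute_iff V n ⟨v, hv⟩).mp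
    exact (Subgroup.mem_centralizer_iff.mp hyC _ ⟨⟨v, hv⟩, rfl⟩).symm
  · -- `C_V̂(Â) = 1`
    rw [eq_bot_iff]
    rintro y hy
    obtain ⟨⟨v, rfl⟩, hyC⟩ := Subgroup.mem_inf.mp hy
    rw [Subgroup.mem_bot]
    have h1 : (v : X) ∈ N ⊓ centralizer (A : Set X) := by
      refine Subgroup.mem_inf.mpr ⟨hVN v.2, ?_⟩
      rw [Subgroup.mem_centralizer_iff]
      intro a ha
      apply (holMap_commute_iff V a v).mp
      exact Subgroup.mem_centralizer_iff.mp hyC _ ⟨a, ha, rfl⟩
    rw [hfix, Subgroup.mem_bot] at h1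
    have : v = 1 := Subtype.ext h1
    rw [this, map_one]
  · -- `C_Ĥ(Â) = 1`
    rw [eq_bot_iff]
    rintro y hy
    obtain ⟨⟨n, hn, rfl⟩, hyC⟩ := Subgroup.mem_inf.mp hy
    rw [Subgroup.mem_bot]
    have hcop : Helper1.CoprimeAct A N := by
      refine ⟨?_, ?_, Or.inr hsolv⟩
      · rw [Subgroup.normalizer_eq_top_iff.mpr hNn]; exact le_top
      · rw [hAcard]
        exact Nat.Coprime.pow_left 2 ((Nat.Prime.coprime_iff_not_dvd hp).mpr hpN)
    set C : Subgroup X := N ⊓ f.ker with hC
    haveI : C.Normal := inferInstance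
    have hCn : A ≤ normalizer (C : Set X) := by
      rw [Subgroup.normalizer_eq_top_iff.mpr inferInstance]; exact le_top
    have hx : ∀ a ∈ A, n⁻¹ * (a * n * a⁻¹) ∈ C := by
      intro a ha
      refine Subgroup.mem_inf.mpr ⟨mul_mem (inv_mem hn) (hNn.conj_mem n hn a), ?_⟩
      rw [MonoidHom.mem_ker]
      have h1 : f a * f n = f n * f a := Subgroup.mem_centralizer_iff.mp hyC _ ⟨a, ha, rfl⟩
      simp only [map_mul, map_inv]
      rw [h1]; group
    obtain ⟨u, hu, hnu⟩ := hcop.exists_mul_mem_centralizer inf_le_left hCn n hn hx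
    rw [hfix, Subgroup.mem_bot] at hnu
    have h2 : f u = 1 := MonoidHom.mem_ker.mp (Subgroup.mem_inf.mp hu).2
    have h3 := congrArg f hnu
    rw [map_mul, h2, mul_one, map_one] at h3
    exact h3
  · -- `V̂ ∩ Ĥ = 1`
    rw [eq_bot_iff]
    rintro y hy
    obtain ⟨⟨v, rfl⟩, ⟨n, hn, hnv⟩⟩ := Subgroup.mem_inf.mp hy
    rw [Subgroup.mem_bot]
    have h1 := congrArg SemidirectProduct.left hnv
    rw [hf, holMap_left, SemidirectProduct.left_inl] at h1
    rw [← h1, map_one]
  · -- `V̂ ≠ 1`
    intro h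
    apply hV1
    rw [eq_bot_iff]
    intro v hv
    have h1 : (SemidirectProduct.inl (⟨v, hv⟩ : V) : Hol V) ∈ holV V := ⟨_, rfl⟩
    rw [h, Subgroup.mem_bot] at h1
    have h2 : (⟨v, hv⟩ : V) = 1 := SemidirectProduct.inl_injective (by rw [h1, map_one])
    rw [Subgroup.mem_bot]
    exact congrArg (fun w : V => (w : X)) h2
  · -- minimality
    intro W hWV hHW hAW
    set W₀ : Subgroup X := (W.comap (SemidirectProduct.inl : ↥V →* Hol V)).map V.subtype with hW₀
    have hW₀V : W₀ ≤ V := Subgroup.map_subtype_le _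
    have hmemW₀ : ∀ v : V, (v : X) ∈ W₀ ↔ (SemidirectProduct.inl v : Hol V) ∈ W := by
      intro v
      constructor
      · rintro ⟨v', hv', hvv'⟩
        have : v' = v := Subtype.ext hvv'
        rw [← this]; exact hv'
      · intro h
        exact ⟨v, h, rfl⟩
    have hstab : ∀ x : X, f x ∈ normalizer (W : Set (Hol V)) → ∀ w ∈ W₀, x * w * x⁻¹ ∈ W₀ := by
      intro x hx w hw
      have hwV : w ∈ V := hW₀V hw
      have h1 := (hmemW₀ ⟨w, hwV⟩).mp hw
      have h2 := (Subgroup.mem_normalizer_iff.mp hx _).mp h1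
      rw [hf, holMap_conj] at h2
      exact (hmemW₀ ⟨x * w * x⁻¹, _⟩).mpr h2
    have hW₀n : W₀.Normal := by
      rw [← Subgroup.normalizer_eq_top_iff, eq_top_iff, ← hNA]
      apply sup_le
      · apply Helper1.le_normalizer_of_forall_conj_mem
        intro x hx w hw
        exact hstab x (hHW ⟨x, hx, rfl⟩) w hw
      · apply Helper1.le_normalizer_of_forall_conj_mem
        intro x hx w hw
        exact hstab x (hAW ⟨x, hx, rfl⟩) w hw
    rcases hVmin W₀ hW₀n hW₀V with h | h
    · left
      rw [eq_bot_iff]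
      intro y hy
      obtain ⟨v, rfl⟩ := hWV hy
      have h1 := (hmemW₀ v).mpr hy
      rw [h, Subgroup.mem_bot] at h1
      have : v = 1 := Subtype.ext h1
      rw [this, map_one]; exact one_mem _
    · right
      apply le_antisymm hWV
      rintro _ ⟨v, rfl⟩
      apply (hmemW₀ v).mp
      rw [h]; exact v.2

/-- **KP'**: some term of the lower central series of `N` centralizes the minimal normal
subgroup `V`. -/
theorem lcs_le_centralizer (hp : p.Prime) [hNn : N.Normal] [hVn : V.Normal]
    (hNA : N ⊔ A = ⊤) (hsolv : Group.IsSolvable N)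
    (hAc : ∀ x ∈ A, ∀ y ∈ A, x * y = y * x) (hAe : ∀ x ∈ A, x ^ p = 1)
    (hAcard : Nat.card A = p ^ 2) (hpN : ¬ p ∣ Nat.card N)
    (hfix : N ⊓ centralizer (A : Set X) = ⊥)
    (hVN : V ≤ N) (hV1 : V ≠ ⊥) (hVc : ∀ x ∈ V, ∀ y ∈ V, x * y = y * x)
    (hVmin : ∀ B : Subgroup X, B.Normal → B ≤ V → B = ⊥ ∨ B = V) :
    ∃ n : ℕ, N.lowerCentralSeries n ≤ centralizer (V : Set X) := by
  set f := holMap V with hf
  suffices hnil : Group.IsNilpotent (N.map f) by
    obtain ⟨n, hn⟩ := (Subgroup.isNilpotent_iff_lowerCentralSeries _).mp hnil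
    refine ⟨n, ?_⟩
    rw [← Subgroup.map_lowerCentralSeries, Subgroup.map_eq_bot_iff] at hn
    exact hn.trans (ker_holMap_le V)
  have hAN : A ≤ normalizer (N : Set X) := by
    rw [Subgroup.normalizer_eq_top_iff.mpr hNn]; exact le_top
  by_cases hdeg : ∃ a ∈ A, a ≠ 1 ∧ f a = 1
  · obtain ⟨a, ha, ha1, hfa⟩ := hdeg
    have hcop : Helper1.CoprimeAct (zpowers a) N := by
      refine ⟨(zpowers_le.mpr ha).trans hAN, ?_, Or.inr hsolv⟩
      rw [Nat.card_zpowers]
      apply Nat.Coprime.coprime_dvd_left (orderOf_dvd_of_pow_eq_one (hAe a ha))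
      exact (Nat.Prime.coprime_iff_not_dvd hp).mpr hpN
    have h1 := hcop.commutator_sup_centralizer
    have h2 : (⁅N, zpowers a⁆).map f = ⊥ := by
      rw [Subgroup.map_commutator, MonoidHom.map_zpowers, hfa, Subgroup.zpowers_one_eq_bot,
        Subgroup.commutator_bot_right]
    have h3 : N.map f = (N ⊓ centralizer ({a} : Set X)).map f := by
      apply le_antisymm
      · conv_lhs => rw [← h1]
        rw [Subgroup.map_sup, h2, bot_sup_eq]
        apply Subgroup.map_mono
        apply inf_le_inf_left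
        apply Subgroup.centralizer_le
        rw [Set.singleton_subset_iff]
        exact mem_zpowers a
      · exact Subgroup.map_mono inf_le_left
    rw [h3]
    haveI := thompson_cent hp hAe hAc hAcard hAN hfix ha ha1
    exact Group.nilpotent_of_surjective (f.subgroupMap (N ⊓ centralizer ({a} : Set X)))
      (f.subgroupMap_surjective _)
  · push Not at hdeg
    have hinj : ∀ a ∈ A, f a = 1 → a = 1 := by
      intro a ha hfa
      by_contra h
      exact hdeg a ha h hfa
    have D := holData hp hNA hsolv hAc hAe hAcard hpN hfix hVN hV1 hVc hVmin hinj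
    apply D.isNilpotent
    haveI := hsolv
    exact Group.isSolvable_of_surjective (f.subgroupMap_surjective N)

end KP

end Cfsg.Agent.Lib.Helper23.Ward
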