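import Mathlib
import Cfsg.Agent.Lib.Helper23.WardHol
import Cfsg.Agent.Lib.Helper1.Huppert1

/-!
# Helper23 library: Ward's theorem (S3796), the induction

If `X = N A` with `N` normal solvable, `A ≅ Z_p × Z_p` acting on `N` coprimely and without
nontrivial fixed points, then `N` has Fitting height at most two:
`γ_m(γ_k(N)) = 1` for some `k`, `m`.
-/

set_option autoImplicit false

open Subgroup Cfsg
open scoped commutatorElement

namespace Cfsg.Agent.Lib.Helper23.Ward

universe u

theorem commutator_lt_of_isSolvable {X : Type*} [Group X] {V : Subgroup X}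
    (hV : Group.IsSolvable V) (hV1 : V ≠ ⊥) : ⁅V, V⁆ < V := by
  haveI := hV
  haveI : Nontrivial V := (Subgroup.nontrivial_iff_ne_bot V).mpr hV1
  have h := Group.IsSolvable.commutator_lt_top_of_nontrivial ↥V
  conv_rhs => rw [← V.range_subtype, MonoidHom.range_eq_map]
  conv_lhs => rw [← V.range_subtype, MonoidHom.range_eq_map]
  rw [← Subgroup.map_commutator, Subgroup.map_subtype_lt_map_subtype]
  exact h

theorem ward_aux (p : ℕ) (hp : p.Prime) : ∀ (n : ℕ) (X : Type u) [Group X] [Finite X]
    (N A : Subgroup X) [N.Normal], Nat.card X = n → N ⊔ A = ⊤ → Group.IsSolvable N →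
    (∀ x ∈ A, ∀ y ∈ A, x * y = y * x) → (∀ x ∈ A, x ^ p = 1) → Nat.card A = p ^ 2 →
    ¬ p ∣ Nat.card N → N ⊓ centralizer (A : Set X) = ⊥ →
    ∃ k m : ℕ, (N.lowerCentralSeries k).lowerCentralSeries m = ⊥ := by
  intro n
  induction n using Nat.strong_induction_on with
  | _ n ih =>
  intro X _ _ N A hNn hcard hNA hsolv hAc hAe hAcard hpN hfix
  by_cases hN1 : N = ⊥
  · exact ⟨0, 0, by simp [hN1]⟩
  obtain ⟨V, hVn, hV1, hVN, hVmin⟩ := Helper1.Huppert.exists_minimal_normal_le N hN1
  -- `V` is abelian
  have hVsolv : Group.IsSolvable V :=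
    haveI := hsolv
    Group.isSolvable_of_isSolvable_injective (f := Subgroup.inclusion hVN) (Subgroup.inclusion_injective hVN)
  have hVc : ∀ x ∈ V, ∀ y ∈ V, x * y = y * x := by
    have hlt := commutator_lt_of_isSolvable hVsolv hV1
    have h0 : ⁅V, V⁆ = ⊥ := by
      rcases hVmin ⁅V, V⁆ inferInstance hlt.le with h | h
      · exact h
      · exact absurd h hlt.ne
    rw [Subgroup.commutator_eq_bot_iff_le_centralizer] at h0
    intro x hx y hy
    exact (Subgroup.mem_centralizer_iff.mp (h0 hx) y hy).symm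
  -- the quotient
  set π : X →* X ⧸ V := QuotientGroup.mk' V with hπ
  have hπs : Function.Surjective π := QuotientGroup.mk'_surjective V
  have hker : π.ker = V := QuotientGroup.ker_mk' V
  have hcardQ : Nat.card (X ⧸ V) < n := by
    rw [← hcard, ← Subgroup.index_eq_card, ← Subgroup.card_mul_index V]
    have h1 : 1 < Nat.card V := V.one_lt_card_iff_ne_bot.mpr hV1
    have h2 : 0 < V.index := Nat.pos_of_ne_zero Subgroup.index_ne_zero_of_finite
    nlinarith
  have hAN : A ≤ normalizer (N : Set X) := by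
    rw [Subgroup.normalizer_eq_top_iff.mpr hNn]; exact le_top
  have hcop : Helper1.CoprimeAct A N := by
    refine ⟨hAN, ?_, Or.inr hsolv⟩
    rw [hAcard]
    exact Nat.Coprime.pow_left 2 ((Nat.Prime.coprime_iff_not_dvd hp).mpr hpN)
  haveI : (N.map π).Normal := Subgroup.Normal.map hNn π hπs
  have hinj : ∀ a ∈ A, π a = 1 → a = 1 := by
    intro a ha h1
    have haV : a ∈ V := by rw [← hker]; exact h1
    have h2 : orderOf a ∣ p := orderOf_dvd_of_pow_eq_one (hAe a ha)
    rcases (Nat.dvd_prime hp).mp h2 with h | h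
    · exact orderOf_eq_one_iff.mp h
    · exfalso
      apply hpN
      rw [← h]
      exact Subgroup.orderOf_dvd_natCard N (hVN haV)
  obtain ⟨k, m, hkm⟩ := ih (Nat.card (X ⧸ V)) hcardQ (X ⧸ V) (N.map π) (A.map π) rfl
    (by rw [← Subgroup.map_sup, hNA, Subgroup.map_top_of_surjective π hπs])
    (haveI := hsolv; Group.isSolvable_of_surjective (π.subgroupMap_surjective N))
    (by
      rintro _ ⟨a, ha, rfl⟩ _ ⟨b, hb, rfl⟩
      rw [← map_mul, ← map_mul, hAc a ha b hb])
    (by
      rintro _ ⟨a, ha, rfl⟩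
      rw [← map_pow, hAe a ha, map_one])
    (by
      have hinj' : Function.Injective (π.comp A.subtype) := by
        rw [injective_iff_map_eq_one]
        intro a ha
        exact Subtype.ext (hinj a a.2 ha)
      have hr : (π.comp A.subtype).range = A.map π := by
        rw [MonoidHom.range_comp, Subgroup.range_subtype]
      rw [← hr, ← hAcard]
      exact Nat.card_congr (MonoidHom.ofInjective hinj').toEquiv.symm)
    (fun h => hpN (h.trans (Subgroup.card_map_dvd N π)))
    (by
      rw [eq_bot_iff]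
      rintro y hy
      obtain ⟨⟨x, hx, rfl⟩, hyC⟩ := Subgroup.mem_inf.mp hy
      rw [Subgroup.mem_bot]
      have hVA : A ≤ normalizer (V : Set X) := by
        rw [Subgroup.normalizer_eq_top_iff.mpr hVn]; exact le_top
      have hx' : ∀ a ∈ A, x⁻¹ * (a * x * a⁻¹) ∈ V := by
        intro a ha
        rw [← hker, MonoidHom.mem_ker]
        have h1 : π a * π x = π x * π a := Subgroup.mem_centralizer_iff.mp hyC _ ⟨a, ha, rfl⟩
        simp only [map_mul, map_inv]
        rw [h1]; group
      obtain ⟨u, hu, hxu⟩ := hcop.exists_mul_mem_centralizer hVN hVA x hx hx'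
      rw [hfix, Subgroup.mem_bot] at hxu
      have h2 : π u = 1 := by rw [← MonoidHom.mem_ker, hker]; exact hu
      have h3 := congrArg π hxu
      rw [map_mul, h2, mul_one, map_one] at h3
      exact h3)
  -- pull back
  have h1 : (N.lowerCentralSeries k).lowerCentralSeries m ≤ V := by
    rw [← Subgroup.map_lowerCentralSeries, ← Subgroup.map_lowerCentralSeries,
      Subgroup.map_eq_bot_iff, hker] at hkm
    exact hkm
  obtain ⟨l, hl⟩ := lcs_le_centralizer hp hNA hsolv hAc hAe hAcard hpN hfix hVN hV1 hVc hVmin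
  refine ⟨max k l, m + 1, ?_⟩
  set M := N.lowerCentralSeries (max k l) with hM
  have hMk : M ≤ N.lowerCentralSeries k := N.lowerCentralSeries_antitone (le_max_left k l)
  have hMl : M ≤ centralizer (V : Set X) :=
    (N.lowerCentralSeries_antitone (le_max_right k l)).trans hl
  have h2 : M.lowerCentralSeries m ≤ V := (Subgroup.lowerCentralSeries_mono m hMk).trans h1
  rw [Subgroup.lowerCentralSeries_succ, eq_bot_iff]
  have h3 : ⁅V, centralizer (V : Set X)⁆ = ⊥ := by
    rw [Subgroup.commutator_eq_bot_iff_le_centralizer, Subgroup.le_centralizer_iff]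
  rw [← h3]
  exact Subgroup.commutator_mono h2 hMl

end Cfsg.Agent.Lib.Helper23.Ward
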