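import Cfsg.Agent.Lib.Helper23.WrCore
import Cfsg.Agent.Lib.Helper20.HHAbel

/-!
# Wreath sections: passing to `⟨R, x⟩` and adjusting `x`
-/

set_option autoImplicit false

namespace Cfsg.Agent.Lib.Helper23.Wr

open Cfsg Cfsg.Agent.Lib.Helper27

universe u

theorem list_prod_map_range {M : Type*} [CommMonoid M] (g : ℕ → M) (k : ℕ) :
    ((List.range k).map g).prod = ∏ i ∈ Finset.range k, g i := by
  induction k with
  | zero => simp
  | succ k ih =>
    rw [List.range_succ, List.map_append, List.prod_append, ih, Finset.prod_range_succ]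
    simp

variable {G : Type u} [Group G] {p : ℕ} [Fact p.Prime] (R : Subgroup G) [R.Normal] (x : G)
  (f : ↥R →* Multiplicative (ZMod p))

theorem involves_wr_of_char (hxR : x ∉ R) (hxp : x ^ p ∈ R) (hfx : f ⟨x ^ p, hxp⟩ = 1)
    (r₀ : ↥R) (hr₀ : ∏ i ∈ Finset.range p, f (MulAut.conjNormal (x ^ i) r₀) ≠ 1) :
    ∃ (W : Type u) (_ : Group W), IsWr p W ∧ Involves W G := by
  obtain ⟨K, hK⟩ : ∃ K : Subgroup G, K = R ⊔ Subgroup.zpowers x := ⟨_, rfl⟩
  have hRK : R ≤ K := hK ▸ le_sup_left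
  have hxK : x ∈ K :=
    hK ▸ (le_sup_right : Subgroup.zpowers x ≤ R ⊔ Subgroup.zpowers x) (Subgroup.mem_zpowers x)
  haveI hR'n : (R.subgroupOf K).Normal := Subgroup.Normal.subgroupOf inferInstance K
  let e : ↥(R.subgroupOf K) ≃* ↥R := Subgroup.subgroupOfEquivOfLe hRK
  have he : ∀ y, ((e y : ↥R) : G) = ((y : ↥K) : G) :=
    fun y => Subgroup.subgroupOfEquivOfLe_apply_coe hRK y
  let x' : ↥K := ⟨x, hxK⟩
  let f' : ↥(R.subgroupOf K) →* Multiplicative (ZMod p) := f.comp e.toMonoidHom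
  have hx'R : x' ∉ R.subgroupOf K := by
    rw [Subgroup.mem_subgroupOf]
    exact hxR
  have hx'p : x' ^ p ∈ R.subgroupOf K := by
    rw [Subgroup.mem_subgroupOf]
    exact hxp
  have hf'x : f' ⟨x' ^ p, hx'p⟩ = 1 := by
    show f (e ⟨x' ^ p, hx'p⟩) = 1
    have : e ⟨x' ^ p, hx'p⟩ = ⟨x ^ p, hxp⟩ := Subtype.ext (by rw [he]; rfl)
    rw [this, hfx]
  have hgen : R.subgroupOf K ⊔ Subgroup.zpowers x' = ⊤ := by
    apply Subgroup.map_injective K.subtype_injective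
    rw [Subgroup.map_sup, MonoidHom.map_zpowers, Subgroup.map_subgroupOf_eq_of_le hRK,
      ← MonoidHom.range_eq_map, Subgroup.range_subtype]
    exact hK.symm
  have hterm : ∀ i, f' (MulAut.conjNormal (x' ^ i) (e.symm r₀)) =
      f (MulAut.conjNormal (x ^ i) r₀) := by
    intro i
    show f (e _) = _
    congr 1
  have hr₀' : ∏ i ∈ Finset.range p, f' (MulAut.conjNormal (x' ^ i) (e.symm r₀)) ≠ 1 := by
    rw [Finset.prod_congr rfl (fun i _ => hterm i)]
    exact hr₀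
  obtain ⟨N, hN, hW⟩ := isWr_quotient (R.subgroupOf K) x' f' hx'R hx'p hf'x hgen (e.symm r₀) hr₀'
  refine ⟨↥K ⧸ N, inferInstance, hW, ?_⟩
  exact involves_of_injective K.subtype K.subtype_injective
    (involves_of_surjective (QuotientGroup.mk' N) (QuotientGroup.mk'_surjective N))

theorem involves_wr_of_norm_ne (hxR : x ∉ R) (hxp : x ^ p ∈ R)
    (r₀ : ↥R) (hr₀ : ∏ i ∈ Finset.range p, f (MulAut.conjNormal (x ^ i) r₀) ≠ 1) :
    ∃ (W : Type u) (_ : Group W), IsWr p W ∧ Involves W G := by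
  obtain ⟨a, ha⟩ : ∃ a : ZMod p,
    a = (∏ i ∈ Finset.range p, f (MulAut.conjNormal (x ^ i) r₀)).toAdd := ⟨_, rfl⟩
  have ha0 : a ≠ 0 := by
    intro h
    apply hr₀
    apply Multiplicative.toAdd.injective
    rw [← ha, h]
    rfl
  obtain ⟨b, hb⟩ : ∃ b : ZMod p, b = (f ⟨x ^ p, hxp⟩).toAdd := ⟨_, rfl⟩
  obtain ⟨c, hc⟩ : ∃ c : ℕ, (c : ZMod p) * a + b = 0 :=
    ⟨(-b * a⁻¹).val, by
      rw [ZMod.natCast_zmod_val, mul_assoc, inv_mul_cancel₀ ha0, mul_one, neg_add_cancel]⟩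
  obtain ⟨L, hLdef⟩ : ∃ L : ℕ → ↥R, L = fun k =>
    ((List.range k).map (fun i => MulAut.conjNormal (x ^ i) (r₀ ^ c))).prod := ⟨_, rfl⟩
  have hL : ∀ k, (((r₀ ^ c : ↥R) : G) * x) ^ k = (L k : G) * x ^ k := by
    intro k
    rw [hLdef]
    exact Cfsg.Agent.Lib.Helper20.HHAbel.pow_mul_eq R x (r₀ ^ c) k
  obtain ⟨y, hy⟩ : ∃ y : G, y = ((r₀ ^ c : ↥R) : G) * x := ⟨_, rfl⟩
  rw [← hy] at hL
  have hyR : y ∉ R := by
    intro h
    apply hxR
    have := R.mul_mem (R.inv_mem (r₀ ^ c).2) h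
    rwa [hy, inv_mul_cancel_left] at this
  have hyp : y ^ p ∈ R := by
    rw [hL]
    exact R.mul_mem (L p).2 hxp
  have hfy : f ⟨y ^ p, hyp⟩ = 1 := by
    have h1 : (⟨y ^ p, hyp⟩ : ↥R) = L p * ⟨x ^ p, hxp⟩ := Subtype.ext (hL p)
    rw [h1, map_mul]
    have h2 : f (L p) = (∏ i ∈ Finset.range p, f (MulAut.conjNormal (x ^ i) r₀)) ^ c := by
      rw [hLdef]
      show f ((List.range p).map _).prod = _
      rw [map_list_prod, List.map_map, list_prod_map_range, ← Finset.prod_pow]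
      apply Finset.prod_congr rfl
      intro i _
      show f (MulAut.conjNormal (x ^ i) (r₀ ^ c)) = _
      rw [map_pow, map_pow]
    rw [h2]
    apply Multiplicative.toAdd.injective
    rw [toAdd_mul, toAdd_pow, toAdd_one, nsmul_eq_mul, ← ha, ← hb]
    exact hc
  have hterm : ∀ i, f (MulAut.conjNormal (y ^ i) r₀) = f (MulAut.conjNormal (x ^ i) r₀) := by
    intro i
    have h1 : (MulAut.conjNormal (y ^ i) r₀ : ↥R) =
        L i * MulAut.conjNormal (x ^ i) r₀ * (L i)⁻¹ := by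
      apply Subtype.ext
      rw [MulAut.conjNormal_apply, hL i]
      simp only [Subgroup.coe_mul, Subgroup.coe_inv, MulAut.conjNormal_apply]
      group
    rw [h1, map_mul, map_mul, map_inv, mul_inv_cancel_comm]
  apply involves_wr_of_char R y f hyR hyp hfy r₀
  rw [Finset.prod_congr rfl (fun i _ => hterm i)]
  exact hr₀

end Cfsg.Agent.Lib.Helper23.Wr
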