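import Cfsg.Agent.Lib.Helper23.HBInd4
import Cfsg.Agent.Lib.Helper10.FrobAction

/-!
# From Theorem B to a character with nonzero norm
-/

set_option autoImplicit false

namespace Cfsg.Agent.Lib.Helper23.Wr

open Cfsg.Agent.Lib.Helper23.HB Module

/-- Theorem B for an element of order `p`, over any field of characteristic `p`. -/
theorem sub_one_pow_pred_ne_zero {F : Type*} [Field F] {p : ℕ} [Fact p.Prime] [CharP F p]
    {V : Type*} [AddCommGroup V] [Module F V] [FiniteDimensional F V]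
    {Γ : Type*} [Group Γ] (ρ : Γ →* Module.End F V) {q : ℕ} (hq : q.Prime) (hqp : q ≠ p)
    (Q : Subgroup Γ) [Finite Q] (hQ : IsPGroup q Q) (x : Γ)
    (hx : x ∈ Subgroup.normalizer (Q : Set Γ)) (hxp : ρ x ^ p = 1)
    (hy : ∃ g ∈ Q, ρ (x * g * x⁻¹) ≠ ρ g) (hexc : ∀ m : ℕ, 1 ≤ m → p - 1 ≠ q ^ m) :
    (ρ x - 1) ^ (p - 1) ≠ 0 := by
  let K := AlgebraicClosure F
  have hcharK : CharP K p := charP_of_injective_algebraMap (algebraMap F K).injective p
  let W := TensorProduct F K V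
  let bc : Module.End F V →ₐ[F] Module.End K W := Module.End.baseChangeHom F K V
  have hbcinj : Function.Injective bc := LinearMap.baseChangeHom_injective F V K
  let ρK : Γ →* Module.End K W := (bc : Module.End F V →* Module.End K W).comp ρ
  have hρK : ∀ g, ρK g = bc (ρ g) := fun g => rfl
  have h1 : ρK x ^ (p ^ 1) = 1 := by rw [pow_one, hρK, ← map_pow, hxp, map_one]
  have h2 : ∃ g ∈ Q, ρK (x ^ (p ^ (1 - 1)) * g * (x ^ (p ^ (1 - 1)))⁻¹) ≠ ρK g := by
    obtain ⟨g, hg, hne⟩ := hy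
    refine ⟨g, hg, ?_⟩
    rw [Nat.sub_self, pow_zero, pow_one]
    intro h
    exact hne (hbcinj h)
  have hres := hallHigmanC (E := K) (p := p) ρK hq hqp Q hQ x hx (le_refl 1) h1 h2
  rcases hres with h | ⟨-, n₀, m, hn1, hn2, hm, heq, -⟩
  · intro h0
    apply h
    have e : ρK x - 1 = bc (ρ x - 1) := by
      rw [map_sub, map_one]
      rfl
    rw [pow_one, e, ← map_pow, h0, map_zero]
  · have : n₀ = 1 := le_antisymm hn2 hn1
    subst this
    rw [pow_one] at heq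
    exact absurd heq (hexc m hm)

theorem not_exceptional {p : ℕ} (hp : p.Prime) (hp2 : p ≠ 2) (hnf : ¬ ∃ k : ℕ, p = 2 ^ k + 1)
    {q : ℕ} (hq : q.Prime) (m : ℕ) : p - 1 ≠ q ^ m := by
  intro h
  have hodd : Odd p := hp.odd_of_ne_two hp2
  have h2 : 2 ∣ q ^ m := by
    rw [← h]
    obtain ⟨k, hk⟩ := hodd
    exact ⟨k, by omega⟩
  have h3 : 2 ∣ q := Nat.Prime.dvd_of_dvd_pow Nat.prime_two h2
  have h4 : q = 2 := ((Nat.prime_dvd_prime_iff_eq Nat.prime_two hq).mp h3).symm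
  apply hnf
  refine ⟨m, ?_⟩
  rw [← h4, ← h]
  have := hp.pos
  omega

section inst

variable {p : ℕ} [Fact p.Prime] {L : Type*} [Group L] {M : Type*} [CommGroup M] [Finite M]
  [Module (ZMod p) (Additive M)] (ψ : L →* MulAut M)

theorem exists_char_norm_ne_aux (hp2 : p ≠ 2) (hnf : ¬ ∃ k : ℕ, p = 2 ^ k + 1)
    {q : ℕ} (hq : q.Prime) (hqp : q ≠ p) (Q : Subgroup L) [Finite Q] (hQ : IsPGroup q Q) (x : L)
    (hx : x ∈ Subgroup.normalizer (Q : Set L)) (hxp : ψ x ^ p = 1)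
    (hy : ∃ g ∈ Q, ψ (x * g * x⁻¹) ≠ ψ g) :
    ∃ (φ : M →* Multiplicative (ZMod p)) (m : M),
      ∏ i ∈ Finset.range p, φ (ψ (x ^ i) m) ≠ 1 := by
  classical
  have hp : p.Prime := Fact.out
  have hfinV : Finite (Additive M) := Finite.of_equiv M Additive.ofMul
  have hfd : Module.Finite (ZMod p) (Additive M) := Module.Finite.of_finite
  let ρ : L →* Module.End (ZMod p) (Additive M) := Cfsg.Agent.Lib.Helper10.FrobAction.actEnd ψ
  have hρ : ∀ g v, ρ g v = Additive.ofMul (ψ g (Additive.toMul v)) := fun g v => rfl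
  have hρinj : ∀ a b, ρ a = ρ b → ψ a = ψ b := by
    intro a b h
    ext m
    have := LinearMap.congr_fun h (Additive.ofMul m)
    rw [hρ, hρ] at this
    exact congrArg Additive.toMul this
  have hρxp : ρ x ^ p = 1 := by
    rw [← map_pow]
    apply LinearMap.ext
    intro v
    rw [hρ, map_pow, hxp]
    rfl
  have hy' : ∃ g ∈ Q, ρ (x * g * x⁻¹) ≠ ρ g := by
    obtain ⟨g, hg, hne⟩ := hy
    exact ⟨g, hg, fun h => hne (hρinj _ _ h)⟩
  have hne := sub_one_pow_pred_ne_zero (F := ZMod p) (p := p) ρ hq hqp Q hQ x hx hρxp hy'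
    (fun m _ => not_exceptional hp hp2 hnf hq m)
  have hgeom := geom_sum_char_pow (E := ZMod p) (p := p) (ρ x) 1
  rw [pow_one] at hgeom
  rw [← hgeom] at hne
  obtain ⟨v, hv⟩ : ∃ v, (∑ k ∈ Finset.range p, ρ x ^ k) v ≠ 0 := by
    by_contra hcon
    push Not at hcon
    apply hne
    apply LinearMap.ext
    intro v
    rw [hcon v]
    rfl
  obtain ⟨φ', hφ'⟩ : ∃ φ' : Module.Dual (ZMod p) (Additive M),
      φ' ((∑ k ∈ Finset.range p, ρ x ^ k) v) ≠ 0 := by
    by_contra hcon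
    push Not at hcon
    exact hv ((Module.forall_dual_apply_eq_zero_iff (ZMod p) _).mp hcon)
  refine ⟨AddMonoidHom.toMultiplicativeRight φ'.toAddMonoidHom, Additive.toMul v, ?_⟩
  intro h
  apply hφ'
  have h1 := congrArg Multiplicative.toAdd h
  rw [toAdd_prod, toAdd_one] at h1
  rw [LinearMap.sum_apply, map_sum, ← h1]
  apply Finset.sum_congr rfl
  intro i _
  rw [← map_pow, hρ]
  rfl

end inst

/-- the bridge, without instance arguments. -/
theorem exists_char_norm_ne {p : ℕ} [Fact p.Prime] (hp2 : p ≠ 2)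
    (hnf : ¬ ∃ k : ℕ, p = 2 ^ k + 1) {L : Type*} [Group L] {M : Type*} [Group M] [Finite M]
    (hcomm : ∀ a b : M, a * b = b * a) (hexp : ∀ a : M, a ^ p = 1) (ψ : L →* MulAut M)
    {q : ℕ} (hq : q.Prime) (hqp : q ≠ p) (Q : Subgroup L) [Finite Q] (hQ : IsPGroup q Q) (x : L)
    (hx : x ∈ Subgroup.normalizer (Q : Set L)) (hxp : ψ x ^ p = 1)
    (hy : ∃ g ∈ Q, ψ (x * g * x⁻¹) ≠ ψ g) :
    ∃ (φ : M →* Multiplicative (ZMod p)) (m : M),
      ∏ i ∈ Finset.range p, φ (ψ (x ^ i) m) ≠ 1 := by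
  let iC : CommGroup M := { (inferInstance : Group M) with mul_comm := hcomm }
  let iM : @Module (ZMod p) (Additive M) _
      (@AddCommGroup.toAddCommMonoid _ (@Additive.addCommGroup _ iC)) :=
    @AddCommGroup.zmodModule p (Additive M) (@Additive.addCommGroup _ iC) (by
      intro x
      show Additive.ofMul ((Additive.toMul x) ^ p) = 0
      rw [hexp]
      rfl)
  exact @exists_char_norm_ne_aux p _ L _ M iC _ iM ψ hp2 hnf q hq hqp Q _ hQ x hx hxp hy

end Cfsg.Agent.Lib.Helper23.Wr
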