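import Cfsg.Agent.Lib.Helper23.WrSec

/-!
# The quotient `⟨R, x⟩ / ker Λ` is `C_p ≀ C_p`
-/

set_option autoImplicit false

namespace Cfsg.Agent.Lib.Helper23.Wr

open Cfsg

universe u

section core

variable {G : Type u} [Group G] {p : ℕ} [Fact p.Prime] (R : Subgroup G) [R.Normal] (x : G)
  (f : ↥R →* Multiplicative (ZMod p))

theorem pow_prime_eq_one (a : Fin p → Multiplicative (ZMod p)) : a ^ p = 1 := by
  funext i
  rw [Pi.pow_apply, Pi.one_apply]
  have h : Nat.card (Multiplicative (ZMod p)) = p := by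
    rw [Nat.card_congr Multiplicative.toAdd, Nat.card_zmod]
  have := pow_card_eq_one' (G := Multiplicative (ZMod p)) (x := a i)
  rwa [h] at this

omit [Fact p.Prime] in
theorem card_fun : Nat.card (Fin p → Multiplicative (ZMod p)) = p ^ p := by
  rw [Nat.card_fun, Nat.card_fin, Nat.card_congr Multiplicative.toAdd, Nat.card_zmod]

theorem isWr_quotient_aux (hxR : x ∉ R) (hxp : x ^ p ∈ R) (hfx : f ⟨x ^ p, hxp⟩ = 1)
    (hgen : R ⊔ Subgroup.zpowers x = ⊤) (r₀ : ↥R)
    (hr₀ : ∏ i ∈ Finset.range p, f (MulAut.conjNormal (x ^ i) r₀) ≠ 1)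
    (N : Subgroup G) [N.Normal] (hNdef : N = Rn R x f) : IsWr p (G ⧸ N) := by
  have hp : p.Prime := Fact.out
  have hsurj : Function.Surjective (lam R x f) := lam_surjective R x f hxp r₀ hr₀
  have hNR : N ≤ R := hNdef ▸ Rn_le R x f
  have hmemN : ∀ s : ↥R, (s : G) ∈ N ↔ lam R x f s = 1 := by
    intro s
    rw [hNdef]
    exact coe_mem_Rn_iff R x f s
  let π : G →* G ⧸ N := QuotientGroup.mk' N
  have hπ1 : ∀ g : G, π g = 1 ↔ g ∈ N := fun g => QuotientGroup.eq_one_iff g
  let πR : ↥R →* G ⧸ N := π.comp R.subtype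
  have hker : (lam R x f).ker ≤ πR.ker := by
    intro r hr
    rw [MonoidHom.mem_ker]
    show π (r : G) = 1
    rw [hπ1, hmemN]
    exact MonoidHom.mem_ker.mp hr
  let ι : (Fin p → Multiplicative (ZMod p)) →* G ⧸ N :=
    (lam R x f).liftOfSurjective hsurj ⟨πR, hker⟩
  have hι : ∀ r : ↥R, ι (lam R x f r) = π (r : G) := fun r =>
    MonoidHom.liftOfRightInverse_comp_apply _ _ _ ⟨πR, hker⟩ r
  have hιinj : Function.Injective ι := by
    rw [injective_iff_map_eq_one]
    intro w hw
    obtain ⟨r, rfl⟩ := hsurj w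
    rw [hι, hπ1, hmemN] at hw
    exact hw
  have hrange : ι.range = R.map π := by
    ext w
    constructor
    · rintro ⟨v, rfl⟩
      obtain ⟨r, rfl⟩ := hsurj v
      rw [hι]
      exact Subgroup.mem_map_of_mem π r.2
    · rintro ⟨g, hg, rfl⟩
      exact ⟨lam R x f ⟨g, hg⟩, hι ⟨g, hg⟩⟩
  have hcomm_iff : ∀ r : ↥R, π x * π (r : G) = π (r : G) * π x ↔
      ∀ i, lam R x f r (i + 1) = lam R x f r i := by
    intro r
    have h1 : π x * π (r : G) = π (r : G) * π x ↔
        π (r : G) = π ((MulAut.conjNormal x r : ↥R) : G) := by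
      rw [MulAut.conjNormal_apply, map_mul, map_mul, map_inv]
      constructor
      · intro h
        rw [h]
        group
      · intro h
        calc π x * π (r : G) = (π x * π (r : G) * (π x)⁻¹) * π x := by group
          _ = π (r : G) * π x := by rw [← h]
    rw [h1]
    have h2 : π (r : G) = π ((MulAut.conjNormal x r : ↥R) : G) ↔
        ((r⁻¹ * MulAut.conjNormal x r : ↥R) : G) ∈ N := by
      rw [Subgroup.coe_mul, Subgroup.coe_inv]
      exact QuotientGroup.eq
    rw [h2, hmemN, map_mul, map_inv, inv_mul_eq_one]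
    constructor
    · intro h i
      rw [← lam_conj R x f hxp, ← h]
    · intro h
      funext i
      rw [lam_conj R x f hxp, h]
  refine ⟨ι.range, π x, ?_, ?_, ?_, ?_, ?_, ?_, ?_, ?_⟩
  · rw [hrange]
    exact Subgroup.Normal.map inferInstance π (QuotientGroup.mk'_surjective N)
  · constructor
    constructor
    rintro ⟨_, a, rfl⟩ ⟨_, b, rfl⟩
    apply Subtype.ext
    show ι a * ι b = ι b * ι a
    rw [← map_mul, ← map_mul, mul_comm]
  · rintro _ ⟨a, rfl⟩
    rw [← map_pow, pow_prime_eq_one, map_one]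
  · rw [← Nat.card_congr (MonoidHom.ofInjective hιinj).toEquiv, card_fun]
  · apply orderOf_eq_prime
    · rw [← map_pow, hπ1]
      have h1 := (hmemN ⟨x ^ p, hxp⟩).mpr (by
        funext i
        rw [lam_apply, tw_apply]
        have e : (MulAut.conjNormal (x ^ (i : ℕ)) (⟨x ^ p, hxp⟩ : ↥R) : ↥R) = ⟨x ^ p, hxp⟩ := by
          apply Subtype.ext
          rw [MulAut.conjNormal_apply]
          show x ^ (i : ℕ) * x ^ p * (x ^ (i : ℕ))⁻¹ = x ^ p
          rw [← pow_add, add_comm, pow_add, mul_inv_cancel_right]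
        rw [e, hfx]
        rfl)
      exact h1
    · intro h
      exact hxR (hNR ((hπ1 x).mp h))
  · rw [hrange]
    rintro ⟨g, hg, hgx⟩
    have h1 : g⁻¹ * x ∈ N := QuotientGroup.eq.mp hgx
    have h2 := R.mul_mem hg (hNR h1)
    rw [mul_inv_cancel_left] at h2
    exact hxR h2
  · rw [← Subgroup.index_mul_card ι.range,
      ← Nat.card_congr (MonoidHom.ofInjective hιinj).toEquiv, card_fun, hrange,
      Subgroup.index_map_eq R (QuotientGroup.mk'_surjective N)
        (by rw [QuotientGroup.ker_mk']; exact hNR),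
      index_eq_prime R x hxR hxp hgen, pow_succ, mul_comm]
  · let Δ : Multiplicative (ZMod p) →* (Fin p → Multiplicative (ZMod p)) :=
      Pi.constMonoidHom (Fin p) (Multiplicative (ZMod p))
    have hΔ : ∀ c i, Δ c i = c := fun c i => rfl
    have hΔinj : Function.Injective (ι.comp Δ) := by
      apply hιinj.comp
      intro c d hcd
      have := congrFun hcd 0
      rwa [hΔ, hΔ] at this
    have hset : ι.range ⊓ Subgroup.centralizer ({π x} : Set (G ⧸ N)) = (ι.comp Δ).range := by
      ext w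
      rw [Subgroup.mem_inf, Subgroup.mem_centralizer_iff]
      constructor
      · rintro ⟨⟨v, rfl⟩, hc⟩
        obtain ⟨r, rfl⟩ := hsurj v
        have hc' := hc (π x) (Set.mem_singleton _)
        rw [hι] at hc'
        have hconst := (hcomm_iff r).mp hc'
        have hall : ∀ n : ℕ, ∀ h : n < p, lam R x f r ⟨n, h⟩ = lam R x f r 0 := by
          intro n
          induction n with
          | zero => intro h; rfl
          | succ n ih =>
            intro h
            have h1 : (⟨n + 1, h⟩ : Fin p) = ⟨n, by omega⟩ + 1 := by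
              apply Fin.ext
              rw [Fin.val_add, Fin.val_one', Nat.add_mod_mod]
              exact (Nat.mod_eq_of_lt h).symm
            rw [h1, hconst, ih]
        refine ⟨lam R x f r 0, ?_⟩
        rw [MonoidHom.comp_apply]
        congr 1
        funext i
        rw [hΔ]
        exact (hall i.val i.2).symm
      · rintro ⟨c, rfl⟩
        refine ⟨⟨Δ c, rfl⟩, ?_⟩
        intro h hh
        rw [Set.mem_singleton_iff] at hh
        rw [hh, MonoidHom.comp_apply]
        obtain ⟨r, hr⟩ := hsurj (Δ c)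
        rw [← hr, hι]
        apply (hcomm_iff r).mpr
        intro i
        rw [hr, hΔ, hΔ]
    rw [hset, ← Nat.card_congr (MonoidHom.ofInjective hΔinj).toEquiv,
      Nat.card_congr Multiplicative.toAdd, Nat.card_zmod]

theorem isWr_quotient (hxR : x ∉ R) (hxp : x ^ p ∈ R) (hfx : f ⟨x ^ p, hxp⟩ = 1)
    (hgen : R ⊔ Subgroup.zpowers x = ⊤) (r₀ : ↥R)
    (hr₀ : ∏ i ∈ Finset.range p, f (MulAut.conjNormal (x ^ i) r₀) ≠ 1) :
    ∃ (N : Subgroup G) (_ : N.Normal), IsWr p (G ⧸ N) := by
  haveI hN : (Rn R x f).Normal := Rn_normal R x f hxp hgen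
  exact ⟨Rn R x f, hN, isWr_quotient_aux R x f hxR hxp hfx hgen r₀ hr₀ (Rn R x f) rfl⟩

end core

end Cfsg.Agent.Lib.Helper23.Wr
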