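import Cfsg.Agent.Lib.Helper23.HBFinalB

/-!
# Cyclic shift on `Fin p → ZMod p`: invariant subspaces containing a vector of nonzero sum
-/

set_option autoImplicit false

namespace Cfsg.Agent.Lib.Helper23.Wr

open Module
open Cfsg.Agent.Lib.Helper23.HB
open scoped Fin.CommRing

/-- the vectors `T^j z`, `j ≤ k`, are linearly independent if `T^k z ≠ 0 = T^(k+1) z`. -/
theorem linearIndependent_pow_apply {F M : Type*} [Field F] [AddCommGroup M] [Module F M]
    (T : Module.End F M) (z : M) (k : ℕ) (hk : (T ^ k) z ≠ 0) (hk1 : (T ^ (k + 1)) z = 0) :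
    LinearIndependent F (fun j : Fin (k + 1) => (T ^ (j : ℕ)) z) := by
  classical
  rw [Fintype.linearIndependent_iff]
  intro a ha
  by_contra hcon
  push Not at hcon
  have hex : ∃ j : ℕ, ∃ h : j < k + 1, a ⟨j, h⟩ ≠ 0 := by
    obtain ⟨i, hi⟩ := hcon
    exact ⟨i.val, i.2, hi⟩
  let j₀ := Nat.find hex
  obtain ⟨hj₀, haj₀⟩ := Nat.find_spec hex
  have hmin : ∀ j : Fin (k + 1), (j : ℕ) < j₀ → a j = 0 := by
    intro j hj
    by_contra hne
    exact Nat.find_min hex hj ⟨j.2, hne⟩
  have hhigh : ∀ m : ℕ, k + 1 ≤ m → (T ^ m) z = 0 := by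
    intro m hm
    obtain ⟨c, rfl⟩ := Nat.exists_eq_add_of_le hm
    rw [add_comm, pow_add, Module.End.mul_apply, hk1, map_zero]
  have h1 := congrArg (T ^ (k - j₀)) ha
  rw [map_sum, map_zero] at h1
  have h2 : ∀ j : Fin (k + 1), (T ^ (k - j₀)) (a j • (T ^ (j : ℕ)) z)
      = if (j : ℕ) = j₀ then a j • (T ^ k) z else 0 := by
    intro j
    rw [map_smul, ← Module.End.mul_apply, ← pow_add]
    split_ifs with hj
    · rw [hj, Nat.sub_add_cancel (by omega)]
    · rcases lt_or_gt_of_ne hj with hlt | hgt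
      · rw [hmin j hlt, zero_smul]
      · rw [hhigh _ (by omega), smul_zero]
  rw [Finset.sum_congr rfl (fun j _ => h2 j)] at h1
  rw [Finset.sum_eq_single (⟨j₀, hj₀⟩ : Fin (k + 1))] at h1
  · rw [if_pos rfl] at h1
    rcases smul_eq_zero.mp h1 with h | h
    · exact haj₀ h
    · exact hk h
  · intro b _ hb
    rw [if_neg]
    intro h
    exact hb (Fin.ext h)
  · intro h
    exact absurd (Finset.mem_univ _) h

variable {p : ℕ} [Fact p.Prime]

/-- the cyclic shift on `Fin p → ZMod p`. -/
noncomputable def shift (p : ℕ) [Fact p.Prime] : Module.End (ZMod p) (Fin p → ZMod p) :=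
  LinearMap.funLeft (ZMod p) (ZMod p) (fun i : Fin p => i + 1)

theorem shift_apply (v : Fin p → ZMod p) (i : Fin p) : shift p v i = v (i + 1) := rfl

theorem shift_pow_apply (k : ℕ) (v : Fin p → ZMod p) (i : Fin p) :
    (shift p ^ k) v i = v (i + (k : Fin p)) := by
  induction k generalizing v with
  | zero => simp
  | succ k ih =>
    rw [pow_succ, Module.End.mul_apply, ih, shift_apply, Nat.cast_succ, add_assoc]

theorem shift_pow_prime : shift p ^ p = 1 := by
  apply LinearMap.ext
  intro v
  funext i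
  rw [shift_pow_apply, Fin.natCast_self, add_zero, Module.End.one_apply]

theorem shift_sub_one_pow_prime : (shift p - 1) ^ p = 0 := by
  have h := sub_one_pow_char_pow_alg (E := ZMod p) (p := p) (shift p) 1
  rw [pow_one] at h
  rw [h, shift_pow_prime, sub_self]

theorem shift_sub_one_pow_pred (z : Fin p → ZMod p) :
    ((shift p - 1) ^ (p - 1)) z = fun _ => ∑ i, z i := by
  have h := geom_sum_char_pow (E := ZMod p) (p := p) (shift p) 1
  rw [pow_one] at h
  rw [← h]
  funext i
  rw [LinearMap.sum_apply, Finset.sum_apply]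
  simp only [shift_pow_apply]
  rw [← Fin.sum_univ_eq_sum_range (fun k => z (i + (k : Fin p))) p]
  simp only [Fin.cast_val_eq_self]
  exact Equiv.sum_comp (Equiv.addLeft i) z

/-- a shift-invariant subspace containing a vector with nonzero coordinate sum is everything. -/
theorem shift_invariant_eq_top (I : Submodule (ZMod p) (Fin p → ZMod p))
    (hI : ∀ v ∈ I, (fun i => v (i + 1)) ∈ I) (z : Fin p → ZMod p) (hz : z ∈ I)
    (hsum : ∑ i, z i ≠ 0) : I = ⊤ := by
  have hp : p.Prime := Fact.out
  have hT : ∀ v ∈ I, (shift p - 1) v ∈ I := by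
    intro v hv
    rw [LinearMap.sub_apply, Module.End.one_apply]
    exact I.sub_mem (hI v hv) hv
  have hTj : ∀ j : ℕ, ∀ v ∈ I, ((shift p - 1) ^ j) v ∈ I := by
    intro j
    induction j with
    | zero => intro v hv; simpa using hv
    | succ j ih =>
      intro v hv
      rw [pow_succ', Module.End.mul_apply]
      exact hT _ (ih v hv)
  have h1 : ((shift p - 1) ^ (p - 1)) z ≠ 0 := by
    rw [shift_sub_one_pow_pred]
    intro h
    exact hsum (congrFun h 0)
  have h2 : ((shift p - 1) ^ (p - 1 + 1)) z = 0 := by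
    rw [Nat.sub_add_cancel hp.pos, shift_sub_one_pow_prime, LinearMap.zero_apply]
  have hli := linearIndependent_pow_apply (shift p - 1) z (p - 1) h1 h2
  have hspan := hli.span_eq_top_of_card_eq_finrank' (by
    rw [Fintype.card_fin, Module.finrank_fin_fun, Nat.sub_add_cancel hp.pos])
  rw [eq_top_iff, ← hspan, Submodule.span_le]
  rintro _ ⟨j, rfl⟩
  exact hTj _ z hz

end Cfsg.Agent.Lib.Helper23.Wr
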