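import Cfsg.Agent.Lib.Helper23.WrAdj
import Cfsg.Agent.Lib.Helper23.WrBridge
import Cfsg.Agent.Lib.Helper23.HBGroup
import Cfsg.Agent.Lib.Helper20.HHAbelMain

/-!
# `p`-length one when `C_p ≀ C_p` is not involved (`p` odd, not a Fermat prime)
-/

set_option autoImplicit false

namespace Cfsg.Agent.Lib.Helper23.Wr

open Cfsg Subgroup Cfsg.Agent.Lib.Helper27 Cfsg.Agent.Lib.Helper20.HHAbel
  Cfsg.Agent.Lib.Helper20.PLen

universe u

variable {p : ℕ} [Fact p.Prime]

/-- the case `O_{p'}(H) = 1`: if `H / O_p(H)` has order divisible by `p`, a wreath section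
appears. -/
theorem exists_wr_of_dvd {H : Type u} [Group H] [Finite H] (hp2 : p ≠ 2)
    (hnf : ¬ ∃ k : ℕ, p = 2 ^ k + 1) (hsol : IsPSolvable p H) (hO : pPrimeCore p H = ⊥)
    (hdvd : p ∣ Nat.card (H ⧸ pCore p H)) :
    ∃ (W : Type u) (_ : Group W), IsWr p W ∧ Involves W H := by
  classical
  have hp : p.Prime := Fact.out
  obtain ⟨R, hRdef⟩ : ∃ R : Subgroup H, R = pCore p H := ⟨_, rfl⟩
  haveI hRn : R.Normal := by rw [hRdef]; infer_instance
  have hRp : IsPGroup p R := by rw [hRdef]; exact Cfsg.H5.pCore_isPGroup p H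
  have hker : (frat R).ker ≤ R := by
    subst hRdef
    exact frat_ker_le hsol hO
  have hOpH : pCore p (H ⧸ R) = ⊥ := by
    subst hRdef
    exact pCore_quot_eq_bot
  have hdvd' : p ∣ Nat.card (H ⧸ R) := by
    subst hRdef
    exact hdvd
  have hsolb : IsPSolvable p (H ⧸ R) := Cfsg.H5.isPSolvable_quotient R hsol
  obtain ⟨xb, hxb⟩ := exists_prime_orderOf_dvd_card' p hdvd'
  obtain ⟨q, Q, hq, hqp, hQ, hxQ, g, hg, hgy⟩ :=
    Cfsg.Agent.Lib.Helper23.HB.exists_invariant_qsubgroup hsolb hOpH xb (le_refl 1)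
      (by rw [pow_one]; exact hxb)
  rw [Nat.sub_self, pow_zero, pow_one] at hgy
  -- the Frattini quotient
  have hVcommI : IsMulCommutative (↥R ⧸ frattini ↥R) :=
    (Subgroup.Normal.quotient_commutative_iff_commutator_le).mpr
      (Cfsg.Agent.Lib.Helper1.IsPGroup.commutator_le_frattini hRp)
  have hVcomm : ∀ a b : ↥R ⧸ frattini ↥R, a * b = b * a :=
    fun a b => hVcommI.is_comm.comm a b
  have hVexp : ∀ a : ↥R ⧸ frattini ↥R, a ^ p = 1 := by
    intro a
    obtain ⟨r, rfl⟩ := QuotientGroup.mk_surjective a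
    rw [← QuotientGroup.mk_pow, QuotientGroup.eq_one_iff]
    exact Cfsg.Agent.Lib.Helper1.IsPGroup.pow_mem_frattini hRp r
  have hRker : R ≤ (frat R).ker := by
    intro r hr
    rw [MonoidHom.mem_ker]
    ext v
    obtain ⟨s, rfl⟩ := QuotientGroup.mk_surjective v
    rw [frat_mk, MulAut.one_apply]
    have e : (MulAut.conjNormal r s : ↥R) = (⟨r, hr⟩ : ↥R) * s * (⟨r, hr⟩ : ↥R)⁻¹ := by
      apply Subtype.ext; simp [MulAut.conjNormal_apply]
    rw [e, QuotientGroup.mk_mul, QuotientGroup.mk_mul, QuotientGroup.mk_inv,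
      hVcomm (QuotientGroup.mk ⟨r, hr⟩) (QuotientGroup.mk s), mul_inv_cancel_right]
  obtain ⟨ψb, hψb_mk⟩ : ∃ ψb : H ⧸ R →* MulAut (↥R ⧸ frattini ↥R),
      ∀ g : H, ψb (QuotientGroup.mk' R g) = frat R g :=
    ⟨QuotientGroup.lift R (frat R) hRker, fun g => QuotientGroup.lift_mk R hRker g⟩
  have hψbinj : Function.Injective ψb := by
    rw [injective_iff_map_eq_one]
    intro a ha
    obtain ⟨g, rfl⟩ := QuotientGroup.mk'_surjective R a
    rw [hψb_mk] at ha
    exact (QuotientGroup.eq_one_iff g).mpr (hker (MonoidHom.mem_ker.mpr ha))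
  have hxbp : xb ^ p = 1 := by rw [← hxb]; exact pow_orderOf_eq_one xb
  obtain ⟨φ, m, hφ⟩ := exists_char_norm_ne hp2 hnf hVcomm hVexp ψb hq hqp Q hQ xb hxQ
    (by rw [← map_pow, hxbp, map_one])
    ⟨g, hg, fun h => hgy (hψbinj h)⟩
  obtain ⟨x, rfl⟩ := QuotientGroup.mk'_surjective R xb
  obtain ⟨r₀, rfl⟩ := QuotientGroup.mk_surjective m
  have hxR : x ∉ R := by
    intro h
    have h1 : QuotientGroup.mk' R x = 1 := (QuotientGroup.eq_one_iff x).mpr h
    rw [h1, orderOf_one] at hxb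
    exact hp.one_lt.ne hxb
  have hxp : x ^ p ∈ R := by
    rw [← map_pow] at hxbp
    exact (QuotientGroup.eq_one_iff _).mp hxbp
  apply involves_wr_of_norm_ne R x (φ.comp (QuotientGroup.mk' (frattini ↥R))) hxR hxp r₀
  intro h
  apply hφ
  rw [← h]
  apply Finset.prod_congr rfl
  intro i _
  rw [← map_pow, hψb_mk]
  rfl

/-- main theorem. -/
theorem pLengthLE_one_of_wr_free {G : Type u} [Group G] [Finite G] (hp2 : p ≠ 2)
    (hnf : ¬ ∃ k : ℕ, p = 2 ^ k + 1) (hsol : IsPSolvable p G)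
    (hfree : ∀ (W : Type u) [Group W], IsWr p W → ¬ Involves W G) : PLengthLE p 1 G := by
  have hp : p.Prime := Fact.out
  have hsolb : IsPSolvable p (G ⧸ pPrimeCore p G) :=
    Cfsg.H5.isPSolvable_quotient (pPrimeCore p G) hsol
  have hOb : pPrimeCore p (G ⧸ pPrimeCore p G) = ⊥ :=
    Cfsg.Agent.Lib.Helper10.pPrimeCore_quotient_eq_bot p
  have hcop : (Nat.card ((G ⧸ pPrimeCore p G) ⧸ pCore p (G ⧸ pPrimeCore p G))).Coprime p := by
    apply Nat.Coprime.symm
    rw [Nat.Prime.coprime_iff_not_dvd hp]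
    intro hdvd
    obtain ⟨W, hWg, hW, hinv⟩ := exists_wr_of_dvd hp2 hnf hsolb hOb hdvd
    exact hfree W hW (involves_trans hinv
      (involves_of_surjective (QuotientGroup.mk' (pPrimeCore p G))
        (QuotientGroup.mk'_surjective _)))
  have h0 : PLengthLE p 0 ↥(pPrimeCore p G) := by
    rw [pLengthLE_zero_iff]
    exact Cfsg.H5.coprime_card_pPrimeCore p G
  have h1 : PLengthLE p 1 (G ⧸ pPrimeCore p G) := by
    have h2 : PLengthLE p 1 ↥(pCore p (G ⧸ pPrimeCore p G)) :=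
      pLengthLE_one_of_isPGroup (Cfsg.H5.pCore_isPGroup p _)
    have h3 : PLengthLE p 0 ((G ⧸ pPrimeCore p G) ⧸ pCore p (G ⧸ pPrimeCore p G)) :=
      pLengthLE_zero_iff.mpr hcop
    exact pLengthLE_of_extension _ h2 h3
  have := pLengthLE_of_extension (pPrimeCore p G) h0 h1
  simpa using this

end Cfsg.Agent.Lib.Helper23.Wr
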