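import Cfsg.Agent.Lib.Helper23.WrLin
import Cfsg.Agent.Lib.Helper27.Involves

/-!
# Wreath-product sections `C_p ≀ C_p` from a character with nonzero norm
-/

set_option autoImplicit false

namespace Cfsg.Agent.Lib.Helper23.Wr

open Cfsg

universe u

/-- the structural description of `C_p ≀ C_p` used in the statements. -/
def IsWr (p : ℕ) (W : Type*) [Group W] : Prop :=
  ∃ (B : Subgroup W) (t : W), B.Normal ∧ IsMulCommutative B ∧ (∀ b ∈ B, b ^ p = 1) ∧
    Nat.card B = p ^ p ∧ orderOf t = p ∧ t ∉ B ∧ Nat.card W = p ^ (p + 1) ∧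
    Nat.card ↥(B ⊓ Subgroup.centralizer ({t} : Set W)) = p

theorem IsWr.of_mulEquiv {p : ℕ} {W W' : Type*} [Group W] [Group W'] (e : W ≃* W')
    (h : IsWr p W) : IsWr p W' := by
  obtain ⟨B, t, hBn, hBc, hBp, hBcard, ht, htB, hW, hC⟩ := h
  refine ⟨B.comap e.symm.toMonoidHom, e t, ?_, ?_, ?_, ?_, ?_, ?_, ?_, ?_⟩
  · exact hBn.comap _
  · constructor
    constructor
    rintro ⟨a, ha⟩ ⟨b, hb⟩
    apply Subtype.ext
    have h1 := hBc.is_comm.comm (⟨e.symm a, ha⟩ : B) ⟨e.symm b, hb⟩
    have h2 : e.symm a * e.symm b = e.symm b * e.symm a := congrArg Subtype.val h1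
    apply e.symm.injective
    show e.symm (a * b) = e.symm (b * a)
    rw [map_mul, map_mul, h2]
  · intro b hb
    apply e.symm.injective
    rw [map_pow, map_one]
    exact hBp _ hb
  · rw [← hBcard]
    exact Nat.card_congr (Equiv.subtypeEquiv e.symm.toEquiv (fun a => Iff.rfl))
  · rw [← ht]
    exact e.orderOf_eq t
  · intro h
    apply htB
    have h1 : e.symm (e t) ∈ B := h
    rwa [MulEquiv.symm_apply_apply] at h1
  · rw [← hW]
    exact Nat.card_congr e.symm.toEquiv
  · rw [← hC]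
    refine Nat.card_congr (Equiv.subtypeEquiv e.symm.toEquiv (fun a => ?_))
    simp only [Subgroup.mem_inf, Subgroup.mem_centralizer_iff, Set.mem_singleton_iff, forall_eq]
    constructor
    · rintro ⟨h1, h2⟩
      refine ⟨h1, ?_⟩
      have := congrArg e.symm h2
      rw [map_mul, map_mul, MulEquiv.symm_apply_apply] at this
      exact this
    · rintro ⟨h1, h2⟩
      refine ⟨h1, ?_⟩
      apply e.symm.injective
      rw [map_mul, map_mul, MulEquiv.symm_apply_apply]
      exact h2

/-- a copy of `Fin n` without algebraic structure. -/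
def SmallCarrier (n : ℕ) : Type := Fin n

/-- a finite wreath section can be realized in the lowest universe. -/
theorem IsWr.exists_small {p : ℕ} [Fact p.Prime] {W' : Type*} [Group W'] (h : IsWr p W')
    {H : Type*} [Group H] (hinv : Involves W' H) :
    ∃ (W : Type) (_ : Group W) (_ : Finite W), IsWr p W ∧ Involves W H := by
  have hcard : Nat.card W' ≠ 0 := by
    obtain ⟨B, t, -, -, -, -, -, -, hW, -⟩ := h
    rw [hW]
    exact pow_ne_zero _ (Fact.out : p.Prime).ne_zero
  have hfin : Finite W' := Nat.finite_of_card_ne_zero hcard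
  let e : SmallCarrier (Nat.card W') ≃ W' := (Finite.equivFin W').symm
  letI : Group (SmallCarrier (Nat.card W')) := e.group
  let e' : SmallCarrier (Nat.card W') ≃* W' := e.mulEquiv
  have hfin' : Finite (SmallCarrier (Nat.card W')) := Finite.of_equiv W' e.symm
  refine ⟨SmallCarrier (Nat.card W'), inferInstance, hfin', h.of_mulEquiv e'.symm, ?_⟩
  obtain ⟨K, φ, hφ⟩ := Cfsg.Agent.Lib.Helper27.involves_iff.mp hinv
  exact Cfsg.Agent.Lib.Helper27.involves_iff.mpr
    ⟨K, e'.symm.toMonoidHom.comp φ, e'.symm.surjective.comp hφ⟩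

section core

variable {G : Type u} [Group G] {p : ℕ} [Fact p.Prime] (R : Subgroup G) [R.Normal] (x : G)
  (f : ↥R →* Multiplicative (ZMod p))

/-- the twisted characters `r ↦ f (x^n r x^{-n})`. -/
def tw (n : ℕ) : ↥R →* Multiplicative (ZMod p) :=
  f.comp (MulAut.conjNormal (x ^ n) : ↥R ≃* ↥R).toMonoidHom

theorem tw_apply (n : ℕ) (r : ↥R) : tw R x f n r = f (MulAut.conjNormal (x ^ n) r) := rfl

theorem tw_add_prime (hxp : x ^ p ∈ R) (n : ℕ) : tw R x f (n + p) = tw R x f n := by
  apply MonoidHom.ext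
  intro r
  have e : (MulAut.conjNormal (x ^ p) r : ↥R) = (⟨x ^ p, hxp⟩ : ↥R) * r * (⟨x ^ p, hxp⟩ : ↥R)⁻¹ := by
    apply Subtype.ext
    rw [MulAut.conjNormal_apply]
    rfl
  have h1 : tw R x f (n + p) r = tw R x f n (MulAut.conjNormal (x ^ p) r) := by
    rw [tw_apply, tw_apply, pow_add, map_mul, MulAut.mul_apply]
  rw [h1, e, map_mul, map_mul, map_inv, mul_inv_cancel_comm]

theorem tw_mod (hxp : x ^ p ∈ R) (n : ℕ) : tw R x f (n % p) = tw R x f n := by
  have h : ∀ k m, tw R x f (m + p * k) = tw R x f m := by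
    intro k
    induction k with
    | zero => intro m; simp
    | succ k ih =>
      intro m
      rw [Nat.mul_succ, ← add_assoc, tw_add_prime R x f hxp, ih]
  conv_rhs => rw [← Nat.mod_add_div n p]
  exact (h _ _).symm

/-- all twisted characters together. -/
def lam : ↥R →* (Fin p → Multiplicative (ZMod p)) := MonoidHom.pi (fun i => tw R x f i.val)

theorem lam_apply (r : ↥R) (i : Fin p) : lam R x f r i = tw R x f i.val r := rfl

theorem lam_conj (hxp : x ^ p ∈ R) (r : ↥R) (i : Fin p) :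
    lam R x f (MulAut.conjNormal x r) i = lam R x f r (i + 1) := by
  rw [lam_apply, lam_apply]
  have h1 : tw R x f i.val (MulAut.conjNormal x r) = tw R x f (i.val + 1) r := by
    rw [tw_apply, tw_apply, pow_succ, map_mul, MulAut.mul_apply]
  rw [h1, ← tw_mod R x f hxp (i.val + 1)]
  congr 2
  rw [Fin.val_add, Fin.val_one', Nat.add_mod_mod]

theorem lam_conj_mem (s r : ↥R) : lam R x f (MulAut.conjNormal (s : G) r) = lam R x f r := by
  have e : (MulAut.conjNormal (s : G) r : ↥R) = s * r * s⁻¹ := by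
    apply Subtype.ext
    rw [MulAut.conjNormal_apply]
    rfl
  rw [e, map_mul, map_mul, map_inv, mul_inv_cancel_comm]

theorem lam_surjective (hxp : x ^ p ∈ R) (r₀ : ↥R)
    (hr₀ : ∏ i ∈ Finset.range p, f (MulAut.conjNormal (x ^ i) r₀) ≠ 1) :
    Function.Surjective (lam R x f) := by
  let A : AddSubgroup (Fin p → ZMod p) :=
    { carrier := {v | ∃ r : ↥R, ∀ i, lam R x f r i = Multiplicative.ofAdd (v i)}
      zero_mem' := ⟨1, fun i => by rw [map_one]; rfl⟩
      add_mem' := by
        rintro v w ⟨r, hr⟩ ⟨s, hs⟩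
        exact ⟨r * s, fun i => by rw [map_mul, Pi.mul_apply, hr, hs]; rfl⟩
      neg_mem' := by
        rintro v ⟨r, hr⟩
        exact ⟨r⁻¹, fun i => by rw [map_inv, Pi.inv_apply, hr]; rfl⟩ }
  have hA : ∀ v, v ∈ A ↔ ∃ r : ↥R, ∀ i, lam R x f r i = Multiplicative.ofAdd (v i) :=
    fun v => Iff.rfl
  let I := AddSubgroup.toZModSubmodule p A
  have hI : ∀ v, v ∈ I ↔ v ∈ A := fun v => AddSubgroup.mem_toZModSubmodule p
  have htop : I = ⊤ := by
    apply shift_invariant_eq_top I ?_ (fun i => (lam R x f r₀ i).toAdd) ?_ ?_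
    · intro v hv
      rw [hI, hA] at hv ⊢
      obtain ⟨r, hr⟩ := hv
      exact ⟨MulAut.conjNormal x r, fun i => by rw [lam_conj R x f hxp, hr]⟩
    · rw [hI, hA]
      exact ⟨r₀, fun i => rfl⟩
    · intro h
      apply hr₀
      have h2 : (∏ i ∈ Finset.range p, tw R x f i r₀) = 1 := by
        rw [← Fin.prod_univ_eq_prod_range (fun i => tw R x f i r₀) p]
        apply Multiplicative.toAdd.injective
        rw [toAdd_prod, toAdd_one]
        exact h
      exact h2
  intro w
  have hw : (fun i => (w i).toAdd) ∈ I := by rw [htop]; trivial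
  rw [hI, hA] at hw
  obtain ⟨r, hr⟩ := hw
  exact ⟨r, funext fun i => by rw [hr]; rfl⟩

/-- the kernel of `lam`, as a subgroup of `G`. -/
def Rn : Subgroup G := (lam R x f).ker.map R.subtype

theorem coe_mem_Rn_iff (s : ↥R) : (s : G) ∈ Rn R x f ↔ lam R x f s = 1 := by
  constructor
  · rintro ⟨s', hs', h⟩
    have : s' = s := Subtype.ext h
    rw [← this]
    exact MonoidHom.mem_ker.mp hs'
  · intro h
    exact ⟨s, MonoidHom.mem_ker.mpr h, rfl⟩

theorem Rn_le : Rn R x f ≤ R := Subgroup.map_subtype_le _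

theorem mem_normalizer_Rn (g : G)
    (hg : ∀ r : ↥R, lam R x f (MulAut.conjNormal g r) = 1 ↔ lam R x f r = 1) :
    g ∈ Subgroup.normalizer ((Rn R x f : Subgroup G) : Set G) := by
  rw [Subgroup.mem_normalizer_iff]
  intro h
  constructor
  · intro hh
    have hR : h ∈ R := Rn_le R x f hh
    have h1 : lam R x f ⟨h, hR⟩ = 1 := (coe_mem_Rn_iff R x f ⟨h, hR⟩).mp hh
    have h2 := (hg ⟨h, hR⟩).mpr h1
    have h3 := (coe_mem_Rn_iff R x f _).mpr h2
    rwa [MulAut.conjNormal_apply] at h3
  · intro hh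
    have hR' : g * h * g⁻¹ ∈ R := Rn_le R x f hh
    have hR : h ∈ R := by
      have := (inferInstance : R.Normal).conj_mem _ hR' g⁻¹
      simpa [mul_assoc] using this
    have h1 : lam R x f ⟨g * h * g⁻¹, hR'⟩ = 1 := (coe_mem_Rn_iff R x f ⟨_, hR'⟩).mp hh
    have h2 : (MulAut.conjNormal g (⟨h, hR⟩ : ↥R) : ↥R) = ⟨g * h * g⁻¹, hR'⟩ := by
      apply Subtype.ext
      rw [MulAut.conjNormal_apply]
    rw [← h2] at h1
    exact (coe_mem_Rn_iff R x f ⟨h, hR⟩).mpr ((hg ⟨h, hR⟩).mp h1)

theorem Rn_normal (hxp : x ^ p ∈ R) (hgen : R ⊔ Subgroup.zpowers x = ⊤) : (Rn R x f).Normal := by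
  rw [← Subgroup.normalizer_eq_top_iff, eq_top_iff, ← hgen, sup_le_iff, Subgroup.zpowers_le]
  constructor
  · intro s hs
    apply mem_normalizer_Rn
    intro r
    rw [lam_conj_mem R x f ⟨s, hs⟩ r]
  · apply mem_normalizer_Rn
    intro r
    constructor
    · intro h
      funext j
      have h1 := congrFun h (j - 1)
      rw [lam_conj R x f hxp, sub_add_cancel] at h1
      exact h1
    · intro h
      funext j
      rw [lam_conj R x f hxp, h]
      rfl

theorem index_eq_prime (hxR : x ∉ R) (hxp : x ^ p ∈ R) (hgen : R ⊔ Subgroup.zpowers x = ⊤) :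
    R.index = p := by
  rw [Subgroup.index_eq_card]
  have h1 : Subgroup.zpowers (QuotientGroup.mk' R x) = ⊤ := by
    rw [← MonoidHom.map_zpowers,
      ← Subgroup.map_top_of_surjective _ (QuotientGroup.mk'_surjective R), ← hgen,
      Subgroup.map_sup, QuotientGroup.map_mk'_self, bot_sup_eq]
  have h2 : orderOf (QuotientGroup.mk' R x) = p :=
    orderOf_eq_prime (by rw [← map_pow]; exact (QuotientGroup.eq_one_iff _).mpr hxp)
      (fun h => hxR ((QuotientGroup.eq_one_iff _).mp h))
  rw [← Nat.card_zpowers, h1, Subgroup.card_top] at h2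
  exact h2

end core

end Cfsg.Agent.Lib.Helper23.Wr
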